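import Groth.Agent.Lib.Helper87.Smoothing1

/-!
helper87: the smoothing-preparation lemma (S2109): regular parameters with
`Ann(π_i) = Ann(π_i²)` modulo `e`-th powers of the previous ones.
-/

set_option autoImplicit false
universe u

namespace Groth.Agent.Lib.Helper87.Smoothing

open IsLocalRing RingTheory.Sequence Groth.Agent.Lib.Helper29 Groth.Agent.Lib.Helper85

theorem mem_take_ofFn {α : Type*} {d : ℕ} (h : Fin d → α) (t : ℕ) (x : α) :
    x ∈ (List.ofFn h).take t ↔ ∃ j : Fin d, (j : ℕ) < t ∧ h j = x := by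
  rw [List.mem_take_iff_getElem]
  constructor
  · rintro ⟨i, hi, rfl⟩
    rw [List.length_ofFn] at hi
    refine ⟨⟨i, (lt_min_iff.mp hi).2⟩, (lt_min_iff.mp hi).1, ?_⟩
    rw [List.getElem_ofFn]
  · rintro ⟨j, hj, rfl⟩
    refine ⟨j, ?_, ?_⟩
    · rw [List.length_ofFn]; exact lt_min hj j.2
    · rw [List.getElem_ofFn]

/-- The ideal generated by the `e`-th powers of the `π j`, `j < i`. -/
def J {Λ : Type u} [CommRing Λ] {d : ℕ} (π : Fin d → Λ) (e : ℕ) (i : Fin d) : Ideal Λ :=
  Ideal.span (Set.range fun j : {j : Fin d // (j : ℕ) < (i : ℕ)} => π j ^ e)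

theorem J_congr {Λ : Type u} [CommRing Λ] {d : ℕ} (π π' : Fin d → Λ) (e : ℕ) (i : Fin d)
    (h : ∀ j : Fin d, (j : ℕ) < (i : ℕ) → π' j = π j) : J π' e i = J π e i := by
  unfold J
  congr 2
  funext j
  rw [h j j.2]

theorem J_map {Λ R : Type u} [CommRing Λ] [CommRing R] (φ : Λ →+* R) {d : ℕ} (π : Fin d → Λ)
    (e : ℕ) (i : Fin d) : (J π e i).map φ = J (fun j => φ (π j)) e i := by
  unfold J
  rw [Ideal.map_span, ← Set.range_comp]
  congr 2
  funext j
  simp

/-- In a regular local ring with parameters `g`, `g i` is a nonzerodivisor modulo the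
`e`-th powers of the previous parameters. -/
theorem mem_J_of_mul_mem {R : Type u} [CommRing R] [IsRegularLocalRing R] {d : ℕ}
    (hd : (maximalIdeal R).spanFinrank = d) (g : Fin d → R)
    (hg : Ideal.span (Set.range g) = maximalIdeal R)
    (e : ℕ) (he : 0 < e) (i : Fin d) (z : R) (hz : g i * z ∈ J g e i) : z ∈ J g e i := by
  classical
  let v : Fin d → ℕ := fun j => if (j : ℕ) < (i : ℕ) then e else 1
  have hv : ∀ j, 1 ≤ v j := by
    intro j
    simp only [v]
    split_ifs <;> omega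
  have hL := isWeaklyRegular_ofFn_pow d R g v hv (isWeaklyRegular_ofFn_of_span_eq d R g hd hg)
  rw [isWeaklyRegular_iff_Fin] at hL
  have hlen : (List.ofFn fun j => g j ^ v j).length = d := List.length_ofFn
  have hi := hL ⟨i, by rw [hlen]; exact i.2⟩
  have hgi : (List.ofFn fun j => g j ^ v j)[(i : ℕ)]'(by rw [hlen]; exact i.2) = g i := by
    rw [List.getElem_ofFn]
    simp [v]
  have hJ : (Ideal.ofList ((List.ofFn fun j => g j ^ v j).take i) • ⊤ : Submodule R R) =
      J g e i := by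
    rw [smul_eq_mul, Ideal.mul_top]
    unfold J Ideal.ofList
    congr 1
    ext x
    simp only [Set.mem_setOf_eq, Set.mem_range, Subtype.exists]
    rw [mem_take_ofFn]
    constructor
    · rintro ⟨j, hj, rfl⟩
      refine ⟨j, hj, ?_⟩
      show g j ^ e = g j ^ (if (j : ℕ) < (i : ℕ) then e else 1)
      rw [if_pos hj]
    · rintro ⟨j, hj, rfl⟩
      refine ⟨j, hj, ?_⟩
      show g j ^ (if (j : ℕ) < (i : ℕ) then e else 1) = g j ^ e
      rw [if_pos hj]
  simp only [Fin.getElem_fin] at hi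
  rw [hgi] at hi
  have h0 : g i • (Submodule.Quotient.mk z : R ⧸ (Ideal.ofList
      ((List.ofFn fun j => g j ^ v j).take i) • ⊤ : Submodule R R)) =
      g i • (0 : R ⧸ (Ideal.ofList
      ((List.ofFn fun j => g j ^ v j).take i) • ⊤ : Submodule R R)) := by
    rw [smul_zero, ← Submodule.Quotient.mk_smul, Submodule.Quotient.mk_eq_zero, hJ]
    exact hz
  have h1 := hi h0
  rw [Submodule.Quotient.mk_eq_zero, hJ] at h1
  exact h1

section Loc

variable {Λ : Type u} [CommRing Λ] (q : Ideal Λ) [q.IsPrime]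

theorem exists_mul_mem_of_algebraMap_mem (K : Ideal Λ) (y : Λ)
    (hy : algebraMap Λ (Localization.AtPrime q) y ∈
      K.map (algebraMap Λ (Localization.AtPrime q))) :
    ∃ u ∈ q.primeCompl, u * y ∈ K := by
  rw [IsLocalization.mem_map_algebraMap_iff q.primeCompl] at hy
  obtain ⟨⟨a, s⟩, h⟩ := hy
  rw [← map_mul, IsLocalization.eq_iff_exists q.primeCompl] at h
  obtain ⟨c, hc⟩ := h
  refine ⟨c * s, (c * s).2, ?_⟩
  have : (c : Λ) * (s : Λ) * y = c * (y * s) := by ring
  rw [this, hc]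
  exact K.mul_mem_left _ a.2

theorem exists_forall_mul_mem [IsNoetherianRing Λ] (K : Ideal Λ) :
    ∃ s ∈ q.primeCompl, ∀ y : Λ, algebraMap Λ (Localization.AtPrime q) y ∈
      K.map (algebraMap Λ (Localization.AtPrime q)) → s * y ∈ K := by
  classical
  obtain ⟨G, hG⟩ := ((K.map (algebraMap Λ (Localization.AtPrime q))).comap
    (algebraMap Λ (Localization.AtPrime q))).fg_of_isNoetherianRing
  have hmem : ∀ g ∈ G, ∃ u ∈ q.primeCompl, u * g ∈ K := by
    intro g hg
    apply exists_mul_mem_of_algebraMap_mem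
    have : g ∈ (K.map (algebraMap Λ (Localization.AtPrime q))).comap
        (algebraMap Λ (Localization.AtPrime q)) := by
      rw [← hG]; exact Ideal.subset_span hg
    exact this
  choose! u hu huK using hmem
  refine ⟨∏ g ∈ G, u g, Submonoid.prod_mem _ hu, ?_⟩
  intro y hy
  have hy' : y ∈ Ideal.span (G : Set Λ) := by rw [hG]; exact hy
  refine Submodule.span_induction ?_ ?_ ?_ ?_ hy'
  · intro g hg
    obtain ⟨c, hc⟩ := Finset.dvd_prod_of_mem u hg
    rw [hc, mul_comm (u g) c, mul_assoc]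
    exact K.mul_mem_left _ (huK g hg)
  · rw [mul_zero]; exact zero_mem _
  · intro a b _ _ ha hb
    rw [mul_add]; exact add_mem ha hb
  · intro a b _ hb
    rw [smul_eq_mul, mul_left_comm]
    exact K.mul_mem_left _ hb

end Loc

theorem span_range_mul_unit {R : Type u} [CommRing R] {ι : Type*} (g u : ι → R)
    (hu : ∀ i, IsUnit (u i)) :
    Ideal.span (Set.range fun i => g i * u i) = Ideal.span (Set.range g) := by
  apply le_antisymm
  · rw [Ideal.span_le]
    rintro _ ⟨i, rfl⟩
    exact Ideal.mul_mem_right _ _ (Ideal.subset_span ⟨i, rfl⟩)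
  · rw [Ideal.span_le]
    rintro _ ⟨i, rfl⟩
    obtain ⟨w, hw⟩ := hu i
    have : g i = (g i * u i) * ((w⁻¹ : Rˣ) : R) := by
      rw [← hw, mul_assoc, Units.mul_inv, mul_one]
    rw [this]
    exact Ideal.mul_mem_right _ _ (Ideal.subset_span ⟨i, rfl⟩)

end Groth.Agent.Lib.Helper87.Smoothing
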