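import Groth.Agent.Lib.Helper87.Smoothing2

/-!
helper87: the smoothing-preparation lemma (S2109), main statement.
-/

set_option autoImplicit false
universe u

namespace Groth.Agent.Lib.Helper87.Smoothing

open IsLocalRing RingTheory.Sequence Groth.Agent.Lib.Helper29 Groth.Agent.Lib.Helper85

variable {Λ : Type u} [CommRing Λ] (q : Ideal Λ) [q.IsPrime]

theorem isUnit_algebraMap_of_mem_primeCompl (s : Λ) (hs : s ∈ q.primeCompl) :
    IsUnit (algebraMap Λ (Localization.AtPrime q) s) :=
  IsLocalization.map_units (Localization.AtPrime q) (⟨s, hs⟩ : q.primeCompl)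

/-- Properties (1) and (2), stable under multiplication by elements outside `q`. -/
def P (I : Ideal Λ) (n d : ℕ) (π : Fin d → Λ) : Prop :=
  Ideal.span (Set.range fun i => algebraMap Λ (Localization.AtPrime q) (π i)) =
    q.map (algebraMap Λ (Localization.AtPrime q)) ∧ ∀ i, π i ^ n ∈ I

theorem P_mul {I : Ideal Λ} {n d : ℕ} {π : Fin d → Λ} (h : P q I n d π) (s : Fin d → Λ)
    (hs : ∀ i, s i ∈ q.primeCompl) : P q I n d (fun i => s i * π i) := by
  refine ⟨?_, ?_⟩
  · rw [← h.1]
    have := span_range_mul_unit (fun i => algebraMap Λ (Localization.AtPrime q) (π i))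
      (fun i => algebraMap Λ (Localization.AtPrime q) (s i))
      (fun i => isUnit_algebraMap_of_mem_primeCompl q (s i) (hs i))
    rw [← this]
    congr 2
    funext i
    rw [map_mul, mul_comm]
  · intro i
    rw [mul_pow]
    exact I.mul_mem_left _ (h.2 i)

theorem exists_P [IsNoetherianRing Λ] (I : Ideal Λ) (n d : ℕ) (hn : 0 < n)
    (hpow : (q ^ n).map (algebraMap Λ (Localization.AtPrime q)) ≤
      I.map (algebraMap Λ (Localization.AtPrime q)))
    [IsRegularLocalRing (Localization.AtPrime q)]
    (hd : (maximalIdeal (Localization.AtPrime q)).spanFinrank = d) :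
    ∃ π : Fin d → Λ, P q I n d π := by
  obtain ⟨g, hg⟩ := exists_fin_span_range_eq (maximalIdeal (Localization.AtPrime q))
    (maximalIdeal (Localization.AtPrime q)).fg_of_isNoetherianRing hd
  have hsurj : ∀ i, ∃ x : Λ × q.primeCompl,
      g i * algebraMap Λ (Localization.AtPrime q) x.2 =
        algebraMap Λ (Localization.AtPrime q) x.1 :=
    fun i => IsLocalization.surj q.primeCompl (g i)
  choose x hx using hsurj
  have hspan : Ideal.span (Set.range fun i => algebraMap Λ (Localization.AtPrime q) (x i).1) =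
      maximalIdeal (Localization.AtPrime q) := by
    rw [← hg]
    have := span_range_mul_unit g
      (fun i => algebraMap Λ (Localization.AtPrime q) ((x i).2 : Λ))
      (fun i => isUnit_algebraMap_of_mem_primeCompl q _ (x i).2.2)
    rw [← this]
    congr 2
    funext i
    exact (hx i).symm
  have hxq : ∀ i, (x i).1 ∈ q := by
    intro i
    rw [← IsLocalization.AtPrime.to_map_mem_maximal_iff (Localization.AtPrime q) q, ← hspan]
    exact Ideal.subset_span ⟨i, rfl⟩
  have hex : ∀ i, ∃ u ∈ q.primeCompl, u * (x i).1 ^ n ∈ I := by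
    intro i
    apply exists_mul_mem_of_algebraMap_mem
    apply hpow
    exact Ideal.mem_map_of_mem _ (Ideal.pow_mem_pow (hxq i) n)
  choose u hu huI using hex
  refine ⟨fun i => u i * (x i).1, ?_, ?_⟩
  · rw [Localization.AtPrime.map_eq_maximalIdeal, ← hspan]
    have := span_range_mul_unit (fun i => algebraMap Λ (Localization.AtPrime q) (x i).1)
      (fun i => algebraMap Λ (Localization.AtPrime q) (u i))
      (fun i => isUnit_algebraMap_of_mem_primeCompl q (u i) (hu i))
    rw [← this]
    congr 2
    funext i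
    rw [map_mul, mul_comm]
  · intro i
    obtain ⟨m, rfl⟩ : ∃ m, n = m + 1 := ⟨n - 1, by omega⟩
    rw [mul_pow, pow_succ (u i), mul_assoc]
    exact I.mul_mem_left _ (huI i)

/-- The annihilator condition, stated with ideal membership. -/
def Q {d : ℕ} (π : Fin d → Λ) (e : ℕ) (i : Fin d) : Prop :=
  ∀ y : Λ, π i ^ 2 * y ∈ J π e i → π i * y ∈ J π e i

theorem exists_P_Q [IsNoetherianRing Λ] (I : Ideal Λ) (n e d : ℕ) (hn : 0 < n) (he : 0 < e)
    (hpow : (q ^ n).map (algebraMap Λ (Localization.AtPrime q)) ≤
      I.map (algebraMap Λ (Localization.AtPrime q)))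
    [IsRegularLocalRing (Localization.AtPrime q)]
    (hd : (maximalIdeal (Localization.AtPrime q)).spanFinrank = d) :
    ∀ t : ℕ, t ≤ d → ∃ π : Fin d → Λ, P q I n d π ∧ ∀ i : Fin d, (i : ℕ) < t → Q π e i := by
  classical
  intro t
  induction t with
  | zero =>
    intro _
    obtain ⟨π, hπ⟩ := exists_P q I n d hn hpow hd
    exact ⟨π, hπ, fun i hi => absurd hi (Nat.not_lt_zero _)⟩
  | succ t ih =>
    intro ht
    obtain ⟨π, hP, hQ⟩ := ih (by omega)
    let i₀ : Fin d := ⟨t, by omega⟩
    obtain ⟨s, hs, hsK⟩ := exists_forall_mul_mem q (J π e i₀)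
    let σ : Fin d → Λ := fun i => if i = i₀ then s else 1
    have hσ : ∀ i, σ i ∈ q.primeCompl := by
      intro i
      simp only [σ]
      split_ifs
      · exact hs
      · exact Submonoid.one_mem _
    have hπ' : ∀ j : Fin d, j ≠ i₀ → σ j * π j = π j := by
      intro j hj
      simp only [σ, if_neg hj, one_mul]
    refine ⟨fun i => σ i * π i, P_mul q hP σ hσ, ?_⟩
    intro i hi
    have hJ : J (fun i => σ i * π i) e i = J π e i := by
      apply J_congr
      intro j hj
      apply hπ'
      intro hji
      have : (j : ℕ) = t := by rw [hji]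
      omega
    unfold Q
    rw [hJ]
    by_cases hit : i = i₀
    · subst hit
      intro y hy
      have hσi : σ i₀ = s := by simp only [σ, if_pos rfl]
      have hy' : (s * π i₀) ^ 2 * y ∈ J π e i₀ := by
        have h := hy
        simp only [hσi] at h
        exact h
      show σ i₀ * π i₀ * y ∈ J π e i₀
      rw [hσi]
      -- in the localization
      have hg : Ideal.span (Set.range fun i => algebraMap Λ (Localization.AtPrime q) (π i)) =
          maximalIdeal (Localization.AtPrime q) := by
        rw [hP.1, Localization.AtPrime.map_eq_maximalIdeal]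
      have hmem : algebraMap Λ (Localization.AtPrime q) y ∈
          (J π e i₀).map (algebraMap Λ (Localization.AtPrime q)) := by
        rw [J_map]
        apply mem_J_of_mul_mem hd _ hg e he i₀
        apply mem_J_of_mul_mem hd _ hg e he i₀
        have h1 := Ideal.mem_map_of_mem (algebraMap Λ (Localization.AtPrime q)) hy'
        have h2 : (s * π i₀) ^ 2 * y = s ^ 2 * (π i₀ * (π i₀ * y)) := by ring
        rw [h2, map_mul, Ideal.unit_mul_mem_iff_mem _ (by
          rw [map_pow]; exact (isUnit_algebraMap_of_mem_primeCompl q s hs).pow 2),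
          map_mul, map_mul, J_map] at h1
        exact h1
      have := hsK y hmem
      rw [mul_assoc, mul_left_comm]
      exact (J π e i₀).mul_mem_left _ this
    · have hlt : (i : ℕ) < t := by
        have : (i : ℕ) ≠ t := fun h => hit (Fin.ext h)
        omega
      have := hQ i hlt
      unfold Q at this
      show ∀ y : Λ, (σ i * π i) ^ 2 * y ∈ J π e i → σ i * π i * y ∈ J π e i
      rw [hπ' i hit]
      exact this

theorem main {Λ : Type u} [CommRing Λ] [IsNoetherianRing Λ] (I q : Ideal Λ)
    [q.IsPrime] (n e d : ℕ) (hn : 0 < n) (he : 0 < e)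
    (hpow : (q ^ n).map (algebraMap Λ (Localization.AtPrime q)) ≤
      I.map (algebraMap Λ (Localization.AtPrime q)))
    [IsRegularLocalRing (Localization.AtPrime q)]
    (hd : ringKrullDim (Localization.AtPrime q) = d) :
    ∃ (N : ℕ) (π : Fin d → Λ), 0 < N ∧
      Ideal.span (Set.range fun i => algebraMap Λ (Localization.AtPrime q) (π i)) =
        q.map (algebraMap Λ (Localization.AtPrime q)) ∧
      (∀ i, π i ^ N ∈ I) ∧
      ∀ i : Fin d, ∀ x : Λ ⧸ Ideal.span
          (Set.range fun j : {j : Fin d // (j : ℕ) < (i : ℕ)} => π j ^ e),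
        Ideal.Quotient.mk _ (π i) ^ 2 * x = 0 → Ideal.Quotient.mk _ (π i) * x = 0 := by
  have hsf : (maximalIdeal (Localization.AtPrime q)).spanFinrank = d := by
    have h := IsRegularLocalRing.spanFinrank_maximalIdeal (R := Localization.AtPrime q)
    rw [hd] at h
    exact_mod_cast h
  obtain ⟨π, hP, hQ⟩ := exists_P_Q q I n e d hn he hpow hsf d le_rfl
  refine ⟨n, π, hn, hP.1, hP.2, ?_⟩
  intro i x hx
  obtain ⟨y, rfl⟩ := Ideal.Quotient.mk_surjective x
  rw [← map_pow, ← map_mul, Ideal.Quotient.eq_zero_iff_mem] at hx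
  rw [← map_mul, Ideal.Quotient.eq_zero_iff_mem]
  exact hQ i i.2 y hx

end Groth.Agent.Lib.Helper87.Smoothing
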