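import Mathlib

set_option autoImplicit false

namespace Groth.Agent.Lib.Helper87

open WithConv

section transl

variable {k : Type*} [Field k] {A : Type*} [CommRing A] [HopfAlgebra k A]

/-- A point composed with the unit. -/
noncomputable def hatPt (g : A →ₐ[k] k) : A →ₐ[k] A := (Algebra.ofId k A).comp g

/-- Translation by a point. -/
noncomputable def transl (g : A →ₐ[k] k) : A →ₐ[k] A :=
  (toConv (hatPt g) * toConv (AlgHom.id k A)).ofConv

lemma counit_comp_transl (g : A →ₐ[k] k) :
    (Bialgebra.counitAlgHom k A).comp (transl g) = g := by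
  unfold transl
  rw [AlgHom.comp_convMul_distrib]
  have h1 : (Bialgebra.counitAlgHom k A).comp (hatPt g) = g := by
    ext x
    simp [hatPt, Algebra.ofId_apply]
  have h2 : toConv ((Bialgebra.counitAlgHom k A).comp (AlgHom.id k A)) =
      (1 : WithConv (A →ₐ[k] k)) := by
    rw [AlgHom.convOne_def]
    congr 1
  rw [ofConv_toConv, ofConv_toConv, h1, h2, mul_one, ofConv_toConv]

lemma transl_comp_hatPt (g h : A →ₐ[k] k) : (transl g).comp (hatPt h) = hatPt h := by
  ext x
  simp [hatPt, Algebra.ofId_apply]

lemma hatPt_mul (g h : A →ₐ[k] k) :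
    toConv (hatPt (ofConv (toConv g * toConv h))) = toConv (hatPt g) * toConv (hatPt h) := by
  unfold hatPt
  rw [AlgHom.comp_convMul_distrib]

lemma hatPt_one : toConv (hatPt (ofConv (1 : WithConv (A →ₐ[k] k)))) =
    (1 : WithConv (A →ₐ[k] A)) := by
  rw [AlgHom.convOne_def, AlgHom.convOne_def]
  congr 1

lemma transl_comp_transl (g h : A →ₐ[k] k) :
    (transl g).comp (transl h) = transl (ofConv (toConv h * toConv g)) := by
  have h1 : (transl g).comp (transl h) =
      ofConv (toConv ((transl g).comp (hatPt h)) * toConv ((transl g).comp (AlgHom.id k A))) := by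
    conv_lhs => rw [transl.eq_1 h]
    rw [AlgHom.comp_convMul_distrib]
  rw [h1, transl_comp_hatPt, AlgHom.comp_id]
  unfold transl
  rw [toConv_ofConv, ← mul_assoc, ← hatPt_mul]

lemma transl_one : transl (ofConv (1 : WithConv (A →ₐ[k] k))) = AlgHom.id k A := by
  unfold transl
  rw [hatPt_one, one_mul, ofConv_toConv]

lemma transl_bijective (g : A →ₐ[k] k) : Function.Bijective (transl g) := by
  have h1 : (transl (ofConv (toConv g)⁻¹)).comp (transl g) = AlgHom.id k A := by
    rw [transl_comp_transl, toConv_ofConv, mul_inv_cancel, transl_one]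
  have h2 : (transl g).comp (transl (ofConv (toConv g)⁻¹)) = AlgHom.id k A := by
    rw [transl_comp_transl, toConv_ofConv, inv_mul_cancel, transl_one]
  refine ⟨?_, ?_⟩
  · apply Function.LeftInverse.injective (g := transl (ofConv (toConv g)⁻¹))
    intro x
    exact DFunLike.congr_fun h1 x
  · apply Function.RightInverse.surjective (g := transl (ofConv (toConv g)⁻¹))
    intro x
    exact DFunLike.congr_fun h2 x

/-- Translation as a ring automorphism. -/
noncomputable def translEquiv (g : A →ₐ[k] k) : A ≃+* A :=
  RingEquiv.ofBijective (transl g : A →+* A) (transl_bijective g)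

lemma comap_translEquiv_ker_counit (g : A →ₐ[k] k) :
    Ideal.comap (translEquiv g : A →+* A) (RingHom.ker (Bialgebra.counitAlgHom k A)) =
      RingHom.ker g := by
  ext x
  rw [Ideal.mem_comap, RingHom.mem_ker, RingHom.mem_ker]
  have := DFunLike.congr_fun (counit_comp_transl g) x
  rw [AlgHom.comp_apply] at this
  show (Bialgebra.counitAlgHom k A) (transl g x) = 0 ↔ g x = 0
  rw [this]

end transl

end Groth.Agent.Lib.Helper87
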