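import Groth.Agent.Lib.Helper93.DepthFlat
import Groth.Agent.Lib.Helper29.SkOpen
import Groth.Agent.Lib.Helper29.LocTransfer
import Groth.Agent.Lib.Helper29.FiniteRestrictCM
import Groth.Agent.Lib.Helper12.FibreDepth
import Groth.Agent.S2598
import Groth.Prelude.Def_EGA4b

/-!
# Depth and dimension of `(F ⊗[A] E)_Q` for a flat module `F` (helper87)

For `A → B` Noetherian, `E` a finite `A`-module, `F` a finite `B`-module flat over `A`, `Q` a prime
of `B` and `P = Q ∩ A`:
`depth (F ⊗ E)_Q = depth E_P + depth (F_Q / P F_Q)` and similarly for the dimension of the support.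
-/

set_option autoImplicit false
universe u

namespace Groth.Agent.Lib.Helper87.SkTensor

open TensorProduct IsLocalRing

section Core

variable (A B : Type u) [CommRing A] [CommRing B] [IsNoetherianRing A] [IsNoetherianRing B]
  [Algebra A B]
  (E : Type u) [AddCommGroup E] [Module A E] [Module.Finite A E]
  (F : Type u) [AddCommGroup F] [Module B F] [Module A F] [IsScalarTower A B F] [Module.Finite B F]
  [Module.Flat A F] (Q : Ideal B) [Q.IsPrime]

theorem depth_and_supportDim_localizedModule_tensor :
    LocCoh.depth (Localization.AtPrime Q) (LocalizedModule Q.primeCompl (F ⊗[A] E)) =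
      LocCoh.depth (Localization.AtPrime (Q.comap (algebraMap A B)))
          (LocalizedModule (Q.comap (algebraMap A B)).primeCompl E) +
        LocCoh.depth (Localization.AtPrime Q) (EGA4.FibLocMod A B Q F) ∧
    (Nontrivial (LocalizedModule (Q.comap (algebraMap A B)).primeCompl E) →
      Nontrivial (LocalizedModule Q.primeCompl F) →
      Module.supportDim (Localization.AtPrime Q) (LocalizedModule Q.primeCompl (F ⊗[A] E)) =
        Module.supportDim (Localization.AtPrime (Q.comap (algebraMap A B)))
            (LocalizedModule (Q.comap (algebraMap A B)).primeCompl E) +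
          Module.supportDim (Localization.AtPrime Q) (EGA4.FibLocMod A B Q F)) ∧
    (Subsingleton (LocalizedModule (Q.comap (algebraMap A B)).primeCompl E) ∨
        Subsingleton (LocalizedModule Q.primeCompl F) →
      Subsingleton (LocalizedModule Q.primeCompl (F ⊗[A] E))) := by
  set P : Ideal A := Q.comap (algebraMap A B) with hP
  have hlies : Q.LiesOver P := ⟨rfl⟩
  let := Localization.AtPrime.algebraOfLiesOver P Q
  have hNP : IsNoetherianRing (Localization.AtPrime P) :=
    IsLocalization.isNoetherianRing P.primeCompl _ inferInstance
  have hNQ : IsNoetherianRing (Localization.AtPrime Q) :=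
    IsLocalization.isNoetherianRing Q.primeCompl _ inferInstance
  have hloc : IsLocalHom (algebraMap (Localization.AtPrime P) (Localization.AtPrime Q)) := by
    rw [Localization.AtPrime.IsLiesOverAlgebra.algebraMap_eq]
    exact Localization.isLocalHom_localRingHom _ _ _ _
  have hmap : (maximalIdeal (Localization.AtPrime P)).map
      (algebraMap (Localization.AtPrime P) (Localization.AtPrime Q)) =
      P.map (algebraMap A (Localization.AtPrime Q)) := by
    rw [← Localization.AtPrime.map_eq_maximalIdeal, Ideal.map_map,
      ← IsScalarTower.algebraMap_eq]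
  let modR : Module (Localization.AtPrime P) (LocalizedModule Q.primeCompl F) :=
    Module.compHom _ (algebraMap (Localization.AtPrime P) (Localization.AtPrime Q))
  have tRS : IsScalarTower (Localization.AtPrime P) (Localization.AtPrime Q)
      (LocalizedModule Q.primeCompl F) :=
    IsScalarTower.of_algebraMap_smul fun _ _ => rfl
  have tAR : IsScalarTower A (Localization.AtPrime P) (LocalizedModule Q.primeCompl F) := by
    refine ⟨fun a r x => ?_⟩
    change algebraMap (Localization.AtPrime P) (Localization.AtPrime Q) (a • r) • x =
      a • (algebraMap (Localization.AtPrime P) (Localization.AtPrime Q) r • x)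
    rw [Algebra.smul_def, map_mul, ← IsScalarTower.algebraMap_apply, mul_smul,
      algebraMap_smul]
  have hflatA : Module.Flat A (LocalizedModule Q.primeCompl F) :=
    Groth.Agent.Lib.Helper12.FibreDepth.flat_localizedModule Q.primeCompl F
  have hflatR : Module.Flat (Localization.AtPrime P) (LocalizedModule Q.primeCompl F) :=
    (Module.flat_iff_of_isLocalization (Localization.AtPrime P) P.primeCompl _).mpr inferInstance
  have hdepth := Groth.Agent.Lib.Helper93.DepthFlat.depth_tensor_of_flat
    (R := Localization.AtPrime P) (S := Localization.AtPrime Q)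
    (LocalizedModule P.primeCompl E) (LocalizedModule Q.primeCompl F)
  let e1 : LocalizedModule P.primeCompl E ≃ₗ[Localization.AtPrime P]
      Localization.AtPrime P ⊗[A] E := LocalizedModule.equivTensorProduct P.primeCompl E
  let e2 : LocalizedModule Q.primeCompl F ⊗[Localization.AtPrime P] LocalizedModule P.primeCompl E
      ≃ₗ[Localization.AtPrime Q]
      LocalizedModule Q.primeCompl F ⊗[Localization.AtPrime P] (Localization.AtPrime P ⊗[A] E) :=
    AlgebraTensorModule.congr (LinearEquiv.refl (Localization.AtPrime Q) _) e1
  let e3 : LocalizedModule Q.primeCompl F ⊗[Localization.AtPrime P] (Localization.AtPrime P ⊗[A] E)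
      ≃ₗ[Localization.AtPrime Q] LocalizedModule Q.primeCompl F ⊗[A] E :=
    AlgebraTensorModule.cancelBaseChange A (Localization.AtPrime P) (Localization.AtPrime Q)
      (LocalizedModule Q.primeCompl F) E
  let f : F ⊗[A] E →ₗ[B] LocalizedModule Q.primeCompl F ⊗[A] E :=
    AlgebraTensorModule.rTensor A E (LocalizedModule.mkLinearMap Q.primeCompl F)
  have hf : IsLocalizedModule Q.primeCompl f := inferInstance
  have hfin : Module.Finite B (F ⊗[A] E) := Groth.Agent.Lib.Helper93.DepthFlat.finite_tensor
  obtain ⟨h1, h2⟩ := Groth.Agent.Lib.Helper29.depth_and_supportDim_eq_of_isLocalizedModule Q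
    (Localization.AtPrime Q) f
  let eF := Submodule.quotEquivOfEq
    ((P.map (algebraMap A (Localization.AtPrime Q))) •
      (⊤ : Submodule (Localization.AtPrime Q) (LocalizedModule Q.primeCompl F)))
    (((maximalIdeal (Localization.AtPrime P)).map
      (algebraMap (Localization.AtPrime P) (Localization.AtPrime Q))) •
      (⊤ : Submodule (Localization.AtPrime Q) (LocalizedModule Q.primeCompl F)))
    (by rw [hmap])
  have hc1 : LocCoh.depth (Localization.AtPrime Q)
      (LocalizedModule Q.primeCompl F ⊗[Localization.AtPrime P] LocalizedModule P.primeCompl E) =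
      LocCoh.depth (Localization.AtPrime Q) (LocalizedModule Q.primeCompl F ⊗[A] E) := by
    unfold LocCoh.depth
    exact Groth.Agent.Lib.Helper29.idealDepth_congr _ (e2.trans e3)
  have hcF : LocCoh.depth (Localization.AtPrime Q) (EGA4.FibLocMod A B Q F) =
      LocCoh.depth (Localization.AtPrime Q) (LocalizedModule Q.primeCompl F ⧸
        ((maximalIdeal (Localization.AtPrime P)).map
          (algebraMap (Localization.AtPrime P) (Localization.AtPrime Q))) •
        (⊤ : Submodule (Localization.AtPrime Q) (LocalizedModule Q.primeCompl F))) := by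
    unfold LocCoh.depth
    exact Groth.Agent.Lib.Helper29.idealDepth_congr _ eF
  refine ⟨?_, ?_, ?_⟩
  · rw [← h1, ← hc1, hdepth, hcF]
  · intro hM hN
    rw [← h2, ← Module.supportDim_eq_of_equiv (e2.trans e3)]
    rw [Groth.Agent.S2598.result (Localization.AtPrime P) (Localization.AtPrime Q)
      (LocalizedModule P.primeCompl E) (LocalizedModule Q.primeCompl F)]
    congr 1
    exact (Module.supportDim_eq_of_equiv eF).symm
  · intro h
    have s1 : Subsingleton (LocalizedModule Q.primeCompl F ⊗[Localization.AtPrime P]
        LocalizedModule P.primeCompl E) := by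
      rcases h with h | h
      · infer_instance
      · infer_instance
    have s2 : Subsingleton (LocalizedModule Q.primeCompl F ⊗[A] E) :=
      (e2.trans e3).symm.toEquiv.subsingleton
    exact (IsLocalizedModule.iso Q.primeCompl f).toEquiv.subsingleton

end Core

end Groth.Agent.Lib.Helper87.SkTensor
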