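import Mathlib
import Groth.Prelude.Def_CAlg2

set_option autoImplicit false

namespace Groth.Agent.Lib.Helper87

open CAlg2

universe u

theorem isGeomUnibranch_of_isIntegrallyClosed (A : Type u) [CommRing A] [IsLocalRing A]
    [IsDomain A] [IsIntegrallyClosed A] : CAlg2.IsGeomUnibranch A := by
  -- the quotient map to the reduction is bijective
  have hnil : nilradical A = ⊥ := nilradical_eq_zero A
  have hq : Function.Bijective (Ideal.Quotient.mk (nilradical A)) := by
    refine ⟨?_, Ideal.Quotient.mk_surjective⟩
    rw [injective_iff_map_eq_zero]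
    intro a ha
    rw [Ideal.Quotient.eq_zero_iff_mem, hnil] at ha
    exact ha
  let e : A ≃+* red A := RingEquiv.ofBijective _ hq
  have hdom : IsDomain (red A) := MulEquiv.isDomain A e.symm.toMulEquiv
  have hic : IsIntegrallyClosed (red A) := IsIntegrallyClosed.of_equiv e
  -- the map to the normalization is bijective
  have hn : Function.Bijective (algebraMap (red A) (normRed A)) := by
    constructor
    · intro x y hxy
      have h1 : algebraMap (red A) (FractionRing (red A)) x =
          algebraMap (red A) (FractionRing (red A)) y := congrArg Subtype.val hxy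
      exact IsFractionRing.injective (red A) (FractionRing (red A)) h1
    · rintro ⟨z, hz⟩
      obtain ⟨y, hy⟩ := IsIntegrallyClosed.algebraMap_eq_of_integral hz
      exact ⟨y, Subtype.ext hy⟩
  let g : red A ≃+* normRed A := RingEquiv.ofBijective _ hn
  have hloc1 : IsLocalRing (red A) := e.isLocalRing
  have hloc : IsLocalRing (normRed A) := g.isLocalRing
  refine ⟨⟨hdom, hloc⟩, ?_⟩
  intro m' _ x
  refine ⟨0, ?_⟩
  rw [pow_zero, pow_one]
  obtain ⟨y, rfl⟩ := Ideal.Quotient.mk_surjective x
  obtain ⟨z, rfl⟩ := hn.2 y
  obtain ⟨a, rfl⟩ := hq.2 z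
  exact ⟨a, rfl⟩

end Groth.Agent.Lib.Helper87
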