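import Groth.Agent.Lib.Helper29.LocTransfer

/-!
# Depth and dimension are invariant under semilinear isomorphisms (helper87)

If `e : A ≃+* A'` is a ring isomorphism and `f : M ≃+ M'` is an `e`-semilinear bijection, then for a
prime `Q` of `A'` with preimage `P = e⁻¹(Q)`: `depth M'_Q = depth M_P` and `dim M'_Q = dim M_P`.
-/

set_option autoImplicit false
universe u

namespace Groth.Agent.Lib.Helper87.GrDepth

open IsLocalRing

section Transfer

variable {A A' : Type u} [CommRing A] [CommRing A'] [IsNoetherianRing A] (e : A ≃+* A')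
  {M M' : Type u} [AddCommGroup M] [Module A M] [Module.Finite A M] [AddCommGroup M']
  [Module A' M'] (f : M ≃+ M') (hf : ∀ (a : A) (m : M), f (a • m) = e a • f m)
  (Q : Ideal A') [Q.IsPrime] (P : Ideal A) [P.IsPrime] (hP : P = Q.comap (e : A →+* A'))

include hf hP in
theorem depth_and_supportDim_eq_of_semilinearEquiv :
    LocCoh.depth (Localization.AtPrime Q) (LocalizedModule Q.primeCompl M') =
        LocCoh.depth (Localization.AtPrime P) (LocalizedModule P.primeCompl M) ∧
      Module.supportDim (Localization.AtPrime Q) (LocalizedModule Q.primeCompl M') =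
        Module.supportDim (Localization.AtPrime P) (LocalizedModule P.primeCompl M) := by
  let algAS : Algebra A (Localization.AtPrime Q) :=
    ((algebraMap A' (Localization.AtPrime Q)).comp e.symm.symm.toRingHom).toAlgebra
  have halg : ∀ a : A, algebraMap A (Localization.AtPrime Q) a =
      algebraMap A' (Localization.AtPrime Q) (e a) := fun a => rfl
  have hmem : ∀ a : A, a ∈ P ↔ e a ∈ Q := fun a => by
    rw [hP, Ideal.mem_comap]
    rfl
  have h0 : IsLocalization (Q.primeCompl.map e.symm) (Localization.AtPrime Q) :=
    IsLocalization.isLocalization_of_base_ringEquiv Q.primeCompl (Localization.AtPrime Q) e.symm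
  have hsub : Q.primeCompl.map e.symm = P.primeCompl := by
    ext x
    rw [Submonoid.mem_map, Ideal.mem_primeCompl_iff, hmem]
    constructor
    · rintro ⟨y, hy, rfl⟩
      intro h
      apply hy
      have : e (e.symm y) = y := e.apply_symm_apply y
      rwa [this] at h
    · intro h
      exact ⟨e x, h, e.symm_apply_apply x⟩
  rw [hsub] at h0
  have hloc : IsLocalization.AtPrime (Localization.AtPrime Q) P := h0
  let modAN : Module A (LocalizedModule Q.primeCompl M') :=
    Module.compHom (LocalizedModule Q.primeCompl M') (e : A →+* A')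
  have hsmul : ∀ (a : A) (n : LocalizedModule Q.primeCompl M'), a • n = e a • n := fun _ _ => rfl
  have hST : IsScalarTower A (Localization.AtPrime Q) (LocalizedModule Q.primeCompl M') :=
    ⟨fun a s n => by
      rw [hsmul, Algebra.smul_def, halg, mul_smul, algebraMap_smul]⟩
  let fA : M →ₗ[A] LocalizedModule Q.primeCompl M' :=
    { toFun := fun m => LocalizedModule.mkLinearMap Q.primeCompl M' (f m)
      map_add' := fun m m' => by rw [map_add, map_add]
      map_smul' := fun a m => by
        rw [hf, map_smul, RingHom.id_apply, hsmul] }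
  have hfA : ∀ m, fA m = LocalizedModule.mkLinearMap Q.primeCompl M' (f m) := fun _ => rfl
  have hlm : IsLocalizedModule P.primeCompl fA := by
    refine ⟨?_, ?_, ?_⟩
    · intro x
      have hx : e x ∈ Q.primeCompl := fun h => x.2 ((hmem _).mpr h)
      have h1 := IsLocalizedModule.map_units (LocalizedModule.mkLinearMap Q.primeCompl M')
        ⟨e x, hx⟩
      rw [Module.End.isUnit_iff] at h1 ⊢
      exact h1
    · intro y
      obtain ⟨⟨m', s'⟩, hy⟩ := IsLocalizedModule.surj Q.primeCompl
        (LocalizedModule.mkLinearMap Q.primeCompl M') y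
      have hs : e.symm s'.1 ∈ P.primeCompl := by
        rw [Ideal.mem_primeCompl_iff, hmem, e.apply_symm_apply]
        exact s'.2
      refine ⟨⟨f.symm m', ⟨e.symm s'.1, hs⟩⟩, ?_⟩
      change (e.symm s'.1) • y = fA (f.symm m')
      rw [hsmul, hfA, e.apply_symm_apply, f.apply_symm_apply]
      exact hy
    · intro m₁ m₂ h
      rw [hfA, hfA] at h
      obtain ⟨c, hc⟩ := IsLocalizedModule.exists_of_eq (S := Q.primeCompl) h
      have hs : e.symm c.1 ∈ P.primeCompl := by
        rw [Ideal.mem_primeCompl_iff, hmem, e.apply_symm_apply]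
        exact c.2
      refine ⟨⟨e.symm c.1, hs⟩, ?_⟩
      apply f.injective
      change f (e.symm c.1 • m₁) = f (e.symm c.1 • m₂)
      rw [hf, hf, e.apply_symm_apply]
      exact hc
  exact Groth.Agent.Lib.Helper29.depth_and_supportDim_eq_of_isLocalizedModule P
    (Localization.AtPrime Q) fA

end Transfer

end Groth.Agent.Lib.Helper87.GrDepth
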