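import Groth.Agent.Lib.Helper87.BassFlat3
import Mathlib.RingTheory.Flat.Localization
import Mathlib.RingTheory.Localization.BaseChange
import Mathlib.RingTheory.Localization.AtPrime.Basic
import Mathlib.RingTheory.KrullDimension.Regular
import Mathlib.RingTheory.KrullDimension.Field
import Groth.Agent.H8.RegLocalQuot

/-!
# Bass numbers of `B ⊗[A] E` at a prime of `B`, for `A → B` flat (helper87)
-/

set_option autoImplicit false
universe u

namespace Groth.Agent.Lib.Helper87.BassFlat

open CategoryTheory Abelian TensorProduct IsLocalRing RingTheory.Sequence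

attribute [-instance] Groth.Agent.Lib.Helper89.ExtBaseChange.extModule

section Congr

variable {R : Type u} [CommRing R] (p : Ideal R) [p.IsPrime]

/-- Bass numbers only depend on the isomorphism class of the module. -/
theorem bassNum_congr {M M' : Type u} [AddCommGroup M] [Module R M] [AddCommGroup M']
    [Module R M'] (e : M ≃ₗ[R] M') (i : ℕ) : GrLC.bassNum p M i = GrLC.bassNum p M' i := by
  unfold GrLC.bassNum
  let e1 := LocalizedModule.equivTensorProduct p.primeCompl M
  let e2 := LocalizedModule.equivTensorProduct p.primeCompl M'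
  let e3 : Localization.AtPrime p ⊗[R] M ≃ₗ[Localization.AtPrime p]
      Localization.AtPrime p ⊗[R] M' :=
    AlgebraTensorModule.congr (LinearEquiv.refl (Localization.AtPrime p) (Localization.AtPrime p)) e
  exact bassNumLocal_congr (e1.trans (e3.trans e2.symm)) i

end Congr

section Tensor

variable (A B : Type u) [CommRing A] [CommRing B] [IsNoetherianRing A] [Algebra A B]
  [Module.Flat A B] (E : Type u) [AddCommGroup E] [Module A E]
  (Q : Ideal B) [Q.IsPrime] (P : Ideal A) [P.IsPrime] (hP : Q.comap (algebraMap A B) = P)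

include hP in
theorem bassNum_tensor (rs : List (Localization.AtPrime Q))
    (hreg : IsWeaklyRegular
      (Localization.AtPrime Q ⧸ P.map (algebraMap A (Localization.AtPrime Q))) rs)
    (hmax : P.map (algebraMap A (Localization.AtPrime Q)) ⊔ Ideal.ofList rs =
      maximalIdeal (Localization.AtPrime Q)) :
    (∀ j, j < rs.length → GrLC.bassNum Q (B ⊗[A] E) j = 0) ∧
      ∀ i, GrLC.bassNum Q (B ⊗[A] E) (i + rs.length) = GrLC.bassNum P E i := by
  subst hP
  set P : Ideal A := Q.comap (algebraMap A B) with hP
  have hlies : Q.LiesOver P := ⟨rfl⟩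
  let := Localization.AtPrime.algebraOfLiesOver P Q
  have hNP : IsNoetherianRing (Localization.AtPrime P) :=
    IsLocalization.isNoetherianRing P.primeCompl _ inferInstance
  have hmap : (maximalIdeal (Localization.AtPrime P)).map
      (algebraMap (Localization.AtPrime P) (Localization.AtPrime Q)) =
      P.map (algebraMap A (Localization.AtPrime Q)) := by
    rw [← Localization.AtPrime.map_eq_maximalIdeal, Ideal.map_map,
      ← IsScalarTower.algebraMap_eq]
  rw [← hmap] at hreg hmax
  obtain ⟨h1, h2⟩ := bassNumLocal_of_flat (Localization.AtPrime P) (Localization.AtPrime Q)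
    (LocalizedModule P.primeCompl E) rs hreg hmax
  let e1 : LocalizedModule P.primeCompl E ≃ₗ[Localization.AtPrime P]
      Localization.AtPrime P ⊗[A] E := LocalizedModule.equivTensorProduct P.primeCompl E
  let e2 : Localization.AtPrime Q ⊗[Localization.AtPrime P] LocalizedModule P.primeCompl E
      ≃ₗ[Localization.AtPrime Q]
      Localization.AtPrime Q ⊗[Localization.AtPrime P] (Localization.AtPrime P ⊗[A] E) :=
    AlgebraTensorModule.congr (LinearEquiv.refl (Localization.AtPrime Q) _) e1
  let e3 : Localization.AtPrime Q ⊗[Localization.AtPrime P] (Localization.AtPrime P ⊗[A] E)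
      ≃ₗ[Localization.AtPrime Q] Localization.AtPrime Q ⊗[A] E :=
    AlgebraTensorModule.cancelBaseChange A (Localization.AtPrime P) (Localization.AtPrime Q)
      (Localization.AtPrime Q) E
  let e4 : Localization.AtPrime Q ⊗[B] (B ⊗[A] E)
      ≃ₗ[Localization.AtPrime Q] Localization.AtPrime Q ⊗[A] E :=
    AlgebraTensorModule.cancelBaseChange A B (Localization.AtPrime Q)
      (Localization.AtPrime Q) E
  let e5 : LocalizedModule Q.primeCompl (B ⊗[A] E) ≃ₗ[Localization.AtPrime Q]
      Localization.AtPrime Q ⊗[B] (B ⊗[A] E) :=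
    LocalizedModule.equivTensorProduct Q.primeCompl (B ⊗[A] E)
  have hc : ∀ i, GrLC.bassNum Q (B ⊗[A] E) i =
      GrLC.bassNumLocal (Localization.AtPrime Q)
        (Localization.AtPrime Q ⊗[Localization.AtPrime P] LocalizedModule P.primeCompl E) i :=
    fun i => bassNumLocal_congr (e5.trans (e4.trans (e3.symm.trans e2.symm))) i
  refine ⟨fun j hj => ?_, fun i => ?_⟩
  · rw [hc]
    exact h1 j hj
  · rw [hc]
    exact h2 i

include hP in
/-- If the fibre local ring `B_Q / P B_Q` is regular of dimension `d`, the Bass numbers of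
`B ⊗[A] E` at `Q` are those of `E` at `P`, shifted by `d`. -/
theorem bassNum_tensor_of_regular
    (hR : IsRegularLocalRing
      (Localization.AtPrime Q ⧸ P.map (algebraMap A (Localization.AtPrime Q)))) (d : ℕ)
    (hd : ringKrullDim (Localization.AtPrime Q ⧸ P.map (algebraMap A (Localization.AtPrime Q))) =
      (d : WithBot ℕ∞)) :
    (∀ j, j < d → GrLC.bassNum Q (B ⊗[A] E) j = 0) ∧
      ∀ i, GrLC.bassNum Q (B ⊗[A] E) (i + d) = GrLC.bassNum P E i := by
  set J : Ideal (Localization.AtPrime Q) := P.map (algebraMap A (Localization.AtPrime Q)) with hJ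
  have hfield : IsRegularLocalRing
      ((Localization.AtPrime Q ⧸ J) ⧸ maximalIdeal (Localization.AtPrime Q ⧸ J)) :=
    (inferInstance : IsRegularLocalRing (ResidueField (Localization.AtPrime Q ⧸ J)))
  obtain ⟨rs', hrs', hof⟩ := Groth.Agent.H8.RegLocalQuot.exists_regular
    (Localization.AtPrime Q ⧸ J) (maximalIdeal (Localization.AtPrime Q ⧸ J)) hfield
  obtain ⟨rs, rfl⟩ := (List.map_surjective_iff.mpr
    (Ideal.Quotient.mk_surjective (I := J))) rs'
  have hlen : rs.length = d := by
    have h1 := ringKrullDim_add_length_eq_ringKrullDim_of_isRegular _ hrs'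
    rw [hof, hd, List.length_map] at h1
    have h2 : ringKrullDim ((Localization.AtPrime Q ⧸ J) ⧸
        maximalIdeal (Localization.AtPrime Q ⧸ J)) = 0 :=
      ringKrullDim_eq_zero_of_field (ResidueField (Localization.AtPrime Q ⧸ J))
    rw [h2, zero_add] at h1
    exact_mod_cast h1
  have hreg : IsWeaklyRegular (Localization.AtPrime Q ⧸ J) rs :=
    (isWeaklyRegular_map_algebraMap_iff (Localization.AtPrime Q ⧸ J)
      (Localization.AtPrime Q ⧸ J) rs).mp hrs'.toIsWeaklyRegular
  have hloc : IsLocalHom (Ideal.Quotient.mk J) :=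
    IsLocalHom.of_surjective _ Ideal.Quotient.mk_surjective
  have hmax : J ⊔ Ideal.ofList rs = maximalIdeal (Localization.AtPrime Q) := by
    have h1 : (Ideal.ofList rs).map (Ideal.Quotient.mk J) =
        maximalIdeal (Localization.AtPrime Q ⧸ J) := by
      rw [Ideal.map_ofList]
      exact hof
    have h2 := Ideal.comap_map_of_surjective (Ideal.Quotient.mk J)
      Ideal.Quotient.mk_surjective (Ideal.ofList rs)
    rw [h1, IsLocalRing.maximalIdeal_comap (Ideal.Quotient.mk J), ← RingHom.ker_eq_comap_bot,
      Ideal.mk_ker] at h2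
    rw [h2, sup_comm]
  have := bassNum_tensor A B E Q P hP rs hreg hmax
  rw [hlen] at this
  exact this

end Tensor

end Groth.Agent.Lib.Helper87.BassFlat
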