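import Groth.Agent.Lib.Helper87.Kun38

/-!
# The top Künneth formula for Segre products of rings, without depth hypotheses (helper87)

`dim H^{r+s-1}_{T_+}(R # S)_d = dim H^r_{R_+}(R)_d · dim H^s_{S_+}(S)_d` for graded rings `R`, `S`
over a field of dimensions `r, s ≥ 2`.
-/

set_option autoImplicit false
universe u

namespace Groth.Agent.Lib.Helper87.Kun

open DirectSum TensorProduct GrLC
open Groth.Agent.Lib.Helper99 Groth.Agent.Lib.Helper39 Groth.Agent.Lib.Helper39.GrBridge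
  Groth.Agent.Lib.Helper87.SegOne Groth.Agent.Lib.Helper39.GrTop

attribute [local instance] toSubGradedRing toSubDecomposition toSubGradedSMul

/-- graded Grothendieck vanishing for the pieces, over a ring graded by submodules -/
theorem Hcomp_eq_bot_of_dim_lt {k : Type u} [Field k] {R : Type u} [CommRing R] [Algebra k R]
    [IsNoetherianRing R] (𝒜 : ℤ → Submodule k R) [GradedAlgebra 𝒜]
    {M : Type u} [AddCommGroup M] [Module R M]
    {ℳ : ℤ → AddSubgroup M} [DirectSum.Decomposition ℳ] [SetLike.GradedSMul 𝒜 ℳ]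
    (EM : StarInjRes 𝒜 ℳ) (mR : HomogeneousIdeal 𝒜) {r : ℕ} (hr : ringKrullDim R ≤ r)
    (q : ℕ) (hq : r < q) (d : ℤ) : EM.Hcomp mR q d = ⊥ := by
  have h1 : Subsingleton ((convRes EM).H (convIdeal mR) q) :=
    H_subsingleton_of_dim (convIdeal mR) hr (convRes EM) q hq
  rw [eq_bot_iff]
  intro x _
  rw [Submodule.mem_bot]
  exact @Subsingleton.elim _ h1 _ _

/-- **Top Künneth formula for the graded local cohomology of a Segre product of rings**, without
depth hypotheses. -/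
theorem kunneth_top_ring (k : Type u) [Field k] (R : Type u) [CommRing R]
    [Algebra k R] (𝒜 : ℤ → Submodule k R) [GradedAlgebra 𝒜] (hposR : ∀ n : ℤ, n < 0 → 𝒜 n = ⊥)
    (h0R : 𝒜 0 = Submodule.span k {(1 : R)}) [Algebra.FiniteType k R] (S : Type u) [CommRing S]
    [Algebra k S] (ℬ : ℤ → Submodule k S) [GradedAlgebra ℬ]
    (hposS : ∀ n : ℤ, n < 0 → ℬ n = ⊥) (h0S : ℬ 0 = Submodule.span k {(1 : S)})
    [Algebra.FiniteType k S] (T : Type u) [CommRing T] [Algebra k T] (𝒯 : ℤ → Submodule k T)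
    [GradedAlgebra 𝒯] (ψ : T →ₐ[k] TensorProduct k R S) (hψ : Function.Injective ψ)
    (hdegT : ∀ n : ℤ, (𝒯 n).map ψ.toLinearMap =
      Submodule.span k {x : TensorProduct k R S | ∃ a ∈ 𝒜 n, ∃ b ∈ ℬ n, x = a ⊗ₜ[k] b})
    (mR : HomogeneousIdeal 𝒜)
    (hmR : mR.toIdeal = Ideal.span (⋃ n ∈ Set.Ioi (0 : ℤ), (𝒜 n : Set R)))
    (I : GrLC.StarInjRes 𝒜 𝒜) (mS : HomogeneousIdeal ℬ)
    (hmS : mS.toIdeal = Ideal.span (⋃ n ∈ Set.Ioi (0 : ℤ), (ℬ n : Set S)))
    (J : GrLC.StarInjRes ℬ ℬ) (mT : HomogeneousIdeal 𝒯)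
    (hmT : mT.toIdeal = Ideal.span (⋃ n ∈ Set.Ioi (0 : ℤ), (𝒯 n : Set T)))
    (IT : GrLC.StarInjRes 𝒯 𝒯) (r s : ℕ) (hr : ringKrullDim R = r) (hs : ringKrullDim S = s)
    (h2r : 2 ≤ r) (h2s : 2 ≤ s) (d : ℤ) :
    Module.finrank (GrLC.deg0 𝒯) (IT.Hcomp mT (r + s - 1) d) =
      Module.finrank (GrLC.deg0 𝒜) (I.Hcomp mR r d) *
        Module.finrank (GrLC.deg0 ℬ) (J.Hcomp mS s d) := by
  classical
  haveI : Nontrivial R := by
    by_contra hcon
    rw [not_nontrivial_iff_subsingleton] at hcon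
    rw [ringKrullDim_eq_bot_of_subsingleton] at hr
    exact WithBot.bot_ne_coe hr
  haveI : Nontrivial S := by
    by_contra hcon
    rw [not_nontrivial_iff_subsingleton] at hcon
    rw [ringKrullDim_eq_bot_of_subsingleton] at hs
    exact WithBot.bot_ne_coe hs
  haveI : IsNoetherianRing R := Algebra.FiniteType.isNoetherianRing k R
  haveI : IsNoetherianRing S := Algebra.FiniteType.isNoetherianRing k S
  letI : DirectSum.Decomposition (toSub 𝒜) := toSubDecomposition 𝒜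
  letI : DirectSum.Decomposition (toSub ℬ) := toSubDecomposition ℬ
  letI : DirectSum.Decomposition (toSub 𝒯) := toSubDecomposition 𝒯
  haveI : SetLike.GradedSMul 𝒜 (toSub 𝒜) :=
    ⟨fun {i j a b} ha hb => SetLike.GradedMul.mul_mem (A := 𝒜) ha hb⟩
  haveI : SetLike.GradedSMul ℬ (toSub ℬ) :=
    ⟨fun {i j a b} ha hb => SetLike.GradedMul.mul_mem (A := ℬ) ha hb⟩
  haveI : SetLike.GradedSMul 𝒯 (toSub 𝒯) :=
    ⟨fun {i j a b} ha hb => SetLike.GradedMul.mul_mem (A := 𝒯) ha hb⟩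
  have hT : GrSeg.IsSegreRing 𝒜 ℬ 𝒯 ψ := ⟨hψ, hdegT⟩
  have hP : GrSeg.IsSegreMod ψ (toSub 𝒜) (toSub ℬ) (toSub 𝒯) ψ.toLinearMap :=
    { injective := hψ
      image_piece := fun n => by
        have h1 := hdegT n
        have h2 : (ψ.toLinearMap '' ((toSub 𝒯 n : AddSubgroup T) : Set T)) =
            (((𝒯 n).map ψ.toLinearMap : Submodule k (R ⊗[k] S)) : Set (R ⊗[k] S)) := rfl
        rw [h2, h1]
        rfl
      map_smul := fun t p => by
        rw [act_self']
        exact map_mul ψ t p }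
  let EM : GrLC.StarInjRes 𝒜 (toSub 𝒜) :=
    { X := I.X
      d := I.d
      ε := I.ε
      d_grHom := I.d_grHom
      ε_grHom := fun j m hm => I.ε_grHom j m hm
      ε_injective := I.ε_injective
      exact_zero := I.exact_zero
      exact_succ := I.exact_succ
      starInj := I.starInj }
  let EN : GrLC.StarInjRes ℬ (toSub ℬ) :=
    { X := J.X
      d := J.d
      ε := J.ε
      d_grHom := J.d_grHom
      ε_grHom := fun j m hm => J.ε_grHom j m hm
      ε_injective := J.ε_injective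
      exact_zero := J.exact_zero
      exact_succ := J.exact_succ
      starInj := J.starInj }
  let EP : GrLC.StarInjRes 𝒯 (toSub 𝒯) :=
    { X := IT.X
      d := IT.d
      ε := IT.ε
      d_grHom := IT.d_grHom
      ε_grHom := fun j m hm => IT.ε_grHom j m hm
      ε_injective := IT.ε_injective
      exact_zero := IT.exact_zero
      exact_succ := IT.exact_succ
      starInj := IT.starInj }
  exact kunneth_top k R 𝒜 hposR h0R S ℬ hposS h0S T 𝒯 ψ hT mR hmR mS hmS mT hmT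
    R (toSub 𝒜) EM S (toSub ℬ) EN T (toSub 𝒯) ψ.toLinearMap hP EP r s h2r h2s
    (fun q d hq => Hcomp_eq_bot_of_dim_lt 𝒜 EM mR hr.le q hq d)
    (fun q d hq => Hcomp_eq_bot_of_dim_lt ℬ EN mS hs.le q hq d) d

end Groth.Agent.Lib.Helper87.Kun
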