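import Groth.Agent.Lib.Helper39.GrRes
import Groth.Agent.S13213

/-!
# Existence of minimal `*`injective resolutions (helper87; uses helper39's graded library)

`exists_minimal_starInjRes`: every graded module over a Noetherian graded ring has a `*`injective
resolution `E` in which `E.X 0` is `*`essential over the image of the augmentation and each
`E.X (n+1)` is `*`essential over the image of `E.d n`.
-/

set_option autoImplicit false
universe u

namespace Groth.Agent.Lib.Helper87.StarMin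

open DirectSum GrLC Groth.Agent.Lib.Helper39

noncomputable section

variable {ι : Type} [AddCommGroup ι] [DecidableEq ι] [Module.Free ℤ ι] [Module.Finite ℤ ι]
  {R : Type u} [CommRing R] [IsNoetherianRing R] (𝒜 : ι → AddSubgroup R) [GradedRing 𝒜]

/-- every graded module has a `*`injective envelope -/
theorem exists_hull (C : GMod.{u} 𝒜) :
    ∃ (X : GMod.{u} 𝒜) (j : C.carrier →ₗ[R] X.carrier), IsStarInjHull 𝒜 C.gr X.gr j := by
  obtain ⟨E, _, _, _, φ, hφ⟩ := exists_injective_embedding (R := R) C.carrier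
  obtain ⟨X, f, hf, -⟩ := Groth.Agent.S13213.result R 𝒜 C.carrier C.gr E φ hφ
  exact ⟨X, f, hf⟩

/-- one stage of the construction of a minimal `*`injective resolution -/
structure MStage where
  C : GMod.{u} 𝒜
  X : GMod.{u} 𝒜
  j : C.carrier →ₗ[R] X.carrier
  hull : IsStarInjHull 𝒜 C.gr X.gr j

variable {𝒜}

def mkMStage (C : GMod.{u} 𝒜) : MStage 𝒜 where
  C := C
  X := (exists_hull 𝒜 C).choose
  j := (exists_hull 𝒜 C).choose_spec.choose
  hull := (exists_hull 𝒜 C).choose_spec.choose_spec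

def MStage.toStage (s : MStage 𝒜) : Stage 𝒜 where
  C := s.C
  X := s.X
  j := s.j
  hj := s.hull.grHom
  hinj := s.hull.injective
  hX := s.hull.starInj

def mstage (C₀ : GMod.{u} 𝒜) : ℕ → MStage 𝒜
  | 0 => mkMStage C₀
  | n + 1 => mkMStage (nextC (mstage C₀ n).toStage)

/-- the quotient map `X_n → C_{n+1} = X_n / im j_n` -/
def mstageQ (C₀ : GMod.{u} 𝒜) (n : ℕ) :
    (mstage C₀ n).X.carrier →ₗ[R] (mstage C₀ (n + 1)).C.carrier :=
  (LinearMap.range (mstage C₀ n).j).mkQ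

theorem mstageQ_surjective (C₀ : GMod.{u} 𝒜) (n : ℕ) : Function.Surjective (mstageQ C₀ n) :=
  Submodule.mkQ_surjective _

theorem mstageQ_eq_zero_iff (C₀ : GMod.{u} 𝒜) (n : ℕ) (x : (mstage C₀ n).X.carrier) :
    mstageQ C₀ n x = 0 ↔ x ∈ LinearMap.range (mstage C₀ n).j :=
  Submodule.Quotient.mk_eq_zero _

theorem mstageQ_grHom (C₀ : GMod.{u} 𝒜) (n : ℕ) :
    IsGrHom (mstage C₀ n).X.gr (mstage C₀ (n + 1)).C.gr (mstageQ C₀ n) :=
  isGrHom_mkQ (mstage C₀ n).X.gr _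

/-- the differential -/
def mstageD (C₀ : GMod.{u} 𝒜) (n : ℕ) :
    (mstage C₀ n).X.carrier →ₗ[R] (mstage C₀ (n + 1)).X.carrier :=
  (mstage C₀ (n + 1)).j ∘ₗ mstageQ C₀ n

theorem mstageD_grHom (C₀ : GMod.{u} 𝒜) (n : ℕ) :
    IsGrHom (mstage C₀ n).X.gr (mstage C₀ (n + 1)).X.gr (mstageD C₀ n) := by
  intro i x hx
  exact (mstage C₀ (n + 1)).hull.grHom i _ (mstageQ_grHom C₀ n i x hx)

theorem ker_mstageD (C₀ : GMod.{u} 𝒜) (n : ℕ) :
    LinearMap.ker (mstageD C₀ n) = LinearMap.range (mstage C₀ n).j := by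
  ext x
  rw [LinearMap.mem_ker, ← mstageQ_eq_zero_iff]
  unfold mstageD
  rw [LinearMap.comp_apply]
  constructor
  · intro h
    exact (mstage C₀ (n + 1)).hull.injective (by rw [h, map_zero])
  · intro h
    rw [h, map_zero]

theorem range_mstageD (C₀ : GMod.{u} 𝒜) (n : ℕ) :
    LinearMap.range (mstageD C₀ n) = LinearMap.range (mstage C₀ (n + 1)).j := by
  ext y
  constructor
  · rintro ⟨x, rfl⟩
    exact ⟨mstageQ C₀ n x, rfl⟩
  · rintro ⟨c, rfl⟩
    obtain ⟨x, rfl⟩ := mstageQ_surjective C₀ n c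
    exact ⟨x, rfl⟩

/-- a minimal `*`injective resolution -/
def minRes {M : Type u} [AddCommGroup M] [Module R M] (ℳ : ι → AddSubgroup M)
    [DirectSum.Decomposition ℳ] [SetLike.GradedSMul 𝒜 ℳ] : GrLC.StarInjRes 𝒜 ℳ where
  X n := (mstage (GMod.of 𝒜 M ℳ) n).X
  d n := mstageD (GMod.of 𝒜 M ℳ) n
  ε := (mstage (GMod.of 𝒜 M ℳ) 0).j
  d_grHom n := mstageD_grHom (GMod.of 𝒜 M ℳ) n
  ε_grHom := (mstage (GMod.of 𝒜 M ℳ) 0).hull.grHom
  ε_injective := (mstage (GMod.of 𝒜 M ℳ) 0).hull.injective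
  exact_zero := ker_mstageD (GMod.of 𝒜 M ℳ) 0
  exact_succ n := by
    rw [ker_mstageD, range_mstageD]
  starInj n := (mstage (GMod.of 𝒜 M ℳ) n).hull.starInj

theorem minRes_min0 {M : Type u} [AddCommGroup M] [Module R M] (ℳ : ι → AddSubgroup M)
    [DirectSum.Decomposition ℳ] [SetLike.GradedSMul 𝒜 ℳ]
    (P : Submodule R ((minRes (𝒜 := 𝒜) ℳ).X 0).carrier)
    (hP : P.IsHomogeneous ((minRes (𝒜 := 𝒜) ℳ).X 0).gr) (hne : P ≠ ⊥) :
    P ⊓ LinearMap.range (minRes (𝒜 := 𝒜) ℳ).ε ≠ ⊥ :=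
  (mstage (GMod.of 𝒜 M ℳ) 0).hull.essential P hP hne

theorem minRes_min {M : Type u} [AddCommGroup M] [Module R M] (ℳ : ι → AddSubgroup M)
    [DirectSum.Decomposition ℳ] [SetLike.GradedSMul 𝒜 ℳ] (n : ℕ)
    (P : Submodule R ((minRes (𝒜 := 𝒜) ℳ).X (n + 1)).carrier)
    (hP : P.IsHomogeneous ((minRes (𝒜 := 𝒜) ℳ).X (n + 1)).gr) (hne : P ≠ ⊥) :
    P ⊓ LinearMap.range ((minRes (𝒜 := 𝒜) ℳ).d n) ≠ ⊥ := by
  have h := (mstage (GMod.of 𝒜 M ℳ) (n + 1)).hull.essential P hP hne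
  rw [← range_mstageD] at h
  exact h

variable (𝒜) in
/-- **Existence of minimal `*`injective resolutions.** -/
theorem exists_minimal_starInjRes {M : Type u} [AddCommGroup M] [Module R M]
    (ℳ : ι → AddSubgroup M) [DirectSum.Decomposition ℳ] [SetLike.GradedSMul 𝒜 ℳ] :
    ∃ E : GrLC.StarInjRes 𝒜 ℳ,
      (∀ P : Submodule R (E.X 0).carrier, P.IsHomogeneous (E.X 0).gr → P ≠ ⊥ →
        P ⊓ LinearMap.range E.ε ≠ ⊥) ∧
      (∀ (n : ℕ) (P : Submodule R (E.X (n + 1)).carrier),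
        P.IsHomogeneous (E.X (n + 1)).gr → P ≠ ⊥ → P ⊓ LinearMap.range (E.d n) ≠ ⊥) :=
  ⟨minRes ℳ, minRes_min0 ℳ, minRes_min ℳ⟩

end

end Groth.Agent.Lib.Helper87.StarMin
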