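import Groth.Agent.Lib.Helper87.StarGor1
import Groth.Agent.Lib.Helper87.StarMin
import Groth.Agent.Lib.Helper39.GrLes5
import Groth.Agent.Lib.Helper39.GrSummand
import Groth.Agent.Lib.Helper39.GrHullPrime
import Groth.Agent.Lib.Helper39.GrShift
import Groth.Agent.S13214
import Groth.Agent.S13220

/-!
# Top graded local cohomology of a Gorenstein `*`local ring (helper87)

`exists_equiv_hull`: for a Gorenstein `*`local graded ring `(R, m)` with `ht m = n`, the graded local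
cohomology `H^n_m(R)` (computed from any `*`injective resolution) is homogeneously isomorphic, up to
a shift, to the `*`injective envelope of `R/m`.
-/

set_option autoImplicit false
universe u

namespace Groth.Agent.Lib.Helper87.StarGor

open CategoryTheory Abelian IsLocalRing GrLC DirectSum Groth.Agent.Lib.Helper87.BassFlat
  Groth.Agent.Lib.Helper87.StarCount Groth.Agent.Lib.Helper87.StarRes
  Groth.Agent.Lib.Helper39.Acyclic Groth.Agent.Lib.Helper39 Groth.Agent.Lib.Helper39.GrLes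

attribute [-instance] Groth.Agent.Lib.Helper89.ExtBaseChange.extModule

section Collapse

variable {ι : Type} [AddCommGroup ι] [DecidableEq ι] {R : Type u} [CommRing R]
  {𝒜 : ι → AddSubgroup R} [GradedRing 𝒜]
  {M : Type u} [AddCommGroup M] [Module R M] {ℳ : ι → AddSubgroup M} [DirectSum.Decomposition ℳ]
  [SetLike.GradedSMul 𝒜 ℳ] (E : GrLC.StarInjRes 𝒜 ℳ) (a : HomogeneousIdeal 𝒜) (n : ℕ)
  (hnext : gam a.toIdeal (E.X (n + 1)).carrier = ⊥)
  (hprev : ∀ k, k + 1 = n → gam a.toIdeal (E.X k).carrier = ⊥)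

include hnext in
theorem cocyc_eq_gam : E.cocyc a n = gam a.toIdeal (E.X n).carrier := by
  apply le_antisymm
  · exact inf_le_left
  · intro z hz
    refine ⟨hz, ?_⟩
    have h1 : E.d n z ∈ gam a.toIdeal (E.X (n + 1)).carrier := gam_map a.toIdeal (E.d n) hz
    rw [hnext] at h1
    exact (Submodule.mem_bot R).mp h1

include hprev in
theorem cobdy_eq_bot : E.cobdy a n = ⊥ := by
  cases n with
  | zero => rfl
  | succ k =>
    show (gam a.toIdeal (E.X k).carrier).map (E.d k) = ⊥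
    rw [hprev k rfl, Submodule.map_bot]

/-- if the neighbouring terms have no torsion, `H^n_a` is the torsion of the `n`-th term -/
noncomputable def HEquivGam : E.H a n ≃ₗ[R] gam a.toIdeal (E.X n).carrier :=
  (Submodule.quotEquivOfEqBot _ (by
    rw [cobdy_eq_bot E a n hprev, Submodule.comap_bot, Submodule.ker_subtype])).trans
    (LinearEquiv.ofEq _ _ (cocyc_eq_gam E a n hnext))

theorem HEquivGam_mem {h : ι} {x : E.H a n} (hx : x ∈ E.Hgr a n h) :
    ((HEquivGam E a n hnext hprev x : gam a.toIdeal (E.X n).carrier) : (E.X n).carrier) ∈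
      (E.X n).gr h := by
  obtain ⟨z, hz, rfl⟩ := hx
  have : HEquivGam E a n hnext hprev (E.toH a n z) =
      ⟨(z : (E.X n).carrier), (cocyc_eq_gam E a n hnext) ▸ z.2⟩ := by
    apply Subtype.ext
    rfl
  rw [this]
  exact hz

end Collapse

section Main

variable {ι : Type} [AddCommGroup ι] [DecidableEq ι] [Module.Free ℤ ι] [Module.Finite ℤ ι]
  (R : Type u) [CommRing R] [IsNoetherianRing R] (𝒜 : ι → AddSubgroup R) [GradedRing 𝒜]
  (m : HomogeneousIdeal 𝒜) (hm : IsStarLocal 𝒜 m) [hmp : m.toIdeal.IsPrime]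
  {X : Type u} [AddCommGroup X] [Module R X] (𝒳 : ι → AddSubgroup X)
  [DirectSum.Decomposition 𝒳] [SetLike.GradedSMul 𝒜 𝒳]

include hm in
omit [Module.Free ℤ ι] [Module.Finite ℤ ι] in
/-- a nonzero homogeneous element killed by `m` gives a nonzero element of the socle of `X_m` -/
theorem mk_mem_socle_ne_zero {g : ι} {w : X} (hw : w ∈ 𝒳 g) (hw0 : w ≠ 0)
    (hmw : ∀ r ∈ m.toIdeal, r • w = 0) :
    LocalizedModule.mk w (1 : m.toIdeal.primeCompl) ∈
        socle (Localization.AtPrime m.toIdeal) (LocalizedModule m.toIdeal.primeCompl X) ∧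
      LocalizedModule.mk w (1 : m.toIdeal.primeCompl) ≠ 0 := by
  constructor
  · rw [mem_socle_iff_forall_mem]
    intro r hr
    rw [LocalizedModule.smul'_mk, hmw r hr, LocalizedModule.zero_mk]
  · intro h0
    obtain ⟨t, ht⟩ := (mk_eq_zero_iff m.toIdeal w 1).mp h0
    exact t.2 (mem_of_smul_eq_zero 𝒜 𝒳 hm hw hw0 ht)

include hm 𝒳 in
omit [Module.Free ℤ ι] [Module.Finite ℤ ι] in
/-- if the socle of `X_m` vanishes then `X` has no `m`-torsion -/
theorem gam_eq_bot_of_length_socle_eq_zero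
    (h0 : Module.length (Localization.AtPrime m.toIdeal)
      (socle (Localization.AtPrime m.toIdeal) (LocalizedModule m.toIdeal.primeCompl X)) = 0) :
    gam m.toIdeal X = ⊥ := by
  by_contra hne
  obtain ⟨g, z, hzg, hzT, hz0⟩ := exists_homogeneous_mem_ne_zero 𝒳 (gam_isHomogeneous 𝒜 𝒳 m) hne
  obtain ⟨k, hk⟩ := hzT
  obtain ⟨e, c, hc, hc0, hcm⟩ := exists_socle_multiple 𝒜 𝒳 m k g z hzg hz0 hk
  have hcz : c • z ∈ 𝒳 (e + g) := SetLike.GradedSMul.smul_mem (A := 𝒜) (B := 𝒳) hc hzg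
  obtain ⟨h1, h2⟩ := mk_mem_socle_ne_zero R 𝒜 m hm 𝒳 hcz hc0 hcm
  haveI := Module.length_eq_zero_iff.mp h0
  apply h2
  have : (⟨_, h1⟩ : socle (Localization.AtPrime m.toIdeal)
      (LocalizedModule m.toIdeal.primeCompl X)) = 0 := Subsingleton.elim _ _
  exact congrArg Subtype.val this

include hm in
/-- If `X` is `*`injective and the socle of `X_m` has length one, then the `m`-torsion of `X` is, up
to a shift, the `*`injective envelope of `R/m`. -/
theorem exists_equiv_of_length_socle_eq_one (hX : IsStarInj 𝒜 𝒳)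
    (h1 : Module.length (Localization.AtPrime m.toIdeal)
      (socle (Localization.AtPrime m.toIdeal) (LocalizedModule m.toIdeal.primeCompl X)) = 1)
    {E' : Type u} [AddCommGroup E'] [Module R E'] (𝓔 : ι → AddSubgroup E')
    [DirectSum.Decomposition 𝓔] [SetLike.GradedSMul 𝒜 𝓔]
    (e : (R ⧸ m.toIdeal) →ₗ[R] E') (he : IsStarInjHull 𝒜 (quotGr 𝒜 m) 𝓔 e) :
    ∃ (g : ι) (ψ : gam m.toIdeal X ≃ₗ[R] E'), ∀ (h : ι) (z : gam m.toIdeal X),
      (z : X) ∈ 𝒳 h → ψ z ∈ 𝓔 (h + g) := by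
  classical
  have h𝔭 : m.toIdeal.FG := (isNoetherianRing_iff_ideal_fg R).mp inferInstance _
  haveI hsimple : IsSimpleModule (Localization.AtPrime m.toIdeal)
      (socle (Localization.AtPrime m.toIdeal) (LocalizedModule m.toIdeal.primeCompl X)) :=
    Module.length_eq_one_iff.mp h1
  haveI hnontriv : Nontrivial (socle (Localization.AtPrime m.toIdeal)
      (LocalizedModule m.toIdeal.primeCompl X)) :=
    IsSimpleModule.nontrivial (Localization.AtPrime m.toIdeal) _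
  -- a nonzero homogeneous socle element `y`
  obtain ⟨g, y, hyg, hy0, hmy⟩ : ∃ (g : ι) (y : X), y ∈ 𝒳 g ∧ y ≠ 0 ∧
      ∀ r ∈ m.toIdeal, r • y = 0 := by
    obtain ⟨⟨y', hy'⟩, hy'0⟩ := exists_ne (0 : socle (Localization.AtPrime m.toIdeal)
      (LocalizedModule m.toIdeal.primeCompl X))
    obtain ⟨x, s, rfl, hx⟩ := exists_rep_of_mem_socle m.toIdeal h𝔭 y' hy'
    have hx0 : x ≠ 0 := by
      rintro rfl
      apply hy'0
      apply Subtype.ext
      exact LocalizedModule.zero_mk s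
    have hex : ∃ g, (decompose 𝒳 x g : X) ≠ 0 := by
      by_contra hcon
      push Not at hcon
      apply hx0
      rw [← sum_support_decompose 𝒳 x]
      exact Finset.sum_eq_zero (fun i _ => hcon i)
    obtain ⟨g, hg⟩ := hex
    exact ⟨g, _, SetLike.coe_mem _, hg,
      smul_decompose_eq_zero_of_ideal 𝒜 𝒳 m.isHomogeneous hx g⟩
  obtain ⟨hysoc, hyne⟩ := mk_mem_socle_ne_zero R 𝒜 m hm 𝒳 hyg hy0 hmy
  -- the hull of `R y` as a graded summand
  have hM₀ : (Submodule.span R {y}).IsHomogeneous 𝒳 := span_singleton_isHomogeneous 𝒜 𝒳 hyg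
  obtain ⟨Q, hQ, θ, hθgr, hπθ, hθM, hcompl, hrest⟩ :=
    exists_hull_summand 𝒜 𝒳 hX (Submodule.span R {y}) hM₀
  let decN := quotDecomposition 𝒳 Q hQ
  have smulN := quotGradedSMul 𝒜 𝒳 Q
  obtain ⟨hNinj, hNess⟩ := hrest
  have hθy : θ (Q.mkQ y) = y := hθM y (Submodule.mem_span_singleton_self y)
  have hθmk : ∀ w, Q.mkQ (θ w) = w := fun w => LinearMap.congr_fun hπθ w
  -- `Q` has no `m`-torsion
  have hTQ : gam m.toIdeal X ⊓ Q = ⊥ := by
    by_contra hne
    obtain ⟨d, z, hzd, ⟨hzT, hzQ⟩, hz0⟩ := exists_homogeneous_mem_ne_zero 𝒳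
      (isHomogeneous_inf 𝒳 (gam_isHomogeneous 𝒜 𝒳 m) hQ) hne
    obtain ⟨k, hk⟩ := hzT
    obtain ⟨e₁, c, hc, hc0, hcm⟩ := exists_socle_multiple 𝒜 𝒳 m k d z hzd hz0 hk
    have hcz : c • z ∈ 𝒳 (e₁ + d) := SetLike.GradedSMul.smul_mem (A := 𝒜) (B := 𝒳) hc hzd
    have hczQ : c • z ∈ Q := Q.smul_mem c hzQ
    obtain ⟨hzsoc, hzne⟩ := mk_mem_socle_ne_zero R 𝒜 m hm 𝒳 hcz hc0 hcm
    obtain ⟨a, ha⟩ := IsSimpleModule.toSpanSingleton_surjective (Localization.AtPrime m.toIdeal)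
      (m := (⟨_, hysoc⟩ : socle (Localization.AtPrime m.toIdeal)
        (LocalizedModule m.toIdeal.primeCompl X)))
      (fun h => hyne (congrArg Subtype.val h)) ⟨_, hzsoc⟩
    have ha' : a • LocalizedModule.mk y (1 : m.toIdeal.primeCompl) =
        LocalizedModule.mk (c • z) (1 : m.toIdeal.primeCompl) := congrArg Subtype.val ha
    obtain ⟨b, s, rfl⟩ := IsLocalization.exists_mk'_eq m.toIdeal.primeCompl a
    rw [← Localization.mk_eq_mk', LocalizedModule.mk_smul_mk, LocalizedModule.mk_eq] at ha'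
    obtain ⟨u, hu⟩ := ha'
    rw [one_smul, mul_one] at hu
    -- `u • b • y = u • s • c • z` lies in `range θ ⊓ Q`
    have h2 : u • s • c • z ∈ LinearMap.range θ := by
      rw [← hu]
      refine ⟨Q.mkQ (u • b • y), ?_⟩
      exact hθM _ (Submodule.smul_mem _ _ (Submodule.smul_mem _ _
        (Submodule.mem_span_singleton_self y)))
    have h3 : u • s • c • z ∈ Q := Q.smul_mem _ (Q.smul_mem _ hczQ)
    have h4 : u • s • c • z = 0 := by
      have : u • s • c • z ∈ LinearMap.range θ ⊓ Q := ⟨h2, h3⟩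
      rw [hcompl.inf_eq_bot] at this
      exact (Submodule.mem_bot R).mp this
    have h5 : ((u * s : m.toIdeal.primeCompl) : R) • (c • z) = 0 := by
      rw [Submonoid.coe_mul, mul_smul]
      exact h4
    exact (u * s).2 (mem_of_smul_eq_zero 𝒜 𝒳 hm hcz hc0 h5)
  -- the map `f : R/m → X/Q`
  have hle : m.toIdeal ≤ LinearMap.ker (LinearMap.toSpanSingleton R (X ⧸ Q) (Q.mkQ y)) := by
    intro r hr
    rw [LinearMap.mem_ker, LinearMap.toSpanSingleton_apply, ← map_smul, hmy r hr, map_zero]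
  let f : (R ⧸ m.toIdeal) →ₗ[R] (X ⧸ Q) :=
    Submodule.liftQ m.toIdeal (LinearMap.toSpanSingleton R (X ⧸ Q) (Q.mkQ y)) hle
  have hf : ∀ r : R, f (Ideal.Quotient.mk m.toIdeal r) = r • Q.mkQ y := fun r => rfl
  -- shifted grading on `X/Q`
  let decS := shiftDecomposition (quotPieces 𝒳 Q) g
  have smulS := shiftGradedSMul 𝒜 (quotPieces 𝒳 Q) g
  have hmkQy : Q.mkQ y ∈ quotPieces 𝒳 Q g := isGrHom_mkQ 𝒳 Q g y hyg
  have hull : IsStarInjHull 𝒜 (quotGr 𝒜 m) (shiftPieces (quotPieces 𝒳 Q) g) f := by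
    refine { injective := ?_, grHom := ?_, essential := ?_, starInj := ?_ }
    · rw [← LinearMap.ker_eq_bot, eq_bot_iff]
      intro x hx
      obtain ⟨r, rfl⟩ := Ideal.Quotient.mk_surjective x
      rw [LinearMap.mem_ker, hf, ← map_smul] at hx
      have h2 : θ (Q.mkQ (r • y)) = r • y :=
        hθM _ (Submodule.smul_mem _ _ (Submodule.mem_span_singleton_self y))
      rw [hx, map_zero] at h2
      have h3 : r ∈ m.toIdeal := mem_of_smul_eq_zero 𝒜 𝒳 hm hyg hy0 h2.symm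
      rw [Submodule.mem_bot]
      exact Ideal.Quotient.eq_zero_iff_mem.mpr h3
    · rintro i x ⟨r, hr, rfl⟩
      show f (Ideal.Quotient.mk m.toIdeal r) ∈ quotPieces 𝒳 Q (i + g)
      rw [hf]
      exact SetLike.GradedSMul.smul_mem (A := 𝒜) (B := quotPieces 𝒳 Q) hr hmkQy
    · intro P hP hPne
      have hP' : P.IsHomogeneous (quotPieces 𝒳 Q) :=
        (isHomogeneous_shift_iff (quotPieces 𝒳 Q) g P).mp hP
      have h2 := hNess P hP' hPne
      intro hbot
      apply h2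
      rw [eq_bot_iff, ← hbot]
      apply inf_le_inf_left
      rintro _ ⟨x, hx, rfl⟩
      obtain ⟨r, rfl⟩ := Submodule.mem_span_singleton.mp hx
      exact ⟨Ideal.Quotient.mk m.toIdeal r, by rw [hf, map_smul]⟩
    · exact isStarInj_shift (quotPieces 𝒳 Q) hNinj g
  -- `X/Q` is `m`-torsion
  have htors : gam m.toIdeal (X ⧸ Q) = ⊤ :=
    Groth.Agent.S13220.result R 𝒜 m (X ⧸ Q) (shiftPieces (quotPieces 𝒳 Q) g) f hull
  -- the equivalence `gam m X ≃ X/Q`
  let Ψ : gam m.toIdeal X →ₗ[R] (X ⧸ Q) := Q.mkQ ∘ₗ (gam m.toIdeal X).subtype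
  have hΨ : Function.Bijective Ψ := by
    constructor
    · rw [← LinearMap.ker_eq_bot, eq_bot_iff]
      rintro ⟨z, hz⟩ hzk
      have h2 : Q.mkQ z = 0 := hzk
      rw [Submodule.mkQ_apply, Submodule.Quotient.mk_eq_zero] at h2
      have h3 : z ∈ gam m.toIdeal X ⊓ Q := ⟨hz, h2⟩
      rw [hTQ] at h3
      rw [Submodule.mem_bot]
      exact Subtype.ext ((Submodule.mem_bot R).mp h3)
    · intro w
      have hw : w ∈ gam m.toIdeal (X ⧸ Q) := htors ▸ Submodule.mem_top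
      exact ⟨⟨θ w, gam_map m.toIdeal θ hw⟩, hθmk w⟩
  -- uniqueness of hulls
  let decQ := quotGrDecomposition 𝒜 m
  have smulQ := quotGrGradedSMul 𝒜 m
  obtain ⟨β, hβgr, -⟩ := Groth.Agent.S13214.result R 𝒜 (R ⧸ m.toIdeal) (quotGr 𝒜 m) (X ⧸ Q)
    (shiftPieces (quotPieces 𝒳 Q) g) E' 𝓔 f e hull he
  refine ⟨-g, (LinearEquiv.ofBijective Ψ hΨ).trans β, ?_⟩
  intro h z hz
  show β (Q.mkQ (z : X)) ∈ 𝓔 (h + -g)
  apply hβgr (h + -g)
  show Q.mkQ (z : X) ∈ quotPieces 𝒳 Q (h + -g + g)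
  rw [neg_add_cancel_right]
  exact isGrHom_mkQ 𝒳 Q h _ hz

end Main

section Final

variable {ι : Type} [AddCommGroup ι] [DecidableEq ι] [Module.Free ℤ ι] [Module.Finite ℤ ι]

/-- **Top graded local cohomology of a Gorenstein `*`local ring** is a shifted `*`injective envelope
of `R/m`. -/
theorem exists_equiv_hull (R : Type u) [CommRing R] [LocCoh.IsGorensteinRing R]
    (𝒜 : ι → AddSubgroup R) [GradedRing 𝒜] (m : HomogeneousIdeal 𝒜) (hm : GrLC.IsStarLocal 𝒜 m)
    (n : ℕ) (hn : m.toIdeal.height = n) (I : GrLC.StarInjRes 𝒜 𝒜) (E' : Type u) [AddCommGroup E']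
    [Module R E'] (𝓔 : ι → AddSubgroup E') [DirectSum.Decomposition 𝓔] [SetLike.GradedSMul 𝒜 𝓔]
    (e : (R ⧸ m.toIdeal) →ₗ[R] E') (he : GrLC.IsStarInjHull 𝒜 (GrLC.quotGr 𝒜 m) 𝓔 e) :
    ∃ (g : ι) (φ : I.H m n ≃ₗ[R] E'), GrLC.IsGrHomDeg (I.Hgr m n) 𝓔 φ.toLinearMap g := by
  haveI : IsNoetherianRing R := inferInstance
  haveI hmp : m.toIdeal.IsPrime := isPrime_of_isStarLocal 𝒜 hm
  obtain ⟨E, hmin0, hmin⟩ := Groth.Agent.Lib.Helper87.StarMin.exists_minimal_starInjRes 𝒜 (M := R) 𝒜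
  have hlen := fun j => length_socle_eq_bassNum R 𝒜 R 𝒜 E hmin0 hmin m j
  have hgam : ∀ j, j ≠ n → gam m.toIdeal (E.X j).carrier = ⊥ := fun j hj =>
    gam_eq_bot_of_length_socle_eq_zero R 𝒜 m hm (E.X j).gr (by
      rw [hlen j, bassNum_self_eq_zero R m.toIdeal n hn j hj])
  have h1 : Module.length (Localization.AtPrime m.toIdeal)
      (socle (Localization.AtPrime m.toIdeal)
        (LocalizedModule m.toIdeal.primeCompl (E.X n).carrier)) = 1 := by
    rw [hlen n, bassNum_self_eq_one R m.toIdeal n hn]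
  obtain ⟨g, ψ, hψ⟩ := exists_equiv_of_length_socle_eq_one R 𝒜 m hm (E.X n).gr (E.starInj n) h1
    𝓔 e he
  have hnext : gam m.toIdeal (E.X (n + 1)).carrier = ⊥ := hgam (n + 1) (by omega)
  have hprev : ∀ k, k + 1 = n → gam m.toIdeal (E.X k).carrier = ⊥ :=
    fun k hk => hgam k (by omega)
  refine ⟨g, (Hequiv m I E n).trans ((HEquivGam E m n hnext hprev).trans ψ), ?_⟩
  intro h x hx
  have hx1 := Hequiv_mem_Hgr m I E n hx
  have hx2 := HEquivGam_mem E m n hnext hprev hx1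
  exact hψ h _ hx2

end Final

end Groth.Agent.Lib.Helper87.StarGor
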