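import Groth.Agent.Lib.Helper87.Kun44
import Groth.Agent.Lib.Helper87.Kun39

/-!
# The top Künneth formula for Segre products, module form: general degrees and rings (helper87)

* `kunneth_top_mod`: `H^q_{T_+}(M # N)` is the Segre product `H^r_{R_+}(M) # H^s_{S_+}(N)`
  (`GrSeg.IsSegreMod`) for `q + 1 = r + s`, when `H^i(M) = 0` for `i > r ≥ 2` and `H^j(N) = 0`
  for `j > s ≥ 2`.
* `kunneth_top_mod_ring`: the same for the rings themselves, of dimensions `r, s ≥ 2`.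
-/

set_option autoImplicit false
universe u

namespace Groth.Agent.Lib.Helper87.Kun

open DirectSum TensorProduct GrLC
open Groth.Agent.Lib.Helper99 Groth.Agent.Lib.Helper39 Groth.Agent.Lib.Helper39.GrBridge
  Groth.Agent.Lib.Helper87.SegOne Groth.Agent.Lib.Helper39.GrTop

attribute [local instance] toSubGradedRing toSubDecomposition toSubGradedSMul

/-- **Top Künneth formula for Segre products, module form.** -/
theorem kunneth_top_mod (k : Type u) [Field k] (R : Type u) [CommRing R] [Nontrivial R]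
    [Algebra k R]
    (𝒜 : ℤ → Submodule k R) [GradedAlgebra 𝒜] (hposR : ∀ n : ℤ, n < 0 → 𝒜 n = ⊥)
    (h0R : 𝒜 0 = Submodule.span k {(1 : R)}) [Algebra.FiniteType k R] (S : Type u) [CommRing S]
    [Nontrivial S] [Algebra k S] (ℬ : ℤ → Submodule k S) [GradedAlgebra ℬ]
    (hposS : ∀ n : ℤ, n < 0 → ℬ n = ⊥) (h0S : ℬ 0 = Submodule.span k {(1 : S)})
    [Algebra.FiniteType k S] (T : Type u) [CommRing T] [Algebra k T] (𝒯 : ℤ → Submodule k T)
    [GradedAlgebra 𝒯] (ψ : T →ₐ[k] TensorProduct k R S) (hT : GrSeg.IsSegreRing 𝒜 ℬ 𝒯 ψ)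
    (mR : HomogeneousIdeal 𝒜)
    (hmR : mR.toIdeal = Ideal.span (⋃ n ∈ Set.Ioi (0 : ℤ), (𝒜 n : Set R)))
    (mS : HomogeneousIdeal ℬ)
    (hmS : mS.toIdeal = Ideal.span (⋃ n ∈ Set.Ioi (0 : ℤ), (ℬ n : Set S)))
    (mT : HomogeneousIdeal 𝒯)
    (hmT : mT.toIdeal = Ideal.span (⋃ n ∈ Set.Ioi (0 : ℤ), (𝒯 n : Set T)))
    (M : Type u) [AddCommGroup M] [Module R M] [Module k M] [IsScalarTower k R M]
    (ℳ : ℤ → AddSubgroup M) [DirectSum.Decomposition ℳ] [SetLike.GradedSMul 𝒜 ℳ]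
    (EM : GrLC.StarInjRes 𝒜 ℳ)
    (N : Type u) [AddCommGroup N] [Module S N] [Module k N] [IsScalarTower k S N]
    (𝒩 : ℤ → AddSubgroup N) [DirectSum.Decomposition 𝒩] [SetLike.GradedSMul ℬ 𝒩]
    (EN : GrLC.StarInjRes ℬ 𝒩)
    (P : Type u) [AddCommGroup P] [Module T P] [Module k P] [IsScalarTower k T P]
    (𝒬 : ℤ → AddSubgroup P) [DirectSum.Decomposition 𝒬] [SetLike.GradedSMul 𝒯 𝒬]
    (φ : P →ₗ[k] TensorProduct k M N) (hP : GrSeg.IsSegreMod ψ ℳ 𝒩 𝒬 φ)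
    (EP : GrLC.StarInjRes 𝒯 𝒬) (r s q : ℕ) (h2r : 2 ≤ r) (h2s : 2 ≤ s) (hq : q + 1 = r + s)
    (hM : ∀ (i : ℕ) (d : ℤ), r < i → EM.Hcomp mR i d = ⊥)
    (hN : ∀ (i : ℕ) (d : ℤ), s < i → EN.Hcomp mS i d = ⊥)
    [Module k (EM.H mR r)] [IsScalarTower k R (EM.H mR r)]
    [Module k (EN.H mS s)] [IsScalarTower k S (EN.H mS s)]
    [Module k (EP.H mT q)] [IsScalarTower k T (EP.H mT q)]
    [DirectSum.Decomposition (EP.Hgr mT q)] :
    ∃ φ' : EP.H mT q →ₗ[k] TensorProduct k (EM.H mR r) (EN.H mS s),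
      GrSeg.IsSegreMod ψ (EM.Hgr mR r) (EN.Hgr mS s) (EP.Hgr mT q) φ' := by
  obtain ⟨r', rfl⟩ : ∃ r', r = r' + 2 := ⟨r - 2, by omega⟩
  obtain ⟨s', rfl⟩ : ∃ s', s = s' + 2 := ⟨s - 2, by omega⟩
  obtain rfl : q = r' + s' + 1 + 2 := by omega
  exact kunneth_top_mod_core k R 𝒜 hposR h0R S ℬ hposS h0S T 𝒯 ψ hT mR hmR mS hmS mT hmT
    M ℳ EM N 𝒩 EN P 𝒬 φ hP EP r' s' hM hN

/-- **Top Künneth formula for Segre products of rings, module form**: for graded rings `R`, `S`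
over a field of dimensions `r, s ≥ 2` the top local cohomology of `T = R # S` is the Segre product
of the top local cohomologies of `R` and `S`. -/
theorem kunneth_top_mod_ring (k : Type u) [Field k] (R : Type u) [CommRing R]
    [Algebra k R] (𝒜 : ℤ → Submodule k R) [GradedAlgebra 𝒜] (hposR : ∀ n : ℤ, n < 0 → 𝒜 n = ⊥)
    (h0R : 𝒜 0 = Submodule.span k {(1 : R)}) [Algebra.FiniteType k R] (S : Type u) [CommRing S]
    [Algebra k S] (ℬ : ℤ → Submodule k S) [GradedAlgebra ℬ]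
    (hposS : ∀ n : ℤ, n < 0 → ℬ n = ⊥) (h0S : ℬ 0 = Submodule.span k {(1 : S)})
    [Algebra.FiniteType k S] (T : Type u) [CommRing T] [Algebra k T] (𝒯 : ℤ → Submodule k T)
    [GradedAlgebra 𝒯] (ψ : T →ₐ[k] TensorProduct k R S) (hT : GrSeg.IsSegreRing 𝒜 ℬ 𝒯 ψ)
    (mR : HomogeneousIdeal 𝒜)
    (hmR : mR.toIdeal = Ideal.span (⋃ n ∈ Set.Ioi (0 : ℤ), (𝒜 n : Set R)))
    (I : GrLC.StarInjRes 𝒜 𝒜) (mS : HomogeneousIdeal ℬ)
    (hmS : mS.toIdeal = Ideal.span (⋃ n ∈ Set.Ioi (0 : ℤ), (ℬ n : Set S)))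
    (J : GrLC.StarInjRes ℬ ℬ) (mT : HomogeneousIdeal 𝒯)
    (hmT : mT.toIdeal = Ideal.span (⋃ n ∈ Set.Ioi (0 : ℤ), (𝒯 n : Set T)))
    (IT : GrLC.StarInjRes 𝒯 𝒯) (r s q : ℕ) (hr : ringKrullDim R = r) (hs : ringKrullDim S = s)
    (h2r : 2 ≤ r) (h2s : 2 ≤ s) (hq : q + 1 = r + s)
    [Module k (I.H mR r)] [IsScalarTower k R (I.H mR r)]
    [Module k (J.H mS s)] [IsScalarTower k S (J.H mS s)]
    [Module k (IT.H mT q)] [IsScalarTower k T (IT.H mT q)]
    [DirectSum.Decomposition (IT.Hgr mT q)] :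
    ∃ φ' : IT.H mT q →ₗ[k] TensorProduct k (I.H mR r) (J.H mS s),
      GrSeg.IsSegreMod ψ (I.Hgr mR r) (J.Hgr mS s) (IT.Hgr mT q) φ' := by
  classical
  haveI : Nontrivial R := by
    by_contra hcon
    rw [not_nontrivial_iff_subsingleton] at hcon
    rw [ringKrullDim_eq_bot_of_subsingleton] at hr
    exact WithBot.bot_ne_coe hr
  haveI : Nontrivial S := by
    by_contra hcon
    rw [not_nontrivial_iff_subsingleton] at hcon
    rw [ringKrullDim_eq_bot_of_subsingleton] at hs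
    exact WithBot.bot_ne_coe hs
  haveI : IsNoetherianRing R := Algebra.FiniteType.isNoetherianRing k R
  haveI : IsNoetherianRing S := Algebra.FiniteType.isNoetherianRing k S
  letI : DirectSum.Decomposition (toSub 𝒜) := toSubDecomposition 𝒜
  letI : DirectSum.Decomposition (toSub ℬ) := toSubDecomposition ℬ
  letI : DirectSum.Decomposition (toSub 𝒯) := toSubDecomposition 𝒯
  haveI : SetLike.GradedSMul 𝒜 (toSub 𝒜) :=
    ⟨fun {i j a b} ha hb => SetLike.GradedMul.mul_mem (A := 𝒜) ha hb⟩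
  haveI : SetLike.GradedSMul ℬ (toSub ℬ) :=
    ⟨fun {i j a b} ha hb => SetLike.GradedMul.mul_mem (A := ℬ) ha hb⟩
  haveI : SetLike.GradedSMul 𝒯 (toSub 𝒯) :=
    ⟨fun {i j a b} ha hb => SetLike.GradedMul.mul_mem (A := 𝒯) ha hb⟩
  have hP : GrSeg.IsSegreMod ψ (toSub 𝒜) (toSub ℬ) (toSub 𝒯) ψ.toLinearMap :=
    { injective := hT.1
      image_piece := fun n => by
        have h1 := hT.2 n
        have h2 : (ψ.toLinearMap '' ((toSub 𝒯 n : AddSubgroup T) : Set T)) =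
            (((𝒯 n).map ψ.toLinearMap : Submodule k (R ⊗[k] S)) : Set (R ⊗[k] S)) := rfl
        rw [h2, h1]
        rfl
      map_smul := fun t p => by
        rw [act_self']
        exact map_mul ψ t p }
  let EM : GrLC.StarInjRes 𝒜 (toSub 𝒜) :=
    { X := I.X
      d := I.d
      ε := I.ε
      d_grHom := I.d_grHom
      ε_grHom := fun j m hm => I.ε_grHom j m hm
      ε_injective := I.ε_injective
      exact_zero := I.exact_zero
      exact_succ := I.exact_succ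
      starInj := I.starInj }
  let EN : GrLC.StarInjRes ℬ (toSub ℬ) :=
    { X := J.X
      d := J.d
      ε := J.ε
      d_grHom := J.d_grHom
      ε_grHom := fun j m hm => J.ε_grHom j m hm
      ε_injective := J.ε_injective
      exact_zero := J.exact_zero
      exact_succ := J.exact_succ
      starInj := J.starInj }
  let EP : GrLC.StarInjRes 𝒯 (toSub 𝒯) :=
    { X := IT.X
      d := IT.d
      ε := IT.ε
      d_grHom := IT.d_grHom
      ε_grHom := fun j m hm => IT.ε_grHom j m hm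
      ε_injective := IT.ε_injective
      exact_zero := IT.exact_zero
      exact_succ := IT.exact_succ
      starInj := IT.starInj }
  letI i1 : Module k (EM.H mR r) := ‹Module k (I.H mR r)›
  haveI i2 : IsScalarTower k R (EM.H mR r) := ‹IsScalarTower k R (I.H mR r)›
  letI i3 : Module k (EN.H mS s) := ‹Module k (J.H mS s)›
  haveI i4 : IsScalarTower k S (EN.H mS s) := ‹IsScalarTower k S (J.H mS s)›
  letI i5 : Module k (EP.H mT q) := ‹Module k (IT.H mT q)›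
  haveI i6 : IsScalarTower k T (EP.H mT q) := ‹IsScalarTower k T (IT.H mT q)›
  letI i7 : DirectSum.Decomposition (EP.Hgr mT q) := ‹DirectSum.Decomposition (IT.Hgr mT q)›
  exact kunneth_top_mod k R 𝒜 hposR h0R S ℬ hposS h0S T 𝒯 ψ hT mR hmR mS hmS mT hmT
    R (toSub 𝒜) EM S (toSub ℬ) EN T (toSub 𝒯) ψ.toLinearMap hP EP r s q h2r h2s hq
    (fun i d hi => Hcomp_eq_bot_of_dim_lt 𝒜 EM mR hr.le i hi d)
    (fun i d hi => Hcomp_eq_bot_of_dim_lt ℬ EN mS hs.le i hi d)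

end Groth.Agent.Lib.Helper87.Kun
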