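import Groth.Agent.Lib.Helper87.Kun26

/-!
# The Cohen–Macaulay property of a Segre product of standard graded Cohen–Macaulay rings in terms
of `a`-invariants (helper87)
-/

set_option autoImplicit false
universe u

namespace Groth.Agent.Lib.Helper87.Kun

open DirectSum TensorProduct GrLC RingTheory.Sequence
open Groth.Agent.Lib.Helper99 Groth.Agent.Lib.Helper39 Groth.Agent.Lib.Helper39.GrBridge
  Groth.Agent.Lib.Helper87.SegOne Groth.Agent.Lib.Helper60

theorem endDeg_lt_zero_iff {M : Type u} [AddCommGroup M] (𝒢 : ℤ → AddSubgroup M) :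
    GrLC.endDeg 𝒢 < 0 ↔ ∀ n : ℤ, 0 ≤ n → 𝒢 n = ⊥ := by
  unfold GrLC.endDeg
  constructor
  · intro h n hn
    by_contra hne
    have h1 : ((n : WithTop ℤ) : WithBot (WithTop ℤ)) ≤
        ⨆ (n : ℤ) (_ : 𝒢 n ≠ ⊥), ((n : WithTop ℤ) : WithBot (WithTop ℤ)) :=
      le_iSup₂ (f := fun (n : ℤ) (_ : 𝒢 n ≠ ⊥) => ((n : WithTop ℤ) : WithBot (WithTop ℤ))) n hne
    have h2 := lt_of_le_of_lt h1 h
    have h3 : n < 0 := by exact_mod_cast h2
    omega
  · intro h
    have h1 : (⨆ (n : ℤ) (_ : 𝒢 n ≠ ⊥), ((n : WithTop ℤ) : WithBot (WithTop ℤ))) ≤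
        (((-1 : ℤ) : WithTop ℤ) : WithBot (WithTop ℤ)) := by
      rw [iSup₂_le_iff]
      intro n hne
      have : n ≤ -1 := by
        by_contra hlt
        exact hne (h n (by omega))
      exact_mod_cast this
    refine lt_of_le_of_lt h1 ?_
    have : (-1 : ℤ) < 0 := by omega
    exact_mod_cast this

section Std

variable {k : Type u} [Field k] {R : Type u} [CommRing R] [Algebra k R]
  (𝒜 : ℤ → Submodule k R) [GradedAlgebra 𝒜]

/-- a standard graded algebra of positive dimension has a non-nilpotent linear form -/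
theorem exists_not_isNilpotent_of_std [Nontrivial R] (hpos : ∀ n : ℤ, n < 0 → 𝒜 n = ⊥)
    (h0 : 𝒜 0 = Submodule.span k {(1 : R)})
    (hstd : Ideal.span (⋃ n ∈ Set.Ioi (0 : ℤ), (𝒜 n : Set R)) =
      Ideal.span ((𝒜 1 : Submodule k R) : Set R))
    (hdim : ¬ ringKrullDim R ≤ ((0 : ℕ) : WithBot ℕ∞)) : ∃ x ∈ 𝒜 1, ¬ IsNilpotent x := by
  by_contra hcon
  push Not at hcon
  have hle : Helper87.irr 𝒜 ≤ nilradical R := by
    unfold Helper87.irr
    rw [hstd, Ideal.span_le]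
    intro g hg
    exact mem_nilradical.mpr (hcon g hg)
  apply hdim
  rw [← Ring.krullDimLE_iff]
  apply Ring.KrullDimLE.mk₀
  intro p hp
  have hmax : (Helper87.irr 𝒜).IsMaximal := irr_isMaximal 𝒜 hpos h0
  have h1 : Helper87.irr 𝒜 ≤ p := hle.trans (nilradical_le_prime p)
  rw [← hmax.eq_of_le hp.ne_top h1]
  exact hmax

/-- the pieces of nonnegative degree of a standard graded algebra of positive dimension are
nonzero -/
theorem piece_ne_bot_of_std [Nontrivial R] (hpos : ∀ n : ℤ, n < 0 → 𝒜 n = ⊥)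
    (h0 : 𝒜 0 = Submodule.span k {(1 : R)})
    (hstd : Ideal.span (⋃ n ∈ Set.Ioi (0 : ℤ), (𝒜 n : Set R)) =
      Ideal.span ((𝒜 1 : Submodule k R) : Set R))
    (hdim : ¬ ringKrullDim R ≤ ((0 : ℕ) : WithBot ℕ∞)) (n : ℤ) (hn : 0 ≤ n) : 𝒜 n ≠ ⊥ := by
  obtain ⟨x, hx, hxnil⟩ := exists_not_isNilpotent_of_std 𝒜 hpos h0 hstd hdim
  obtain ⟨m, rfl⟩ := Int.eq_ofNat_of_zero_le hn
  intro h
  have h1 : x ^ m ∈ 𝒜 (m : ℤ) := by
    have := SetLike.pow_mem_graded m hx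
    rwa [nsmul_eq_mul, mul_one] at this
  rw [h, Submodule.mem_bot] at h1
  exact hxnil ⟨m, h1⟩

end Std

/-- **Cohen–Macaulayness of the Segre product of standard graded Cohen–Macaulay rings of
dimensions `≥ 2` in terms of the `a`-invariants.** -/
theorem segre_cm_ring_iff_aInv (k : Type u) [Field k] (R : Type u) [CommRing R] [Algebra k R]
    (𝒜 : ℤ → Submodule k R) [GradedAlgebra 𝒜] (hposR : ∀ n : ℤ, n < 0 → 𝒜 n = ⊥)
    (h0R : 𝒜 0 = Submodule.span k {(1 : R)}) [Algebra.FiniteType k R] (S : Type u) [CommRing S]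
    [Algebra k S] (ℬ : ℤ → Submodule k S) [GradedAlgebra ℬ]
    (hposS : ∀ n : ℤ, n < 0 → ℬ n = ⊥) (h0S : ℬ 0 = Submodule.span k {(1 : S)})
    [Algebra.FiniteType k S] (T : Type u) [CommRing T] [Algebra k T] (𝒯 : ℤ → Submodule k T)
    [GradedAlgebra 𝒯] (ψ : T →ₐ[k] TensorProduct k R S) (hψ : Function.Injective ψ)
    (hdegT : ∀ n : ℤ, (𝒯 n).map ψ.toLinearMap =
      Submodule.span k {x : TensorProduct k R S | ∃ a ∈ 𝒜 n, ∃ b ∈ ℬ n, x = a ⊗ₜ[k] b})
    [LocCoh.IsCohenMacaulayRing R] [LocCoh.IsCohenMacaulayRing S] (mR : HomogeneousIdeal 𝒜)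
    (hmR : mR.toIdeal = Ideal.span (⋃ n ∈ Set.Ioi (0 : ℤ), (𝒜 n : Set R)))
    (hstdR : Ideal.span (⋃ n ∈ Set.Ioi (0 : ℤ), (𝒜 n : Set R)) =
      Ideal.span ((𝒜 1 : Submodule k R) : Set R))
    (I : GrLC.StarInjRes 𝒜 𝒜) (mS : HomogeneousIdeal ℬ)
    (hmS : mS.toIdeal = Ideal.span (⋃ n ∈ Set.Ioi (0 : ℤ), (ℬ n : Set S)))
    (hstdS : Ideal.span (⋃ n ∈ Set.Ioi (0 : ℤ), (ℬ n : Set S)) =
      Ideal.span ((ℬ 1 : Submodule k S) : Set S))
    (J : GrLC.StarInjRes ℬ ℬ) (r s : ℕ) (hr : ringKrullDim R = r) (hs : ringKrullDim S = s)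
    (h2r : 2 ≤ r) (h2s : 2 ≤ s) :
    LocCoh.IsCohenMacaulayRing T ↔
      GrLC.endDeg (I.Hgr mR r) < 0 ∧ GrLC.endDeg (J.Hgr mS s) < 0 := by
  have hRnt : Nontrivial R := by
    by_contra hcon
    rw [not_nontrivial_iff_subsingleton] at hcon
    rw [ringKrullDim_eq_bot_of_subsingleton] at hr
    exact absurd hr.symm WithBot.coe_ne_bot
  have hSnt : Nontrivial S := by
    by_contra hcon
    rw [not_nontrivial_iff_subsingleton] at hcon
    rw [ringKrullDim_eq_bot_of_subsingleton] at hs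
    exact absurd hs.symm WithBot.coe_ne_bot
  have hdR : ¬ ringKrullDim R ≤ ((0 : ℕ) : WithBot ℕ∞) := by
    rw [hr]
    intro h
    have h1 : r ≤ 0 := by exact_mod_cast h
    omega
  have hdS : ¬ ringKrullDim S ≤ ((0 : ℕ) : WithBot ℕ∞) := by
    rw [hs]
    intro h
    have h1 : s ≤ 0 := by exact_mod_cast h
    omega
  have hAne := piece_ne_bot_of_std 𝒜 hposR h0R hstdR hdR
  have hBne := piece_ne_bot_of_std ℬ hposS h0S hstdS hdS
  have hI : ∀ n : ℤ, I.Hgr mR r n = ⊥ ↔ I.Hcomp mR r n = ⊥ := by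
    intro n
    rw [eq_bot_iff, eq_bot_iff]
    exact Iff.rfl
  have hJ : ∀ n : ℤ, J.Hgr mS s n = ⊥ ↔ J.Hcomp mS s n = ⊥ := by
    intro n
    rw [eq_bot_iff, eq_bot_iff]
    exact Iff.rfl
  rw [segre_cm_ring_iff k R 𝒜 hposR h0R S ℬ hposS h0S T 𝒯 ψ hψ hdegT mR hmR I mS hmS J r s hr hs
    h2r h2s, endDeg_lt_zero_iff, endDeg_lt_zero_iff]
  constructor
  · rintro ⟨c1, c2⟩
    constructor
    · intro n hn
      rcases c2 n with h | h
      · exact (hI n).mpr h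
      · exact absurd h (hBne n hn)
    · intro n hn
      rcases c1 n with h | h
      · exact absurd h (hAne n hn)
      · exact (hJ n).mpr h
  · rintro ⟨c1, c2⟩
    constructor
    · intro n
      rcases lt_or_ge n 0 with hn | hn
      · exact Or.inl (hposR n hn)
      · exact Or.inr ((hJ n).mp (c2 n hn))
    · intro n
      rcases lt_or_ge n 0 with hn | hn
      · exact Or.inr (hposS n hn)
      · exact Or.inl ((hI n).mp (c1 n hn))

end Groth.Agent.Lib.Helper87.Kun
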