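import Groth.Agent.Lib.Helper87.GrNoeth3
import Groth.Agent.Lib.Helper55.KrullDimIntegral
import Mathlib.RingTheory.KrullDimension.Polynomial
import Mathlib.RingTheory.KrullDimension.Field
import Mathlib.RingTheory.Jacobson.Artinian
import Mathlib.RingTheory.AlgebraicIndependent.Basic

/-!
# Graded Noether normalisation IV: the theorem (helper87)

A graded algebra `R = ⊕_{n ≥ 0} 𝒜 n` of finite type over a field `k = 𝒜 0`, of Krull dimension `r`,
is integral over a polynomial subalgebra `k[y_1, …, y_r]` on algebraically independent homogeneous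
elements of one and the same (arbitrarily divisible) positive degree.
-/

set_option autoImplicit false
universe u

namespace Groth.Agent.Lib.Helper87

open DirectSum

section Main

variable {k : Type u} [Field k] {R : Type u} [CommRing R] [Algebra k R]
  (𝒜 : ℤ → Submodule k R) [GradedAlgebra 𝒜]

/-- dimension count: an integral `aeval` from a polynomial ring in at most `dim R` variables is
injective, and the number of variables is `dim R` -/
theorem injective_aeval_of_isIntegral_of_card_le {ι : Type*} [Fintype ι] (y : ι → R) (r : ℕ)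
    (hr : ringKrullDim R = r) (hcard : Fintype.card ι ≤ r)
    (hint : (MvPolynomial.aeval y : MvPolynomial ι k →ₐ[k] R).toRingHom.IsIntegral) :
    Fintype.card ι = r ∧ Function.Injective (MvPolynomial.aeval y : MvPolynomial ι k →ₐ[k] R) := by
  classical
  set φ : MvPolynomial ι k →ₐ[k] R := MvPolynomial.aeval y with hφ
  have hdimP : ringKrullDim (MvPolynomial ι k) = (Fintype.card ι : ℕ) := by
    rw [MvPolynomial.ringKrullDim_of_isNoetherianRing, ringKrullDim_eq_zero_of_field, zero_add,
      Nat.card_eq_fintype_card]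
  have h1 : ringKrullDim R ≤ ringKrullDim (MvPolynomial ι k) := by
    letI := φ.toRingHom.toAlgebra
    haveI : Algebra.IsIntegral (MvPolynomial ι k) R := ⟨hint⟩
    exact Groth.Agent.Lib.Helper55.ringKrullDim_le_of_isIntegral (MvPolynomial ι k) R
  have hcard' : Fintype.card ι = r := by
    rw [hr, hdimP] at h1
    have : r ≤ Fintype.card ι := by exact_mod_cast h1
    omega
  refine ⟨hcard', ?_⟩
  rw [injective_iff_map_eq_zero]
  intro f hf
  by_contra hf0
  set K : Ideal (MvPolynomial ι k) := RingHom.ker φ.toRingHom with hK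
  have hfK : f ∈ K := hf
  have hlift_int : (RingHom.kerLift φ.toRingHom).IsIntegral := by
    intro a
    obtain ⟨p, hp, hpa⟩ := hint a
    refine ⟨p.map (Ideal.Quotient.mk K), hp.map _, ?_⟩
    rw [Polynomial.eval₂_map]
    have : (RingHom.kerLift φ.toRingHom).comp (Ideal.Quotient.mk K) = φ.toRingHom :=
      RingHom.ext fun x => by
        rw [RingHom.comp_apply]
        exact RingHom.kerLift_mk φ.toRingHom x
    rw [this]
    exact hpa
  have h2 : ringKrullDim R ≤ ringKrullDim (MvPolynomial ι k ⧸ K) := by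
    letI := (RingHom.kerLift φ.toRingHom).toAlgebra
    haveI : Algebra.IsIntegral (MvPolynomial ι k ⧸ K) R := ⟨hlift_int⟩
    exact Groth.Agent.Lib.Helper55.ringKrullDim_le_of_isIntegral (MvPolynomial ι k ⧸ K) R
  have h3 : ringKrullDim (MvPolynomial ι k ⧸ K) + 1 ≤ ringKrullDim (MvPolynomial ι k) :=
    ringKrullDim_succ_le_of_surjective (Ideal.Quotient.mk K) Ideal.Quotient.mk_surjective
      (mem_nonZeroDivisors_of_ne_zero hf0) (Ideal.Quotient.eq_zero_iff_mem.mpr hfK)
  rw [hdimP, hcard'] at h3
  rw [hr] at h2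
  have h4 : ((r : ℕ) : WithBot ℕ∞) + 1 ≤ (r : ℕ) := (add_le_add_left h2 1).trans h3
  have h5 : r + 1 ≤ r := by exact_mod_cast h4
  omega

/-- **Graded Noether normalisation** with all parameters in one degree. -/
theorem exists_homogeneous_noether (hpos : ∀ n : ℤ, n < 0 → 𝒜 n = ⊥)
    (h0 : 𝒜 0 = Submodule.span k {(1 : R)}) [Algebra.FiniteType k R] (r : ℕ)
    (hr : ringKrullDim R = r) :
    ∃ D₀ : ℕ, 0 < D₀ ∧ ∀ D : ℕ, 0 < D → D₀ ∣ D → ∃ y : Fin r → R,
      (∀ i, y i ∈ 𝒜 (D : ℤ)) ∧ AlgebraicIndependent k y ∧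
      (MvPolynomial.aeval y : MvPolynomial (Fin r) k →ₐ[k] R).toRingHom.IsIntegral := by
  classical
  obtain ⟨s, hcard, hs, hdim⟩ := exists_finset_dim_zero' 𝒜 hpos h0 r hr
  choose! deg hdegpos hdegmem using hs
  refine ⟨∏ x ∈ s, (deg x).toNat, Finset.prod_pos fun x hx => ?_, ?_⟩
  · have := hdegpos x hx
    omega
  intro D hD hdvd
  have hdvd' : ∀ x ∈ s, (deg x).toNat ∣ D := fun x hx => (Finset.dvd_prod_of_mem _ hx).trans hdvd
  let e : R → ℕ := fun x => D / (deg x).toNat
  have he : ∀ x ∈ s, e x * (deg x).toNat = D := fun x hx => Nat.div_mul_cancel (hdvd' x hx)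
  have hepos : ∀ x ∈ s, 0 < e x := by
    intro x hx
    rcases Nat.eq_zero_or_pos (e x) with h | h
    · have := he x hx
      rw [h, zero_mul] at this
      omega
    · exact h
  let y : s → R := fun x => x.1 ^ e x.1
  have hy : ∀ x : s, y x ∈ 𝒜 (D : ℤ) := by
    intro x
    have h1 := SetLike.pow_mem_graded (e x.1) (hdegmem x.1 x.2)
    have h2 : e x.1 • deg x.1 = (D : ℤ) := by
      rw [nsmul_eq_mul, ← he x.1 x.2]
      have := hdegpos x.1 x.2
      push_cast
      rw [Int.toNat_of_nonneg this.le]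
    rw [h2] at h1
    exact h1
  -- the zero loci agree
  have hzl : PrimeSpectrum.zeroLocus (R := R) ((Ideal.span (Set.range y) : Ideal R) : Set R) =
      PrimeSpectrum.zeroLocus ((Ideal.span (s : Set R) : Ideal R) : Set R) := by
    rw [PrimeSpectrum.zeroLocus_span, PrimeSpectrum.zeroLocus_span]
    ext q
    simp only [PrimeSpectrum.mem_zeroLocus]
    constructor
    · intro h x hx
      have : y ⟨x, hx⟩ ∈ q.asIdeal := h ⟨⟨x, hx⟩, rfl⟩
      exact q.2.mem_of_pow_mem _ this
    · rintro h _ ⟨x, rfl⟩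
      exact Ideal.pow_mem_of_mem _ (h x.2) _ (hepos x.1 x.2)
  have hdim' : ringKrullDim (R ⧸ Ideal.span (Set.range y)) ≤ 0 := by
    rw [ringKrullDim_quotient] at hdim ⊢
    rw [hzl]
    exact hdim
  haveI : Algebra.FiniteType k (R ⧸ Ideal.span (Set.range y)) :=
    Algebra.FiniteType.of_surjective (Ideal.Quotient.mkₐ k _) (Ideal.Quotient.mkₐ_surjective k _)
  have hfin : Module.Finite k (R ⧸ Ideal.span (Set.range y)) := by
    rw [Module.finite_iff_krullDimLE_zero, Ring.krullDimLE_iff]
    exact_mod_cast hdim'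
  have hint := isIntegral_aeval_of_finite_quotient 𝒜 hpos y (fun _ => (D : ℤ))
    (fun _ => by exact_mod_cast hD) hy hfin
  have hcs : Fintype.card s ≤ r := by rw [Fintype.card_coe]; exact hcard
  obtain ⟨hcard', hinj⟩ := injective_aeval_of_isIntegral_of_card_le y r hr hcs hint
  let ε : Fin r ≃ s := (Fintype.equivFinOfCardEq hcard').symm
  refine ⟨y ∘ ε, fun i => hy (ε i), ?_, ?_⟩
  · have hyind : AlgebraicIndependent k y := hinj
    exact hyind.comp ε ε.injective
  · have h1 : (MvPolynomial.aeval (y ∘ ε) : MvPolynomial (Fin r) k →ₐ[k] R).toRingHom =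
        (MvPolynomial.aeval y : MvPolynomial s k →ₐ[k] R).toRingHom.comp
          (MvPolynomial.rename ε : MvPolynomial (Fin r) k →ₐ[k] MvPolynomial s k).toRingHom := by
      ext i
      · simp
      · simp
    rw [h1]
    exact RingHom.IsIntegral.trans _ _
      (RingHom.isIntegral_of_surjective _ (MvPolynomial.rename_surjective _ ε.surjective)) hint

end Main

end Groth.Agent.Lib.Helper87
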