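import Groth.Agent.Lib.Helper87.SegreInt3
import Groth.Agent.Lib.Helper87.GrNoeth4

/-!
# Krull dimension of the Segre product of two graded algebras over a field (helper87)
-/

set_option autoImplicit false
universe u

namespace Groth.Agent.Lib.Helper87

open scoped TensorProduct

/-- `dim (R # S) = dim R + dim S - 1` for graded algebras of finite type over a field `k = R_0 = S_0`
of positive dimensions. -/
theorem ringKrullDim_segreProduct (k : Type u) [Field k] (R : Type u) [CommRing R] [Algebra k R]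
    (𝒜 : ℤ → Submodule k R) [GradedAlgebra 𝒜] (hposR : ∀ n : ℤ, n < 0 → 𝒜 n = ⊥)
    (h0R : 𝒜 0 = Submodule.span k {(1 : R)}) [Algebra.FiniteType k R] (S : Type u) [CommRing S]
    [Algebra k S] (ℬ : ℤ → Submodule k S) [GradedAlgebra ℬ] (hposS : ∀ n : ℤ, n < 0 → ℬ n = ⊥)
    (h0S : ℬ 0 = Submodule.span k {(1 : S)}) [Algebra.FiniteType k S] (T : Type u) [CommRing T]
    [Algebra k T] (𝒯 : ℤ → Submodule k T) [GradedAlgebra 𝒯] (ψ : T →ₐ[k] R ⊗[k] S)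
    (hψ : Function.Injective ψ)
    (hdegT : ∀ n : ℤ, (𝒯 n).map ψ.toLinearMap =
      Submodule.span k {x : R ⊗[k] S | ∃ a ∈ 𝒜 n, ∃ b ∈ ℬ n, x = a ⊗ₜ[k] b})
    (r s : ℕ) (hr : ringKrullDim R = r) (hs : ringKrullDim S = s) (h1r : 1 ≤ r) (h1s : 1 ≤ s) :
    ringKrullDim T = ((r + s - 1 : ℕ) : WithBot ℕ∞) := by
  obtain ⟨D₁, hD₁, H₁⟩ := exists_homogeneous_noether 𝒜 hposR h0R r hr
  obtain ⟨D₂, hD₂, H₂⟩ := exists_homogeneous_noether ℬ hposS h0S s hs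
  obtain ⟨x, hx, hxind, hintR⟩ := H₁ (D₁ * D₂) (Nat.mul_pos hD₁ hD₂) (Dvd.intro _ rfl)
  obtain ⟨y, hy, hyind, hintS⟩ := H₂ (D₁ * D₂) (Nat.mul_pos hD₁ hD₂) (Dvd.intro_left _ rfl)
  haveI : Nonempty (Fin r) := ⟨⟨0, by omega⟩⟩
  haveI : Nonempty (Fin s) := ⟨⟨0, by omega⟩⟩
  have hD : ((D₁ * D₂ : ℕ) : ℤ) ≠ 0 := by
    have := Nat.mul_pos hD₁ hD₂
    exact_mod_cast this.ne'
  have h := ringKrullDim_segre_of_noether 𝒜 ℬ 𝒯 x y ((D₁ * D₂ : ℕ) : ℤ) ψ hψ hdegT hD hx hy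
    hxind hyind hintR hintS
  simpa [Fintype.card_fin] using h

end Groth.Agent.Lib.Helper87
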