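import Groth.Agent.Lib.Helper87.GrHeight3
import Mathlib.LinearAlgebra.TensorProduct.Tower

/-!
# The coaction automorphism of `R[ι] ⊗ M` for a graded module `M` (helper87)

For a `ι`-graded ring `R` and a graded `R`-module `M`, the additive automorphism
`s ⊗ m_a ↦ σ(s) t^a ⊗ m_a` of `R[ι] ⊗[R] M` is semilinear with respect to the coaction
automorphism `σ` of `R[ι]`.
-/

set_option autoImplicit false
universe u

namespace Groth.Agent.Lib.Helper87.GrDepth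

open AddMonoidAlgebra DirectSum TensorProduct
open Groth.Agent.Lib.Helper87.GrHeight

section Generic

variable {R : Type u} [CommRing R] {ι : Type} [AddCommGroup ι] [DecidableEq ι]
  (𝒜 : ι → AddSubgroup R) [GradedRing 𝒜]
  {M : Type u} [AddCommGroup M] [Module R M] (ℳ : ι → AddSubgroup M)
  [DirectSum.Decomposition ℳ] [SetLike.GradedSMul 𝒜 ℳ] (θ : ι →+ ι)

variable (R) in
/-- The twisted coaction `M → R[ι] ⊗ M`, `m ↦ ∑ t^(θ a) ⊗ m_a`. -/
noncomputable def coactM : M →+ AddMonoidAlgebra R ι ⊗[R] M :=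
  (DirectSum.toAddMonoid (fun a =>
    ((TensorProduct.mk R (AddMonoidAlgebra R ι) M
      (AddMonoidAlgebra.single (θ a) 1)).toAddMonoidHom).comp
      (ℳ a).subtype)).comp (DirectSum.decomposeAddEquiv ℳ).toAddMonoidHom

theorem coactM_of_mem {a : ι} {m : M} (hm : m ∈ ℳ a) :
    coactM R ℳ θ m = AddMonoidAlgebra.single (θ a) (1 : R) ⊗ₜ[R] m := by
  change DirectSum.toAddMonoid _ (DirectSum.decompose ℳ m) = _
  rw [DirectSum.decompose_of_mem ℳ hm, DirectSum.toAddMonoid_of]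
  rfl

theorem coactM_smul (c : R →+* AddMonoidAlgebra R ι)
    (hc : ∀ (i : ι) (r : R), r ∈ 𝒜 i → c r = AddMonoidAlgebra.single (θ i) r) (r : R) (m : M) :
    coactM R ℳ θ (r • m) = c r • coactM R ℳ θ m := by
  induction m using DirectSum.Decomposition.inductionOn ℳ with
  | zero => simp
  | @homogeneous a m =>
    induction r using DirectSum.Decomposition.inductionOn 𝒜 with
    | zero => simp
    | @homogeneous i r =>
      have h1 : (r : R) • (m : M) ∈ ℳ (i + a) := SetLike.GradedSMul.smul_mem r.2 m.2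
      rw [coactM_of_mem ℳ θ h1, coactM_of_mem ℳ θ m.2, hc i r r.2, TensorProduct.smul_tmul',
        smul_eq_mul, AddMonoidAlgebra.single_mul_single, mul_one, map_add,
        ← TensorProduct.smul_tmul]
      congr 1
      rw [AddMonoidAlgebra.smul_single, smul_eq_mul, mul_one]
    | add x y hx hy => rw [add_smul, map_add, hx, hy, map_add, add_smul]
  | add x y hx hy => rw [smul_add, map_add, hx, hy, map_add, smul_add]

variable (σ : AddMonoidAlgebra R ι →+* AddMonoidAlgebra R ι)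

/-- Auxiliary biadditive map `(s, m) ↦ σ s • coactM m`. -/
noncomputable def twistAux : AddMonoidAlgebra R ι →+ M →+ AddMonoidAlgebra R ι ⊗[R] M :=
  AddMonoidHom.mk' (fun s => AddMonoidHom.mk' (fun m => σ s • coactM R ℳ θ m)
    (fun m m' => by rw [map_add, smul_add]))
    (fun s s' => by
      ext m
      simp only [AddMonoidHom.mk'_apply, map_add, add_smul, AddMonoidHom.add_apply])

/-- The `σ`-semilinear map `s ⊗ m_a ↦ σ(s) t^(θ a) ⊗ m_a`. -/
noncomputable def sigmaM (c : R →+* AddMonoidAlgebra R ι)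
    (hc : ∀ (i : ι) (r : R), r ∈ 𝒜 i → c r = AddMonoidAlgebra.single (θ i) r)
    (hσ : ∀ r : R, σ (algebraMap R (AddMonoidAlgebra R ι) r) = c r) :
    AddMonoidAlgebra R ι ⊗[R] M →+ AddMonoidAlgebra R ι ⊗[R] M :=
  TensorProduct.liftAddHom (twistAux ℳ θ σ) (fun r s m => by
    change σ (r • s) • coactM R ℳ θ m = σ s • coactM R ℳ θ (r • m)
    rw [coactM_smul 𝒜 ℳ θ c hc, Algebra.smul_def, map_mul, hσ, mul_comm, mul_smul])

theorem sigmaM_tmul (c : R →+* AddMonoidAlgebra R ι)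
    (hc : ∀ (i : ι) (r : R), r ∈ 𝒜 i → c r = AddMonoidAlgebra.single (θ i) r)
    (hσ : ∀ r : R, σ (algebraMap R (AddMonoidAlgebra R ι) r) = c r)
    (s : AddMonoidAlgebra R ι) (m : M) :
    sigmaM 𝒜 ℳ θ σ c hc hσ (s ⊗ₜ[R] m) = σ s • coactM R ℳ θ m := rfl

theorem sigmaM_smul (c : R →+* AddMonoidAlgebra R ι)
    (hc : ∀ (i : ι) (r : R), r ∈ 𝒜 i → c r = AddMonoidAlgebra.single (θ i) r)
    (hσ : ∀ r : R, σ (algebraMap R (AddMonoidAlgebra R ι) r) = c r)
    (s : AddMonoidAlgebra R ι) (x : AddMonoidAlgebra R ι ⊗[R] M) :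
    sigmaM 𝒜 ℳ θ σ c hc hσ (s • x) = σ s • sigmaM 𝒜 ℳ θ σ c hc hσ x := by
  induction x using TensorProduct.induction_on with
  | zero => simp
  | tmul s' m =>
    rw [TensorProduct.smul_tmul', sigmaM_tmul, sigmaM_tmul, smul_eq_mul, map_mul, mul_smul]
  | add x y hx hy => rw [smul_add, map_add, hx, hy, map_add, smul_add]

theorem sigmaM_comp (θ' : ι →+ ι) (σ' : AddMonoidAlgebra R ι →+* AddMonoidAlgebra R ι)
    (c c' : R →+* AddMonoidAlgebra R ι)
    (hc : ∀ (i : ι) (r : R), r ∈ 𝒜 i → c r = AddMonoidAlgebra.single (θ i) r)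
    (hσ : ∀ r : R, σ (algebraMap R (AddMonoidAlgebra R ι) r) = c r)
    (hc' : ∀ (i : ι) (r : R), r ∈ 𝒜 i → c' r = AddMonoidAlgebra.single (θ' i) r)
    (hσ' : ∀ r : R, σ' (algebraMap R (AddMonoidAlgebra R ι) r) = c' r)
    (hθ : ∀ a, θ a + θ' a = 0) (hσσ : ∀ s, σ' (σ s) = s)
    (hσ'1 : ∀ b : ι, σ' (AddMonoidAlgebra.single b (1 : R)) = AddMonoidAlgebra.single b 1)
    (x : AddMonoidAlgebra R ι ⊗[R] M) :
    sigmaM 𝒜 ℳ θ' σ' c' hc' hσ' (sigmaM 𝒜 ℳ θ σ c hc hσ x) = x := by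
  induction x using TensorProduct.induction_on with
  | zero => simp
  | tmul s m =>
    induction m using DirectSum.Decomposition.inductionOn ℳ with
    | zero => simp
    | @homogeneous a m =>
      rw [sigmaM_tmul, coactM_of_mem ℳ θ m.2, TensorProduct.smul_tmul', sigmaM_tmul,
        coactM_of_mem ℳ θ' m.2, TensorProduct.smul_tmul', smul_eq_mul, smul_eq_mul, map_mul,
        hσσ, hσ'1, mul_assoc, AddMonoidAlgebra.single_mul_single, hθ, mul_one,
        ← AddMonoidAlgebra.one_def, mul_one]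
    | add x y hx hy => rw [TensorProduct.tmul_add, map_add, map_add, hx, hy]
  | add x y hx hy => rw [map_add, map_add, hx, hy]

end Generic

section Main

variable {R : Type u} [CommRing R] {ι : Type} [AddCommGroup ι] [DecidableEq ι]
  (𝒜 : ι → AddSubgroup R) [GradedRing 𝒜]
  {M : Type u} [AddCommGroup M] [Module R M] (ℳ : ι → AddSubgroup M)
  [DirectSum.Decomposition ℳ] [SetLike.GradedSMul 𝒜 ℳ]

theorem hc_pos (i : ι) (r : R) (hr : r ∈ 𝒜 i) :
    coact 𝒜 r = AddMonoidAlgebra.single (AddMonoidHom.id ι i) r := coact_of_mem 𝒜 hr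

theorem hσ_pos (r : R) :
    sigmaHom 𝒜 (algebraMap R (AddMonoidAlgebra R ι) r) = coact 𝒜 r := sigma_algebraMap 𝒜 r

theorem hc_neg (i : ι) (r : R) (hr : r ∈ 𝒜 i) :
    ((negAut R ι : AddMonoidAlgebra R ι →+* AddMonoidAlgebra R ι).comp (coact 𝒜)) r =
      AddMonoidAlgebra.single ((-AddMonoidHom.id ι) i) r := by
  rw [RingHom.comp_apply, coact_of_mem 𝒜 hr]
  exact negAut_single i r

theorem hσ_neg (r : R) :
    sigmaInvHom 𝒜 (algebraMap R (AddMonoidAlgebra R ι) r) =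
      ((negAut R ι : AddMonoidAlgebra R ι →+* AddMonoidAlgebra R ι).comp (coact 𝒜)) r :=
  sigma_symm_algebraMap 𝒜 r

/-- The `σ`-semilinear additive automorphism `s ⊗ m_a ↦ σ(s) t^a ⊗ m_a` of `R[ι] ⊗[R] M`. -/
noncomputable def sigmaMEquiv :
    AddMonoidAlgebra R ι ⊗[R] M ≃+ AddMonoidAlgebra R ι ⊗[R] M where
  toFun := sigmaM 𝒜 ℳ (AddMonoidHom.id ι) (sigmaHom 𝒜) (coact 𝒜) (hc_pos 𝒜) (hσ_pos 𝒜)
  invFun := sigmaM 𝒜 ℳ (-AddMonoidHom.id ι) (sigmaInvHom 𝒜) _ (hc_neg 𝒜) (hσ_neg 𝒜)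
  left_inv x := by
    refine sigmaM_comp 𝒜 ℳ (AddMonoidHom.id ι) (sigmaHom 𝒜) (-AddMonoidHom.id ι)
      (sigmaInvHom 𝒜) _ _ (hc_pos 𝒜) (hσ_pos 𝒜) (hc_neg 𝒜) (hσ_neg 𝒜) ?_ ?_ ?_ x
    · intro a
      simp
    · intro s
      exact RingHom.congr_fun (sigmaInvHom_comp_sigmaHom 𝒜) s
    · intro b
      rw [sigmaInvHom_single_of_mem 𝒜 (SetLike.GradedOne.one_mem) b]
      simp
  right_inv x := by
    refine sigmaM_comp 𝒜 ℳ (-AddMonoidHom.id ι) (sigmaInvHom 𝒜) (AddMonoidHom.id ι)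
      (sigmaHom 𝒜) _ _ (hc_neg 𝒜) (hσ_neg 𝒜) (hc_pos 𝒜) (hσ_pos 𝒜) ?_ ?_ ?_ x
    · intro a
      simp
    · intro s
      exact RingHom.congr_fun (sigmaHom_comp_sigmaInvHom 𝒜) s
    · intro b
      rw [sigmaHom_single_of_mem 𝒜 (SetLike.GradedOne.one_mem) b]
      simp
  map_add' := map_add _

theorem sigmaMEquiv_smul (s : AddMonoidAlgebra R ι) (x : AddMonoidAlgebra R ι ⊗[R] M) :
    sigmaMEquiv 𝒜 ℳ (s • x) = sigma 𝒜 s • sigmaMEquiv 𝒜 ℳ x :=
  sigmaM_smul 𝒜 ℳ (AddMonoidHom.id ι) (sigmaHom 𝒜) (coact 𝒜) (hc_pos 𝒜) (hσ_pos 𝒜) s x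

end Main

end Groth.Agent.Lib.Helper87.GrDepth
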