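import Groth.Agent.Lib.Helper87.SkTensor3
import Groth.Agent.Lib.Helper29.FlatAscent
import Groth.Agent.Lib.Helper28.RegularCM

/-!
# Generic lemmas on fibre local rings used for the graded depth formula (helper87)
-/

set_option autoImplicit false
universe u

namespace Groth.Agent.Lib.Helper87.GrDepth

open TensorProduct IsLocalRing

section Wrapper

variable (A B : Type u) [CommRing A] [CommRing B] [IsNoetherianRing A] [IsNoetherianRing B]
  [Algebra A B]
  (E : Type u) [AddCommGroup E] [Module A E] [Module.Finite A E]
  (F : Type u) [AddCommGroup F] [Module B F] [Module A F] [IsScalarTower A B F] [Module.Finite B F]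
  [Module.Flat A F] (Q : Ideal B) [Q.IsPrime] (P : Ideal A) [P.IsPrime]
  (hP : Q.comap (algebraMap A B) = P)

include hP in
/-- `SkTensor.depth_and_supportDim_localizedModule_tensor` with a name for the contraction. -/
theorem tensor_formula :
    LocCoh.depth (Localization.AtPrime Q) (LocalizedModule Q.primeCompl (F ⊗[A] E)) =
      LocCoh.depth (Localization.AtPrime P) (LocalizedModule P.primeCompl E) +
        LocCoh.depth (Localization.AtPrime Q) (EGA4.FibLocMod A B Q F) ∧
    (Nontrivial (LocalizedModule P.primeCompl E) →
      Nontrivial (LocalizedModule Q.primeCompl F) →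
      Module.supportDim (Localization.AtPrime Q) (LocalizedModule Q.primeCompl (F ⊗[A] E)) =
        Module.supportDim (Localization.AtPrime P) (LocalizedModule P.primeCompl E) +
          Module.supportDim (Localization.AtPrime Q) (EGA4.FibLocMod A B Q F)) := by
  subst hP
  have h := Groth.Agent.Lib.Helper87.SkTensor.depth_and_supportDim_localizedModule_tensor A B E F Q
  exact ⟨h.1, h.2.1⟩

end Wrapper

section FibSelf

variable (A B : Type u) [CommRing A] [CommRing B] [IsNoetherianRing B] [Algebra A B]
  (Q : Ideal B) [Q.IsPrime] (P : Ideal A) [P.IsPrime] (hP : Q.comap (algebraMap A B) = P)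
  [IsLocalRing (Localization.AtPrime Q ⧸ P.map (algebraMap A (Localization.AtPrime Q)))]

include hP in
omit [P.IsPrime] in
/-- The fibre module of `B` itself is the fibre local ring. -/
theorem depth_and_supportDim_fibLocMod_self :
    LocCoh.depth (Localization.AtPrime Q) (EGA4.FibLocMod A B Q B) =
      LocCoh.depth (Localization.AtPrime Q ⧸ P.map (algebraMap A (Localization.AtPrime Q)))
        (Localization.AtPrime Q ⧸ P.map (algebraMap A (Localization.AtPrime Q))) ∧
    Module.supportDim (Localization.AtPrime Q) (EGA4.FibLocMod A B Q B) =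
      ringKrullDim (Localization.AtPrime Q ⧸ P.map (algebraMap A (Localization.AtPrime Q))) := by
  have hNQ : IsNoetherianRing (Localization.AtPrime Q) :=
    IsLocalization.isNoetherianRing Q.primeCompl _ inferInstance
  let e0 : LocalizedModule Q.primeCompl B ≃ₗ[Localization.AtPrime Q] Localization.AtPrime Q :=
    Groth.Agent.Lib.Helper29.localizedModuleSelfEquiv B Q
  have hmap : Submodule.map (e0 : LocalizedModule Q.primeCompl B →ₗ[Localization.AtPrime Q]
        Localization.AtPrime Q)
      (((Q.comap (algebraMap A B)).map (algebraMap A (Localization.AtPrime Q))) •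
        (⊤ : Submodule (Localization.AtPrime Q) (LocalizedModule Q.primeCompl B))) =
      P.map (algebraMap A (Localization.AtPrime Q)) := by
    rw [Submodule.map_smul'', Submodule.map_top, LinearEquiv.range, hP, smul_eq_mul,
      Ideal.mul_top]
  let e1 : EGA4.FibLocMod A B Q B ≃ₗ[Localization.AtPrime Q]
      (Localization.AtPrime Q ⧸ P.map (algebraMap A (Localization.AtPrime Q))) :=
    Submodule.Quotient.equiv _ _ e0 hmap
  constructor
  · rw [Groth.Agent.Lib.Helper29.depth_self_eq_depth_of_surjective (R := Localization.AtPrime Q)
      (R' := Localization.AtPrime Q ⧸ P.map (algebraMap A (Localization.AtPrime Q)))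
      Ideal.Quotient.mk_surjective]
    exact Groth.Agent.Lib.Helper29.idealDepth_congr _ e1
  · rw [Module.supportDim_eq_of_equiv e1, Module.supportDim_quotient_eq_ringKrullDim]

end FibSelf

section RegFib

variable {A B : Type u} [CommRing A] [CommRing B] [Algebra A B]

/-- If the fibre ring `κ(P) ⊗ B` is regular then so is the fibre local ring at any prime over
`P`. -/
theorem isRegularLocalRing_fibLoc (P : Ideal A) [P.IsPrime] (Q : Ideal B) [Q.IsPrime]
    [Q.LiesOver P] [IsRegularRing (P.Fiber B)] :
    IsRegularLocalRing
      (Localization.AtPrime Q ⧸ P.map (algebraMap A (Localization.AtPrime Q))) := by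
  obtain ⟨Q', hQ', rfl⟩ := Groth.Agent.Lib.Helper29.exists_fiber_prime P Q
  let e : Localization.AtPrime Q' ≃+*
      (Localization.AtPrime
          (Q'.comap (Algebra.TensorProduct.includeRight : B →ₐ[A] P.Fiber B)) ⧸
        P.map (algebraMap A (Localization.AtPrime
          (Q'.comap (Algebra.TensorProduct.includeRight : B →ₐ[A] P.Fiber B))))) :=
    Groth.Agent.Lib.Helper29.fiberLocalizationEquiv P Q'
  exact IsRegularLocalRing.of_ringEquiv (R := Localization.AtPrime Q') e

end RegFib

end Groth.Agent.Lib.Helper87.GrDepth
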