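import Groth.Agent.Lib.Helper87.GrDepth1
import Groth.Agent.Lib.Helper87.GrDepth2
import Groth.Agent.Lib.Helper87.GrDepth3
import Groth.Agent.Lib.Helper87.GrDepth4
import Mathlib.RingTheory.TensorProduct.MonoidAlgebra

/-!
# `depth M_p = depth M_{p*} + ht(p/p*)` and `dim M_p = dim M_{p*} + ht(p/p*)` for multigraded
modules (helper87)
-/

set_option autoImplicit false
universe u

namespace Groth.Agent.Lib.Helper87.GrDepth

open AddMonoidAlgebra TensorProduct IsLocalRing
open Groth.Agent.Lib.Helper87.GrHeight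

section Fibre

variable {ι : Type} [AddCommGroup ι] [Module.Free ℤ ι] [Module.Finite ℤ ι]
  (R : Type u) [CommRing R]

/-- The fibres of `R → R[ι]` are regular rings. -/
theorem isRegularRing_fiber (q : Ideal R) [q.IsPrime] :
    IsRegularRing (q.Fiber (AddMonoidAlgebra R ι)) := by
  have h1 : IsRegularRing (AddMonoidAlgebra q.ResidueField ι) :=
    isRegularRing_addMonoidAlgebra _ ι
  exact IsRegularRing.of_ringEquiv
    (AddMonoidAlgebra.scalarTensorEquiv (M := ι) R q.ResidueField).symm.toRingEquiv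

end Fibre

section Main

variable {ι : Type} [AddCommGroup ι] [DecidableEq ι] [Module.Free ℤ ι] [Module.Finite ℤ ι]
  (R : Type u) [CommRing R] [IsNoetherianRing R] (𝒜 : ι → AddSubgroup R) [GradedRing 𝒜]
  (M : Type u) [AddCommGroup M] [Module R M] (ℳ : ι → AddSubgroup M)
  [DirectSum.Decomposition ℳ] [SetLike.GradedSMul 𝒜 ℳ] [Module.Finite R M]
  (p : Ideal R) [p.IsPrime] [(Ideal.homogeneousCore 𝒜 p).toIdeal.IsPrime] (d : ℕ)
  (hd : (p.map (Ideal.Quotient.mk (Ideal.homogeneousCore 𝒜 p).toIdeal)).height = d)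

local notation "𝕊" => AddMonoidAlgebra R ι

include hd in
/-- The fibre of `R → R[ι]` at the prime `P = σ⁻¹(p R[ι])` over `p*` is Cohen–Macaulay of
dimension `d = ht (p/p*)`. -/
theorem fibre_core (P : Ideal 𝕊) [P.IsPrime]
    (hPdef : P = (p.map (algebraMap R 𝕊)).comap (sigma 𝒜 : 𝕊 →+* 𝕊)) :
    LocCoh.depth (Localization.AtPrime P) (EGA4.FibLocMod R 𝕊 P 𝕊) = d ∧
      Module.supportDim (Localization.AtPrime P) (EGA4.FibLocMod R 𝕊 P 𝕊) = (d : WithBot ℕ∞) := by
  set q : Ideal R := (p.homogeneousCore 𝒜).toIdeal with hq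
  have hNS : IsNoetherianRing 𝕊 := isNoetherianRing_addMonoidAlgebra
  have hpSprime : (p.map (algebraMap R 𝕊)).IsPrime := isPrime_map p
  have hPq : P.comap (algebraMap R 𝕊) = q := by
    rw [hPdef]
    exact comap_sigma_comap 𝒜 p
  have hlies : P.LiesOver q := ⟨hPq.symm⟩
  have hreg : IsRegularRing (q.Fiber 𝕊) := isRegularRing_fiber R q
  have hC : IsRegularLocalRing
      (Localization.AtPrime P ⧸ q.map (algebraMap R (Localization.AtPrime P))) :=
    isRegularLocalRing_fibLoc q P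
  obtain ⟨hf1, hf2⟩ := depth_and_supportDim_fibLocMod_self R 𝕊 P q hPq
  have hdim := (Groth.Agent.Lib.Helper29.depth_and_dim_add_of_flat q P).2
  rw [IsLocalization.AtPrime.ringKrullDim_eq_height P,
    IsLocalization.AtPrime.ringKrullDim_eq_height q] at hdim
  have h1 : P.height = p.height := by
    rw [hPdef]
    have := RingEquiv.height_comap (sigma 𝒜) (p.map (algebraMap R 𝕊))
    rw [← height_map (ι := ι) p]
    exact this
  have h2 : p.height = q.height + d := by
    rw [height_eq_core_add 𝒜 p, hd]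
  have hqfin : q.height ≠ ⊤ := Ideal.height_ne_top (Ideal.IsPrime.ne_top inferInstance)
  have hdimC : ringKrullDim
      (Localization.AtPrime P ⧸ q.map (algebraMap R (Localization.AtPrime P))) =
      (d : WithBot ℕ∞) := by
    have hnn : (0 : WithBot ℕ∞) ≤ ringKrullDim
        (Localization.AtPrime P ⧸ q.map (algebraMap R (Localization.AtPrime P))) :=
      ringKrullDim_nonneg_of_nontrivial
    obtain ⟨x, hx⟩ : ∃ x : ℕ∞, ringKrullDim
        (Localization.AtPrime P ⧸ q.map (algebraMap R (Localization.AtPrime P))) = x := by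
      cases hk : ringKrullDim
        (Localization.AtPrime P ⧸ q.map (algebraMap R (Localization.AtPrime P))) with
      | bot => rw [hk] at hnn; simp at hnn
      | coe x => exact ⟨x, rfl⟩
    rw [hx] at hdim ⊢
    rw [h1, h2, ← WithBot.coe_add, WithBot.coe_inj] at hdim
    have hcancel : (d : ℕ∞) = x := by
      lift q.height to ℕ using hqfin with n hn
      exact ENat.add_right_injective_of_ne_top (ENat.natCast_ne_top n) hdim
    rw [← hcancel]
    rfl
  have hCM := Groth.Agent.Lib.Helper28.isCohenMacaulayLocalRing_of_isRegularLocalRing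
    (Localization.AtPrime P ⧸ q.map (algebraMap R (Localization.AtPrime P)))
  have hCM' := hCM.supportDim_eq_depth
  rw [Module.supportDim_self_eq_ringKrullDim, hdimC] at hCM'
  refine ⟨?_, ?_⟩
  · rw [hf1]
    have : ((d : ℕ∞) : WithBot ℕ∞) = ((LocCoh.depth
        (Localization.AtPrime P ⧸ q.map (algebraMap R (Localization.AtPrime P)))
        (Localization.AtPrime P ⧸ q.map (algebraMap R (Localization.AtPrime P))) : ℕ∞) :
        WithBot ℕ∞) := hCM'
    exact (WithBot.coe_inj.mp this).symm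
  · rw [hf2, hdimC]

omit [DecidableEq ι] [IsNoetherianRing R] [Module.Free ℤ ι] [Module.Finite ℤ ι] [p.IsPrime] in
/-- The fibre of `R → R[ι]` at the prime `p R[ι]` over `p` is a field. -/
theorem fibre_ext [IsNoetherianRing 𝕊] [(p.map (algebraMap R 𝕊)).IsPrime] :
    LocCoh.depth (Localization.AtPrime (p.map (algebraMap R 𝕊)))
        (EGA4.FibLocMod R 𝕊 (p.map (algebraMap R 𝕊)) 𝕊) = 0 ∧
      Module.supportDim (Localization.AtPrime (p.map (algebraMap R 𝕊)))
        (EGA4.FibLocMod R 𝕊 (p.map (algebraMap R 𝕊)) 𝕊) = 0 := by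
  have hpSp : (p.map (algebraMap R 𝕊)).comap (algebraMap R 𝕊) = p := comap_map p
  have hNQ : IsNoetherianRing (Localization.AtPrime (p.map (algebraMap R 𝕊))) :=
    IsLocalization.isNoetherianRing (p.map (algebraMap R 𝕊)).primeCompl _ inferInstance
  have hntS : Nontrivial (LocalizedModule (p.map (algebraMap R 𝕊)).primeCompl 𝕊) :=
    (Groth.Agent.Lib.Helper29.localizedModuleSelfEquiv 𝕊 (p.map (algebraMap R 𝕊))).toEquiv.nontrivial
  have hQF : (⟨p.map (algebraMap R 𝕊), inferInstance⟩ : PrimeSpectrum 𝕊) ∈ Module.support 𝕊 𝕊 :=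
    Module.mem_support_iff.mpr hntS
  obtain ⟨hnt, hdim0⟩ := Groth.Agent.Lib.Helper87.SkTensor.supportDim_fibLocMod_eq_zero R 𝕊 𝕊
    ⟨p.map (algebraMap R 𝕊), inferInstance⟩ hQF (by
      intro Q' _ h1 h2
      have h3 : ((p.map (algebraMap R 𝕊)).comap (algebraMap R 𝕊)).map (algebraMap R 𝕊) =
          p.map (algebraMap R 𝕊) := by rw [hpSp]
      apply PrimeSpectrum.ext
      refine le_antisymm h2 ?_
      change p.map (algebraMap R 𝕊) ≤ Q'.asIdeal
      rw [← h3]
      exact h1)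
  change Nontrivial (EGA4.FibLocMod R 𝕊 (p.map (algebraMap R 𝕊)) 𝕊) at hnt
  change Module.supportDim (Localization.AtPrime (p.map (algebraMap R 𝕊)))
        (EGA4.FibLocMod R 𝕊 (p.map (algebraMap R 𝕊)) 𝕊) = 0 at hdim0
  refine ⟨?_, hdim0⟩
  have h1 := Groth.Agent.Lib.Helper29.depth_le_supportDim
    (Localization.AtPrime (p.map (algebraMap R 𝕊)))
    (EGA4.FibLocMod R 𝕊 (p.map (algebraMap R 𝕊)) 𝕊)
  rw [hdim0] at h1
  have h2 : ((LocCoh.depth (Localization.AtPrime (p.map (algebraMap R 𝕊)))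
      (EGA4.FibLocMod R 𝕊 (p.map (algebraMap R 𝕊)) 𝕊) : ℕ∞) : WithBot ℕ∞) ≤
      ((0 : ℕ∞) : WithBot ℕ∞) := by
    simpa using h1
  exact le_antisymm (WithBot.coe_le_coe.mp h2) bot_le

include ℳ hd in
/-- **Depth and dimension of a localization of a multigraded module at a prime and at its
homogeneous core.** -/
theorem depth_and_supportDim_localization_eq_add :
    LocCoh.depth (Localization.AtPrime p) (LocalizedModule p.primeCompl M) =
      LocCoh.depth (Localization.AtPrime (Ideal.homogeneousCore 𝒜 p).toIdeal)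
        (LocalizedModule (Ideal.homogeneousCore 𝒜 p).toIdeal.primeCompl M) + d ∧
    (Nontrivial (LocalizedModule p.primeCompl M) →
      Module.supportDim (Localization.AtPrime p) (LocalizedModule p.primeCompl M) =
        Module.supportDim (Localization.AtPrime (Ideal.homogeneousCore 𝒜 p).toIdeal)
          (LocalizedModule (Ideal.homogeneousCore 𝒜 p).toIdeal.primeCompl M) +
          (d : WithBot ℕ∞)) := by
  have hNS : IsNoetherianRing 𝕊 := isNoetherianRing_addMonoidAlgebra
  have hpSprime : (p.map (algebraMap R 𝕊)).IsPrime := isPrime_map p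
  have hPprime : ((p.map (algebraMap R 𝕊)).comap (sigma 𝒜 : 𝕊 →+* 𝕊)).IsPrime :=
    Ideal.comap_isPrime _ _
  have hPq : ((p.map (algebraMap R 𝕊)).comap (sigma 𝒜 : 𝕊 →+* 𝕊)).comap (algebraMap R 𝕊) =
      (Ideal.homogeneousCore 𝒜 p).toIdeal := comap_sigma_comap 𝒜 p
  have hpSp : (p.map (algebraMap R 𝕊)).comap (algebraMap R 𝕊) = p := comap_map p
  have hNp : IsNoetherianRing (Localization.AtPrime p) :=
    IsLocalization.isNoetherianRing p.primeCompl _ inferInstance
  -- the two flat base change formulas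
  obtain ⟨hd1, hs1⟩ := tensor_formula R 𝕊 M 𝕊 (p.map (algebraMap R 𝕊)) p hpSp
  obtain ⟨hd2, hs2⟩ := tensor_formula R 𝕊 M 𝕊
    ((p.map (algebraMap R 𝕊)).comap (sigma 𝒜 : 𝕊 →+* 𝕊)) (Ideal.homogeneousCore 𝒜 p).toIdeal hPq
  -- the transfer along `σ`
  obtain ⟨hd3, hs3⟩ := depth_and_supportDim_eq_of_semilinearEquiv (sigma 𝒜) (sigmaMEquiv 𝒜 ℳ)
    (sigmaMEquiv_smul 𝒜 ℳ) (p.map (algebraMap R 𝕊))
    ((p.map (algebraMap R 𝕊)).comap (sigma 𝒜 : 𝕊 →+* 𝕊)) rfl
  -- the fibres
  obtain ⟨hfd1, hfs1⟩ := fibre_ext (ι := ι) R p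
  obtain ⟨hfd2, hfs2⟩ := fibre_core R 𝒜 p d hd
    ((p.map (algebraMap R 𝕊)).comap (sigma 𝒜 : 𝕊 →+* 𝕊)) rfl
  rw [hfd1, add_zero] at hd1
  rw [hfd2] at hd2
  have hdepth : LocCoh.depth (Localization.AtPrime p) (LocalizedModule p.primeCompl M) =
      LocCoh.depth (Localization.AtPrime (Ideal.homogeneousCore 𝒜 p).toIdeal)
        (LocalizedModule (Ideal.homogeneousCore 𝒜 p).toIdeal.primeCompl M) + d := by
    rw [← hd1, hd3, hd2]
  refine ⟨hdepth, ?_⟩
  intro hnt
  have hntq : Nontrivial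
      (LocalizedModule (Ideal.homogeneousCore 𝒜 p).toIdeal.primeCompl M) := by
    by_contra hcon
    rw [not_nontrivial_iff_subsingleton] at hcon
    rw [Groth.Agent.Lib.Helper29.depth_eq_top_of_subsingleton
      (Localization.AtPrime (Ideal.homogeneousCore 𝒜 p).toIdeal)
      (LocalizedModule (Ideal.homogeneousCore 𝒜 p).toIdeal.primeCompl M), top_add] at hdepth
    have h1 := Groth.Agent.Lib.Helper29.depth_le_supportDim (Localization.AtPrime p)
      (LocalizedModule p.primeCompl M)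
    obtain ⟨n, hn⟩ := Groth.Agent.Lib.Helper29.exists_nat_supportDim_eq (Localization.AtPrime p)
      (LocalizedModule p.primeCompl M)
    rw [hdepth, hn] at h1
    have h2 : ((⊤ : ℕ∞) : WithBot ℕ∞) ≤ ((n : ℕ∞) : WithBot ℕ∞) := h1
    rw [WithBot.coe_le_coe] at h2
    exact absurd h2 (by simp)
  have hntS1 : Nontrivial (LocalizedModule (p.map (algebraMap R 𝕊)).primeCompl 𝕊) :=
    (Groth.Agent.Lib.Helper29.localizedModuleSelfEquiv 𝕊
      (p.map (algebraMap R 𝕊))).toEquiv.nontrivial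
  have hntS2 : Nontrivial (LocalizedModule
      ((p.map (algebraMap R 𝕊)).comap (sigma 𝒜 : 𝕊 →+* 𝕊)).primeCompl 𝕊) :=
    (Groth.Agent.Lib.Helper29.localizedModuleSelfEquiv 𝕊
      ((p.map (algebraMap R 𝕊)).comap (sigma 𝒜 : 𝕊 →+* 𝕊))).toEquiv.nontrivial
  have e1 := hs1 hnt hntS1
  have e2 := hs2 hntq hntS2
  rw [hfs1, add_zero] at e1
  rw [hfs2] at e2
  rw [← e1, hs3, e2]

end Main

end Groth.Agent.Lib.Helper87.GrDepth
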