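import Groth.Agent.Lib.Helper87.GorLocal1
import Groth.Agent.Lib.Helper87.GrDepth5
import Groth.Agent.Lib.Helper24.GorenFibre

/-!
# Gorenstein-ness of a multigraded ring is detected at homogeneous primes (helper87)

For a Noetherian ring `R` graded by a finitely generated free abelian group and a prime `p` with
homogeneous core `p*`: `R_p` is Gorenstein iff `R_{p*}` is.
-/

set_option autoImplicit false
universe u

namespace Groth.Agent.Lib.Helper87.GorLocal

open Groth.Agent.Lib.Helper87.GrDepth Groth.Agent.Lib.Helper87.GrHeight IsLocalRing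

section Main

variable {ι : Type} [AddCommGroup ι] [DecidableEq ι] [Module.Free ℤ ι] [Module.Finite ℤ ι]
  (R : Type u) [CommRing R] [IsNoetherianRing R] (𝒜 : ι → AddSubgroup R) [GradedRing 𝒜]
  (p : Ideal R) [p.IsPrime] [(Ideal.homogeneousCore 𝒜 p).toIdeal.IsPrime]

local notation "𝕊" => AddMonoidAlgebra R ι

/-- `R_p` is Gorenstein iff `R_{p*}` is. -/
theorem isGorensteinLocalRing_iff_core :
    LocCoh.IsGorensteinLocalRing (Localization.AtPrime p) ↔
      LocCoh.IsGorensteinLocalRing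
        (Localization.AtPrime (Ideal.homogeneousCore 𝒜 p).toIdeal) := by
  have hNS : IsNoetherianRing 𝕊 := isNoetherianRing_addMonoidAlgebra
  have hpSprime : (p.map (algebraMap R 𝕊)).IsPrime := isPrime_map p
  have hPprime : ((p.map (algebraMap R 𝕊)).comap (sigma 𝒜 : 𝕊 →+* 𝕊)).IsPrime :=
    Ideal.comap_isPrime _ _
  have hPq : ((p.map (algebraMap R 𝕊)).comap (sigma 𝒜 : 𝕊 →+* 𝕊)).comap (algebraMap R 𝕊) =
      (Ideal.homogeneousCore 𝒜 p).toIdeal := comap_sigma_comap 𝒜 p
  have hpSp : (p.map (algebraMap R 𝕊)).comap (algebraMap R 𝕊) = p := comap_map p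
  have hlies1 : (p.map (algebraMap R 𝕊)).LiesOver p := ⟨hpSp.symm⟩
  have hlies2 : ((p.map (algebraMap R 𝕊)).comap (sigma 𝒜 : 𝕊 →+* 𝕊)).LiesOver
      (Ideal.homogeneousCore 𝒜 p).toIdeal := ⟨hPq.symm⟩
  have h1 := Groth.Agent.Lib.Helper24.isGorensteinLocalRing_localization_iff_of_flat p
    (p.map (algebraMap R 𝕊))
  have h2 := Groth.Agent.Lib.Helper24.isGorensteinLocalRing_localization_iff_of_flat
    (Ideal.homogeneousCore 𝒜 p).toIdeal ((p.map (algebraMap R 𝕊)).comap (sigma 𝒜 : 𝕊 →+* 𝕊))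
  -- the first fibre is a field
  have hf1 : LocCoh.IsGorensteinLocalRing
      (Localization.AtPrime (p.map (algebraMap R 𝕊)) ⧸
        p.map (algebraMap R (Localization.AtPrime (p.map (algebraMap R 𝕊))))) := by
    have hmap : p.map (algebraMap R (Localization.AtPrime (p.map (algebraMap R 𝕊)))) =
        maximalIdeal (Localization.AtPrime (p.map (algebraMap R 𝕊))) := by
      rw [← Localization.AtPrime.map_eq_maximalIdeal, Ideal.map_map,
        ← IsScalarTower.algebraMap_eq]
    rw [Groth.Agent.Lib.Helper24.isGorensteinLocalRing_quotient_congr hmap]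
    exact Groth.Agent.S0342.result
      (IsLocalRing.ResidueField (Localization.AtPrime (p.map (algebraMap R 𝕊))))
  -- the second fibre is regular
  have hreg : IsRegularRing ((Ideal.homogeneousCore 𝒜 p).toIdeal.Fiber 𝕊) :=
    isRegularRing_fiber R _
  have hC : IsRegularLocalRing
      (Localization.AtPrime ((p.map (algebraMap R 𝕊)).comap (sigma 𝒜 : 𝕊 →+* 𝕊)) ⧸
        (Ideal.homogeneousCore 𝒜 p).toIdeal.map (algebraMap R
          (Localization.AtPrime ((p.map (algebraMap R 𝕊)).comap (sigma 𝒜 : 𝕊 →+* 𝕊))))) :=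
    isRegularLocalRing_fibLoc _ _
  have hf2 := Groth.Agent.S0342.result
      (Localization.AtPrime ((p.map (algebraMap R 𝕊)).comap (sigma 𝒜 : 𝕊 →+* 𝕊)) ⧸
        (Ideal.homogeneousCore 𝒜 p).toIdeal.map (algebraMap R
          (Localization.AtPrime ((p.map (algebraMap R 𝕊)).comap (sigma 𝒜 : 𝕊 →+* 𝕊)))))
  -- the twist
  have H : ((p.map (algebraMap R 𝕊)).comap (sigma 𝒜 : 𝕊 →+* 𝕊)).primeCompl.map
      (sigma 𝒜).toMonoidHom = (p.map (algebraMap R 𝕊)).primeCompl :=
    (sigma 𝒜).map_primeCompl_comap_eq (p.map (algebraMap R 𝕊))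
  let e : Localization.AtPrime ((p.map (algebraMap R 𝕊)).comap (sigma 𝒜 : 𝕊 →+* 𝕊)) ≃+*
      Localization.AtPrime (p.map (algebraMap R 𝕊)) :=
    IsLocalization.ringEquivOfRingEquiv
      (Localization.AtPrime ((p.map (algebraMap R 𝕊)).comap (sigma 𝒜 : 𝕊 →+* 𝕊)))
      (Localization.AtPrime (p.map (algebraMap R 𝕊))) (sigma 𝒜) H
  have h3 := Groth.Agent.Lib.Helper24.isGorensteinLocalRing_iff_of_ringEquiv e
  constructor
  · intro h
    exact (h2.mp (h3.mpr (h1.mpr ⟨h, hf1⟩))).1
  · intro h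
    exact (h1.mp (h3.mp (h2.mpr ⟨h, hf2⟩))).1

end Main

end Groth.Agent.Lib.Helper87.GorLocal
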