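import Mathlib.Algebra.Category.ModuleCat.Ext.HasExt
import Mathlib.Algebra.Homology.DerivedCategory.Ext.Linear
import Mathlib.Algebra.Homology.DerivedCategory.Ext.ExactSequences
import Mathlib.RingTheory.Regular.Category
import Mathlib.RingTheory.QuotSMulTop

/-!
# `Ext` of a quotient by a regular element in the first variable (helper87)

If `y` is regular on `Z` and acts injectively on every `Ext^j(Z, N)`, then `Ext^0(Z/yZ, N) = 0` and
`Ext^{j+1}(Z/yZ, N) ≅ Ext^j(Z, N) / y Ext^j(Z, N)`.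
-/

set_option autoImplicit false
universe u

namespace Groth.Agent.Lib.Helper87.BassFlat

open CategoryTheory Abelian Pointwise

variable {B : Type u} [CommRing B]

/-- `Ext` is invariant under isomorphisms in the first variable. -/
noncomputable def extCongrLeft {X X' : ModuleCat.{u} B} (e : X ≅ X') (N : ModuleCat.{u} B) (j : ℕ) :
    Ext.{u} X N j ≃ₗ[B] Ext.{u} X' N j where
  toFun x := (Ext.mk₀ e.inv).comp x (zero_add j)
  invFun x := (Ext.mk₀ e.hom).comp x (zero_add j)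
  map_add' x x' := by rw [Ext.comp_add]
  map_smul' b x := by rw [Ext.comp_smul, RingHom.id_apply]
  left_inv x := by
    change (Ext.mk₀ e.hom).comp ((Ext.mk₀ e.inv).comp x (zero_add j)) (zero_add j) = x
    rw [Ext.mk₀_comp_mk₀_assoc, e.hom_inv_id, Ext.mk₀_id_comp]
  right_inv x := by
    change (Ext.mk₀ e.inv).comp ((Ext.mk₀ e.hom).comp x (zero_add j)) (zero_add j) = x
    rw [Ext.mk₀_comp_mk₀_assoc, e.inv_hom_id, Ext.mk₀_id_comp]

/-- `Ext` is invariant under isomorphisms in the second variable. -/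
noncomputable def extCongrRight (X : ModuleCat.{u} B) {N N' : ModuleCat.{u} B} (e : N ≅ N') (j : ℕ) :
    Ext.{u} X N j ≃ₗ[B] Ext.{u} X N' j where
  toFun x := x.comp (Ext.mk₀ e.hom) (add_zero j)
  invFun x := x.comp (Ext.mk₀ e.inv) (add_zero j)
  map_add' x x' := by rw [Ext.add_comp]
  map_smul' b x := by rw [Ext.smul_comp, RingHom.id_apply]
  left_inv x := by
    change (x.comp (Ext.mk₀ e.hom) (add_zero j)).comp (Ext.mk₀ e.inv) (add_zero j) = x
    rw [Ext.comp_assoc_of_third_deg_zero, Ext.mk₀_comp_mk₀, e.hom_inv_id, Ext.comp_mk₀_id]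
  right_inv x := by
    change (x.comp (Ext.mk₀ e.inv) (add_zero j)).comp (Ext.mk₀ e.hom) (add_zero j) = x
    rw [Ext.comp_assoc_of_third_deg_zero, Ext.mk₀_comp_mk₀, e.inv_hom_id, Ext.comp_mk₀_id]

theorem smul_eq_mk₀_smul_comp {X N : ModuleCat.{u} B} {j : ℕ} (y : B) (x : Ext.{u} X N j) :
    (Ext.mk₀ (y • 𝟙 X)).comp x (zero_add j) = y • x := by
  rw [Ext.mk₀_smul, Ext.smul_comp, Ext.mk₀_id_comp]

theorem extClass_comp_mk₀_f_comp {S : ShortComplex (ModuleCat.{u} B)} (hS : S.ShortExact)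
    (N : ModuleCat.{u} B) (j : ℕ) (x : Ext.{u} S.X₂ N j) :
    hS.extClass.comp ((Ext.mk₀ S.f).comp x (zero_add j)) (add_comm 1 j) = 0 := by
  rw [← Ext.comp_assoc_of_second_deg_zero, hS.extClass_comp, Ext.zero_comp]

/-- Data extracted from the long exact `Ext`-sequence of `0 → Z --y--> Z → Z' → 0`. -/
structure StepData (Z Z' N : ModuleCat.{u} B) (y : B) where
  g : Z ⟶ Z'
  epi : Epi g
  zero : (y • 𝟙 Z) ≫ g = 0
  cls : Ext.{u} Z' Z 1
  exact₁ : ∀ (j : ℕ) (x : Ext.{u} Z N j), cls.comp x (add_comm 1 j) = 0 →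
    ∃ x₂ : Ext.{u} Z N j, y • x₂ = x
  exact₃ : ∀ (j : ℕ) (x₃ : Ext.{u} Z' N (j + 1)),
    (Ext.mk₀ g).comp x₃ (zero_add (j + 1)) = 0 →
      ∃ x₁ : Ext.{u} Z N j, cls.comp x₁ (add_comm 1 j) = x₃
  comp_zero : ∀ (j : ℕ) (x : Ext.{u} Z N j), cls.comp (y • x) (add_comm 1 j) = 0

/-- The data for a regular element. -/
noncomputable def stepDataOfRegular (Z N : ModuleCat.{u} B) (y : B) (hy : IsSMulRegular Z y) :
    StepData Z (ModuleCat.of B (QuotSMulTop y Z)) N y where
  g := (ModuleCat.smulShortComplex Z y).g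
  epi := hy.smulShortComplex_shortExact.epi_g
  zero := (ModuleCat.smulShortComplex Z y).zero
  cls := hy.smulShortComplex_shortExact.extClass
  exact₁ j x hx := by
    obtain ⟨x₂, hx₂⟩ := Ext.contravariant_sequence_exact₁ hy.smulShortComplex_shortExact N x
      (add_comm 1 j) hx
    refine ⟨x₂, ?_⟩
    rw [← hx₂]
    exact (smul_eq_mk₀_smul_comp y x₂).symm
  exact₃ j x₃ hx₃ :=
    Ext.contravariant_sequence_exact₃ hy.smulShortComplex_shortExact N x₃ hx₃ (add_comm 1 j)
  comp_zero j x := by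
    have h1 : y • x = (Ext.mk₀ (ModuleCat.smulShortComplex Z y).f).comp x (zero_add j) :=
      (smul_eq_mk₀_smul_comp y x).symm
    have h3 := extClass_comp_mk₀_f_comp hy.smulShortComplex_shortExact N j x
    exact (congrArg (fun t : Ext.{u} Z N j =>
      hy.smulShortComplex_shortExact.extClass.comp t (add_comm 1 j)) h1).trans h3

section Step

variable {Z Z' N : ModuleCat.{u} B} {y : B} (D : StepData Z Z' N y)
  (hinj : ∀ j, ∀ e : Ext.{u} Z N j, y • e = 0 → e = 0)

include D hinj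

theorem ext_quot_zero_subsingleton : Subsingleton (Ext.{u} Z' N 0) := by
  refine ⟨fun a b => ?_⟩
  have key : ∀ x : Ext.{u} Z' N 0, x = 0 := by
    intro x
    have h1 : (Ext.mk₀ D.g).comp x (zero_add 0) = 0 := by
      apply hinj
      rw [← smul_eq_mk₀_smul_comp, Ext.mk₀_comp_mk₀_assoc, D.zero, Ext.mk₀_zero, Ext.zero_comp]
    have hepi : Epi D.g := D.epi
    apply Ext.precomp_mk₀_injective_of_epi N D.g
    change (Ext.mk₀ D.g).comp x (zero_add 0) = (Ext.mk₀ D.g).comp 0 (zero_add 0)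
    rw [h1, Ext.comp_zero]
  rw [key a, key b]

omit hinj in
/-- The connecting map. -/
noncomputable def delta (j : ℕ) : Ext.{u} Z N j →ₗ[B] Ext.{u} Z' N (j + 1) where
  toFun x := D.cls.comp x (add_comm 1 j)
  map_add' x x' := by rw [Ext.comp_add]
  map_smul' b x := by rw [Ext.comp_smul, RingHom.id_apply]

theorem delta_surjective (j : ℕ) : Function.Surjective (delta D j) := by
  intro x₃
  have h1 : (Ext.mk₀ D.g).comp x₃ (zero_add (j + 1)) = 0 := by
    apply hinj
    rw [← smul_eq_mk₀_smul_comp, Ext.mk₀_comp_mk₀_assoc, D.zero, Ext.mk₀_zero, Ext.zero_comp]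
  obtain ⟨x₁, hx₁⟩ := D.exact₃ j x₃ h1
  exact ⟨x₁, hx₁⟩

omit hinj in
theorem ker_delta (j : ℕ) :
    LinearMap.ker (delta D j) = y • (⊤ : Submodule B (Ext.{u} Z N j)) := by
  ext x
  rw [LinearMap.mem_ker, Submodule.mem_smul_pointwise_iff_exists]
  constructor
  · intro hx
    obtain ⟨x₂, hx₂⟩ := D.exact₁ j x hx
    exact ⟨x₂, Submodule.mem_top, hx₂⟩
  · rintro ⟨x₂, -, rfl⟩
    exact D.comp_zero j x₂

/-- `Ext^{j+1}(Z', N) ≅ Ext^j(Z, N) / y Ext^j(Z, N)`. -/
noncomputable def quotEquiv (j : ℕ) :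
    QuotSMulTop y (Ext.{u} Z N j) ≃ₗ[B] Ext.{u} Z' N (j + 1) :=
  (Submodule.quotEquivOfEq _ _ (ker_delta D j).symm).trans
    ((delta D j).quotKerEquivOfSurjective (delta_surjective D hinj j))

end Step

end Groth.Agent.Lib.Helper87.BassFlat
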