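import Mathlib
import Groth.Agent.Lib.Helper55.Catenary
import Groth.Agent.Lib.Helper55.ProjDimAlg

/-!
# Graded Noetherian rings whose irrelevant ideal is maximal (helper87)

For an `ℕ`-graded Noetherian ring `A` whose irrelevant ideal `𝔪 = A₊` is maximal:
* `A` is a finitely generated algebra over the field `A ⧸ 𝔪` (through the section `A ⧸ 𝔪 → A₀ ⊆ A`);
* proper homogeneous ideals lie in `𝔪`;
* for a proper homogeneous ideal `I`, `dim A ⧸ I ≤ ht (𝔪 (A ⧸ I))`.
-/

set_option autoImplicit false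
universe v

namespace Groth.Agent.Lib.Helper87.CMVertex

open DirectSum

variable {A : Type v} [CommRing A] {σ : Type*} [SetLike σ A] [AddSubgroupClass σ A]
  (𝒜 : ℕ → σ) [GradedRing 𝒜]

/-- The section `A ⧸ A₊ → A` induced by the projection to degree zero. -/
noncomputable def sec : A ⧸ (HomogeneousIdeal.irrelevant 𝒜).toIdeal →+* A :=
  Ideal.Quotient.lift _ (GradedRing.projZeroRingHom 𝒜) (fun a ha => by
    rwa [HomogeneousIdeal.toIdeal_irrelevant, RingHom.mem_ker] at ha)

theorem sec_mk (a : A) :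
    sec 𝒜 (Ideal.Quotient.mk _ a) = (decompose 𝒜 a 0 : A) := rfl

theorem sec_mk_of_mem {a : A} (ha : a ∈ 𝒜 0) : sec 𝒜 (Ideal.Quotient.mk _ a) = a := by
  rw [sec_mk, decompose_of_mem_same 𝒜 ha]

theorem mem_irrelevant_iff' (a : A) :
    a ∈ (HomogeneousIdeal.irrelevant 𝒜).toIdeal ↔ (decompose 𝒜 a 0 : A) = 0 := Iff.rfl

/-- The algebra structure on `A` over `A ⧸ A₊` given by `sec`. -/
@[reducible] noncomputable def secAlgebra : Algebra (A ⧸ (HomogeneousIdeal.irrelevant 𝒜).toIdeal) A :=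
  (sec 𝒜).toAlgebra

attribute [local instance] secAlgebra

theorem algebraMap_sec_mk_of_mem {a : A} (ha : a ∈ 𝒜 0) :
    algebraMap (A ⧸ (HomogeneousIdeal.irrelevant 𝒜).toIdeal) A (Ideal.Quotient.mk _ a) = a :=
  sec_mk_of_mem 𝒜 ha

/-- A Noetherian `ℕ`-graded ring is generated over (the image of) `A ⧸ A₊` by finitely many elements. -/
theorem finiteType_sec [IsNoetherianRing A] :
    Algebra.FiniteType (A ⧸ (HomogeneousIdeal.irrelevant 𝒜).toIdeal) A := by
  classical
  have hImem : ∀ a, a ∈ (HomogeneousIdeal.irrelevant 𝒜).toIdeal ↔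
      (DirectSum.decompose 𝒜 a 0 : A) = 0 := fun a => Iff.rfl
  obtain ⟨t, ht⟩ := (isNoetherianRing_iff_ideal_fg A).mp inferInstance
    (HomogeneousIdeal.irrelevant 𝒜).toIdeal
  set s : Finset A := t.biUnion (fun y => (DirectSum.decompose 𝒜 y).support.image
    (fun i => (DirectSum.decompose 𝒜 y i : A))) with hs
  have hs_hom : ∀ x ∈ s, ∃ n, n ≠ 0 ∧ x ∈ 𝒜 n := by
    intro x hx
    rw [hs, Finset.mem_biUnion] at hx
    obtain ⟨y, hy, hx⟩ := hx
    rw [Finset.mem_image] at hx
    obtain ⟨i, hi, rfl⟩ := hx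
    refine ⟨i, ?_, SetLike.coe_mem _⟩
    rintro rfl
    have hyI : y ∈ (HomogeneousIdeal.irrelevant 𝒜).toIdeal := by
      rw [← ht]; exact Ideal.subset_span hy
    rw [hImem] at hyI
    rw [DFinsupp.mem_support_toFun] at hi
    exact hi (Subtype.ext hyI)
  choose! d hd0 hd using hs_hom
  have hspan : (HomogeneousIdeal.irrelevant 𝒜).toIdeal ≤ Ideal.span (s : Set A) := by
    rw [← ht, Ideal.span_le]
    intro y hy
    rw [SetLike.mem_coe, ← DirectSum.sum_support_decompose 𝒜 y]
    refine Ideal.sum_mem _ fun i hi => Ideal.subset_span ?_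
    rw [hs, Finset.mem_coe, Finset.mem_biUnion]
    exact ⟨y, hy, Finset.mem_image_of_mem _ hi⟩
  have key : ∀ m, ∀ a ∈ 𝒜 m,
      a ∈ Algebra.adjoin (A ⧸ (HomogeneousIdeal.irrelevant 𝒜).toIdeal) (s : Set A) := by
    intro m
    induction m using Nat.strong_induction_on with
    | _ m ih =>
      intro a ha
      rcases Nat.eq_zero_or_pos m with rfl | hm
      · rw [← algebraMap_sec_mk_of_mem 𝒜 ha]
        exact Subalgebra.algebraMap_mem _ _
      · have haI : a ∈ (HomogeneousIdeal.irrelevant 𝒜).toIdeal := by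
          rw [hImem, DirectSum.decompose_of_mem_ne 𝒜 ha (by omega)]
        obtain ⟨c, -, hc⟩ := Submodule.mem_span_finset.mp (hspan haI)
        have h1 : a = ∑ x ∈ s, ((DirectSum.decompose 𝒜 (c x * x) m : 𝒜 m) : A) := by
          conv_lhs => rw [← DirectSum.decompose_of_mem_same 𝒜 ha, ← hc]
          rw [DirectSum.decompose_sum, DFinsupp.finsetSum_apply, AddSubmonoidClass.coe_finsetSum]
          rfl
        rw [h1]
        refine sum_mem fun x hx => ?_
        rw [DirectSum.coe_decompose_mul_of_right_mem 𝒜 m (hd x hx)]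
        split_ifs with hle
        · refine mul_mem (ih (m - d x) ?_ _ (SetLike.coe_mem _)) (Algebra.subset_adjoin hx)
          have := hd0 x hx
          omega
        · exact zero_mem _
  refine ⟨⟨s, ?_⟩⟩
  rw [eq_top_iff]
  intro a _
  rw [← DirectSum.sum_support_decompose 𝒜 a]
  exact sum_mem fun i _ => key i _ (SetLike.coe_mem _)

/-- If `A₊` is maximal, every proper homogeneous ideal lies in `A₊`. -/
theorem le_irrelevant_of_isHomogeneous (hmax : (HomogeneousIdeal.irrelevant 𝒜).toIdeal.IsMaximal)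
    {I : Ideal A} (hI : I.IsHomogeneous 𝒜) (hne : I ≠ ⊤) :
    I ≤ (HomogeneousIdeal.irrelevant 𝒜).toIdeal := by
  intro a ha
  by_contra hna
  apply hne
  have ha0 : (decompose 𝒜 a 0 : A) ∈ I := hI 0 ha
  have hna0 : (decompose 𝒜 a 0 : A) ∉ (HomogeneousIdeal.irrelevant 𝒜).toIdeal := by
    rw [mem_irrelevant_iff', decompose_of_mem_same 𝒜 (SetLike.coe_mem _)]
    exact hna
  obtain ⟨y, i, hi, hyi⟩ := hmax.exists_inv hna0
  have h1 := congrArg (GradedRing.projZeroRingHom 𝒜) hyi
  rw [map_add, map_mul, map_one] at h1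
  have h2 : GradedRing.projZeroRingHom 𝒜 i = 0 := hi
  have h3 : GradedRing.projZeroRingHom 𝒜 (decompose 𝒜 a 0 : A) = (decompose 𝒜 a 0 : A) := by
    rw [GradedRing.projZeroRingHom_apply, decompose_of_mem_same 𝒜 (SetLike.coe_mem _)]
  rw [h2, h3, add_zero] at h1
  rw [Ideal.eq_top_iff_one, ← h1]
  exact I.mul_mem_left _ ha0

end Groth.Agent.Lib.Helper87.CMVertex
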