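import Mathlib
import Groth.Agent.Lib.Helper87.CMVertex1

/-!
# `dim A ⧸ I ≤ ht (𝔪 (A ⧸ I))` for homogeneous `I` in a graded Noetherian ring with `𝔪 = A₊` maximal
(helper87)
-/

set_option autoImplicit false
universe v

namespace Groth.Agent.Lib.Helper87.CMVertex

open DirectSum Groth.Agent.Lib.Helper55

section General

/-- Heights can only drop when pushing a prime forward along a surjection. -/
theorem height_le_height_comap_of_surjective {R S : Type*} [CommRing R] [CommRing S]
    (f : R →+* S) (hf : Function.Surjective f) (Q : Ideal S) [Q.IsPrime] :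
    Q.height ≤ (Q.comap f).height := by
  let e := Ideal.primeSpectrumOrderIsoZeroLocusOfSurj f hf rfl
  have hmono : StrictMono (fun p : PrimeSpectrum S => ((e p : PrimeSpectrum.zeroLocus _) :
      PrimeSpectrum R)) := (Subtype.strictMono_coe _).comp e.strictMono
  have h := Order.height_le_height_apply_of_strictMono _ hmono ⟨Q, inferInstance⟩
  rw [← PrimeSpectrum.height_eq_orderHeight, ← PrimeSpectrum.height_eq_orderHeight] at h
  exact h

/-- In a finitely generated algebra over a field, a maximal ideal `M` containing a prime `P` has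
height at least `dim R ⧸ P`. -/
theorem ringKrullDim_quotient_le_height_of_isMaximal (k R : Type v) [Field k] [CommRing R]
    [Algebra k R] [Algebra.FiniteType k R] (P M : Ideal R) [hP : P.IsPrime] (hM : M.IsMaximal)
    (hPM : P ≤ M) : ringKrullDim (R ⧸ P) ≤ (M.height : WithBot ℕ∞) := by
  have hsurj : Function.Surjective (Ideal.Quotient.mk P) := Ideal.Quotient.mk_surjective
  have hker : RingHom.ker (Ideal.Quotient.mk P) ≤ M := by rw [Ideal.mk_ker]; exact hPM
  have hQmax : (M.map (Ideal.Quotient.mk P)).IsMaximal :=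
    Ideal.IsMaximal.map_of_surjective_of_ker_le hsurj hker
  have hQp : (M.map (Ideal.Quotient.mk P)).IsPrime := hQmax.isPrime
  have hft : Algebra.FiniteType k (R ⧸ P) :=
    Algebra.FiniteType.of_surjective (Ideal.Quotient.mkₐ k P) (Ideal.Quotient.mkₐ_surjective k P)
  have h1 := ringKrullDim_quotient_add_height k (R ⧸ P) (M.map (Ideal.Quotient.mk P))
  have h2 : ringKrullDim ((R ⧸ P) ⧸ M.map (Ideal.Quotient.mk P)) = 0 := by
    letI := Ideal.Quotient.field (M.map (Ideal.Quotient.mk P))
    exact ringKrullDim_eq_zero_of_field _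
  rw [h2, zero_add] at h1
  rw [← h1]
  have h3 := height_le_height_comap_of_surjective (Ideal.Quotient.mk P) hsurj
    (M.map (Ideal.Quotient.mk P))
  have h4 : (M.map (Ideal.Quotient.mk P)).comap (Ideal.Quotient.mk P) = M := by
    rw [Ideal.comap_map_of_surjective _ hsurj, ← RingHom.ker_eq_comap_bot, sup_of_le_left hker]
  rw [h4] at h3
  exact_mod_cast h3

/-- In a finitely generated algebra over a field, a maximal ideal `N` contains a minimal prime `P`
with `ht N = dim R ⧸ P`. -/
theorem exists_minimalPrimes_height_eq (k R : Type v) [Field k] [CommRing R]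
    [Algebra k R] [Algebra.FiniteType k R] (N : Ideal R) (hN : N.IsMaximal) :
    ∃ P ∈ minimalPrimes R, P ≤ N ∧ (N.height : WithBot ℕ∞) = ringKrullDim (R ⧸ P) := by
  have : IsNoetherianRing R := Algebra.FiniteType.isNoetherianRing k R
  have hNp : N.IsPrime := hN.isPrime
  obtain ⟨l, hlast, hlen⟩ := Ideal.exists_ltSeries_length_eq_height N
  have hlen' : (l.length : ℕ∞) = Order.height l.last := by
    rw [hlen, hlast, ← PrimeSpectrum.height_eq_orderHeight]
  have hidx := Order.height_eq_index_of_length_eq_height_last hlen'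
  have hsat : ∀ i : Fin l.length, l i.castSucc ⋖ l i.succ := by
    intro i
    refine ⟨l.strictMono (Fin.castSucc_lt_succ), ?_⟩
    intro 𝔯 h1 h2
    have e1 := Order.height_add_one_le h1
    have e2 := Order.height_add_one_le h2
    rw [hidx] at e1 e2
    have e3 : ((i.castSucc : ℕ) : ℕ∞) + 1 + 1 ≤ ((i.succ : ℕ) : ℕ∞) :=
      (add_le_add_left e1 1).trans e2
    simp only [Fin.val_castSucc, Fin.val_succ] at e3
    norm_cast at e3
    omega
  have hhead : l.head.asIdeal ∈ minimalPrimes R := by
    have h0 : Order.height (l 0) = 0 := by simpa using hidx 0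
    rw [← PrimeSpectrum.height_eq_orderHeight, Ideal.height_eq_zero_iff] at h0
    exact h0
  have hmaxlast : l.last.asIdeal.IsMaximal := by rw [hlast]; exact hN
  have h := length_eq_ringKrullDim_quotient_head_of_saturated k R l hmaxlast hsat
  refine ⟨l.head.asIdeal, hhead, ?_, ?_⟩
  · have : l.head ≤ l.last := LTSeries.head_le_last l
    rw [hlast] at this
    exact this
  · rw [← h, ← hlen]
    rfl

end General

variable {A : Type v} [CommRing A] {σ : Type*} [SetLike σ A] [AddSubgroupClass σ A]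
  (𝒜 : ℕ → σ) [GradedRing 𝒜]

attribute [local instance] secAlgebra

/-- For a proper homogeneous ideal `I` of a Noetherian graded ring with `𝔪 = A₊` maximal,
`dim A ⧸ I ≤ ht (𝔪 (A ⧸ I))`. -/
theorem ringKrullDim_quotient_le_height [IsNoetherianRing A]
    (hmax : (HomogeneousIdeal.irrelevant 𝒜).toIdeal.IsMaximal)
    {I : Ideal A} (hI : I.IsHomogeneous 𝒜) (hne : I ≠ ⊤) :
    ringKrullDim (A ⧸ I) ≤
      ((((HomogeneousIdeal.irrelevant 𝒜).toIdeal).map (Ideal.Quotient.mk I)).height :
        WithBot ℕ∞) := by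
  haveI := hmax
  letI : Field (A ⧸ (HomogeneousIdeal.irrelevant 𝒜).toIdeal) := Ideal.Quotient.field _
  have hftA : Algebra.FiniteType (A ⧸ (HomogeneousIdeal.irrelevant 𝒜).toIdeal) A :=
    finiteType_sec 𝒜
  have hft : Algebra.FiniteType (A ⧸ (HomogeneousIdeal.irrelevant 𝒜).toIdeal) (A ⧸ I) :=
    Algebra.FiniteType.of_surjective (Ideal.Quotient.mkₐ _ I) (Ideal.Quotient.mkₐ_surjective _ I)
  have hle : I ≤ (HomogeneousIdeal.irrelevant 𝒜).toIdeal :=
    le_irrelevant_of_isHomogeneous 𝒜 hmax hI hne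
  have hsurj : Function.Surjective (Ideal.Quotient.mk I) := Ideal.Quotient.mk_surjective
  have hker : RingHom.ker (Ideal.Quotient.mk I) ≤ (HomogeneousIdeal.irrelevant 𝒜).toIdeal := by
    rw [Ideal.mk_ker]; exact hle
  have hMmax : (((HomogeneousIdeal.irrelevant 𝒜).toIdeal).map (Ideal.Quotient.mk I)).IsMaximal :=
    Ideal.IsMaximal.map_of_surjective_of_ker_le hsurj hker
  rw [ringKrullDim_le_iff_isMaximal_height_le]
  intro N hN
  obtain ⟨P, hPmin, hPN, hPeq⟩ := exists_minimalPrimes_height_eq
    (A ⧸ (HomogeneousIdeal.irrelevant 𝒜).toIdeal) (A ⧸ I) N hN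
  have hPp : P.IsPrime := hPmin.1.1
  rw [hPeq]
  refine ringKrullDim_quotient_le_height_of_isMaximal
    (A ⧸ (HomogeneousIdeal.irrelevant 𝒜).toIdeal) (A ⧸ I) P _ hMmax ?_
  have h1 : P.comap (Ideal.Quotient.mk I) ∈ I.minimalPrimes := by
    rw [Ideal.minimalPrimes_eq_comap]
    exact ⟨P, hPmin, rfl⟩
  have h2 : (P.comap (Ideal.Quotient.mk I)).IsHomogeneous 𝒜 :=
    isHomogeneous_of_mem_minimalPrimes 𝒜 hI h1
  have h3 : P.comap (Ideal.Quotient.mk I) ≤ (HomogeneousIdeal.irrelevant 𝒜).toIdeal :=
    le_irrelevant_of_isHomogeneous 𝒜 hmax h2 (h1.1.1.ne_top)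
  calc P = (P.comap (Ideal.Quotient.mk I)).map (Ideal.Quotient.mk I) :=
        (Ideal.map_comap_of_surjective _ hsurj P).symm
    _ ≤ _ := Ideal.map_mono h3

end Groth.Agent.Lib.Helper87.CMVertex
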