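import Groth.Agent.Lib.Helper29.DepthQuot
import Groth.Agent.Lib.Helper29.DepthLoc
import Groth.Agent.Lib.Helper29.LocTransfer
import Groth.Agent.Lib.Helper29.DepthSelf

/-!
# Cohen–Macaulay local rings: quotient by a nonzerodivisor, generization (helper87)
-/

set_option autoImplicit false
universe u

namespace Groth.Agent.Lib.Helper87.CMLocal

open IsLocalRing

section Char

variable (R : Type u) [CommRing R] [IsNoetherianRing R]

theorem isCohenMacaulayLocalRing_iff_height_eq_depth (q : Ideal R) [q.IsPrime] :
    LocCoh.IsCohenMacaulayLocalRing (Localization.AtPrime q) ↔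
      q.height = LocCoh.depth (Localization.AtPrime q) (Localization.AtPrime q) := by
  have hNq : IsNoetherianRing (Localization.AtPrime q) :=
    IsLocalization.isNoetherianRing q.primeCompl _ inferInstance
  constructor
  · intro h
    have h3 := h.supportDim_eq_depth
    rw [Module.supportDim_self_eq_ringKrullDim,
      IsLocalization.AtPrime.ringKrullDim_eq_height q] at h3
    exact WithBot.coe_inj.mp h3
  · intro h
    refine { supportDim_eq_depth := ?_ }
    rw [Module.supportDim_self_eq_ringKrullDim,
      IsLocalization.AtPrime.ringKrullDim_eq_height q, h]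

omit [IsNoetherianRing R] in
theorem isCohenMacaulayLocalRing_congr_ideal (p p' : Ideal R) [p.IsPrime] [p'.IsPrime]
    (h : p = p') :
    LocCoh.IsCohenMacaulayLocalRing (Localization.AtPrime p) ↔
      LocCoh.IsCohenMacaulayLocalRing (Localization.AtPrime p') := by
  subst h
  rfl

/-- Quotient by a nonzerodivisor: `R_P` is Cohen–Macaulay iff `(R/t)_{P/t}` is. -/
theorem isCohenMacaulayLocalRing_iff_quotient (t : R) (ht : t ∈ nonZeroDivisors R)
    (p : Ideal (R ⧸ Ideal.span {t})) [p.IsPrime] :
    LocCoh.IsCohenMacaulayLocalRing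
        (Localization.AtPrime (p.comap (Ideal.Quotient.mk (Ideal.span {t})))) ↔
      LocCoh.IsCohenMacaulayLocalRing (Localization.AtPrime p) := by
  set P : Ideal R := p.comap (Ideal.Quotient.mk (Ideal.span {t})) with hP
  have htP : t ∈ P := by
    rw [hP, Ideal.mem_comap]
    have : Ideal.Quotient.mk (Ideal.span {t}) t = 0 :=
      Ideal.Quotient.eq_zero_iff_mem.mpr (Ideal.mem_span_singleton_self t)
    rw [this]
    exact Ideal.zero_mem _
  have hmap : P.map (Ideal.Quotient.mk (Ideal.span {t})) = p :=
    Ideal.map_comap_of_surjective _ Ideal.Quotient.mk_surjective p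
  have hprime : (P.map (Ideal.Quotient.mk (Ideal.span {t}))).IsPrime := by
    rw [hmap]; infer_instance
  have hreg : IsSMulRegular (Localization.AtPrime P) (algebraMap R (Localization.AtPrime P) t) := by
    have hmem : algebraMap R (Localization.AtPrime P) t ∈ nonZeroDivisors (Localization.AtPrime P) :=
      IsLocalization.map_nonZeroDivisors_le P.primeCompl (Localization.AtPrime P)
        (Submonoid.mem_map_of_mem _ ht)
    intro x y hxy
    have h1 : (x - y) * algebraMap R (Localization.AtPrime P) t = 0 := by
      simp only [smul_eq_mul] at hxy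
      rw [sub_mul, mul_comm x, mul_comm y, hxy, sub_self]
    exact sub_eq_zero.mp (mem_nonZeroDivisors_iff_right.mp hmem _ h1)
  obtain ⟨h1, h2⟩ := Groth.Agent.Lib.Helper29.depth_and_height_quotient_span_singleton R P t htP hreg
  rw [← isCohenMacaulayLocalRing_congr_ideal _ _ _ hmap,
    isCohenMacaulayLocalRing_iff_height_eq_depth R P,
    isCohenMacaulayLocalRing_iff_height_eq_depth (R ⧸ Ideal.span {t})
      (P.map (Ideal.Quotient.mk (Ideal.span {t}))), ← h1, ← h2]
  constructor
  · intro h
    exact ENat.add_left_injective_of_ne_top ENat.one_ne_top h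
  · intro h
    rw [h]

end Char

section Generize

variable (R : Type u) [CommRing R] [IsNoetherianRing R]

theorem cm_of_localizedModule_eq (Q Q' : Ideal R) [Q.IsPrime] [Q'.IsPrime] (h : Q' = Q)
    (hcm : Module.supportDim (Localization.AtPrime Q') (LocalizedModule Q'.primeCompl R) =
      ((LocCoh.depth (Localization.AtPrime Q') (LocalizedModule Q'.primeCompl R) : ℕ∞) :
        WithBot ℕ∞)) :
    LocCoh.IsCohenMacaulayLocalRing (Localization.AtPrime Q) := by
  subst h
  have hNq : IsNoetherianRing (Localization.AtPrime Q') :=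
    IsLocalization.isNoetherianRing Q'.primeCompl _ inferInstance
  refine { supportDim_eq_depth := ?_ }
  rw [← Groth.Agent.Lib.Helper29.depth_localizedModule_self,
    ← Module.supportDim_eq_of_equiv (Groth.Agent.Lib.Helper29.localizedModuleSelfEquiv R Q')]
  exact hcm

/-- Cohen–Macaulayness generizes: if `R_𝔓` is Cohen–Macaulay and `Q ≤ 𝔓` then `R_Q` is
Cohen–Macaulay. -/
theorem isCohenMacaulayLocalRing_of_le (Q 𝔓 : Ideal R) [Q.IsPrime] [𝔓.IsPrime] (hle : Q ≤ 𝔓)
    (h : LocCoh.IsCohenMacaulayLocalRing (Localization.AtPrime 𝔓)) :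
    LocCoh.IsCohenMacaulayLocalRing (Localization.AtPrime Q) := by
  have hN : IsNoetherianRing (Localization.AtPrime 𝔓) :=
    IsLocalization.isNoetherianRing 𝔓.primeCompl _ inferInstance
  have hdisj : Disjoint (𝔓.primeCompl : Set R) (Q : Set R) := by
    rw [Set.disjoint_left]
    intro x hx hxq
    exact hx (hle hxq)
  have hprime : (Q.map (algebraMap R (Localization.AtPrime 𝔓))).IsPrime :=
    IsLocalization.isPrime_of_isPrime_disjoint 𝔓.primeCompl _ _ inferInstance hdisj
  have hcomap : (Q.map (algebraMap R (Localization.AtPrime 𝔓))).comap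
      (algebraMap R (Localization.AtPrime 𝔓)) = Q :=
    IsLocalization.under_map_of_isPrime_disjoint 𝔓.primeCompl _ inferInstance hdisj
  have hM0 : LocCoh.IsCohenMacaulayModule (Localization.AtPrime 𝔓)
      (LocalizedModule 𝔓.primeCompl R) :=
    (Groth.Agent.Lib.Helper29.isCohenMacaulayModule_congr (Localization.AtPrime 𝔓)
      (Groth.Agent.Lib.Helper29.localizedModuleSelfEquiv R 𝔓)).mpr h.supportDim_eq_depth
  have hsupp : (⟨Q.map (algebraMap R (Localization.AtPrime 𝔓)), hprime⟩ :
      PrimeSpectrum (Localization.AtPrime 𝔓)) ∈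
      Module.support (Localization.AtPrime 𝔓) (LocalizedModule 𝔓.primeCompl R) := by
    rw [(Groth.Agent.Lib.Helper29.localizedModuleSelfEquiv R 𝔓).support_eq,
      Module.mem_support_iff_of_finite]
    have : Module.annihilator (Localization.AtPrime 𝔓) (Localization.AtPrime 𝔓) = ⊥ := by
      rw [eq_bot_iff]
      intro x hx
      have := Module.mem_annihilator.mp hx 1
      simpa using this
    rw [this]
    exact bot_le
  have hloc := Groth.Agent.Lib.Helper29.isCohenMacaulayModule_localizedModule
    (Localization.AtPrime 𝔓) (LocalizedModule 𝔓.primeCompl R) hM0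
    ⟨Q.map (algebraMap R (Localization.AtPrime 𝔓)), hprime⟩ hsupp
  obtain ⟨hd, hs⟩ := Groth.Agent.Lib.Helper29.depth_and_supportDim_localizedModule_localizedModule
    𝔓.primeCompl R (Q.map (algebraMap R (Localization.AtPrime 𝔓)))
  unfold LocCoh.IsCohenMacaulayModule at hloc
  refine cm_of_localizedModule_eq R Q _ hcomap ?_
  rw [← hs, ← hd]
  exact hloc

end Generize

end Groth.Agent.Lib.Helper87.CMLocal
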