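import Groth.Agent.Lib.Helper87.ExtReesLoc
import Groth.Agent.Lib.Helper87.CMLocal1
import Groth.Agent.Lib.Helper87.GrDepth5
import Groth.Agent.Lib.Helper24.CMFieldBaseChange
import Groth.Agent.Lib.Helper29.FlatAscent

/-!
# Generic lemmas for comparing the extended Rees algebra with `A[T;T⁻¹]` and with `Gr` (helper87)
-/

set_option autoImplicit false
universe u

namespace Groth.Agent.Lib.Helper87.ExtRees

open FiltBl LaurentPolynomial IsLocalRing
open Groth.Agent.Lib.Helper87.CMLocal Groth.Agent.Lib.Helper87.GrDepth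
  Groth.Agent.Lib.Helper87.GrHeight

section Generic

variable {R S : Type u} [CommRing R] [CommRing S] [Algebra R S]

/-- For a localization `S` of `R` and a prime `Q` of `S` with contraction `P`: `R_P ≅ S_Q`. -/
theorem nonempty_ringEquiv_atPrime (M : Submonoid R) [IsLocalization M S] (Q : Ideal S)
    [Q.IsPrime] (P : Ideal R) [P.IsPrime] (h : Q.comap (algebraMap R S) = P) :
    Nonempty (Localization.AtPrime P ≃+* Localization.AtPrime Q) := by
  subst h
  have h1 : IsLocalization.AtPrime (Localization.AtPrime Q) (Q.comap (algebraMap R S)) :=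
    IsLocalization.isLocalization_isLocalization_atPrime_isLocalization M _ Q
  exact ⟨(IsLocalization.algEquiv (Q.comap (algebraMap R S)).primeCompl
    (Localization.AtPrime (Q.comap (algebraMap R S))) (Localization.AtPrime Q)).toRingEquiv⟩

/-- A prime of `R` missing `x` extends to a prime of `R_x` contracting to it. -/
theorem exists_prime_away (x : R) [IsLocalization.Away x S] (P : Ideal R) [P.IsPrime]
    (hx : x ∉ P) :
    ∃ Q : Ideal S, Q.IsPrime ∧ Q.comap (algebraMap R S) = P := by
  have hdisj : Disjoint (Submonoid.powers x : Set R) (P : Set R) := by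
    rw [Set.disjoint_left]
    rintro y ⟨k, rfl⟩ hy
    exact hx (Ideal.IsPrime.mem_of_pow_mem inferInstance k hy)
  exact ⟨P.map (algebraMap R S),
    IsLocalization.isPrime_of_isPrime_disjoint (Submonoid.powers x) _ _ inferInstance hdisj,
    IsLocalization.under_map_of_isPrime_disjoint (Submonoid.powers x) _ inferInstance hdisj⟩

end Generic

section Surj

variable (R : Type u) [CommRing R] [IsNoetherianRing R]

/-- The quotient lemma for Cohen–Macaulayness along a surjection with kernel generated by a
nonzerodivisor. -/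
theorem isCohenMacaulayLocalRing_iff_of_surjective (t : R) (ht : t ∈ nonZeroDivisors R)
    {G : Type u} [CommRing G] (φ : R →+* G) (hφ : Function.Surjective φ)
    (hker : RingHom.ker φ = Ideal.span {t}) (p : Ideal G) [p.IsPrime] :
    LocCoh.IsCohenMacaulayLocalRing (Localization.AtPrime (p.comap φ)) ↔
      LocCoh.IsCohenMacaulayLocalRing (Localization.AtPrime p) := by
  let ψ : (R ⧸ Ideal.span {t}) ≃+* G :=
    (Ideal.quotEquivOfEq hker.symm).trans (RingHom.quotientKerEquivOfSurjective hφ)
  have hψ : ∀ x : R, ψ (Ideal.Quotient.mk (Ideal.span {t}) x) = φ x := fun x => rfl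
  have hp' : (p.comap (ψ : (R ⧸ Ideal.span {t}) →+* G)).IsPrime := Ideal.comap_isPrime _ _
  have hcomap : (p.comap (ψ : (R ⧸ Ideal.span {t}) →+* G)).comap
      (Ideal.Quotient.mk (Ideal.span {t})) = p.comap φ := by
    ext x
    simp only [Ideal.mem_comap, RingHom.coe_coe, hψ]
  have H : (p.comap (ψ : (R ⧸ Ideal.span {t}) →+* G)).primeCompl.map ψ.toMonoidHom =
      p.primeCompl := ψ.map_primeCompl_comap_eq p
  let e : Localization.AtPrime (p.comap (ψ : (R ⧸ Ideal.span {t}) →+* G)) ≃+*
      Localization.AtPrime p :=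
    IsLocalization.ringEquivOfRingEquiv
      (Localization.AtPrime (p.comap (ψ : (R ⧸ Ideal.span {t}) →+* G)))
      (Localization.AtPrime p) ψ H
  rw [← isCohenMacaulayLocalRing_congr_ideal R _ _ hcomap,
    isCohenMacaulayLocalRing_iff_quotient R t ht]
  exact ⟨Groth.Agent.Lib.Helper29.isCohenMacaulayLocalRing_of_ringEquiv e,
    Groth.Agent.Lib.Helper29.isCohenMacaulayLocalRing_of_ringEquiv e.symm⟩

end Surj

section Laurent

variable (A : Type u) [CommRing A] [IsNoetherianRing A]

/-- Cohen–Macaulayness of `A[T;T⁻¹]` at a prime and of `A` at its contraction are equivalent. -/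
theorem isCohenMacaulayLocalRing_laurent_iff (𝔔 : Ideal A[T;T⁻¹]) [𝔔.IsPrime] (q : Ideal A)
    [q.IsPrime] (h : 𝔔.comap (algebraMap A A[T;T⁻¹]) = q) :
    LocCoh.IsCohenMacaulayLocalRing (Localization.AtPrime 𝔔) ↔
      LocCoh.IsCohenMacaulayLocalRing (Localization.AtPrime q) := by
  have hNS : IsNoetherianRing A[T;T⁻¹] := isNoetherianRing_addMonoidAlgebra
  have hlies : 𝔔.LiesOver q := ⟨h.symm⟩
  constructor
  · intro hQ
    exact Groth.Agent.Lib.Helper24.isCohenMacaulayLocalRing_of_flat_descent q 𝔔 hQ
  · intro hq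
    have hreg : IsRegularRing (q.Fiber A[T;T⁻¹]) := isRegularRing_fiber A q
    have hC : IsRegularLocalRing
        (Localization.AtPrime 𝔔 ⧸ q.map (algebraMap A (Localization.AtPrime 𝔔))) :=
      isRegularLocalRing_fibLoc q 𝔔
    exact Groth.Agent.Lib.Helper29.isCohenMacaulayLocalRing_of_flat_of_fibLoc q 𝔔 hq
      (Groth.Agent.Lib.Helper28.isCohenMacaulayLocalRing_of_isRegularLocalRing _)

end Laurent

end Groth.Agent.Lib.Helper87.ExtRees
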