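import Mathlib

set_option autoImplicit false

namespace Groth.Agent.Lib.Helper87

open scoped TensorProduct
open Polynomial

section eigen

variable {R : Type*} {M : Type*} [Field R] [AddCommGroup M] [Module R M]

/-- A root of the minimal polynomial of an integral endomorphism is an eigenvalue. -/
theorem hasEigenvalue_of_isRoot_of_isIntegral {f : Module.End R M} (hint : IsIntegral R f) {μ : R}
    (h : (minpoly R f).IsRoot μ) : f.HasEigenvalue μ := by
  obtain ⟨q, hq⟩ := dvd_iff_isRoot.mpr h
  obtain ⟨v, hv⟩ : ∃ v : M, q.aeval f v ≠ 0 := by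
    by_contra! h_contra
    have := minpoly.min R f
      ((monic_X_sub_C μ).of_mul_monic_left (hq ▸ minpoly.monic hint))
      (LinearMap.ext h_contra)
    rw [hq, degree_mul, degree_X_sub_C, degree_eq_natDegree] at this
    · norm_cast at this; grind
    · rintro rfl
      exact minpoly.ne_zero hint (mul_zero (X - C μ) ▸ hq)
  refine Module.End.hasEigenvalue_of_hasEigenvector (Module.End.hasEigenvector_iff.mpr ⟨?_, hv⟩)
  simpa [sub_eq_zero, hq] using congr($(minpoly.aeval R f) v)

end eigen

section schur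

universe u v w

variable {K : Type u} [Field K] {D : Type v} [Ring D] [Algebra K D]
  {E : Type w} [AddCommGroup E] [Module K E] [Module D E] [IsScalarTower K D E]

theorem schur_abs_irred [Module.Finite K (E →ₗ[D] E)]
    (habs : (Nontrivial (AlgebraicClosure K ⊗[K] E) ∧
      ∀ N : Submodule (AlgebraicClosure K) (AlgebraicClosure K ⊗[K] E),
        (∀ (d : D) (x : AlgebraicClosure K ⊗[K] E), x ∈ N →
          (DistribSMul.toLinearMap K E d).baseChange (AlgebraicClosure K) x ∈ N) →
        N = ⊥ ∨ N = ⊤))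
    (φ : E →ₗ[D] E) : ∃ c : K, ∀ x : E, φ x = c • x := by
  obtain ⟨hnt, hirr⟩ := habs
  set Kb := AlgebraicClosure K with hKb
  -- restriction of scalars as an algebra hom
  let Rst : Module.End D E →ₐ[K] Module.End K E :=
    { toFun := fun f => f.restrictScalars K
      map_one' := rfl
      map_mul' := fun _ _ => rfl
      map_zero' := rfl
      map_add' := fun _ _ => rfl
      commutes' := fun c => by
        ext x
        simp [Algebra.algebraMap_eq_smul_one] }
  set ψ : Module.End K E := Rst φ with hψ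
  have hψa : ∀ x, ψ x = φ x := fun x => rfl
  haveI : Algebra.IsIntegral K (Module.End D E) := Algebra.IsIntegral.of_finite K _
  have hintφ : IsIntegral K (φ : Module.End D E) := Algebra.IsIntegral.isIntegral _
  have hintψ : IsIntegral K ψ := hintφ.map Rst
  set Ψ : Module.End Kb (Kb ⊗[K] E) := Module.End.baseChangeHom K Kb E ψ with hΨ
  have hΨa : ∀ (a : Kb) (x : E), Ψ (a ⊗ₜ[K] x) = a ⊗ₜ[K] ψ x := fun a x => rfl
  have hintΨK : IsIntegral K Ψ := hintψ.map (Module.End.baseChangeHom K Kb E)
  have hintΨ : IsIntegral Kb Ψ := hintΨK.tower_top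
  obtain ⟨μ, hμ⟩ := IsAlgClosed.exists_root (minpoly Kb Ψ) (ne_of_gt (minpoly.degree_pos hintΨ))
  have heig := hasEigenvalue_of_isRoot_of_isIntegral hintΨ hμ
  -- the eigenspace is stable
  have hstable : ∀ (d : D) (x : Kb ⊗[K] E), x ∈ Module.End.eigenspace Ψ μ →
      (DistribSMul.toLinearMap K E d).baseChange Kb x ∈ Module.End.eigenspace Ψ μ := by
    intro d x hx
    rw [Module.End.mem_eigenspace_iff] at hx ⊢
    have hcomm : Ψ ∘ₗ (DistribSMul.toLinearMap K E d).baseChange Kb =
        (DistribSMul.toLinearMap K E d).baseChange Kb ∘ₗ Ψ := by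
      show ψ.baseChange Kb ∘ₗ (DistribSMul.toLinearMap K E d).baseChange Kb =
        (DistribSMul.toLinearMap K E d).baseChange Kb ∘ₗ ψ.baseChange Kb
      rw [← LinearMap.baseChange_comp, ← LinearMap.baseChange_comp]
      congr 1
      ext y
      show φ (d • y) = d • φ y
      exact map_smul φ d y
    have := LinearMap.congr_fun hcomm x
    rw [LinearMap.comp_apply, LinearMap.comp_apply, hx, map_smul] at this
    exact this
  have htop : Module.End.eigenspace Ψ μ = ⊤ := by
    rcases hirr _ hstable with h | h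
    · exact absurd h heig
    · exact h
  have hΨμ : ∀ y, Ψ y = μ • y := by
    intro y
    have : y ∈ Module.End.eigenspace Ψ μ := by rw [htop]; trivial
    exact Module.End.mem_eigenspace_iff.mp this
  -- find the scalar in K
  have hEnt : Nontrivial E := by
    by_contra hE
    rw [not_nontrivial_iff_subsingleton] at hE
    exact (not_subsingleton_iff_nontrivial.mpr hnt) inferInstance
  obtain ⟨e, he⟩ := exists_ne (0 : E)
  obtain ⟨ℓ, hℓ⟩ : ∃ ℓ : Module.Dual K E, ℓ e ≠ 0 := by
    by_contra hcon
    push Not at hcon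
    exact he ((Module.forall_dual_apply_eq_zero_iff K e).mp hcon)
  let T : Kb ⊗[K] E →ₗ[K] Kb := (TensorProduct.rid K Kb).toLinearMap ∘ₗ (ℓ.lTensor Kb)
  have hT : ∀ (a : Kb) (x : E), T (a ⊗ₜ[K] x) = ℓ x • a := by
    intro a x
    simp [T]
  have h1 := hΨμ ((1 : Kb) ⊗ₜ[K] e)
  rw [hΨa, TensorProduct.smul_tmul', smul_eq_mul, mul_one] at h1
  have h2 := congrArg T h1
  rw [hT, hT] at h2
  set c : K := ℓ (ψ e) / ℓ e with hc
  have hμc : μ = algebraMap K Kb c := by
    have h3 : ℓ e • μ = ℓ (ψ e) • (1 : Kb) := h2.symm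
    rw [Algebra.smul_def, Algebra.smul_def, mul_one] at h3
    rw [hc, map_div₀, eq_div_iff (by rwa [Ne, map_eq_zero_iff _ (algebraMap K Kb).injective]),
      mul_comm]
    exact h3
  refine ⟨c, fun x => ?_⟩
  have h4 := hΨμ ((1 : Kb) ⊗ₜ[K] x)
  rw [hΨa, hμc, TensorProduct.smul_tmul', algebraMap_smul, TensorProduct.smul_tmul] at h4
  exact Module.Flat.tensorProduct_mk_injective (R := K) (S := Kb) (M := E) h4

end schur

end Groth.Agent.Lib.Helper87
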