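import Mathlib

set_option autoImplicit false

namespace Groth.Agent.Lib.Helper87

open scoped TensorProduct

section bc

universe u v w

variable {K : Type u} [Field K] {D : Type v} [Ring D] [Algebra K D]
  {E : Type w} [AddCommGroup E] [Module K E] [Module D E] [IsScalarTower K D E]

/-- the map `L ⊗ E → M ⊗ E` induced by a `K`-algebra map `L → M`. -/
noncomputable def bcMap {L M : Type*} [Field L] [Algebra K L] [Field M] [Algebra K M]
    (σ : L →ₐ[K] M) (E : Type w) [AddCommGroup E] [Module K E] : L ⊗[K] E →ₗ[K] M ⊗[K] E :=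
  σ.toLinearMap.rTensor E

omit [IsScalarTower K D E] in
theorem bcMap_tmul {L M : Type*} [Field L] [Algebra K L] [Field M] [Algebra K M]
    (σ : L →ₐ[K] M) (l : L) (e : E) : bcMap σ E (l ⊗ₜ e) = σ l ⊗ₜ e := by
  simp [bcMap]

theorem bcMap_smul {L M : Type*} [Field L] [Algebra K L] [Field M] [Algebra K M]
    (σ : L →ₐ[K] M) (l : L) (y : L ⊗[K] E) : bcMap σ E (l • y) = σ l • bcMap σ E y := by
  induction y using TensorProduct.induction_on with
  | zero => simp
  | tmul a e => simp [bcMap, TensorProduct.smul_tmul']
  | add a b ha hb => simp [smul_add, ha, hb]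

theorem bcMap_injective {L M : Type*} [Field L] [Algebra K L] [Field M] [Algebra K M]
    (σ : L →ₐ[K] M) : Function.Injective (bcMap σ E) := by
  apply Module.Flat.rTensor_preserves_injective_linearMap
  exact σ.toRingHom.injective

theorem bcMap_comm {L M : Type*} [Field L] [Algebra K L] [Field M] [Algebra K M]
    (σ : L →ₐ[K] M) (d : D) (y : L ⊗[K] E) :
    bcMap σ E ((DistribSMul.toLinearMap K E d).baseChange L y) =
      (DistribSMul.toLinearMap K E d).baseChange M (bcMap σ E y) := by
  induction y using TensorProduct.induction_on with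
  | zero => simp
  | tmul a e => simp [bcMap]
  | add a b ha hb => simp [ha, hb]

end bc

end Groth.Agent.Lib.Helper87
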