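import Groth.Agent.Lib.Helper87.AbsIrr2

set_option autoImplicit false

namespace Groth.Agent.Lib.Helper87

open scoped TensorProduct

section bc

universe u v w

variable {K : Type u} [Field K] {D : Type v} [Ring D] [Algebra K D]
  {E : Type w} [AddCommGroup E] [Module K E] [Module D E] [IsScalarTower K D E]

/-- a `K`-linear retraction of a field embedding, semilinear over the small field. -/
theorem exists_retraction {L M : Type*} [Field L] [Algebra K L] [Field M] [Algebra K M]
    (σ : L →ₐ[K] M) :
    ∃ r : M →ₗ[K] L, (∀ (l : L) (a : M), r (σ l * a) = l * r a) ∧ r 1 = 1 := by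
  letI : Algebra L M := σ.toRingHom.toAlgebra
  haveI : IsScalarTower K L M := IsScalarTower.of_algebraMap_eq (fun k => (σ.commutes k).symm)
  obtain ⟨g, hg⟩ := LinearMap.exists_leftInverse_of_injective (Algebra.linearMap L M)
    (LinearMap.ker_eq_bot.mpr (algebraMap L M).injective)
  refine ⟨g.restrictScalars K, ?_, ?_⟩
  · intro l a
    have : σ l * a = l • a := by
      rw [Algebra.smul_def]; rfl
    rw [this]
    simp
  · have := congr($hg 1)
    simpa using this

/-- the retraction on tensor products. -/
theorem retract_smul_bcMap {L M : Type*} [Field L] [Algebra K L] [Field M] [Algebra K M]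
    (σ : L →ₐ[K] M) (r : M →ₗ[K] L) (hr : ∀ (l : L) (a : M), r (σ l * a) = l * r a)
    (a : M) (y : L ⊗[K] E) :
    r.rTensor E (a • bcMap σ E y) = r a • y := by
  induction y using TensorProduct.induction_on with
  | zero => simp
  | tmul l e =>
    rw [bcMap_tmul, TensorProduct.smul_tmul', LinearMap.rTensor_tmul, TensorProduct.smul_tmul',
      smul_eq_mul, smul_eq_mul, mul_comm a, hr, mul_comm]
  | add x y hx hy => simp only [map_add, smul_add, hx, hy]

theorem nontrivial_of_tensor_nontrivial {M : Type*} [Field M] [Algebra K M]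
    (h : Nontrivial (M ⊗[K] E)) : Nontrivial E := by
  by_contra hE
  rw [not_nontrivial_iff_subsingleton] at hE
  have : Subsingleton (M ⊗[K] E) := by
    refine ⟨fun x y => ?_⟩
    have h0 : ∀ z : M ⊗[K] E, z = 0 := by
      intro z
      induction z using TensorProduct.induction_on with
      | zero => rfl
      | tmul a e => rw [Subsingleton.elim e 0, TensorProduct.tmul_zero]
      | add a b ha hb => rw [ha, hb, add_zero]
    rw [h0 x, h0 y]
  exact not_nontrivial _ h

theorem tensor_nontrivial_of_nontrivial (L : Type*) [Field L] [Algebra K L]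
    (h : Nontrivial E) : Nontrivial (L ⊗[K] E) :=
  (Module.Flat.tensorProduct_mk_injective (R := K) (S := L) (M := E)).nontrivial

theorem irr_down {L M : Type*} [Field L] [Algebra K L] [Field M] [Algebra K M] (σ : L →ₐ[K] M)
    (h : Nontrivial (M ⊗[K] E) ∧ ∀ N : Submodule M (M ⊗[K] E),
      (∀ (d : D) (x : M ⊗[K] E), x ∈ N → (DistribSMul.toLinearMap K E d).baseChange M x ∈ N) →
        N = ⊥ ∨ N = ⊤) :
    Nontrivial (L ⊗[K] E) ∧ ∀ N : Submodule L (L ⊗[K] E),
      (∀ (d : D) (x : L ⊗[K] E), x ∈ N → (DistribSMul.toLinearMap K E d).baseChange L x ∈ N) →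
        N = ⊥ ∨ N = ⊤ := by
  obtain ⟨hnt, hirr⟩ := h
  refine ⟨tensor_nontrivial_of_nontrivial L (nontrivial_of_tensor_nontrivial hnt), ?_⟩
  intro N hN
  set N' : Submodule M (M ⊗[K] E) := Submodule.span M (bcMap σ E '' (N : Set (L ⊗[K] E))) with hN'
  have hstab : ∀ (d : D) (x : M ⊗[K] E), x ∈ N' →
      (DistribSMul.toLinearMap K E d).baseChange M x ∈ N' := by
    intro d x hx
    induction hx using Submodule.span_induction with
    | mem x hx =>
      obtain ⟨y, hy, rfl⟩ := hx
      rw [← bcMap_comm]
      exact Submodule.subset_span ⟨_, hN d y hy, rfl⟩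
    | zero => simp
    | add x y _ _ hx hy => rw [map_add]; exact add_mem hx hy
    | smul a x _ hx => rw [map_smul]; exact Submodule.smul_mem _ _ hx
  rcases hirr N' hstab with h0 | h1
  · left
    rw [eq_bot_iff]
    intro y hy
    have : bcMap σ E y ∈ N' := Submodule.subset_span ⟨y, hy, rfl⟩
    rw [h0, Submodule.mem_bot] at this
    rw [Submodule.mem_bot]
    exact bcMap_injective (E := E) σ (by rw [this, map_zero])
  · right
    rw [eq_top_iff]
    intro y _
    obtain ⟨r, hr, hr1⟩ := exists_retraction σ
    have key : ∀ x ∈ N', ∀ a : M, r.rTensor E (a • x) ∈ N := by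
      intro x hx
      induction hx using Submodule.span_induction with
      | mem x hx =>
        obtain ⟨z, hz, rfl⟩ := hx
        intro a
        rw [retract_smul_bcMap σ r hr]
        exact Submodule.smul_mem _ _ hz
      | zero => intro a; simp
      | add x y _ _ hx hy => intro a; rw [smul_add, map_add]; exact add_mem (hx a) (hy a)
      | smul b x _ hx => intro a; rw [smul_smul]; exact hx _
    have := key (bcMap σ E y) (by rw [h1]; trivial) 1
    rw [retract_smul_bcMap σ r hr, hr1, one_smul] at this
    exact this

end bc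

end Groth.Agent.Lib.Helper87
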