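import Groth.Agent.Lib.Helper87.AbsIrr3

set_option autoImplicit false

namespace Groth.Agent.Lib.Helper87

open scoped TensorProduct

section bc

universe u v w

variable {K : Type u} [Field K] {D : Type v} [Ring D] [Algebra K D]
  {E : Type w} [AddCommGroup E] [Module K E] [Module D E] [IsScalarTower K D E]

theorem irr_up
    (h : ∀ (L : Type u) [Field L] [Algebra K L] [FiniteDimensional K L],
      (Nontrivial (L ⊗[K] E) ∧ ∀ N : Submodule L (L ⊗[K] E),
        (∀ (d : D) (x : L ⊗[K] E), x ∈ N → (DistribSMul.toLinearMap K E d).baseChange L x ∈ N) →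
          N = ⊥ ∨ N = ⊤)) :
    Nontrivial (AlgebraicClosure K ⊗[K] E) ∧
      ∀ N : Submodule (AlgebraicClosure K) (AlgebraicClosure K ⊗[K] E),
        (∀ (d : D) (x : AlgebraicClosure K ⊗[K] E), x ∈ N →
          (DistribSMul.toLinearMap K E d).baseChange (AlgebraicClosure K) x ∈ N) →
        N = ⊥ ∨ N = ⊤ := by
  have hE : Nontrivial E := nontrivial_of_tensor_nontrivial (h K).1
  refine ⟨tensor_nontrivial_of_nontrivial _ hE, ?_⟩
  intro N hN
  classical
  by_cases hbot : N = ⊥
  · exact Or.inl hbot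
  right
  obtain ⟨n, hnN, hn0⟩ := (Submodule.ne_bot_iff N).mp hbot
  obtain ⟨S, hS⟩ := TensorProduct.exists_finset n
  set T : Set (AlgebraicClosure K) := ↑(S.image Prod.fst) with hT
  set L₀ : IntermediateField K (AlgebraicClosure K) := IntermediateField.adjoin K T with hL₀
  haveI : FiniteDimensional K L₀ :=
    IntermediateField.finiteDimensional_adjoin
      (fun x _ => (Algebra.IsAlgebraic.isAlgebraic x).isIntegral)
  let σ : L₀ →ₐ[K] AlgebraicClosure K := L₀.val
  -- the pulled back submodule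
  let N₀ : Submodule L₀ (L₀ ⊗[K] E) :=
    { carrier := {y | bcMap σ E y ∈ N}
      add_mem' := fun {a b} ha hb => by
        simp only [Set.mem_setOf_eq, map_add] at ha hb ⊢
        exact add_mem ha hb
      zero_mem' := by simp
      smul_mem' := fun c y hy => by
        simp only [Set.mem_setOf_eq] at hy ⊢
        rw [bcMap_smul]
        exact Submodule.smul_mem _ _ hy }
  have hN₀ : ∀ (d : D) (x : L₀ ⊗[K] E), x ∈ N₀ →
      (DistribSMul.toLinearMap K E d).baseChange L₀ x ∈ N₀ := by
    intro d x hx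
    change bcMap σ E _ ∈ N
    rw [bcMap_comm]
    exact hN d _ hx
  have hmemT : ∀ i ∈ S, i.1 ∈ L₀ := by
    intro i hi
    apply IntermediateField.subset_adjoin
    rw [hT]
    simp only [Finset.coe_image, Set.mem_image, Finset.mem_coe]
    exact ⟨i, hi, rfl⟩
  -- the element n comes from L₀ ⊗ E
  let n₀ : L₀ ⊗[K] E := ∑ i ∈ S.attach, (⟨i.1.1, hmemT i.1 i.2⟩ : L₀) ⊗ₜ[K] i.1.2
  have hn₀ : bcMap σ E n₀ = n := by
    rw [hS, map_sum, ← Finset.sum_attach S]
    refine Finset.sum_congr rfl (fun i _ => ?_)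
    rw [bcMap_tmul]
    rfl
  have hn₀N : n₀ ∈ N₀ := by
    change bcMap σ E n₀ ∈ N
    rw [hn₀]; exact hnN
  have hn₀0 : n₀ ≠ 0 := by
    intro h0
    apply hn0
    rw [← hn₀, h0, map_zero]
  rcases (h L₀).2 N₀ hN₀ with h0 | h1
  · exfalso
    rw [h0, Submodule.mem_bot] at hn₀N
    exact hn₀0 hn₀N
  · rw [eq_top_iff]
    intro y _
    induction y using TensorProduct.induction_on with
    | zero => exact zero_mem _
    | tmul a e =>
      have : (1 : L₀) ⊗ₜ[K] e ∈ N₀ := by rw [h1]; trivial
      have h2 : bcMap σ E ((1 : L₀) ⊗ₜ[K] e) ∈ N := this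
      rw [bcMap_tmul, map_one] at h2
      have := Submodule.smul_mem N a h2
      rwa [TensorProduct.smul_tmul', smul_eq_mul, mul_one] at this
    | add a b ha hb => exact add_mem (ha trivial) (hb trivial)

theorem abs_irr_iff :
    (Nontrivial (AlgebraicClosure K ⊗[K] E) ∧
      ∀ N : Submodule (AlgebraicClosure K) (AlgebraicClosure K ⊗[K] E),
        (∀ (d : D) (x : AlgebraicClosure K ⊗[K] E), x ∈ N →
          (DistribSMul.toLinearMap K E d).baseChange (AlgebraicClosure K) x ∈ N) →
        N = ⊥ ∨ N = ⊤) ↔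
    ∀ (L : Type u) [Field L] [Algebra K L] [FiniteDimensional K L],
      (Nontrivial (L ⊗[K] E) ∧ ∀ N : Submodule L (L ⊗[K] E),
        (∀ (d : D) (x : L ⊗[K] E), x ∈ N → (DistribSMul.toLinearMap K E d).baseChange L x ∈ N) →
          N = ⊥ ∨ N = ⊤) := by
  constructor
  · intro h L _ _ _
    exact irr_down (IsAlgClosed.lift (R := K) (S := L) (M := AlgebraicClosure K)) h
  · exact irr_up

end bc

end Groth.Agent.Lib.Helper87
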