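import Mathlib
import Groth.Prelude.Def_W4c5adicflatcomplDec

/-!
Shared lemmas on modules of `I`-adically decaying functions (`W4c5adicflatcompl.decaying`).
-/

set_option autoImplicit false

namespace Groth.Agent.Lib.Helper87

open W4c5adicflatcompl

section general

variable {A : Type*} [CommRing A]

/-- a linear map sends `J • ⊤` into `J • ⊤`. -/
lemma map_mem_smul_top {P Q : Type*} [AddCommGroup P] [Module A P] [AddCommGroup Q] [Module A Q]
    (φ : P →ₗ[A] Q) (J : Ideal A) {x : P} (hx : x ∈ (J • ⊤ : Submodule A P)) :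
    φ x ∈ (J • ⊤ : Submodule A Q) := by
  have h1 : (J • ⊤ : Submodule A P).map φ ≤ (J • ⊤ : Submodule A Q) := by
    rw [Submodule.map_smul'']
    exact Submodule.smul_mono le_rfl le_top
  exact h1 (Submodule.mem_map_of_mem hx)

/-- elements of `span (range a) • N` are `a`-combinations of elements of `N`. -/
lemma exists_sum_of_mem_span_smul {M : Type*} [AddCommGroup M] [Module A M] {r : ℕ}
    (a : Fin r → A) (N : Submodule A M) {x : M}
    (hx : x ∈ (Ideal.span (Set.range a)) • N) :
    ∃ b : Fin r → M, (∀ j, b j ∈ N) ∧ x = ∑ j, a j • b j := by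
  induction hx using Submodule.smul_induction_on' with
  | smul c hc y hy =>
    obtain ⟨d, rfl⟩ := (Submodule.mem_span_range_iff_exists_fun A).1 hc
    refine ⟨fun j => d j • y, fun j => N.smul_mem _ hy, ?_⟩
    rw [Finset.sum_smul]
    refine Finset.sum_congr rfl fun j _ => ?_
    rw [smul_eq_mul, mul_comm, mul_smul]
  | add x hx y hy ihx ihy =>
    obtain ⟨b, hb, rfl⟩ := ihx
    obtain ⟨b', hb', rfl⟩ := ihy
    refine ⟨fun j => b j + b' j, fun j => N.add_mem (hb j) (hb' j), ?_⟩
    simp [smul_add, Finset.sum_add_distrib]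

lemma pow_smul_top_anti {M : Type*} [AddCommGroup M] [Module A M] (I : Ideal A) {m n : ℕ}
    (h : m ≤ n) : (I ^ n • ⊤ : Submodule A M) ≤ (I ^ m • ⊤ : Submodule A M) :=
  Submodule.smul_mono (Ideal.pow_le_pow_right h) le_rfl

end general

section decaying

variable {A : Type*} [CommRing A] (I : Ideal A) (Z : Type*) (M : Type*)
  [AddCommGroup M] [Module A M]

/-- evaluation at a point, as a linear map on decaying functions -/
def decEval (z : Z) : decaying I Z M →ₗ[A] M :=
  (LinearMap.proj z).comp (decaying I Z M).subtype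

@[simp] lemma decEval_apply (z : Z) (f : decaying I Z M) : decEval I Z M z f = (f : Z → M) z := rfl

variable {I Z M}

lemma eval_mem_of_mem_smul_top {n : ℕ} {f : decaying I Z M}
    (hf : f ∈ (I ^ n • ⊤ : Submodule A (decaying I Z M))) (z : Z) :
    (f : Z → M) z ∈ (I ^ n • ⊤ : Submodule A M) :=
  map_mem_smul_top (decEval I Z M z) _ hf

/-- Key lemma: if `I ^ n` is finitely generated and `M` is `I`-adically separated, a decaying
function all of whose values lie in `I ^ n M` lies in `I ^ n • decaying`. -/
lemma mem_smul_top_of_forall [IsHausdorff I M] {n : ℕ} (hfg : (I ^ n).FG)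
    (g : decaying I Z M) (hg : ∀ z, (g : Z → M) z ∈ (I ^ n • ⊤ : Submodule A M)) :
    g ∈ (I ^ n • ⊤ : Submodule A (decaying I Z M)) := by
  classical
  obtain ⟨r, a, ha⟩ := Submodule.fg_iff_exists_fin_generating_family.1 hfg
  have ha' : Ideal.span (Set.range a) = I ^ n := ha
  have key : ∀ z, ∃ b : Fin r → M, (g : Z → M) z = ∑ j, a j • b j ∧
      ∀ k, (g : Z → M) z ∈ (I ^ (n + k) • ⊤ : Submodule A M) →
        ∀ j, b j ∈ (I ^ k • ⊤ : Submodule A M) := by
    intro z
    by_cases h0 : (g : Z → M) z = 0
    · exact ⟨0, by simp [h0], fun k _ j => Submodule.zero_mem _⟩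
    · -- there is `k₁` with `g z ∉ I ^ (n + k₁) M`
      have hex : ∃ k₁, (g : Z → M) z ∉ (I ^ (n + k₁) • ⊤ : Submodule A M) := by
        by_contra hcon
        push Not at hcon
        apply h0
        apply IsHausdorff.haus (I := I) inferInstance
        intro m
        rw [SModEq.zero]
        exact pow_smul_top_anti I (Nat.le_add_left m n) (hcon m)
      obtain ⟨k₁, hk₁⟩ := hex
      set P : ℕ → Prop := fun k => (g : Z → M) z ∈ (I ^ (n + k) • ⊤ : Submodule A M) with hP
      have hP0 : P 0 := by simpa [hP] using hg z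
      set ks := Nat.findGreatest P k₁ with hks
      have hPks : P ks := Nat.findGreatest_spec (P := P) (m := 0) (Nat.zero_le _) hP0
      have hmax : ∀ k, P k → k ≤ ks := by
        intro k hk
        have hkk : k ≤ k₁ := by
          by_contra hlt
          push Not at hlt
          exact hk₁ (pow_smul_top_anti I (by omega) hk)
        exact Nat.le_findGreatest hkk hk
      have hmem : (g : Z → M) z ∈ (Ideal.span (Set.range a)) • (I ^ ks • ⊤ : Submodule A M) := by
        rw [ha', ← Submodule.mul_smul, ← pow_add]
        exact hPks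
      obtain ⟨b, hb, hsum⟩ := exists_sum_of_mem_span_smul a _ hmem
      exact ⟨b, hsum, fun k hk j => pow_smul_top_anti I (hmax k hk) (hb j)⟩
  choose b hb1 hb2 using key
  have hdec : ∀ j, (fun z => b z j) ∈ decaying I Z M := by
    intro j k
    refine ((g.2 (n + k))).subset ?_
    intro z hz
    simp only [Set.mem_ofPred_eq] at hz ⊢
    intro hmem
    exact hz (hb2 z k hmem j)
  have hgsum : g = ∑ j, a j • (⟨fun z => b z j, hdec j⟩ : decaying I Z M) := by
    apply Subtype.ext
    funext z
    rw [hb1 z]
    simp [Finset.sum_apply]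
  rw [hgsum]
  refine Submodule.sum_mem _ fun j _ => Submodule.smul_mem_smul ?_ Submodule.mem_top
  rw [← ha']
  exact Ideal.subset_span ⟨j, rfl⟩

lemma mem_smul_top_iff_forall [IsHausdorff I M] {n : ℕ} (hfg : (I ^ n).FG)
    (g : decaying I Z M) :
    g ∈ (I ^ n • ⊤ : Submodule A (decaying I Z M)) ↔
      ∀ z, (g : Z → M) z ∈ (I ^ n • ⊤ : Submodule A M) :=
  ⟨fun h z => eval_mem_of_mem_smul_top h z, mem_smul_top_of_forall hfg g⟩

/-- decaying functions into a separated module form a separated module -/
lemma isHausdorff_decaying [IsHausdorff I M] : IsHausdorff I (decaying I Z M) := by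
  refine ⟨fun f hf => ?_⟩
  apply Subtype.ext
  funext z
  apply IsHausdorff.haus (I := I) (M := M) inferInstance
  intro n
  rw [SModEq.zero]
  have := hf n
  rw [SModEq.zero] at this
  exact eval_mem_of_mem_smul_top this z

/-- decaying functions into a complete module form a complete module, when `I` is finitely
generated. -/
lemma isAdicComplete_decaying (hI : I.FG) [IsAdicComplete I M] :
    IsAdicComplete I (decaying I Z M) := by
  have : IsHausdorff I (decaying I Z M) := isHausdorff_decaying
  refine { toIsHausdorff := inferInstance, toIsPrecomplete := ⟨?_⟩ }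
  intro s hs
  -- pointwise limits
  have hpt : ∀ z, ∃ L : M, ∀ n, ((s n : decaying I Z M) : Z → M) z ≡ L [SMOD (I ^ n • ⊤ : Submodule A M)] := by
    intro z
    apply IsPrecomplete.prec (I := I) (M := M) inferInstance
    intro m n hmn
    rw [SModEq.sub_mem]
    have := (SModEq.sub_mem).1 (hs hmn)
    exact eval_mem_of_mem_smul_top this z
  choose L hL using hpt
  have hLdec : L ∈ decaying I Z M := by
    intro n
    refine ((s n).2 n).subset ?_
    intro z hz
    simp only [Set.mem_ofPred_eq] at hz ⊢
    intro hmem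
    apply hz
    have := (SModEq.sub_mem).1 (hL z n)
    have h2 := Submodule.sub_mem _ hmem this
    simpa using h2
  refine ⟨⟨L, hLdec⟩, fun n => ?_⟩
  rw [SModEq.sub_mem]
  apply mem_smul_top_of_forall (Ideal.FG.pow hI)
  intro z
  exact (SModEq.sub_mem).1 (hL z n)

end decaying

end Groth.Agent.Lib.Helper87
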