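import Groth.Agent.S17537
import Groth.Agent.Lib.Helper87.Decaying
import Mathlib

set_option autoImplicit false

namespace Groth.Agent.Lib.Helper87

open W4c5adicflatcompl

section

variable {A : Type*} [CommRing A] (I : Ideal A) (Z : Type*) (M : Type*) [AddCommGroup M]
  [Module A M]

/-- Membership in `J • ⊤` of a finitely supported function is coordinatewise. -/
lemma finsupp_mem_smul_top_iff (J : Ideal A) (u : Z →₀ M) :
    u ∈ (J • ⊤ : Submodule A (Z →₀ M)) ↔ ∀ z, u z ∈ (J • ⊤ : Submodule A M) := by
  classical
  constructor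
  · intro h z
    exact map_mem_smul_top (Finsupp.lapply z) J h
  · intro h
    have hu : u = ∑ z ∈ u.support, Finsupp.single z (u z) := (Finsupp.sum_single u).symm
    rw [hu]
    refine Submodule.sum_mem _ fun z _ => ?_
    exact map_mem_smul_top (Finsupp.lsingle z) J (h z)

/-- If the completion is adically complete, the kernel of the `n`-th evaluation is `I ^ n • ⊤`. -/
lemma ker_eval_eq_of_isAdicComplete [IsAdicComplete I (AdicCompletion I M)] (n : ℕ) :
    LinearMap.ker (AdicCompletion.eval I M n) =
      (I ^ n • ⊤ : Submodule A (AdicCompletion I M)) := by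
  apply le_antisymm
  · intro x hx
    obtain ⟨y, hy⟩ := (Groth.Agent.S17537.result I M).mp inferInstance n x
    have h1 : AdicCompletion.eval I M n (x - AdicCompletion.of I M y) = 0 :=
      AdicCompletion.pow_smul_top_le_ker_eval (I := I) (M := M) n hy
    rw [map_sub, LinearMap.mem_ker.mp hx, zero_sub, neg_eq_zero, AdicCompletion.eval_of,
      Submodule.mkQ_apply, Submodule.Quotient.mk_eq_zero] at h1
    have h2 : AdicCompletion.of I M y ∈ (I ^ n • ⊤ : Submodule A (AdicCompletion I M)) :=
      map_mem_smul_top (AdicCompletion.of I M) _ h1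
    have h3 : x = (x - AdicCompletion.of I M y) + AdicCompletion.of I M y := by abel
    rw [h3]
    exact add_mem hy h2
  · exact AdicCompletion.pow_smul_top_le_ker_eval (I := I) (M := M) n

/-- The comparison map from the completion of finitely supported functions to families. -/
noncomputable def finsuppComplMap :
    AdicCompletion I (Z →₀ M) →ₗ[A] (Z → AdicCompletion I M) :=
  LinearMap.pi fun z : Z =>
    (AdicCompletion.map I (Finsupp.lapply (M := M) (R := A) z)).restrictScalars A

lemma finsuppComplMap_val (x : AdicCompletion I (Z →₀ M)) (z : Z) (n : ℕ) (u : Z →₀ M)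
    (hu : x.val n = Submodule.Quotient.mk u) :
    (finsuppComplMap I Z M x z).val n = Submodule.Quotient.mk (u z) := by
  show (AdicCompletion.map I (Finsupp.lapply (M := M) (R := A) z) x).val n = _
  rw [AdicCompletion.map_val_apply, hu]
  rfl

lemma finsuppComplMap_injective : Function.Injective (finsuppComplMap I Z M) := by
  rw [← LinearMap.ker_eq_bot, LinearMap.ker_eq_bot']
  intro x hx
  apply AdicCompletion.ext
  intro n
  obtain ⟨u, hu⟩ := Submodule.Quotient.mk_surjective _ (x.val n)
  rw [← hu, AdicCompletion.val_zero_apply, Submodule.Quotient.mk_eq_zero]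
  rw [finsupp_mem_smul_top_iff]
  intro z
  have h1 := finsuppComplMap_val I Z M x z n u hu.symm
  rw [hx] at h1
  rw [← Submodule.Quotient.mk_eq_zero, ← h1]
  rfl

lemma finsuppComplMap_mem_decaying [IsAdicComplete I (AdicCompletion I M)]
    (x : AdicCompletion I (Z →₀ M)) :
    finsuppComplMap I Z M x ∈ decaying I Z (AdicCompletion I M) := by
  classical
  intro n
  obtain ⟨u, hu⟩ := Submodule.Quotient.mk_surjective _ (x.val n)
  refine (u.support.finite_toSet).subset ?_
  intro z hz
  by_contra hzs
  apply hz
  have huz : u z = 0 := by simpa using hzs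
  rw [← ker_eval_eq_of_isAdicComplete I M n, LinearMap.mem_ker, AdicCompletion.eval_apply,
    finsuppComplMap_val I Z M x z n u hu.symm, huz]
  rfl

lemma decaying_le_range_finsuppComplMap [IsAdicComplete I (AdicCompletion I M)]
    (f : Z → AdicCompletion I M) (hf : f ∈ decaying I Z (AdicCompletion I M)) :
    ∃ x, finsuppComplMap I Z M x = f := by
  classical
  -- representatives
  have hrep : ∀ (n : ℕ) (z : Z), ∃ m : M, Submodule.Quotient.mk m = (f z).val n :=
    fun n z => Submodule.Quotient.mk_surjective _ _
  choose rep hrepv using hrep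
  let u : ℕ → (Z →₀ M) := fun n =>
    Finsupp.onFinset (hf n).toFinset
      (fun z => if f z ∈ (I ^ n • ⊤ : Submodule A (AdicCompletion I M)) then 0 else rep n z)
      (by
        intro z hz
        rw [Set.Finite.mem_toFinset]
        intro hmem
        exact hz (if_pos hmem))
  have hu : ∀ n z, (Submodule.Quotient.mk (u n z) : M ⧸ (I ^ n • ⊤ : Submodule A M)) =
      (f z).val n := by
    intro n z
    show Submodule.Quotient.mk (if f z ∈ (I ^ n • ⊤ : Submodule A (AdicCompletion I M))
      then 0 else rep n z) = _
    split_ifs with h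
    · have : AdicCompletion.eval I M n (f z) = 0 :=
        AdicCompletion.pow_smul_top_le_ker_eval (I := I) (M := M) n h
      rw [AdicCompletion.eval_apply] at this
      rw [this]
      rfl
    · exact hrepv n z
  have hcauchy : ∀ n, u n ≡ u (n + 1) [SMOD (I ^ n • ⊤ : Submodule A (Z →₀ M))] := by
    intro n
    rw [SModEq.sub_mem, finsupp_mem_smul_top_iff]
    intro z
    rw [Finsupp.sub_apply, ← SModEq.sub_mem, SModEq.def, hu n z]
    have h1 := (f z).property (Nat.le_succ n)
    rw [← h1, ← hu (n + 1) z]
    rfl
  refine ⟨AdicCompletion.mk I (Z →₀ M) (AdicCompletion.AdicCauchySequence.mk I (Z →₀ M) u hcauchy),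
    ?_⟩
  funext z
  apply AdicCompletion.ext
  intro n
  rw [finsuppComplMap_val I Z M _ z n (u n) rfl, hu n z]

end

end Groth.Agent.Lib.Helper87
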