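import Groth.Agent.Lib.Helper87.ComplIso
import Groth.Agent.Lib.Helper87.FinsuppCompl
import Mathlib

set_option autoImplicit false

namespace Groth.Agent.Lib.Helper87

open W4c5adicflatcompl TensorProduct

section L3

variable {A : Type*} [CommRing A] (I : Ideal A) (Z : Type*)

/-- The canonical map from finitely supported functions into decaying functions with values in the
completion. -/
noncomputable def finsuppToDecaying : (Z →₀ A) →ₗ[A] decaying I Z (AdicCompletion I A) :=
  LinearMap.codRestrict (decaying I Z (AdicCompletion I A))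
    (LinearMap.pi fun z => (AdicCompletion.of I A) ∘ₗ (Finsupp.lapply z))
    (by
      classical
      intro u n
      refine (u.support.finite_toSet).subset ?_
      intro z hz
      by_contra hzs
      apply hz
      have huz : u z = 0 := by simpa using hzs
      show AdicCompletion.of I A (u z) ∈ _
      rw [huz, map_zero]
      exact Submodule.zero_mem _)

@[simp] lemma finsuppToDecaying_apply (u : Z →₀ A) (z : Z) :
    (finsuppToDecaying I Z u : Z → AdicCompletion I A) z = AdicCompletion.of I A (u z) := rfl

lemma adicInj_finsuppToDecaying : AdicInj I (finsuppToDecaying I Z) := by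
  intro n u hu
  rw [finsupp_mem_smul_top_iff]
  intro z
  have h1 := eval_mem_of_mem_smul_top hu z
  rw [finsuppToDecaying_apply] at h1
  have h2 : AdicCompletion.eval I A n (AdicCompletion.of I A (u z)) = 0 :=
    AdicCompletion.pow_smul_top_le_ker_eval (I := I) (M := A) n h1
  rw [AdicCompletion.eval_of, Submodule.mkQ_apply, Submodule.Quotient.mk_eq_zero] at h2
  exact h2

lemma adicSurj_finsuppToDecaying [IsNoetherianRing A] : AdicSurj I (finsuppToDecaying I Z) := by
  classical
  intro n g
  have hI : I.FG := IsNoetherian.noetherian I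
  have : IsAdicComplete I (AdicCompletion I A) := AdicCompletion.isAdicComplete hI
  have hrep : ∀ z : Z, ∃ a : A, (g : Z → AdicCompletion I A) z - AdicCompletion.of I A a ∈
      (I ^ n • ⊤ : Submodule A (AdicCompletion I A)) :=
    fun z => (Groth.Agent.S17537.result I A).mp inferInstance n _
  choose a ha using hrep
  let u : Z →₀ A :=
    Finsupp.onFinset (g.2 n).toFinset
      (fun z => if (g : Z → AdicCompletion I A) z ∈
        (I ^ n • ⊤ : Submodule A (AdicCompletion I A)) then 0 else a z)
      (by
        intro z hz
        rw [Set.Finite.mem_toFinset]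
        intro hmem
        exact hz (if_pos hmem))
  refine ⟨u, ?_⟩
  apply mem_smul_top_of_forall (IsNoetherian.noetherian (I ^ n))
  intro z
  show (g : Z → AdicCompletion I A) z - AdicCompletion.of I A (u z) ∈ _
  show (g : Z → AdicCompletion I A) z - AdicCompletion.of I A
    (if (g : Z → AdicCompletion I A) z ∈
        (I ^ n • ⊤ : Submodule A (AdicCompletion I A)) then 0 else a z) ∈ _
  split_ifs with h
  · rw [map_zero, sub_zero]
    exact h
  · exact ha z

end L3

section L4

variable {B : Type*} [CommRing B] (J : Ideal B) (Z : Type*)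

/-- The completion of the free module is the module of decaying functions. -/
noncomputable def finsuppComplEquiv [IsAdicComplete J (AdicCompletion J B)] :
    AdicCompletion J (Z →₀ B) ≃ₗ[B] decaying J Z (AdicCompletion J B) :=
  LinearEquiv.ofBijective
    (LinearMap.codRestrict (decaying J Z (AdicCompletion J B)) (finsuppComplMap J Z B)
      (finsuppComplMap_mem_decaying J Z B))
    ⟨fun x y hxy => finsuppComplMap_injective J Z B (congrArg Subtype.val hxy),
      fun f => by
        obtain ⟨x, hx⟩ := decaying_le_range_finsuppComplMap J Z B f.1 f.2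
        exact ⟨x, Subtype.ext hx⟩⟩

end L4

section Final

universe u

theorem isAdicFree_completion_baseChange {A B : Type u} [CommRing A] [CommRing B] [Algebra A B]
    [IsNoetherianRing A] [IsNoetherianRing B] (I : Ideal A) (J : Ideal B)
    (hIJ : I.map (algebraMap A B) ≤ J) (P : Type u) [AddCommGroup P] [Module A P]
    (hP : IsAdicFree I P) :
    IsAdicFree J (AdicCompletion J (B ⊗[A] P)) := by
  obtain ⟨Z, ⟨e⟩⟩ := hP
  have hJ : J.FG := IsNoetherian.noetherian J
  have : IsAdicComplete J (AdicCompletion J B) := AdicCompletion.isAdicComplete hJ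
  let f : (Z →₀ A) →ₗ[A] P := e.symm.toLinearMap ∘ₗ finsuppToDecaying I Z
  have hfa : AdicSurj I f := (adicSurj_finsuppToDecaying I Z).comp_equiv e.symm
  have hfb : AdicInj I f := (adicInj_finsuppToDecaying I Z).comp_equiv e.symm
  have hFa : AdicSurj J (f.baseChange B) := hfa.baseChange I J hIJ
  have hFb : AdicInj J (f.baseChange B) := AdicInj.baseChange I J hIJ hfa hfb
  let E1 : AdicCompletion J (B ⊗[A] (Z →₀ A)) ≃ₗ[B] AdicCompletion J (B ⊗[A] P) :=
    LinearEquiv.ofBijective ((AdicCompletion.map J (f.baseChange B)).restrictScalars B)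
      (map_bijective_of_adic hFa hFb)
  let E2 : (B ⊗[A] (Z →₀ A)) ≃ₗ[B] (Z →₀ B) :=
    (Algebra.TensorProduct.basis B (Finsupp.basisSingleOne (R := A) (ι := Z))).repr
  let E2' : AdicCompletion J (B ⊗[A] (Z →₀ A)) ≃ₗ[B] AdicCompletion J (Z →₀ B) :=
    (AdicCompletion.congr J E2).restrictScalars B
  exact ⟨Z, ⟨E1.symm ≪≫ₗ E2' ≪≫ₗ finsuppComplEquiv J Z⟩⟩

end Final

end Groth.Agent.Lib.Helper87
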