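import Mathlib
import Groth.Agent.Lib.Helper87.Decaying

/-!
`I`-adically convergent sums of decaying families in a module.
-/

set_option autoImplicit false

namespace Groth.Agent.Lib.Helper87

variable {A : Type*} [CommRing A] (I : Ideal A) {Z : Type*} {M : Type*}
  [AddCommGroup M] [Module A M]

/-- `x` is the `I`-adic sum of the family `t`. -/
def IsAdicSum (t : Z → M) (x : M) : Prop :=
  ∀ n : ℕ, ∃ S : Finset Z, (∀ z, z ∉ S → t z ∈ (I ^ n • ⊤ : Submodule A M)) ∧
    x - (∑ z ∈ S, t z) ∈ (I ^ n • ⊤ : Submodule A M)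

variable {I}

lemma sum_sub_sum_mem {N : Submodule A M} (t : Z → M) {S S' : Finset Z} (hSS' : S ⊆ S')
    (h : ∀ z, z ∉ S → t z ∈ N) : (∑ z ∈ S', t z) - (∑ z ∈ S, t z) ∈ N := by
  classical
  rw [← Finset.sum_sdiff hSS', add_sub_cancel_right]
  refine Submodule.sum_mem _ fun z hz => h z ?_
  exact (Finset.mem_sdiff.1 hz).2

/-- enlarge the finite set in the definition of an adic sum -/
lemma IsAdicSum.mem_of_superset {t : Z → M} {x : M} {n : ℕ} {S S' : Finset Z} (hSS' : S ⊆ S')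
    (h1 : ∀ z, z ∉ S → t z ∈ (I ^ n • ⊤ : Submodule A M))
    (h2 : x - (∑ z ∈ S, t z) ∈ (I ^ n • ⊤ : Submodule A M)) :
    x - (∑ z ∈ S', t z) ∈ (I ^ n • ⊤ : Submodule A M) := by
  have h3 := sum_sub_sum_mem t hSS' h1
  have := Submodule.sub_mem _ h2 h3
  have e : x - ∑ z ∈ S, t z - (∑ z ∈ S', t z - ∑ z ∈ S, t z) = x - ∑ z ∈ S', t z := by abel
  rwa [e] at this

lemma IsAdicSum.unique [IsHausdorff I M] {t : Z → M} {x y : M}
    (hx : IsAdicSum I t x) (hy : IsAdicSum I t y) : x = y := by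
  classical
  rw [← sub_eq_zero]
  apply IsHausdorff.haus (I := I) inferInstance
  intro n
  rw [SModEq.zero]
  obtain ⟨S, hS1, hS2⟩ := hx n
  obtain ⟨S', hS'1, hS'2⟩ := hy n
  have h1 := IsAdicSum.mem_of_superset (Finset.subset_union_left (s₁ := S) (s₂ := S')) hS1 hS2
  have h2 := IsAdicSum.mem_of_superset (Finset.subset_union_right (s₁ := S) (s₂ := S')) hS'1 hS'2
  have := Submodule.sub_mem _ h1 h2
  have e : x - ∑ z ∈ S ∪ S', t z - (y - ∑ z ∈ S ∪ S', t z) = x - y := by abel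
  rwa [e] at this

lemma IsAdicSum.add {t t' : Z → M} {x x' : M}
    (hx : IsAdicSum I t x) (hx' : IsAdicSum I t' x') : IsAdicSum I (t + t') (x + x') := by
  classical
  intro n
  obtain ⟨S, hS1, hS2⟩ := hx n
  obtain ⟨S', hS'1, hS'2⟩ := hx' n
  refine ⟨S ∪ S', fun z hz => ?_, ?_⟩
  · rw [Finset.mem_union, not_or] at hz
    exact Submodule.add_mem _ (hS1 z hz.1) (hS'1 z hz.2)
  · have h1 := IsAdicSum.mem_of_superset (Finset.subset_union_left (s₁ := S) (s₂ := S')) hS1 hS2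
    have h2 := IsAdicSum.mem_of_superset (Finset.subset_union_right (s₁ := S) (s₂ := S')) hS'1 hS'2
    have := Submodule.add_mem _ h1 h2
    have e : x - ∑ z ∈ S ∪ S', t z + (x' - ∑ z ∈ S ∪ S', t' z) =
        x + x' - ∑ z ∈ S ∪ S', (t + t') z := by
      simp only [Pi.add_apply, Finset.sum_add_distrib]
      abel
    rwa [e] at this

lemma IsAdicSum.smul {t : Z → M} {x : M} (a : A) (hx : IsAdicSum I t x) :
    IsAdicSum I (a • t) (a • x) := by
  intro n
  obtain ⟨S, hS1, hS2⟩ := hx n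
  refine ⟨S, fun z hz => Submodule.smul_mem _ a (hS1 z hz), ?_⟩
  have := Submodule.smul_mem _ a hS2
  simpa [smul_sub, Finset.smul_sum] using this

lemma IsAdicSum.exists [IsPrecomplete I M] (t : Z → M)
    (ht : ∀ n : ℕ, {z | t z ∉ (I ^ n • ⊤ : Submodule A M)}.Finite) : ∃ x, IsAdicSum I t x := by
  classical
  have hsub : ∀ {m n : ℕ}, m ≤ n → (ht m).toFinset ⊆ (ht n).toFinset := by
    intro m n hmn z hz
    simp only [Set.Finite.mem_toFinset, Set.mem_ofPred_eq] at hz ⊢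
    exact fun h => hz (pow_smul_top_anti I hmn h)
  have hout : ∀ n z, z ∉ (ht n).toFinset → t z ∈ (I ^ n • ⊤ : Submodule A M) := by
    intro n z hz
    simpa using hz
  obtain ⟨x, hx⟩ := IsPrecomplete.prec (I := I) (M := M) inferInstance
    (f := fun n => ∑ z ∈ (ht n).toFinset, t z) (by
      intro m n hmn
      refine SModEq.symm ?_
      rw [SModEq.sub_mem]
      exact sum_sub_sum_mem t (hsub hmn) (hout m))
  refine ⟨x, fun n => ⟨(ht n).toFinset, hout n, ?_⟩⟩
  have := (SModEq.sub_mem).1 (hx n).symm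
  exact this

end Groth.Agent.Lib.Helper87
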