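import Groth.Agent.Lib.Helper89.ExtBaseChange

/-!
# Flat base change for `Ext`, restated with Mathlib's module structures (helper87)

`Helper89.ExtBaseChange` declares a global instance `extModule` which shadows Mathlib's module
structure on `Ext` groups in files importing it.  Here we restate its main theorem with the
instance erased (both structures are definitionally equal).  Files importing this one should also
erase that instance.
-/

set_option autoImplicit false
universe u

namespace Groth.Agent.Lib.Helper87.BassFlat

open CategoryTheory Abelian TensorProduct

attribute [-instance] Groth.Agent.Lib.Helper89.ExtBaseChange.extModule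

/-- Flat base change for `Ext` of a finite module over a Noetherian ring. -/
theorem extBaseChange (A B : Type u) [CommRing A] [CommRing B] [Algebra A B]
    [Module.Flat A B] [IsNoetherianRing A] (M N : Type u) [AddCommGroup M] [Module A M]
    [Module.Finite A M] [AddCommGroup N] [Module A N] (r : ℕ) :
    Nonempty ((B ⊗[A] Ext.{u} (ModuleCat.of A M) (ModuleCat.of A N) r) ≃ₗ[B]
      Ext.{u} (ModuleCat.of B (B ⊗[A] M)) (ModuleCat.of B (B ⊗[A] N)) r) :=
  Groth.Agent.Lib.Helper89.ExtBaseChange.main A B M N r

end Groth.Agent.Lib.Helper87.BassFlat
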