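import Groth.Agent.Lib.Helper87.BassFlat1
import Mathlib.LinearAlgebra.DirectSum.Finsupp
import Mathlib.RingTheory.Regular.RegularSequence

/-!
# Inductive computation of `Ext^•(Z / (rs) Z, N)` along a weakly regular sequence (helper87)

`Model Z N r I` says: `Ext^j(Z, N) = 0` for `j < r` and `Ext^{i + r}(Z, N) ≅ Z^{(I i)}`.
Passing to `Z / y Z` for a `Z`-regular element `y` shifts `r` by one.
-/

set_option autoImplicit false
universe u

namespace Groth.Agent.Lib.Helper87.BassFlat

open CategoryTheory Abelian Pointwise TensorProduct RingTheory.Sequence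

variable {B : Type u} [CommRing B]

/-- `Ext^j(Z, N) = 0` for `j < r` and `Ext^{i + r}(Z, N)` is a direct sum of `I i` copies of `Z`. -/
def Model (Z : Type u) [AddCommGroup Z] [Module B Z] (N : ModuleCat.{u} B) (r : ℕ)
    (I : ℕ → Type u) : Prop :=
  (∀ j, j < r → Subsingleton (Ext.{u} (ModuleCat.of B Z) N j)) ∧
    ∀ i, Nonempty (Ext.{u} (ModuleCat.of B Z) N (i + r) ≃ₗ[B] (I i →₀ Z))

theorem model_congr {Z Z' : Type u} [AddCommGroup Z] [Module B Z] [AddCommGroup Z'] [Module B Z']
    (e : Z ≃ₗ[B] Z') {N : ModuleCat.{u} B} {r : ℕ} {I : ℕ → Type u} (h : Model Z N r I) :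
    Model Z' N r I := by
  obtain ⟨h1, h2⟩ := h
  refine ⟨fun j hj => ?_, fun i => ?_⟩
  · have := h1 j hj
    exact (extCongrLeft e.toModuleIso N j).symm.toEquiv.subsingleton
  · obtain ⟨φ⟩ := h2 i
    exact ⟨(extCongrLeft e.toModuleIso N (i + r)).symm.trans
      (φ.trans (Finsupp.mapRange.linearEquiv e))⟩

theorem model_of_eq {Z : Type u} [AddCommGroup Z] [Module B Z] {N : ModuleCat.{u} B} {r r' : ℕ}
    {I : ℕ → Type u} (hr : r = r') (h : Model Z N r I) : Model Z N r' I := by
  subst hr
  exact h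

/-- `(Z^{(I)}) / y ≅ (Z / y)^{(I)}`. -/
noncomputable def quotFinsuppEquiv (y : B) (I : Type u) (Z : Type u) [AddCommGroup Z]
    [Module B Z] : QuotSMulTop y (I →₀ Z) ≃ₗ[B] (I →₀ QuotSMulTop y Z) := by
  classical
  exact (QuotSMulTop.equivQuotTensor y (I →₀ Z)).trans
    ((TensorProduct.finsuppRight B B (B ⧸ Ideal.span {y}) Z I).trans
      (Finsupp.mapRange.linearEquiv (QuotSMulTop.equivQuotTensor y Z).symm))

theorem model_step {Z : Type u} [AddCommGroup Z] [Module B Z] {N : ModuleCat.{u} B} {r : ℕ}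
    {I : ℕ → Type u} (h : Model Z N r I) (y : B) (hy : IsSMulRegular Z y) :
    Model (QuotSMulTop y Z) N (r + 1) I := by
  obtain ⟨h1, h2⟩ := h
  let D := stepDataOfRegular (ModuleCat.of B Z) N y hy
  have hinj : ∀ j, ∀ e : Ext.{u} (ModuleCat.of B Z) N j, y • e = 0 → e = 0 := by
    intro j e he
    by_cases hj : j < r
    · have := h1 j hj
      exact Subsingleton.elim _ _
    · push Not at hj
      obtain ⟨i, rfl⟩ : ∃ i, j = i + r := ⟨j - r, by omega⟩
      obtain ⟨φ⟩ := h2 i
      apply φ.injective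
      rw [map_zero]
      have h3 : y • φ e = 0 := by rw [← map_smul, he, map_zero]
      ext k
      have h4 : y • (φ e) k = 0 := by
        rw [← Finsupp.smul_apply, h3, Finsupp.zero_apply]
      rw [Finsupp.zero_apply]
      apply hy
      change y • (φ e) k = y • 0
      rw [h4, smul_zero]
  refine ⟨fun j hj => ?_, fun i => ?_⟩
  · cases j with
    | zero => exact ext_quot_zero_subsingleton D hinj
    | succ j' =>
      have := h1 j' (by omega)
      exact (quotEquiv D hinj j').symm.toEquiv.subsingleton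
  · obtain ⟨φ⟩ := h2 i
    exact ⟨(quotEquiv D hinj (i + r)).symm.trans
      ((QuotSMulTop.congr y φ).trans (quotFinsuppEquiv y (I i) Z))⟩

theorem model_iterate (rs : List B) :
    ∀ {Z : Type u} [AddCommGroup Z] [Module B Z] {N : ModuleCat.{u} B} {r : ℕ}
      {I : ℕ → Type u}, Model Z N r I → IsWeaklyRegular Z rs →
      Model (Z ⧸ (Ideal.ofList rs • (⊤ : Submodule B Z))) N (r + rs.length) I := by
  induction rs with
  | nil =>
    intro Z _ _ N r I h _
    have hbot : (Ideal.ofList ([] : List B) • (⊤ : Submodule B Z)) = ⊥ := by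
      rw [Ideal.ofList_nil, Submodule.bot_smul]
    exact model_congr (Submodule.quotEquivOfEqBot _ hbot).symm h
  | cons y rs ih =>
    intro Z _ _ N r I h hreg
    rw [isWeaklyRegular_cons_iff] at hreg
    have h1 := model_step h y hreg.1
    have h2 := ih h1 hreg.2
    have h3 := model_congr
      (Submodule.quotOfListConsSMulTopEquivQuotSMulTopInner Z y rs).symm h2
    exact model_of_eq (by rw [List.length_cons]; omega) h3

end Groth.Agent.Lib.Helper87.BassFlat
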