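import Groth.Agent.Lib.Helper87.BassFlat0
import Groth.Agent.Lib.Helper87.BassFlat2
import Groth.Prelude.Def_GrLC2
import Mathlib.RingTheory.TensorProduct.Quotient

/-!
# Bass numbers under a flat local homomorphism with a "regular" closed fibre (helper87)

Let `A → B` be a flat homomorphism of local rings, `A` Noetherian, and let `rs` be a sequence in
`B` that is weakly regular on `B / m_A B` and such that `m_A B + (rs) = m_B`.  Then for any
`A`-module `M'`: `μ^j(B ⊗ M') = 0` for `j < |rs|` and `μ^{i + |rs|}(B ⊗ M') = μ^i(M')`.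
-/

set_option autoImplicit false
universe u

namespace Groth.Agent.Lib.Helper87.BassFlat

open CategoryTheory Abelian TensorProduct IsLocalRing RingTheory.Sequence

attribute [-instance] Groth.Agent.Lib.Helper89.ExtBaseChange.extModule

section Residue

variable {A : Type u} [CommRing A] [IsLocalRing A]

theorem smul_id_residueField_eq_zero (a : A) (ha : a ∈ maximalIdeal A) :
    a • 𝟙 (ModuleCat.of A (ResidueField A)) = 0 := by
  ext z
  change a • z = 0
  rw [Algebra.smul_def, IsLocalRing.ResidueField.algebraMap_eq, (residue_eq_zero_iff a).mpr ha,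
    zero_mul]

theorem ext_residueField_smul_eq_zero (N : ModuleCat.{u} A) (i : ℕ) (a : A)
    (ha : a ∈ maximalIdeal A) (x : Ext.{u} (ModuleCat.of A (ResidueField A)) N i) :
    a • x = 0 := by
  rw [← smul_eq_mk₀_smul_comp, smul_id_residueField_eq_zero a ha, Ext.mk₀_zero, Ext.zero_comp]

/-- A module killed by the maximal ideal is a direct sum of copies of the residue field. -/
theorem exists_equiv_finsupp_residueField (V : Type u) [AddCommGroup V] [Module A V]
    (hV : ∀ a ∈ maximalIdeal A, ∀ x : V, a • x = 0) :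
    ∃ I : Type u, Nonempty (V ≃ₗ[A] (I →₀ ResidueField A)) := by
  have hT : Module.IsTorsionBySet A V (maximalIdeal A : Set A) := by
    intro x a
    exact hV a.1 a.2 x
  let _ : Module (ResidueField A) V := hT.module
  let b := Module.Free.chooseBasis (ResidueField A) V
  refine ⟨Module.Free.ChooseBasisIndex (ResidueField A) V, ⟨
    { b.repr.toAddEquiv with
      map_smul' := fun a x => ?_ }⟩⟩
  have h1 : a • x = (IsLocalRing.residue A a) • x := rfl
  have h2 : ∀ v : Module.Free.ChooseBasisIndex (ResidueField A) V →₀ ResidueField A,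
      a • v = (IsLocalRing.residue A a) • v := fun v => (algebraMap_smul _ a v).symm
  show b.repr (a • x) = a • b.repr x
  rw [h1, b.repr.map_smul, h2]

theorem length_residueField : Module.length A (ResidueField A) = 1 := by
  have : IsSimpleModule A (A ⧸ maximalIdeal A) :=
    isSimpleModule_iff_isCoatom.mpr (Ideal.IsMaximal.out)
  exact Module.length_eq_one A (A ⧸ maximalIdeal A)

theorem exists_index (M' : Type u) [AddCommGroup M'] [Module A M'] :
    ∃ I : ℕ → Type u, ∀ i, Nonempty
      (Ext.{u} (ModuleCat.of A (ResidueField A)) (ModuleCat.of A M') i ≃ₗ[A]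
        (I i →₀ ResidueField A)) := by
  choose I hI using fun i : ℕ => exists_equiv_finsupp_residueField
    (Ext.{u} (ModuleCat.of A (ResidueField A)) (ModuleCat.of A M') i)
    (fun a ha x => ext_residueField_smul_eq_zero _ i a ha x)
  exact ⟨I, hI⟩

theorem bassNumLocal_eq_card (M' : Type u) [AddCommGroup M'] [Module A M'] (I : Type u) (i : ℕ)
    (h : Nonempty (Ext.{u} (ModuleCat.of A (ResidueField A)) (ModuleCat.of A M') i ≃ₗ[A]
        (I →₀ ResidueField A))) :
    GrLC.bassNumLocal A M' i = ENat.card I := by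
  obtain ⟨φ⟩ := h
  unfold GrLC.bassNumLocal
  rw [φ.length_eq, Module.length_finsupp, length_residueField, mul_one]

theorem bassNumLocal_eq_zero (M' : Type u) [AddCommGroup M'] [Module A M'] (i : ℕ)
    (h : Subsingleton (Ext.{u} (ModuleCat.of A (ResidueField A)) (ModuleCat.of A M') i)) :
    GrLC.bassNumLocal A M' i = 0 := by
  unfold GrLC.bassNumLocal
  exact Module.length_eq_zero

/-- Bass numbers only depend on the isomorphism class of the module. -/
theorem bassNumLocal_congr {M' M'' : Type u} [AddCommGroup M'] [Module A M'] [AddCommGroup M'']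
    [Module A M''] (e : M' ≃ₗ[A] M'') (i : ℕ) :
    GrLC.bassNumLocal A M' i = GrLC.bassNumLocal A M'' i := by
  unfold GrLC.bassNumLocal
  exact (extCongrRight (ModuleCat.of A (ResidueField A)) e.toModuleIso i).length_eq

end Residue

section Main

variable (A B : Type u) [CommRing A] [CommRing B] [IsLocalRing A] [IsLocalRing B]
  [IsNoetherianRing A] [Algebra A B] [Module.Flat A B]
  (M' : Type u) [AddCommGroup M'] [Module A M']

theorem model_base (I : ℕ → Type u)
    (hI : ∀ i, Nonempty (Ext.{u} (ModuleCat.of A (ResidueField A)) (ModuleCat.of A M') i ≃ₗ[A]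
        (I i →₀ ResidueField A))) :
    Model (B ⊗[A] ResidueField A) (ModuleCat.of B (B ⊗[A] M')) 0 I := by
  classical
  refine ⟨fun j hj => absurd hj (Nat.not_lt_zero j), fun i => ?_⟩
  obtain ⟨φ⟩ := hI i
  obtain ⟨ψ⟩ := extBaseChange A B (ResidueField A) M' i
  exact ⟨ψ.symm.trans ((AlgebraTensorModule.congr (LinearEquiv.refl B B) φ).trans
    (TensorProduct.finsuppRight A B B (ResidueField A) (I i)))⟩

theorem bassNumLocal_of_flat (rs : List B)
    (hreg : IsWeaklyRegular (B ⧸ (maximalIdeal A).map (algebraMap A B)) rs)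
    (hmax : (maximalIdeal A).map (algebraMap A B) ⊔ Ideal.ofList rs = maximalIdeal B) :
    (∀ j, j < rs.length → GrLC.bassNumLocal B (B ⊗[A] M') j = 0) ∧
      ∀ i, GrLC.bassNumLocal B (B ⊗[A] M') (i + rs.length) = GrLC.bassNumLocal A M' i := by
  obtain ⟨I, hI⟩ := exists_index (A := A) M'
  have h0 := model_base A B M' I hI
  have h1 : Model (B ⧸ (maximalIdeal A).map (algebraMap A B)) (ModuleCat.of B (B ⊗[A] M')) 0 I :=
    model_congr
      (Algebra.TensorProduct.quotIdealMapEquivTensorQuot B (maximalIdeal A)).toLinearEquiv.symm h0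
  have h2 := model_iterate rs h1 hreg
  set J : Ideal B := (maximalIdeal A).map (algebraMap A B) with hJ
  have hsm : (Ideal.ofList rs • (⊤ : Submodule B (B ⧸ J))) =
      Submodule.map (Submodule.mkQ J) (Ideal.ofList rs) := by
    have : (Ideal.ofList rs : Submodule B B) = Ideal.ofList rs • (⊤ : Submodule B B) := by
      rw [smul_eq_mul, Ideal.mul_top]
    conv_rhs => rw [this]
    rw [Submodule.map_smul'', Submodule.map_top, Submodule.range_mkQ]
  let e1 : ((B ⧸ J) ⧸ (Ideal.ofList rs • (⊤ : Submodule B (B ⧸ J)))) ≃ₗ[B]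
      ((B ⧸ J) ⧸ Submodule.map (Submodule.mkQ J) (Ideal.ofList rs)) :=
    Submodule.quotEquivOfEq _ _ hsm
  let e2 : ((B ⧸ J) ⧸ Submodule.map (Submodule.mkQ J) (Ideal.ofList rs)) ≃ₗ[B]
      (B ⧸ (J ⊔ Ideal.ofList rs)) :=
    Submodule.quotientQuotientEquivQuotientSup J (Ideal.ofList rs)
  let e3 : (B ⧸ (J ⊔ Ideal.ofList rs)) ≃ₗ[B] ResidueField B :=
    Submodule.quotEquivOfEq _ _ hmax
  have h3 : Model (ResidueField B) (ModuleCat.of B (B ⊗[A] M')) (0 + rs.length) I :=
    model_congr (e1.trans (e2.trans e3)) h2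
  rw [zero_add] at h3
  obtain ⟨h4, h5⟩ := h3
  refine ⟨fun j hj => bassNumLocal_eq_zero _ j (h4 j hj), fun i => ?_⟩
  rw [bassNumLocal_eq_card (B ⊗[A] M') (I i) (i + rs.length) (h5 i),
    bassNumLocal_eq_card M' (I i) i (hI i)]

end Main

end Groth.Agent.Lib.Helper87.BassFlat
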