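import Groth.Agent.Lib.Helper87.BassGraded2
import Mathlib.Algebra.Polynomial.Laurent
import Mathlib.RingTheory.KrullDimension.Polynomial

/-!
# The `ℤ`-graded case: `ht (p / p*) = 1` for a non-homogeneous prime (helper87)
-/

set_option autoImplicit false
universe u

namespace Groth.Agent.Lib.Helper87.BassFlat

open TensorProduct IsLocalRing

attribute [-instance] Groth.Agent.Lib.Helper89.ExtBaseChange.extModule

theorem ringKrullDim_laurent_le_one (K : Type u) [Field K] :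
    ringKrullDim (AddMonoidAlgebra K ℤ) ≤ 1 := by
  rw [ringKrullDim_le_iff_height_le]
  intro Q hQ
  have h1 := IsLocalization.height_under (Submonoid.powers (Polynomial.X : Polynomial K)) Q
  rw [← h1]
  refine (Ideal.height_le_ringKrullDim_of_isPrime).trans ?_
  rw [Polynomial.ringKrullDim_of_isNoetherianRing, ringKrullDim_eq_zero_of_field, zero_add]

section FibDim

variable {A B : Type u} [CommRing A] [CommRing B] [Algebra A B]

/-- The dimension of a fibre local ring is at most the dimension of the fibre ring. -/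
theorem ringKrullDim_fibLoc_le (P : Ideal A) [P.IsPrime] (Q : Ideal B) [Q.IsPrime]
    [Q.LiesOver P] :
    ringKrullDim (Localization.AtPrime Q ⧸ P.map (algebraMap A (Localization.AtPrime Q))) ≤
      ringKrullDim (P.Fiber B) := by
  obtain ⟨Q', hQ', rfl⟩ := Groth.Agent.Lib.Helper29.exists_fiber_prime P Q
  rw [← ringKrullDim_eq_of_ringEquiv (Groth.Agent.Lib.Helper29.fiberLocalizationEquiv P Q'),
    IsLocalization.AtPrime.ringKrullDim_eq_height Q' (Localization.AtPrime Q')]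
  exact Ideal.height_le_ringKrullDim_of_isPrime

end FibDim

section Int

open AddMonoidAlgebra Groth.Agent.Lib.Helper87.GrHeight Groth.Agent.Lib.Helper87.GrDepth

variable (R : Type u) [CommRing R] [IsNoetherianRing R] (𝒜 : ℤ → AddSubgroup R) [GradedRing 𝒜]
  (p : Ideal R) [p.IsPrime] (hp : ¬ Ideal.IsHomogeneous 𝒜 p)
  [(Ideal.homogeneousCore 𝒜 p).toIdeal.IsPrime]

local notation "𝕊" => AddMonoidAlgebra R ℤ

include hp in
theorem height_map_mk_core_eq_one :
    (p.map (Ideal.Quotient.mk (Ideal.homogeneousCore 𝒜 p).toIdeal)).height = 1 := by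
  set q : Ideal R := (Ideal.homogeneousCore 𝒜 p).toIdeal with hq
  have hqp : q ≤ p := Ideal.toIdeal_homogeneousCore_le 𝒜 p
  have hprime : (p.map (Ideal.Quotient.mk q)).IsPrime :=
    Ideal.map_isPrime_of_surjective Ideal.Quotient.mk_surjective (by rw [Ideal.mk_ker]; exact hqp)
  have hfin : (p.map (Ideal.Quotient.mk q)).height ≠ ⊤ := Ideal.height_ne_top_of_isPrime
  obtain ⟨d, hd⟩ := ENat.ne_top_iff_exists.mp hfin
  have hd' : (p.map (Ideal.Quotient.mk q)).height = d := hd.symm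
  -- `d ≠ 0`
  have hd0 : d ≠ 0 := by
    rintro rfl
    rw [Nat.cast_zero, Ideal.height_eq_zero_iff_eq_bot, Ideal.map_eq_bot_iff_le_ker,
      Ideal.mk_ker] at hd'
    exact hp ((Ideal.IsHomogeneous.iff_eq 𝒜 p).mpr (le_antisymm hqp hd'))
  -- `d ≤ 1`
  have hNS : IsNoetherianRing 𝕊 := isNoetherianRing_addMonoidAlgebra
  have hpSprime : (p.map (algebraMap R 𝕊)).IsPrime := isPrime_map p
  have hPprime : ((p.map (algebraMap R 𝕊)).comap (sigma 𝒜 : 𝕊 →+* 𝕊)).IsPrime :=
    Ideal.comap_isPrime _ _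
  have hPq : ((p.map (algebraMap R 𝕊)).comap (sigma 𝒜 : 𝕊 →+* 𝕊)).comap (algebraMap R 𝕊) = q :=
    comap_sigma_comap 𝒜 p
  have hlies2 : ((p.map (algebraMap R 𝕊)).comap (sigma 𝒜 : 𝕊 →+* 𝕊)).LiesOver q := ⟨hPq.symm⟩
  have hreg2 : IsRegularRing (q.Fiber 𝕊) := isRegularRing_fiber R q
  have hR2 : IsRegularLocalRing
      (Localization.AtPrime ((p.map (algebraMap R 𝕊)).comap (sigma 𝒜 : 𝕊 →+* 𝕊)) ⧸
        q.map (algebraMap R
          (Localization.AtPrime ((p.map (algebraMap R 𝕊)).comap (sigma 𝒜 : 𝕊 →+* 𝕊))))) :=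
    isRegularLocalRing_fibLoc q ((p.map (algebraMap R 𝕊)).comap (sigma 𝒜 : 𝕊 →+* 𝕊))
  have hd2 : ringKrullDim
      (Localization.AtPrime ((p.map (algebraMap R 𝕊)).comap (sigma 𝒜 : 𝕊 →+* 𝕊)) ⧸
        q.map (algebraMap R
          (Localization.AtPrime ((p.map (algebraMap R 𝕊)).comap (sigma 𝒜 : 𝕊 →+* 𝕊))))) =
      (d : WithBot ℕ∞) := by
    rw [← (depth_and_supportDim_fibLocMod_self R 𝕊
        ((p.map (algebraMap R 𝕊)).comap (sigma 𝒜 : 𝕊 →+* 𝕊)) q hPq).2,
      (fibre_core R 𝒜 p d hd' ((p.map (algebraMap R 𝕊)).comap (sigma 𝒜 : 𝕊 →+* 𝕊)) rfl).2]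
  have hle := ringKrullDim_fibLoc_le q ((p.map (algebraMap R 𝕊)).comap (sigma 𝒜 : 𝕊 →+* 𝕊))
  rw [hd2, ringKrullDim_eq_of_ringEquiv
    (AddMonoidAlgebra.scalarTensorEquiv (M := ℤ) R q.ResidueField).toRingEquiv] at hle
  have hle1 := hle.trans (ringKrullDim_laurent_le_one q.ResidueField)
  have hd1 : d ≤ 1 := by exact_mod_cast hle1
  have : d = 1 := by omega
  rw [hd', this]
  rfl

end Int

end Groth.Agent.Lib.Helper87.BassFlat
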