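import Mathlib.RingTheory.MvPolynomial.Homogeneous
import Mathlib.RingTheory.GradedAlgebra.Homogeneous.Ideal
import Mathlib.RingTheory.Ideal.Quotient.Operations
import Mathlib.Algebra.MvPolynomial.Rename
import Mathlib.RingTheory.Polynomial.Basic
import Mathlib.RingTheory.Polynomial.UniqueFactorization
import Mathlib.Tactic.LinearCombination
import Mathlib.Tactic.Ring

/-!
# Dehomogenisation of plane curves (helper87)
-/

set_option autoImplicit false
universe u

namespace Groth.Agent.Lib.Helper87.BezAff

open MvPolynomial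

section Basic

variable (k : Type u) [Field k]

/-- the substitution `X, Y, T ↦ X, Y, c` -/
noncomputable def vec (c : k) : Fin 3 → MvPolynomial (Fin 2) k :=
  Fin.cons (X 0) (Fin.cons (X 1) (Fin.cons (C c) Fin.elim0))

/-- evaluation at `T = c` -/
noncomputable def ev (c : k) : MvPolynomial (Fin 3) k →ₐ[k] MvPolynomial (Fin 2) k :=
  aeval (vec k c)

/-- the inclusion `k[X, Y] → k[X, Y, T]` -/
noncomputable def incl : MvPolynomial (Fin 2) k →ₐ[k] MvPolynomial (Fin 3) k :=
  rename Fin.castSucc

variable {k}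

theorem ev_X0 (c : k) : ev k c (X 0) = X 0 := by
  unfold ev vec
  rw [aeval_X]
  rfl

theorem ev_X1 (c : k) : ev k c (X 1) = X 1 := by
  unfold ev vec
  rw [aeval_X]
  rfl

theorem ev_X2 (c : k) : ev k c (X 2) = C c := by
  unfold ev vec
  rw [aeval_X]
  rfl

theorem incl_X0 : incl k (X 0) = X 0 := by
  unfold incl
  rw [rename_X]
  rfl

theorem incl_X1 : incl k (X 1) = X 1 := by
  unfold incl
  rw [rename_X]
  rfl

theorem ev_incl (c : k) (p : MvPolynomial (Fin 2) k) : ev k c (incl k p) = p := by
  have h : (ev k c).comp (incl k) = AlgHom.id k _ := by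
    apply MvPolynomial.algHom_ext
    intro i
    fin_cases i
    · change ev k c (incl k (X 0)) = X 0
      rw [incl_X0, ev_X0]
    · change ev k c (incl k (X 1)) = X 1
      rw [incl_X1, ev_X1]
  exact congrArg (fun φ => φ p) h

theorem ev_surjective (c : k) : Function.Surjective (ev k c) :=
  fun p => ⟨incl k p, ev_incl c p⟩

theorem sub_incl_ev_mem (c : k) (p : MvPolynomial (Fin 3) k) :
    p - incl k (ev k c p) ∈ Ideal.span {(X 2 - C c : MvPolynomial (Fin 3) k)} := by
  induction p using MvPolynomial.induction_on with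
  | C a =>
    have h1 : ev k c (C a) = C a := (ev k c).commutes a
    have h2 : incl k (C a) = C a := (incl k).commutes a
    rw [h1, h2, sub_self]
    exact Ideal.zero_mem _
  | add p q hp hq =>
    have : p + q - incl k (ev k c (p + q)) =
        (p - incl k (ev k c p)) + (q - incl k (ev k c q)) := by
      rw [map_add, map_add]; ring
    rw [this]
    exact add_mem hp hq
  | mul_X p i hp =>
    have h1 : p * X i - incl k (ev k c (p * X i)) =
        (p - incl k (ev k c p)) * X i + incl k (ev k c p) * (X i - incl k (ev k c (X i))) := by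
      rw [map_mul, map_mul]; ring
    rw [h1]
    refine add_mem (Ideal.mul_mem_right _ _ hp) (Ideal.mul_mem_left _ _ ?_)
    fin_cases i
    · change X 0 - incl k (ev k c (X 0)) ∈ _
      rw [ev_X0, incl_X0, sub_self]
      exact Ideal.zero_mem _
    · change X 1 - incl k (ev k c (X 1)) ∈ _
      rw [ev_X1, incl_X1, sub_self]
      exact Ideal.zero_mem _
    · change X 2 - incl k (ev k c (X 2)) ∈ _
      rw [ev_X2]
      have : incl k (C c) = C c := by
        unfold incl
        rw [rename_C]
      rw [this]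
      exact Ideal.mem_span_singleton_self _

theorem ker_ev (c : k) :
    RingHom.ker (ev k c : MvPolynomial (Fin 3) k →+* MvPolynomial (Fin 2) k) =
      Ideal.span {(X 2 - C c : MvPolynomial (Fin 3) k)} := by
  apply le_antisymm
  · intro p hp
    rw [RingHom.mem_ker] at hp
    have h := sub_incl_ev_mem c p
    have hp' : ev k c p = 0 := hp
    rw [hp', map_zero, sub_zero] at h
    exact h
  · rw [Ideal.span_le]
    intro p hp
    rw [Set.mem_singleton_iff] at hp
    rw [hp, SetLike.mem_coe, RingHom.mem_ker]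
    change ev k c (X 2 - C c) = 0
    rw [map_sub, ev_X2]
    have : ev k c (C c) = C c := by
      have h := (ev k c).commutes c
      exact h
    rw [this, sub_self]

/-- Koszul exactness for a relatively prime pair in a domain -/
theorem exists_of_mul_add_mul_eq_zero {P : Type*} [CommRing P] [IsDomain P]
    [DecompositionMonoid P] (f g a b : P)
    (hfg : IsRelPrime f g) (h : a * f + b * g = 0) : ∃ c : P, b = f * c ∧ a = -(g * c) := by
  by_cases hf : f = 0
  · subst hf
    rw [isRelPrime_zero_left] at hfg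
    obtain ⟨u, rfl⟩ := hfg
    rw [mul_zero, zero_add] at h
    have hb : b = 0 := by
      rcases mul_eq_zero.mp h with h1 | h1
      · exact h1
      · exact absurd h1 u.ne_zero
    refine ⟨-(a * ↑u⁻¹), ?_, ?_⟩
    · rw [hb, zero_mul]
    · rw [mul_neg, neg_neg, mul_comm a, ← mul_assoc, Units.mul_inv, one_mul]
  · have h1 : f ∣ b * g := ⟨-a, by linear_combination h⟩
    obtain ⟨c, rfl⟩ := hfg.dvd_of_dvd_mul_right h1
    refine ⟨c, rfl, ?_⟩
    have h2 : f * (a + g * c) = 0 := by linear_combination h
    rcases mul_eq_zero.mp h2 with h3 | h3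
    · exact absurd h3 hf
    · exact eq_neg_of_add_eq_zero_left h3

/-- if the two curves have no common point on the line `T = 0`, then `T` is a non-zero-divisor
modulo `(F, G)` -/
theorem mem_of_X2_mul_mem (F G : MvPolynomial (Fin 3) k)
    (hT : IsRelPrime (ev k 0 F) (ev k 0 G)) (H : MvPolynomial (Fin 3) k)
    (h : X 2 * H ∈ Ideal.span ({F, G} : Set (MvPolynomial (Fin 3) k))) :
    H ∈ Ideal.span ({F, G} : Set (MvPolynomial (Fin 3) k)) := by
  rw [Ideal.mem_span_pair] at h ⊢
  obtain ⟨A, B, hAB⟩ := h
  have h0 : ev k 0 A * ev k 0 F + ev k 0 B * ev k 0 G = 0 := by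
    rw [← map_mul, ← map_mul, ← map_add, hAB, map_mul, ev_X2, map_zero, zero_mul]
  obtain ⟨c, hB, hA⟩ := exists_of_mul_add_mul_eq_zero _ _ _ _ hT h0
  have hker : ∀ p : MvPolynomial (Fin 3) k, ev k 0 p = 0 → ∃ q, p = X 2 * q := by
    intro p hp
    have h1 := sub_incl_ev_mem (0 : k) p
    rw [hp, map_zero, sub_zero, map_zero, sub_zero, Ideal.mem_span_singleton'] at h1
    obtain ⟨q, hq⟩ := h1
    exact ⟨q, by rw [← hq, mul_comm]⟩
  obtain ⟨A₁, hA₁⟩ := hker (A + G * incl k c) (by
    rw [map_add, map_mul, ev_incl, hA]; ring)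
  obtain ⟨B₁, hB₁⟩ := hker (B - F * incl k c) (by
    rw [map_sub, map_mul, ev_incl, hB]; ring)
  refine ⟨A₁, B₁, ?_⟩
  have hX : (X 2 : MvPolynomial (Fin 3) k) ≠ 0 := X_ne_zero _
  apply mul_left_cancel₀ hX
  rw [← hAB]
  have e1 : A = X 2 * A₁ - G * incl k c := by rw [← hA₁]; ring
  have e2 : B = X 2 * B₁ + F * incl k c := by rw [← hB₁]; ring
  rw [e1, e2]
  ring

/-- every polynomial in two variables is the dehomogenisation of a form -/
theorem exists_homogeneous_lift (p : MvPolynomial (Fin 2) k) :
    ∃ m : ℕ, ∃ H : MvPolynomial (Fin 3) k, H.IsHomogeneous m ∧ ev k 1 H = p := by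
  induction p using MvPolynomial.induction_on with
  | C a =>
    exact ⟨0, C a, isHomogeneous_C _ _, (ev k 1).commutes a⟩
  | add p q hp hq =>
    obtain ⟨m₁, H₁, hH₁, rfl⟩ := hp
    obtain ⟨m₂, H₂, hH₂, rfl⟩ := hq
    refine ⟨m₁ + m₂, X 2 ^ m₂ * H₁ + X 2 ^ m₁ * H₂, ?_, ?_⟩
    · apply IsHomogeneous.add
      · have := (isHomogeneous_X_pow (R := k) (2 : Fin 3) m₂).mul hH₁
        rwa [add_comm] at this
      · exact (isHomogeneous_X_pow (R := k) (2 : Fin 3) m₁).mul hH₂
    · rw [map_add, map_mul, map_mul, map_pow, map_pow, ev_X2, map_one, one_pow, one_pow, one_mul,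
        one_mul]
  | mul_X p i hp =>
    obtain ⟨m₁, H₁, hH₁, rfl⟩ := hp
    refine ⟨m₁ + 1, H₁ * incl k (X i), ?_, ?_⟩
    · apply hH₁.mul
      unfold incl
      rw [rename_X]
      exact isHomogeneous_X _ _
    · rw [map_mul, ev_incl]

end Basic

section Dehom

variable {k : Type u} [Field k]

open DirectSum

attribute [local instance] MvPolynomial.gradedAlgebra

/-- the components of `q * (T - 1)` -/
theorem decompose_mul_X2_sub_one (q : MvPolynomial (Fin 3) k) (d : ℕ) :
    ((decompose (homogeneousSubmodule (Fin 3) k) (q * (X 2 - 1)) d :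
        homogeneousSubmodule (Fin 3) k d) : MvPolynomial (Fin 3) k) =
      (if 1 ≤ d then ((decompose (homogeneousSubmodule (Fin 3) k) q (d - 1) :
        homogeneousSubmodule (Fin 3) k (d - 1)) : MvPolynomial (Fin 3) k) * X 2 else 0) -
      ((decompose (homogeneousSubmodule (Fin 3) k) q d :
        homogeneousSubmodule (Fin 3) k d) : MvPolynomial (Fin 3) k) := by
  have hX : (X 2 : MvPolynomial (Fin 3) k) ∈ homogeneousSubmodule (Fin 3) k 1 :=
    (mem_homogeneousSubmodule _ _).mpr (isHomogeneous_X _ _)
  rw [mul_sub, mul_one, decompose_sub, DFinsupp.sub_apply, Submodule.coe_sub]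
  congr 1
  split_ifs with hd
  · exact DirectSum.coe_decompose_mul_of_right_mem_of_le _ hX hd
  · exact DirectSum.coe_decompose_mul_of_right_mem_of_not_le _ hX hd

/-- a form whose dehomogenisation lies in the dehomogenised ideal lies in the ideal, if `T` is a
non-zero-divisor modulo the ideal -/
theorem mem_of_ev_one_mem (J : Ideal (MvPolynomial (Fin 3) k))
    (hJ : J.IsHomogeneous (homogeneousSubmodule (Fin 3) k))
    (hT : ∀ H, X 2 * H ∈ J → H ∈ J) (m : ℕ) (H : MvPolynomial (Fin 3) k)
    (hH : H.IsHomogeneous m)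
    (h : ev k 1 H ∈ J.map (ev k 1 : MvPolynomial (Fin 3) k →+* MvPolynomial (Fin 2) k)) :
    H ∈ J := by
  classical
  obtain ⟨j, hj, hjH⟩ := (Ideal.mem_map_iff_of_surjective
    (ev k 1 : MvPolynomial (Fin 3) k →+* MvPolynomial (Fin 2) k) (ev_surjective 1)).mp h
  have h1 : H - j ∈ RingHom.ker (ev k 1 : MvPolynomial (Fin 3) k →+* MvPolynomial (Fin 2) k) := by
    rw [RingHom.mem_ker, map_sub, hjH]
    exact sub_self _
  rw [ker_ev, map_one, Ideal.mem_span_singleton'] at h1
  obtain ⟨q, hq⟩ := h1
  have hx : H - q * (X 2 - 1) ∈ J := by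
    rw [hq, sub_sub_cancel]
    exact hj
  have hHm : H ∈ homogeneousSubmodule (Fin 3) k m := (mem_homogeneousSubmodule _ _).mpr hH
  -- the components
  have hcomp : ∀ d, ((decompose (homogeneousSubmodule (Fin 3) k) H d :
        homogeneousSubmodule (Fin 3) k d) : MvPolynomial (Fin 3) k) -
      ((if 1 ≤ d then ((decompose (homogeneousSubmodule (Fin 3) k) q (d - 1) :
        homogeneousSubmodule (Fin 3) k (d - 1)) : MvPolynomial (Fin 3) k) * X 2 else 0) -
      ((decompose (homogeneousSubmodule (Fin 3) k) q d :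
        homogeneousSubmodule (Fin 3) k d) : MvPolynomial (Fin 3) k)) ∈ J := by
    intro d
    have h2 := hJ d hx
    rw [decompose_sub, DFinsupp.sub_apply, Submodule.coe_sub, decompose_mul_X2_sub_one] at h2
    exact h2
  -- upward induction below `m`
  have hup : ∀ d, d < m → ((decompose (homogeneousSubmodule (Fin 3) k) q d :
        homogeneousSubmodule (Fin 3) k d) : MvPolynomial (Fin 3) k) ∈ J := by
    intro d
    induction d with
    | zero =>
      intro hd
      have h2 := hcomp 0
      rw [DirectSum.decompose_of_mem_ne _ hHm (by omega : m ≠ 0), if_neg (by omega), zero_sub,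
        zero_sub, neg_neg] at h2
      exact h2
    | succ d ih =>
      intro hd
      have h2 := hcomp (d + 1)
      rw [DirectSum.decompose_of_mem_ne _ hHm (by omega : m ≠ d + 1), if_pos (by omega),
        zero_sub, neg_sub, Nat.add_sub_cancel] at h2
      have h3 := Ideal.mul_mem_right (X 2) J (ih (by omega))
      have := add_mem h2 h3
      rwa [sub_add_cancel] at this
  -- downward induction from the top
  obtain ⟨N, hN⟩ : ∃ N : ℕ, ∀ d, N ≤ d → ((decompose (homogeneousSubmodule (Fin 3) k) q d :
        homogeneousSubmodule (Fin 3) k d) : MvPolynomial (Fin 3) k) = 0 := by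
    refine ⟨(decompose (homogeneousSubmodule (Fin 3) k) q).support.sup id + 1, fun d hd => ?_⟩
    have hnot : d ∉ (decompose (homogeneousSubmodule (Fin 3) k) q).support := by
      intro hmem
      have := Finset.le_sup (f := id) hmem
      simp only [id] at this
      omega
    rw [DFinsupp.notMem_support_iff] at hnot
    rw [hnot]
    rfl
  have hdown : ∀ e d, m ≤ d → N ≤ d + e → ((decompose (homogeneousSubmodule (Fin 3) k) q d :
        homogeneousSubmodule (Fin 3) k d) : MvPolynomial (Fin 3) k) ∈ J := by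
    intro e
    induction e with
    | zero =>
      intro d _ hd
      rw [hN d (by omega)]
      exact Ideal.zero_mem _
    | succ e ih =>
      intro d hmd hd
      have h4 := ih (d + 1) (by omega) (by omega)
      have h2 := hcomp (d + 1)
      rw [DirectSum.decompose_of_mem_ne _ hHm (by omega : m ≠ d + 1), if_pos (by omega),
        zero_sub, neg_sub, Nat.add_sub_cancel] at h2
      have h5 := sub_mem h4 h2
      rw [sub_sub_cancel, mul_comm] at h5
      exact hT _ h5
  have hall : ∀ d, ((decompose (homogeneousSubmodule (Fin 3) k) q d :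
        homogeneousSubmodule (Fin 3) k d) : MvPolynomial (Fin 3) k) ∈ J := by
    intro d
    by_cases hd : d < m
    · exact hup d hd
    · exact hdown N d (by omega) (by omega)
  have hqJ : q ∈ J := by
    rw [← DirectSum.sum_support_decompose (homogeneousSubmodule (Fin 3) k) q]
    exact J.sum_mem fun i _ => hall i
  have : H = (H - q * (X 2 - 1)) + q * (X 2 - 1) := by ring
  rw [this]
  exact add_mem hx (Ideal.mul_mem_right _ _ hqJ)

end Dehom

end Groth.Agent.Lib.Helper87.BezAff
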