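import Groth.Agent.Lib.Helper87.CIHilb1
import Groth.Agent.Lib.Helper87.BezAff1

/-!
# Bézout's theorem for plane curves: the affine count (helper87)
-/

set_option autoImplicit false
universe u

namespace Groth.Agent.Lib.Helper87.BezAff

open MvPolynomial

section Hilb

variable (k : Type u) [Field k]

theorem ofList_pair {R : Type*} [CommRing R] (F G : R) :
    Ideal.ofList [F, G] = Ideal.span ({F, G} : Set R) := by
  unfold Ideal.ofList
  congr 1
  ext x
  simp

/-- the Hilbert function of two coprime forms of degrees `n`, `m` in three variables is eventually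
`n m` -/
theorem eventually_hilbFn (n m : ℕ) (F G : MvPolynomial (Fin 3) k) (hF : F.IsHomogeneous n)
    (hG : G.IsHomogeneous m) (hn : 0 < n) (hm : 0 < m) (hF0 : F ≠ 0) (hFG : IsRelPrime F G) :
    ∃ m₀ : ℕ, ∀ d : ℕ, m₀ ≤ d →
      hilbFn k 2 (Ideal.span ({F, G} : Set (MvPolynomial (Fin 3) k))) d = n * m := by
  have hlen : ([F, G] : List (MvPolynomial (Fin (2 + 1)) k)).length = ([n, m] : List ℕ).length :=
    rfl
  have hhom : ∀ i (h : i < ([F, G] : List (MvPolynomial (Fin (2 + 1)) k)).length),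
      ([F, G] : List (MvPolynomial (Fin (2 + 1)) k))[i] ∈
        CohB1.polyGrading 2 k (([n, m] : List ℕ)[i]'(hlen ▸ h)) := by
    intro i h
    have hi : i = 0 ∨ i = 1 := by
      simp only [List.length_cons, List.length_nil] at h
      omega
    rcases hi with rfl | rfl
    · exact (mem_homogeneousSubmodule _ _).mpr hF
    · exact (mem_homogeneousSubmodule _ _).mpr hG
  have hpos : ∀ d ∈ ([n, m] : List ℕ), 0 < d := by
    intro d hd
    simp only [List.mem_cons, List.not_mem_nil, or_false] at hd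
    rcases hd with rfl | rfl
    · exact hn
    · exact hm
  have hnzd : ∀ i (h : i < ([F, G] : List (MvPolynomial (Fin (2 + 1)) k)).length),
      ∀ g, g * ([F, G] : List (MvPolynomial (Fin (2 + 1)) k))[i] ∈
        Ideal.ofList (([F, G] : List (MvPolynomial (Fin (2 + 1)) k)).take i) →
      g ∈ Ideal.ofList (([F, G] : List (MvPolynomial (Fin (2 + 1)) k)).take i) := by
    intro i h g hg
    have hi : i = 0 ∨ i = 1 := by
      simp only [List.length_cons, List.length_nil] at h
      omega
    rcases hi with rfl | rfl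
    · rw [List.take_zero, Ideal.ofList_nil, Ideal.mem_bot] at hg ⊢
      have hg' : g * F = 0 := hg
      rcases mul_eq_zero.mp hg' with h1 | h1
      · exact h1
      · exact absurd h1 hF0
    · have ht : ([F, G] : List (MvPolynomial (Fin (2 + 1)) k)).take 1 = [F] := rfl
      rw [ht, Ideal.ofList_singleton, Ideal.mem_span_singleton] at hg ⊢
      have hg' : F ∣ g * G := hg
      exact hFG.dvd_of_dvd_mul_right hg'
  obtain ⟨P, hP, -, hdeg, hlc⟩ := exists_HP_ofList k 2 [F, G] [n, m] hlen hhom hpos hnzd 2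
    le_rfl le_rfl
  have htakef : ([F, G] : List (MvPolynomial (Fin (2 + 1)) k)).take 2 = [F, G] := rfl
  have htaked : ([n, m] : List ℕ).take 2 = [n, m] := rfl
  rw [htakef, ofList_pair] at hP
  rw [htaked, Nat.sub_self, Nat.factorial_zero, Nat.cast_one, one_mul] at hlc
  rw [Nat.sub_self] at hdeg
  obtain ⟨m₀, hm₀⟩ := hP
  refine ⟨m₀, fun d hd => ?_⟩
  have h1 := hm₀ d hd
  rw [Polynomial.eq_C_of_natDegree_eq_zero hdeg, Polynomial.eval_C] at h1
  have h2 : P.leadingCoeff = P.coeff 0 := by rw [Polynomial.leadingCoeff, hdeg]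
  rw [← h2, hlc] at h1
  have h3 : ([n, m] : List ℕ).prod = n * m := by simp
  rw [h3] at h1
  exact_mod_cast h1.symm

end Hilb

section Main

variable (k : Type u) [Field k]

theorem finrank_dehom (n m : ℕ) (F G : MvPolynomial (Fin 3) k) (hF : F.IsHomogeneous n)
    (hG : G.IsHomogeneous m) (hn : 0 < n) (hm : 0 < m) (hF0 : F ≠ 0) (hFG : IsRelPrime F G)
    (hT : IsRelPrime (ev k 0 F) (ev k 0 G)) :
    Module.finrank k (MvPolynomial (Fin 2) k ⧸
      Ideal.span ({ev k 1 F, ev k 1 G} : Set (MvPolynomial (Fin 2) k))) = n * m := by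
  classical
  set J : Ideal (MvPolynomial (Fin 3) k) := Ideal.span {F, G} with hJ
  set I : Ideal (MvPolynomial (Fin 2) k) := Ideal.span {ev k 1 F, ev k 1 G} with hI
  have hmapJ : J.map (ev k 1 : MvPolynomial (Fin 3) k →+* MvPolynomial (Fin 2) k) = I := by
    rw [hJ, Ideal.map_span, Set.image_pair]
    rfl
  have hJhom : J.IsHomogeneous (homogeneousSubmodule (Fin 3) k) := by
    apply Ideal.homogeneous_span
    intro x hx
    rcases hx with rfl | hx
    · exact ⟨n, (mem_homogeneousSubmodule _ _).mpr hF⟩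
    · rw [Set.mem_singleton_iff] at hx
      rw [hx]
      exact ⟨m, (mem_homogeneousSubmodule _ _).mpr hG⟩
  have hTnzd : ∀ H, X 2 * H ∈ J → H ∈ J := fun H hH => mem_of_X2_mul_mem F G hT H hH
  set ψ : MvPolynomial (Fin 3) k →ₗ[k] (MvPolynomial (Fin 2) k ⧸ I) :=
    (Ideal.Quotient.mkₐ k I).toLinearMap ∘ₗ (ev k 1).toLinearMap with hψ
  have hψapply : ∀ H, ψ H = Ideal.Quotient.mk I (ev k 1 H) := fun H => rfl
  have hker : ∀ d H, H ∈ homogeneousSubmodule (Fin 3) k d → (ψ H = 0 ↔ H ∈ J) := by
    intro d H hH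
    rw [hψapply, Ideal.Quotient.eq_zero_iff_mem, ← hmapJ]
    constructor
    · intro h
      exact mem_of_ev_one_mem J hJhom hTnzd d H ((mem_homogeneousSubmodule _ _).mp hH) h
    · intro h
      exact Ideal.mem_map_of_mem _ h
  set V : ℕ → Submodule k (MvPolynomial (Fin 2) k ⧸ I) :=
    fun d => Submodule.map ψ (homogeneousSubmodule (Fin 3) k d) with hV
  haveI hfinS : ∀ d, Module.Finite k (homogeneousSubmodule (Fin 3) k d) :=
    fun d => finite_polyGrading k 2 d
  haveI hfinV : ∀ d, Module.Finite k (V d) := fun d => Module.Finite.map _ _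
  have hVfin : ∀ d, Module.finrank k (V d) = hilbFn k 2 J d := by
    intro d
    set p := homogeneousSubmodule (Fin 3) k d with hp
    set f : p →ₗ[k] (MvPolynomial (Fin 2) k ⧸ I) := ψ.domRestrict p with hf
    have hrange : LinearMap.range f = V d := LinearMap.range_domRestrict _ _
    have hkerf : LinearMap.ker f =
        Submodule.comap p.subtype (Submodule.restrictScalars k J ⊓ p) := by
      ext ⟨H, hH⟩
      rw [LinearMap.mem_ker, Submodule.mem_comap]
      change ψ H = 0 ↔ H ∈ Submodule.restrictScalars k J ⊓ p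
      rw [hker d H hH, Submodule.mem_inf, Submodule.restrictScalars_mem]
      exact ⟨fun h => ⟨h, hH⟩, fun h => h.1⟩
    have h1 := LinearMap.finrank_range_add_finrank_ker f
    rw [hrange, hkerf,
      (Submodule.comapSubtypeEquivOfLe (inf_le_right :
        Submodule.restrictScalars k J ⊓ p ≤ p)).finrank_eq] at h1
    unfold hilbFn
    change _ = Module.finrank k ↥p - Module.finrank k ↥(Submodule.restrictScalars k J ⊓ p)
    omega
  have hVmono : ∀ d, V d ≤ V (d + 1) := by
    intro d y hy
    obtain ⟨H, hH, rfl⟩ := hy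
    refine ⟨X 2 * H, ?_, ?_⟩
    · have h1 : (X 2 : MvPolynomial (Fin 3) k).IsHomogeneous 1 := isHomogeneous_X _ _
      have h2 := h1.mul ((mem_homogeneousSubmodule _ _).mp hH)
      rw [add_comm] at h2
      exact (mem_homogeneousSubmodule _ _).mpr h2
    · rw [hψapply, hψapply, map_mul, ev_X2, map_one, one_mul]
  have hVtop : ∀ y, ∃ d, y ∈ V d := by
    intro y
    obtain ⟨p, rfl⟩ := Ideal.Quotient.mk_surjective y
    obtain ⟨d, H, hH, rfl⟩ := exists_homogeneous_lift p
    exact ⟨d, H, (mem_homogeneousSubmodule _ _).mpr hH, rfl⟩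
  obtain ⟨m₀, hm₀⟩ := eventually_hilbFn k n m F G hF hG hn hm hF0 hFG
  have hVconst : ∀ d, m₀ ≤ d → V d = V m₀ := by
    intro d hd
    induction d, hd using Nat.le_induction with
    | base => rfl
    | succ d hd ih =>
      rw [← ih]
      symm
      apply Submodule.eq_of_le_of_finrank_eq (hVmono d)
      rw [hVfin, hVfin, hm₀ d hd, hm₀ (d + 1) (by omega)]
  have hVmono' : Monotone V := monotone_nat_of_le_succ hVmono
  have htop : V m₀ = ⊤ := by
    rw [eq_top_iff]
    intro y _
    obtain ⟨d, hd⟩ := hVtop y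
    by_cases hdm : d ≤ m₀
    · exact hVmono' hdm hd
    · rw [← hVconst d (by omega)]
      exact hd
  rw [← finrank_top k (MvPolynomial (Fin 2) k ⧸ I), ← htop, hVfin, hm₀ m₀ le_rfl]

/-- Bézout's theorem for two plane curves without common point on the line at infinity: the affine
count -/
theorem main (n m : ℕ) (f g : MvPolynomial (Fin 3) k) (hf : f.IsHomogeneous n)
    (hg : g.IsHomogeneous m) (hn : 0 < n) (hm : 0 < m) (hf0 : f ≠ 0) (hfg : IsRelPrime f g)
    (hT : IsRelPrime
      (MvPolynomial.aeval (Fin.cons (MvPolynomial.X 0) (Fin.cons (MvPolynomial.X 1)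
        (Fin.cons 0 Fin.elim0)) : Fin 3 → MvPolynomial (Fin 2) k) f)
      (MvPolynomial.aeval (Fin.cons (MvPolynomial.X 0) (Fin.cons (MvPolynomial.X 1)
        (Fin.cons 0 Fin.elim0)) : Fin 3 → MvPolynomial (Fin 2) k) g)) :
    Module.finrank k (MvPolynomial (Fin 2) k ⧸ Ideal.span
      ({MvPolynomial.aeval (Fin.cons (MvPolynomial.X 0) (Fin.cons (MvPolynomial.X 1)
          (Fin.cons 1 Fin.elim0)) : Fin 3 → MvPolynomial (Fin 2) k) f,
        MvPolynomial.aeval (Fin.cons (MvPolynomial.X 0) (Fin.cons (MvPolynomial.X 1)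
          (Fin.cons 1 Fin.elim0)) : Fin 3 → MvPolynomial (Fin 2) k) g} :
        Set (MvPolynomial (Fin 2) k))) = n * m := by
  have e1 : (Fin.cons (MvPolynomial.X 0) (Fin.cons (MvPolynomial.X 1)
      (Fin.cons 1 Fin.elim0)) : Fin 3 → MvPolynomial (Fin 2) k) = vec k 1 := by
    unfold vec
    rw [map_one]
  have e0 : (Fin.cons (MvPolynomial.X 0) (Fin.cons (MvPolynomial.X 1)
      (Fin.cons 0 Fin.elim0)) : Fin 3 → MvPolynomial (Fin 2) k) = vec k 0 := by
    unfold vec
    rw [map_zero]
  rw [e0] at hT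
  rw [e1]
  exact finrank_dehom k n m f g hf hg hn hm hf0 hfg hT

end Main

end Groth.Agent.Lib.Helper87.BezAff
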