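import Groth.Agent.Lib.Helper87.HilbFn4

/-!
# Krull dimension of `k[X]/I` is one more than the degree of the Hilbert polynomial: the theorem (helper87)
-/

set_option autoImplicit false
universe u

namespace Groth.Agent.Lib.Helper87

open DirectSum Polynomial

section Main

variable (k : Type u) [Field k] (n : ℕ)

theorem ringKrullDim_quotient_eq_natDegree_add_one
    (I : Ideal (MvPolynomial (Fin (n + 1)) k)) (hIh : I.IsHomogeneous (CohB1.polyGrading n k))
    (P : ℚ[X]) (hP0 : P ≠ 0)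
    (hP : ∃ m₀ : ℕ, ∀ m : ℕ, m₀ ≤ m → P.eval (m : ℚ) =
      (Module.finrank k ↥(CohB1.polyGrading n k m) : ℚ) -
        Module.finrank k ↥(Submodule.restrictScalars k I ⊓ CohB1.polyGrading n k m)) :
    ringKrullDim (MvPolynomial (Fin (n + 1)) k ⧸ I) = (P.natDegree : WithBot ℕ∞) + 1 := by
  classical
  obtain ⟨m₀, hm₀⟩ := hP
  have hPH : ∀ m : ℕ, m₀ ≤ m → P.eval (m : ℚ) = (hilbFn k n I m : ℚ) := fun m hm => by
    rw [hm₀ m hm, hilbFn_cast]
  -- `P` vanishes if the Hilbert function is eventually zero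
  have hPzero : (∃ m₁ : ℕ, ∀ m : ℕ, m₁ ≤ m → hilbFn k n I m = 0) → False := by
    rintro ⟨m₁, hm₁⟩
    apply hP0
    apply eq_of_eval_natCast_eq P 0 (max m₀ m₁)
    intro m hm
    rw [hPH m (le_trans (le_max_left _ _) hm), eval_zero, hm₁ m (le_trans (le_max_right _ _) hm)]
    simp
  have hItop : I ≠ ⊤ := by
    rintro rfl
    apply hPzero
    refine ⟨0, fun m _ => hilbFn_eq_zero_of_le k n ⊤ m (fun x _ => ?_)⟩
    exact Submodule.mem_top
  haveI : Nontrivial (MvPolynomial (Fin (n + 1)) k ⧸ I) := Ideal.Quotient.nontrivial_iff.mpr hItop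
  -- the dimension is a natural number
  obtain ⟨r, hr⟩ : ∃ r : ℕ, ringKrullDim (MvPolynomial (Fin (n + 1)) k ⧸ I) = (r : WithBot ℕ∞) := by
    apply exists_nat_eq_of_le _ ringKrullDim_nonneg_of_nontrivial (n + 1)
    refine (ringKrullDim_quotient_le I).trans ?_
    rw [MvPolynomial.ringKrullDim_of_isNoetherianRing, ringKrullDim_eq_zero_of_field, zero_add,
      Nat.card_eq_fintype_card, Fintype.card_fin]
  have hpos := stdGr_hpos k n
  have h0 := stdGr_h0 k n
  have hI := decompose_stdGr_mem k n I hIh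
  -- a system of parameters
  obtain ⟨s, hscard, hsdeg, hsdim⟩ :=
    exists_finset_dim_zero_rel' (GrSyz.stdGr k (Fin (n + 1))) hpos h0 I r hr
  have hsdeg' : ∀ x ∈ s, ∃ d : ℕ, 0 < d ∧ x ∈ CohB1.polyGrading n k d := by
    intro x hx
    obtain ⟨z, hz, hxz⟩ := hsdeg x hx
    refine ⟨z.toNat, by omega, ?_⟩
    rw [← stdGr_natCast, Int.toNat_of_nonneg hz.le]
    exact hxz
  haveI : Algebra.FiniteType k (MvPolynomial (Fin (n + 1)) k ⧸
      (I ⊔ Ideal.span (s : Set (MvPolynomial (Fin (n + 1)) k)))) :=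
    Algebra.FiniteType.of_surjective (Ideal.Quotient.mkₐ k _) (Ideal.Quotient.mkₐ_surjective k _)
  have hfin : Module.Finite k (MvPolynomial (Fin (n + 1)) k ⧸
      (I ⊔ Ideal.span (s : Set (MvPolynomial (Fin (n + 1)) k)))) := by
    rw [Module.finite_iff_krullDimLE_zero, Ring.krullDimLE_iff]
    exact_mod_cast hsdim
  have hsne : s.Nonempty := by
    rw [Finset.nonempty_iff_ne_empty]
    rintro rfl
    apply hPzero
    rw [Finset.coe_empty, Ideal.span_empty, sup_bot_eq] at hfin
    haveI := hfin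
    exact hilbFn_eventually_zero k n I hIh
  have hscard1 : 1 ≤ s.card := Finset.card_pos.mpr hsne
  obtain ⟨r', rfl⟩ : ∃ r', r = r' + 1 := ⟨r - 1, by omega⟩
  -- the leading coefficient of `P` is positive
  have hlcP : 0 ≤ P.leadingCoeff := by
    apply leadingCoeff_nonneg_of_eventually_nonneg
    refine ⟨m₀, fun m hm => ?_⟩
    rw [hPH m hm]
    exact Nat.cast_nonneg _
  have hlcP' : 0 < P.leadingCoeff := lt_of_le_of_ne hlcP (Ne.symm (leadingCoeff_ne_zero.mpr hP0))
  -- upper bound
  obtain ⟨C₀, hC₀⟩ := hilbFn_le_pow k n I hIh s hsne hsdeg' hfin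
  have hub : P.natDegree ≤ r' := by
    by_contra hcon
    push Not at hcon
    set U : ℚ[X] := C (C₀ : ℚ) * (X + C 1) ^ r' with hU
    have hUdeg : U.natDegree ≤ r' := by
      refine (natDegree_C_mul_le _ _).trans ((natDegree_pow_le).trans ?_)
      rw [natDegree_X_add_C, mul_one]
    have hdeg : U.degree < P.degree := degree_lt_degree (lt_of_le_of_lt hUdeg hcon)
    have hlc : (U - P).leadingCoeff = -P.leadingCoeff := leadingCoeff_sub_of_degree_lt' hdeg
    have hnn : 0 ≤ (U - P).leadingCoeff := by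
      apply leadingCoeff_nonneg_of_eventually_nonneg
      refine ⟨m₀, fun m hm => ?_⟩
      rw [eval_sub, hPH m hm, hU, eval_mul, eval_C, eval_pow, eval_add, eval_X, eval_C]
      have h1 := hC₀ m
      have h2 : (m + 1) ^ (s.card - 1) ≤ (m + 1) ^ r' :=
        Nat.pow_le_pow_right (by omega) (by omega)
      have h3 : hilbFn k n I m ≤ C₀ * (m + 1) ^ r' := h1.trans (Nat.mul_le_mul_left _ h2)
      have h4 : (hilbFn k n I m : ℚ) ≤ ((C₀ * (m + 1) ^ r' : ℕ) : ℚ) := by exact_mod_cast h3
      push_cast at h4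
      linarith
    rw [hlc] at hnn
    linarith
  -- lower bound
  obtain ⟨D₀, hD₀, hD⟩ :=
    exists_homogeneous_noether_rel (GrSyz.stdGr k (Fin (n + 1))) hpos h0 I hI (r' + 1) hr
  obtain ⟨y, hy, hyind, -⟩ := hD D₀ hD₀ dvd_rfl
  have hy' : ∀ i, y i ∈ CohB1.polyGrading n k D₀ := by
    intro i
    rw [← stdGr_natCast]
    exact hy i
  have hlb : r' ≤ P.natDegree := by
    by_contra hcon
    push Not at hcon
    have hr'pos : 0 < r' := by omega
    set c : ℕ := D₀ * r' with hc
    have hcpos : 0 < c := Nat.mul_pos hD₀ hr'pos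
    set Q : ℚ[X] := P.comp (C (c : ℚ) * X) with hQ
    set V : ℚ[X] := (X + C 1) ^ r' with hV
    have hQdeg : Q.natDegree = P.natDegree := by
      rw [hQ, natDegree_comp, natDegree_C_mul_X _ (by exact_mod_cast hcpos.ne'), mul_one]
    have hVdeg : V.natDegree = r' := by
      rw [hV, natDegree_pow, natDegree_X_add_C, mul_one]
    have hVlc : V.leadingCoeff = 1 := by
      rw [hV, leadingCoeff_pow, leadingCoeff_X_add_C, one_pow]
    have hdeg : Q.degree < V.degree := degree_lt_degree (by rw [hQdeg, hVdeg]; exact hcon)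
    have hlc : (Q - V).leadingCoeff = -V.leadingCoeff := leadingCoeff_sub_of_degree_lt' hdeg
    have hnn : 0 ≤ (Q - V).leadingCoeff := by
      apply leadingCoeff_nonneg_of_eventually_nonneg
      refine ⟨m₀, fun u hu => ?_⟩
      have hcu : m₀ ≤ c * u := le_trans hu (Nat.le_mul_of_pos_left u hcpos)
      have h1 := hPH (c * u) hcu
      have h2 := pow_le_hilbFn k n I r' D₀ y hy' hyind u
      have h3 : D₀ * (r' * u) = c * u := by rw [hc, mul_assoc]
      rw [h3] at h2
      have h4 : (((u + 1) ^ r' : ℕ) : ℚ) ≤ (hilbFn k n I (c * u) : ℚ) := by exact_mod_cast h2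
      rw [eval_sub, hQ, eval_comp, eval_mul, eval_C, eval_X, hV, eval_pow, eval_add, eval_X, eval_C]
      push_cast at h1 h4
      rw [h1]
      linarith
    rw [hlc, hVlc] at hnn
    linarith
  have hdegP : P.natDegree = r' := le_antisymm hub hlb
  rw [hr, hdegP]
  push_cast
  rfl

end Main

end Groth.Agent.Lib.Helper87
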