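import Groth.Agent.Lib.Helper87.HilbHyp2

/-!
# Hilbert polynomial of a hypersurface section (helper87)
-/

set_option autoImplicit false
universe u

namespace Groth.Agent.Lib.Helper87

open Polynomial

theorem hilbertPolynomial_hypersurfaceSection (k : Type u) [Field k] (n : ℕ)
    (I : Ideal (MvPolynomial (Fin (n + 1)) k)) (hIh : I.IsHomogeneous (CohB1.polyGrading n k))
    [I.IsPrime]
    (f : MvPolynomial (Fin (n + 1)) k) (d : ℕ) (hd : 0 < d) (hf : f.IsHomogeneous d) (hfI : f ∉ I)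
    (P Q : ℚ[X])
    (hP : ∃ m₀ : ℕ, ∀ m : ℕ, m₀ ≤ m → P.eval (m : ℚ) =
      (Module.finrank k ↥(CohB1.polyGrading n k m) : ℚ) -
        Module.finrank k ↥(Submodule.restrictScalars k I ⊓ CohB1.polyGrading n k m))
    (hQ : ∃ m₀ : ℕ, ∀ m : ℕ, m₀ ≤ m → Q.eval (m : ℚ) =
      (Module.finrank k ↥(CohB1.polyGrading n k m) : ℚ) -
        Module.finrank k ↥(Submodule.restrictScalars k (I ⊔ Ideal.span {f}) ⊓ CohB1.polyGrading n k m))
    (hdim : 1 ≤ P.natDegree) :
    Q.natDegree + 1 = P.natDegree ∧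
      (Q.natDegree.factorial : ℚ) * Q.leadingCoeff =
        d * ((P.natDegree.factorial : ℚ) * P.leadingCoeff) := by
  obtain ⟨m₁, hm₁⟩ := hP
  obtain ⟨m₂, hm₂⟩ := hQ
  have hQeq : Q = P - taylor (-(d : ℚ)) P := by
    apply eq_of_eval_natCast_eq Q _ (max m₁ m₂ + d)
    intro m hm
    have hmd : d ≤ m := by omega
    have h1 := hm₁ m (by omega)
    have h2 := hm₂ m (by omega)
    have h3 := hm₁ (m - d) (by omega)
    have h4 := finrank_sup_span_inf k n I hIh f d hf hfI m hmd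
    have h4' : (Module.finrank k ↥(Submodule.restrictScalars k (I ⊔ Ideal.span {f}) ⊓
        CohB1.polyGrading n k m) : ℚ) +
        Module.finrank k ↥(Submodule.restrictScalars k I ⊓ CohB1.polyGrading n k (m - d)) =
        (Module.finrank k ↥(Submodule.restrictScalars k I ⊓ CohB1.polyGrading n k m) : ℚ) +
        Module.finrank k ↥(CohB1.polyGrading n k (m - d)) := by exact_mod_cast h4
    rw [eval_sub, taylor_eval, h2, h1]
    have h5 : ((m : ℚ) + -(d : ℚ)) = ((m - d : ℕ) : ℚ) := by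
      rw [Nat.cast_sub hmd]; ring
    rw [h5, h3]
    linarith
  have hd0 : (d : ℚ) ≠ 0 := by
    have : (0 : ℚ) < d := by exact_mod_cast hd
    exact this.ne'
  obtain ⟨h1, h2⟩ := natDegree_sub_taylor P (d : ℚ) hd0 hdim
  rw [← hQeq] at h1 h2
  refine ⟨h1, ?_⟩
  rw [h2, ← h1, Nat.factorial_succ]
  push_cast
  ring

end Groth.Agent.Lib.Helper87
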