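import Groth.Agent.Lib.Helper87.HilbAdd7
import Groth.Agent.Lib.Helper87.HilbFn5
import Groth.Agent.Lib.Helper87.HilbHyp3
import Groth.Agent.Lib.Helper55.Catenary

/-!
# Bézout's theorem for a hypersurface section of a projective variety (helper87)
-/

set_option autoImplicit false
universe u

namespace Groth.Agent.Lib.Helper87

open DirectSum Polynomial

section Bez

variable (k : Type u) [Field k] (n : ℕ)

theorem statement_of_HP (I : Ideal (MvPolynomial (Fin (n + 1)) k)) (P : ℚ[X]) (hP : HP k n I P) :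
    ∃ m₀ : ℕ, ∀ m : ℕ, m₀ ≤ m → P.eval (m : ℚ) =
      (Module.finrank k ↥(CohB1.polyGrading n k m) : ℚ) -
        Module.finrank k ↥(Submodule.restrictScalars k I ⊓ CohB1.polyGrading n k m) := by
  obtain ⟨m₀, hm₀⟩ := hP
  exact ⟨m₀, fun m hm => by rw [hm₀ m hm, hilbFn_cast]⟩

/-- the Hilbert polynomial of a hypersurface section of a variety -/
theorem HP_sup_span (I : Ideal (MvPolynomial (Fin (n + 1)) k))
    (hIh : I.IsHomogeneous (CohB1.polyGrading n k)) [I.IsPrime]
    (f : MvPolynomial (Fin (n + 1)) k) (d : ℕ) (hf : f.IsHomogeneous d) (hfI : f ∉ I)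
    (P : ℚ[X]) (hP : HP k n I P) :
    HP k n (I ⊔ Ideal.span {f}) (P - taylor (-(d : ℚ)) P) := by
  obtain ⟨m₀, hm₀⟩ := hP
  refine ⟨m₀ + d, fun m hm => ?_⟩
  have hdm : d ≤ m := by omega
  have h1 := finrank_sup_span_inf k n I hIh f d hf hfI m hdm
  have h2 := finrank_inf_le k n I m
  have h3 := finrank_inf_le k n (I ⊔ Ideal.span {f}) m
  have h4 := finrank_inf_le k n I (m - d)
  have h5 : hilbFn k n (I ⊔ Ideal.span {f}) m + hilbFn k n I (m - d) = hilbFn k n I m := by
    unfold hilbFn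
    omega
  have h7 := hm₀ m (by omega)
  have h8 := hm₀ (m - d) (by omega)
  rw [eval_sub, eval_taylor_neg_natCast P d m hdm, h7, h8]
  have h10 : (hilbFn k n (I ⊔ Ideal.span {f}) m : ℚ) + (hilbFn k n I (m - d) : ℚ) =
      (hilbFn k n I m : ℚ) := by exact_mod_cast h5
  linarith

/-- every component of a hypersurface section of a projective variety has codimension one:
in terms of Hilbert polynomials -/
theorem natDegree_add_one_ge_of_mem_minimalPrimes (I : Ideal (MvPolynomial (Fin (n + 1)) k))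
    (hIh : I.IsHomogeneous (CohB1.polyGrading n k)) [hIprime : I.IsPrime]
    (f : MvPolynomial (Fin (n + 1)) k) (d : ℕ) (hf : f.IsHomogeneous d)
    (P : ℚ[X]) (hP : HP k n I P) (hP0 : P ≠ 0)
    (q : Ideal (MvPolynomial (Fin (n + 1)) k)) (hq : q ∈ (I ⊔ Ideal.span {f}).minimalPrimes)
    (Q : ℚ[X]) (hQ : HP k n q Q) (hQ0 : Q ≠ 0) :
    P.natDegree ≤ Q.natDegree + 1 := by
  haveI hqprime : q.IsPrime := hq.1.1
  have hI'h : (I ⊔ Ideal.span {f}).IsHomogeneous (CohB1.polyGrading n k) := by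
    refine hIh.sup (Ideal.homogeneous_span _ _ ?_)
    intro z hz
    rw [Set.mem_singleton_iff] at hz
    rw [hz]
    exact ⟨d, (MvPolynomial.mem_homogeneousSubmodule _ _).mpr hf⟩
  have hqh : q.IsHomogeneous (CohB1.polyGrading n k) :=
    isHomogeneous_of_mem_minimalPrimes k n hI'h hq
  have hIq : I ≤ q := le_sup_left.trans hq.1.2
  have hdimq := ringKrullDim_quotient_eq_natDegree_add_one k n q hqh Q hQ0
    (statement_of_HP k n q Q hQ)
  have hdimI := ringKrullDim_quotient_eq_natDegree_add_one k n I hIh P hP0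
    (statement_of_HP k n I P hP)
  -- pass to the domain `S = A / I`
  haveI : IsDomain (MvPolynomial (Fin (n + 1)) k ⧸ I) := Ideal.Quotient.isDomain I
  haveI : Algebra.FiniteType k (MvPolynomial (Fin (n + 1)) k ⧸ I) :=
    Algebra.FiniteType.of_surjective (Ideal.Quotient.mkₐ k I) (Ideal.Quotient.mkₐ_surjective k I)
  haveI : IsNoetherianRing (MvPolynomial (Fin (n + 1)) k ⧸ I) :=
    Algebra.FiniteType.isNoetherianRing k _
  have hsurj : Function.Surjective (Ideal.Quotient.mk I) := Ideal.Quotient.mk_surjective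
  set q' : Ideal (MvPolynomial (Fin (n + 1)) k ⧸ I) := q.map (Ideal.Quotient.mk I) with hq'
  haveI hq'prime : q'.IsPrime :=
    Ideal.map_isPrime_of_surjective hsurj (by rw [Ideal.mk_ker]; exact hIq)
  have hmin : q' ∈ (Ideal.span {Ideal.Quotient.mk I f}).minimalPrimes := by
    have h1 := Ideal.minimalPrimes_map_of_surjective hsurj (Ideal.span {f})
    rw [Ideal.map_span, Set.image_singleton, Ideal.mk_ker, sup_comm] at h1
    rw [h1]
    exact ⟨q, hq, rfl⟩
  have hht : q'.height ≤ 1 :=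
    Ideal.height_le_one_of_isPrincipal_of_mem_minimalPrimes _ q' hmin
  have hformula := Groth.Agent.Lib.Helper55.ringKrullDim_quotient_add_height k
    (MvPolynomial (Fin (n + 1)) k ⧸ I) q'
  have hiso : ringKrullDim ((MvPolynomial (Fin (n + 1)) k ⧸ I) ⧸ q') =
      ringKrullDim (MvPolynomial (Fin (n + 1)) k ⧸ q) :=
    ringKrullDim_eq_of_ringEquiv (DoubleQuot.quotQuotEquivQuotOfLE hIq)
  rw [hiso, hdimq, hdimI] at hformula
  have h1 : ((q'.height : ℕ∞) : WithBot ℕ∞) ≤ ((1 : ℕ∞) : WithBot ℕ∞) := WithBot.coe_le_coe.mpr hht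
  have h2 : ((P.natDegree + 1 : ℕ) : WithBot ℕ∞) ≤ ((Q.natDegree + 1 + 1 : ℕ) : WithBot ℕ∞) := by
    calc ((P.natDegree + 1 : ℕ) : WithBot ℕ∞) = (P.natDegree : WithBot ℕ∞) + 1 := by
          push_cast; rfl
      _ = (Q.natDegree : WithBot ℕ∞) + 1 + (q'.height : WithBot ℕ∞) := hformula.symm
      _ ≤ (Q.natDegree : WithBot ℕ∞) + 1 + ((1 : ℕ∞) : WithBot ℕ∞) := add_le_add le_rfl h1
      _ = ((Q.natDegree + 1 + 1 : ℕ) : WithBot ℕ∞) := by push_cast; rfl
  have h3 : P.natDegree + 1 ≤ Q.natDegree + 1 + 1 := by exact_mod_cast h2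
  omega

end Bez

end Groth.Agent.Lib.Helper87
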