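import Groth.Agent.Lib.Helper87.Bezout1

/-!
# Bézout's theorem for a hypersurface section of a projective variety: the theorem (helper87)
-/

set_option autoImplicit false
universe u

namespace Groth.Agent.Lib.Helper87

open DirectSum Polynomial

section Bez

variable (k : Type u) [Field k] (n : ℕ)

theorem bezout_hypersurface
    (I : Ideal (MvPolynomial (Fin (n + 1)) k)) (hIh : I.IsHomogeneous (CohB1.polyGrading n k))
    [I.IsPrime]
    (f : MvPolynomial (Fin (n + 1)) k) (d : ℕ) (hd : 0 < d) (hf : f.IsHomogeneous d) (hfI : f ∉ I)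
    (P : ℚ[X])
    (hP : ∃ m₀ : ℕ, ∀ m : ℕ, m₀ ≤ m → P.eval (m : ℚ) =
      (Module.finrank k ↥(CohB1.polyGrading n k m) : ℚ) -
        Module.finrank k ↥(Submodule.restrictScalars k I ⊓ CohB1.polyGrading n k m))
    (hdim : 1 ≤ P.natDegree)
    (r : ℕ) (p : Fin r → Ideal (MvPolynomial (Fin (n + 1)) k)) [hp : ∀ i, (p i).IsPrime]
    (hpinj : Function.Injective p)
    (hpmin : ∀ q : Ideal (MvPolynomial (Fin (n + 1)) k),
      q ∈ (I ⊔ Ideal.span {f}).minimalPrimes ↔ ∃ i, q = p i)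
    (Qp : Fin r → ℚ[X])
    (hQp : ∀ i, ∃ m₀ : ℕ, ∀ m : ℕ, m₀ ≤ m → (Qp i).eval (m : ℚ) =
      (Module.finrank k ↥(CohB1.polyGrading n k m) : ℚ) -
        Module.finrank k ↥(Submodule.restrictScalars k (p i) ⊓ CohB1.polyGrading n k m)) :
    (d : ℚ) * ((P.natDegree.factorial : ℚ) * P.leadingCoeff) =
      ∑ i : Fin r, ((Qp i).natDegree.factorial : ℚ) * (Qp i).leadingCoeff *
        (Module.length (Localization.AtPrime (p i))
          (LocalizedModule (p i).primeCompl
            (MvPolynomial (Fin (n + 1)) k ⧸ (I ⊔ Ideal.span {f})))).toNat := by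
  have hP' : HP k n I P := HP_of_statement k n I P hP
  have hQp' : ∀ i, HP k n (p i) (Qp i) := fun i => HP_of_statement k n (p i) (Qp i) (hQp i)
  have hP0 : P ≠ 0 := by
    rintro rfl
    simp at hdim
  have hI'h : (I ⊔ Ideal.span {f}).IsHomogeneous (CohB1.polyGrading n k) := by
    refine hIh.sup (Ideal.homogeneous_span _ _ ?_)
    intro z hz
    rw [Set.mem_singleton_iff] at hz
    rw [hz]
    exact ⟨d, (MvPolynomial.mem_homogeneousSubmodule _ _).mpr hf⟩
  have hHP' := HP_sup_span k n I hIh f d hf hfI P hP'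
  have hd0 : (d : ℚ) ≠ 0 := by exact_mod_cast hd.ne'
  obtain ⟨hdeg', hlc'⟩ := natDegree_sub_taylor P (d : ℚ) hd0 hdim
  have hmain := degree_eq_sum_mult_degree k n (I ⊔ Ideal.span {f}) hI'h
    (P - taylor (-(d : ℚ)) P) (statement_of_HP k n _ _ hHP') r p hpinj hpmin Qp hQp
  have hlhs : (d : ℚ) * ((P.natDegree.factorial : ℚ) * P.leadingCoeff) =
      ((P - taylor (-(d : ℚ)) P).natDegree.factorial : ℚ) *
        (P - taylor (-(d : ℚ)) P).leadingCoeff := by
    rw [hlc', ← hdeg', Nat.factorial_succ]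
    push_cast
    ring
  rw [hlhs, hmain]
  refine Finset.sum_congr rfl fun i _ => ?_
  by_cases hc : (Qp i).natDegree = (P - taylor (-(d : ℚ)) P).natDegree
  · rw [if_pos hc]
  · rw [if_neg hc]
    by_cases hQ0 : Qp i = 0
    · rw [hQ0, leadingCoeff_zero, mul_zero, zero_mul]
    · exfalso
      apply hc
      have hle : (Qp i).natDegree ≤ (P - taylor (-(d : ℚ)) P).natDegree :=
        HP.natDegree_le k n hHP' (hQp' i) ((hpmin (p i)).mpr ⟨i, rfl⟩).1.2
      have hge := natDegree_add_one_ge_of_mem_minimalPrimes k n I hIh f d hf P hP' hP0 (p i)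
        ((hpmin (p i)).mpr ⟨i, rfl⟩) (Qp i) (hQp' i) hQ0
      omega

end Bez

end Groth.Agent.Lib.Helper87
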