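import Groth.Agent.Lib.Helper87.HilbAdd5

/-!
# Hilbert functions of homogeneous complete intersections: the iteration (helper87)
-/

set_option autoImplicit false
universe u

namespace Groth.Agent.Lib.Helper87

open DirectSum Polynomial

section Binom

/-- the polynomial `C(X + n, n)` -/
noncomputable def binomP (n : ℕ) : ℚ[X] :=
  C ((n.factorial : ℚ)⁻¹) * ∏ j ∈ Finset.range n, (X + C ((j : ℚ) + 1))

theorem binomP_eval (n m : ℕ) : (binomP n).eval (m : ℚ) = ((n + m).choose n : ℚ) := by
  unfold binomP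
  rw [eval_mul, eval_C, eval_prod]
  simp only [eval_add, eval_X, eval_C]
  have h1 : ∏ j ∈ Finset.range n, ((m : ℚ) + ((j : ℚ) + 1)) =
      (((m + 1).ascFactorial n : ℕ) : ℚ) := by
    rw [Nat.ascFactorial_eq_prod_range]
    push_cast
    refine Finset.prod_congr rfl fun j _ => ?_
    ring
  rw [h1, Nat.ascFactorial_eq_factorial_mul_choose]
  have hr : (n.factorial : ℚ) ≠ 0 := by exact_mod_cast n.factorial_ne_zero
  push_cast
  rw [← mul_assoc, inv_mul_cancel₀ hr, one_mul, add_comm]

theorem prod_monic (n : ℕ) : (∏ j ∈ Finset.range n, (X + C ((j : ℚ) + 1))).Monic :=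
  monic_prod_of_monic _ _ fun j _ => monic_X_add_C _

theorem binomP_natDegree (n : ℕ) : (binomP n).natDegree = n := by
  unfold binomP
  have hr : (n.factorial : ℚ)⁻¹ ≠ 0 := inv_ne_zero (by exact_mod_cast n.factorial_ne_zero)
  rw [natDegree_C_mul hr, natDegree_prod_of_monic _ _ (fun j _ => monic_X_add_C _)]
  have h1 : ∀ j ∈ Finset.range n, (X + C ((j : ℚ) + 1)).natDegree = 1 :=
    fun j _ => natDegree_X_add_C _
  rw [Finset.sum_congr rfl h1]
  simp

theorem binomP_leadingCoeff (n : ℕ) : (binomP n).leadingCoeff = (n.factorial : ℚ)⁻¹ := by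
  unfold binomP
  rw [leadingCoeff_mul, leadingCoeff_C, (prod_monic n).leadingCoeff, mul_one]

end Binom

section Iter

variable (k : Type u) [Field k] (n : ℕ)

theorem finrank_polyGrading (m : ℕ) :
    Module.finrank k ↥(CohB1.polyGrading n k m) = (n + m).choose n := by
  have h := Groth.Agent.Lib.Helper66.GrHilb.finrank_stdGr_of_nonneg k n (m : ℤ) (by positivity)
  rw [Int.toNat_natCast] at h
  rw [← h]
  exact (LinearEquiv.ofEq _ _ (stdGr_natCast k n m)).finrank_eq.symm

theorem HP_bot : HP k n ⊥ (binomP n) := by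
  refine ⟨0, fun m _ => ?_⟩
  rw [binomP_eval]
  have h1 : Submodule.restrictScalars k (⊥ : Ideal (MvPolynomial (Fin (n + 1)) k)) ⊓
      CohB1.polyGrading n k m = ⊥ := by
    rw [eq_bot_iff]
    rintro x ⟨hx, _⟩
    exact hx
  unfold hilbFn
  rw [h1, finrank_bot, Nat.sub_zero, finrank_polyGrading]

/-- one step of the iteration: adding a non-zero-divisor -/
theorem HP_step (J : Ideal (MvPolynomial (Fin (n + 1)) k))
    (hJ : J.IsHomogeneous (CohB1.polyGrading n k))
    (x : MvPolynomial (Fin (n + 1)) k) (e : ℕ) (hx : x ∈ CohB1.polyGrading n k e) (hx0 : x ≠ 0)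
    (hnzd : ∀ g, g * x ∈ J → g ∈ J) (P : ℚ[X]) (hP : HP k n J P) :
    HP k n (J ⊔ Ideal.span {x}) (P - taylor (-(e : ℚ)) P) := by
  have hcolon : colonElt J x = J := le_antisymm (fun g hg => hnzd g hg) (le_colonElt J x)
  obtain ⟨m₀, hm₀⟩ := hP
  refine ⟨m₀ + e, fun m hm => ?_⟩
  have hem : e ≤ m := by omega
  have h1 := hilbFn_eq_add_colon k n J hJ x e hx hx0 m
  rw [hcolon] at h1
  unfold shiftFn at h1
  rw [if_pos hem] at h1
  have h7 := hm₀ m (by omega)
  have h8 := hm₀ (m - e) (by omega)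
  rw [eval_sub, eval_taylor_neg_natCast P e m hem, h7, h8, h1]
  push_cast
  ring

theorem hilbFn_top_eq_zero (m : ℕ) : hilbFn k n ⊤ m = 0 :=
  hilbFn_eq_zero_of_le k n ⊤ m (fun _ _ => Submodule.mem_top)

/-- the Hilbert polynomial of a homogeneous regular sequence -/
theorem exists_HP_ofList (fs : List (MvPolynomial (Fin (n + 1)) k)) (ds : List ℕ)
    (hlen : fs.length = ds.length)
    (hhom : ∀ i (h : i < fs.length), fs[i] ∈ CohB1.polyGrading n k (ds[i]'(hlen ▸ h)))
    (hpos : ∀ d ∈ ds, 0 < d)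
    (hnzd : ∀ i (h : i < fs.length), ∀ g, g * fs[i] ∈ Ideal.ofList (fs.take i) →
      g ∈ Ideal.ofList (fs.take i)) :
    ∀ j, j ≤ fs.length → j ≤ n →
      ∃ P : ℚ[X], HP k n (Ideal.ofList (fs.take j)) P ∧
        (Ideal.ofList (fs.take j)).IsHomogeneous (CohB1.polyGrading n k) ∧
        P.natDegree = n - j ∧
        ((n - j).factorial : ℚ) * P.leadingCoeff = ((ds.take j).prod : ℕ) := by
  intro j
  induction j with
  | zero =>
    intro _ _
    refine ⟨binomP n, ?_, ?_, ?_, ?_⟩
    · rw [List.take_zero, Ideal.ofList_nil]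
      exact HP_bot k n
    · rw [List.take_zero, Ideal.ofList_nil]
      exact Ideal.IsHomogeneous.bot _
    · rw [binomP_natDegree, Nat.sub_zero]
    · rw [binomP_leadingCoeff, Nat.sub_zero, List.take_zero, List.prod_nil]
      have hr : (n.factorial : ℚ) ≠ 0 := by exact_mod_cast n.factorial_ne_zero
      rw [mul_inv_cancel₀ hr]
      simp
  | succ j ih =>
    intro hj hjn
    have hj' : j < fs.length := by omega
    obtain ⟨P, hP, hJhom, hdeg, hlc⟩ := ih (by omega) (by omega)
    have hjd : j < ds.length := hlen ▸ hj'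
    have hdpos : 0 < ds[j] := hpos _ (List.getElem_mem hjd)
    have hprodpos : 0 < (ds.take j).prod := by
      apply List.prod_pos
      intro d hd
      exact hpos d (List.mem_of_mem_take hd)
    have hP0 : P ≠ 0 := by
      rintro rfl
      rw [leadingCoeff_zero, mul_zero] at hlc
      have : ((ds.take j).prod : ℚ) = 0 := by exact_mod_cast hlc.symm
      have h2 : (ds.take j).prod = 0 := by exact_mod_cast this
      omega
    have hJtop : Ideal.ofList (fs.take j) ≠ ⊤ := by
      intro htop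
      apply hP0
      obtain ⟨m₀, hm₀⟩ := hP
      apply eq_of_eval_natCast_eq P 0 m₀
      intro m hm
      rw [hm₀ m hm, htop, hilbFn_top_eq_zero, eval_zero]
      simp
    have hx0 : fs[j] ≠ 0 := by
      intro h0
      apply hJtop
      rw [Ideal.eq_top_iff_one]
      apply hnzd j hj' 1
      rw [h0, mul_zero]
      exact Ideal.zero_mem _
    have htake : fs.take (j + 1) = fs.take j ++ [fs[j]] := List.take_succ_eq_append_getElem hj'
    have hideal : Ideal.ofList (fs.take (j + 1)) = Ideal.ofList (fs.take j) ⊔ Ideal.span {fs[j]} := by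
      rw [htake, Ideal.ofList_append, Ideal.ofList_singleton]
    have hnat : 1 ≤ P.natDegree := by omega
    have hd0 : ((ds[j] : ℕ) : ℚ) ≠ 0 := by exact_mod_cast hdpos.ne'
    obtain ⟨hdeg', hlc'⟩ := natDegree_sub_taylor P ((ds[j] : ℕ) : ℚ) hd0 hnat
    refine ⟨P - taylor (-((ds[j] : ℕ) : ℚ)) P, ?_, ?_, ?_, ?_⟩
    · rw [hideal]
      exact HP_step k n _ hJhom fs[j] ds[j] (hhom j hj') hx0 (hnzd j hj') P hP
    · rw [hideal]
      refine hJhom.sup (Ideal.homogeneous_span _ _ ?_)
      intro z hz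
      rw [Set.mem_singleton_iff] at hz
      rw [hz]
      exact ⟨ds[j], hhom j hj'⟩
    · omega
    · rw [hlc', List.prod_take_succ _ _ hjd]
      have h1 : n - j = (n - (j + 1)) + 1 := by omega
      have h2 : P.natDegree = (n - (j + 1)) + 1 := by omega
      rw [h1, Nat.factorial_succ] at hlc
      rw [h2]
      push_cast at hlc ⊢
      rw [← hlc]
      ring

end Iter

end Groth.Agent.Lib.Helper87
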