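import Groth.Agent.Lib.Helper87.CIHilb1
import Groth.Agent.Lib.Helper82.CMEquidim

/-!
# Hilbert functions of homogeneous complete intersections: regularity and the theorem (helper87)
-/

set_option autoImplicit false
universe u

namespace Groth.Agent.Lib.Helper87

open DirectSum Polynomial

section Desc

variable (k : Type u) [Field k] (n : ℕ)

theorem constantCoeff_eq_zero_of_mem_polyGrading {x : MvPolynomial (Fin (n + 1)) k} {e : ℕ}
    (hx : x ∈ CohB1.polyGrading n k e) (he : e ≠ 0) : MvPolynomial.constantCoeff x = 0 := by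
  rw [MvPolynomial.constantCoeff_eq]
  apply ((MvPolynomial.mem_homogeneousSubmodule _ _).mp hx).coeff_eq_zero
  rw [map_zero]
  exact he.symm

/-- an element with nonzero constant term is a non-zero-divisor on homogeneous elements modulo a
homogeneous ideal -/
theorem mem_of_mul_mem_homogeneous (J : Ideal (MvPolynomial (Fin (n + 1)) k))
    (hJ : J.IsHomogeneous (CohB1.polyGrading n k)) (g : MvPolynomial (Fin (n + 1)) k) (e : ℕ)
    (hg : g ∈ CohB1.polyGrading n k e) (s : MvPolynomial (Fin (n + 1)) k)
    (hs : MvPolynomial.constantCoeff s ≠ 0) (h : s * g ∈ J) : g ∈ J := by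
  classical
  have h1 := hJ e h
  rw [DirectSum.coe_decompose_mul_of_right_mem_of_le _ hg le_rfl, Nat.sub_self] at h1
  set s₀ : MvPolynomial (Fin (n + 1)) k :=
    ((decompose (CohB1.polyGrading n k) s 0 : ↥(CohB1.polyGrading n k 0)) :
      MvPolynomial (Fin (n + 1)) k) with hs₀
  have hs₀mem : s₀ ∈ CohB1.polyGrading n k 0 := Subtype.mem _
  have h2 : s₀ ∈ (1 : Submodule k (MvPolynomial (Fin (n + 1)) k)) := by
    rw [← MvPolynomial.homogeneousSubmodule_zero]
    exact hs₀mem
  rw [Submodule.mem_one] at h2
  obtain ⟨c, hc⟩ := h2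
  have hc0 : c ≠ 0 := by
    rintro rfl
    rw [map_zero] at hc
    apply hs
    rw [← DirectSum.sum_support_decompose (CohB1.polyGrading n k) s, map_sum]
    apply Finset.sum_eq_zero
    intro i _
    by_cases hi : i = 0
    · subst hi
      change MvPolynomial.constantCoeff s₀ = 0
      rw [← hc, map_zero]
    · exact constantCoeff_eq_zero_of_mem_polyGrading k n (Subtype.mem _) hi
  have h3 : g = MvPolynomial.C c⁻¹ * (s₀ * g) := by
    rw [← hc, ← mul_assoc]
    change g = MvPolynomial.C c⁻¹ * MvPolynomial.C c * g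
    rw [← MvPolynomial.C_mul, inv_mul_cancel₀ hc0, MvPolynomial.C_1, one_mul]
  rw [h3]
  exact J.mul_mem_left _ h1

end Desc

end Groth.Agent.Lib.Helper87
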