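import Groth.Agent.Lib.Helper87.CIHilb2

/-!
# Hilbert functions of homogeneous complete intersections: the theorem (helper87)
-/

set_option autoImplicit false
universe u

namespace Groth.Agent.Lib.Helper87

open DirectSum Polynomial RingTheory.Sequence

section Reg

variable (k : Type u) [Field k] (n : ℕ)

/-- local regularity at the irrelevant ideal gives non-zero-divisors globally, for homogeneous data -/
theorem nzd_of_isWeaklyRegular_localization (𝔪 : Ideal (MvPolynomial (Fin (n + 1)) k))
    [h𝔪 : 𝔪.IsPrime] (h𝔪mem : ∀ s, s ∉ 𝔪 → MvPolynomial.constantCoeff s ≠ 0)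
    (fl : List (MvPolynomial (Fin (n + 1)) k))
    (hhom : ∀ x ∈ fl, ∃ e, x ∈ CohB1.polyGrading n k e)
    (hreg : IsWeaklyRegular (Localization.AtPrime 𝔪)
      (fl.map (algebraMap (MvPolynomial (Fin (n + 1)) k) (Localization.AtPrime 𝔪))))
    (j : ℕ) (hj : j < fl.length) (g : MvPolynomial (Fin (n + 1)) k)
    (hg : g * fl[j] ∈ Ideal.ofList (fl.take j)) : g ∈ Ideal.ofList (fl.take j) := by
  classical
  set J : Ideal (MvPolynomial (Fin (n + 1)) k) := Ideal.ofList (fl.take j) with hJdef
  have hJhom : J.IsHomogeneous (CohB1.polyGrading n k) := by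
    apply Ideal.homogeneous_span
    intro x hx
    obtain ⟨e, he⟩ := hhom x (List.mem_of_mem_take hx)
    exact ⟨e, he⟩
  obtain ⟨e, hxe⟩ := hhom fl[j] (List.getElem_mem hj)
  have hKhom := colonElt_isHomogeneous (CohB1.polyGrading n k) hJhom hxe
  -- it suffices to treat the homogeneous components of `g`
  rw [← DirectSum.sum_support_decompose (CohB1.polyGrading n k) g]
  refine J.sum_mem fun i _ => ?_
  set h : MvPolynomial (Fin (n + 1)) k :=
    ((decompose (CohB1.polyGrading n k) g i : ↥(CohB1.polyGrading n k i)) :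
      MvPolynomial (Fin (n + 1)) k) with hh
  have hhmem : h ∈ CohB1.polyGrading n k i := Subtype.mem _
  have hhK : h * fl[j] ∈ J := hKhom i hg
  -- the local statement
  set φ := algebraMap (MvPolynomial (Fin (n + 1)) k) (Localization.AtPrime 𝔪) with hφ
  have hjlen : j < (fl.map φ).length := by rw [List.length_map]; exact hj
  have hregj := hreg.regular_mod_prev j hjlen
  have htake : (fl.map φ).take j = (fl.take j).map φ := (List.map_take).symm
  have hofList : Ideal.ofList ((fl.map φ).take j) = J.map φ := by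
    rw [htake, hJdef, Ideal.map_ofList]
  have hsmul : (Ideal.ofList ((fl.map φ).take j) • ⊤ : Submodule (Localization.AtPrime 𝔪)
      (Localization.AtPrime 𝔪)) = J.map φ := by
    rw [smul_eq_mul, Ideal.mul_top, hofList]
  have hgetj : (fl.map φ)[j] = φ fl[j] := List.getElem_map φ
  have h0 : (fl.map φ)[j] • (Submodule.Quotient.mk (φ h) :
      Localization.AtPrime 𝔪 ⧸ (Ideal.ofList ((fl.map φ).take j) • ⊤ :
        Submodule (Localization.AtPrime 𝔪) (Localization.AtPrime 𝔪))) = 0 := by
    rw [← Submodule.Quotient.mk_smul, Submodule.Quotient.mk_eq_zero, hsmul, hgetj, smul_eq_mul,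
      ← map_mul, mul_comm]
    exact Ideal.mem_map_of_mem _ hhK
  have h1 := (isSMulRegular_iff_right_eq_zero_of_smul.mp hregj) _ h0
  rw [Submodule.Quotient.mk_eq_zero, hsmul,
    IsLocalization.mem_map_algebraMap_iff 𝔪.primeCompl] at h1
  obtain ⟨⟨a, s⟩, has⟩ := h1
  rw [← map_mul, IsLocalization.eq_iff_exists 𝔪.primeCompl] at has
  obtain ⟨c, hc⟩ := has
  have hcs : (c : MvPolynomial (Fin (n + 1)) k) * s ∉ 𝔪 :=
    fun hmem => (Ideal.IsPrime.mem_or_mem h𝔪 hmem).elim c.2 s.2
  apply mem_of_mul_mem_homogeneous k n J hJhom h i hhmem ((c : MvPolynomial (Fin (n + 1)) k) * s)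
    (h𝔪mem _ hcs)
  have : (c : MvPolynomial (Fin (n + 1)) k) * s * h = c * a := by
    rw [← hc]
    ring
  rw [this]
  exact Ideal.mul_mem_left _ _ a.2

end Reg

end Groth.Agent.Lib.Helper87
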