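import Groth.Agent.Lib.Helper87.CIHilb3

/-!
# Hilbert functions of homogeneous complete intersections of dimension one (helper87)
-/

set_option autoImplicit false
universe u

namespace Groth.Agent.Lib.Helper87

open DirectSum Polynomial RingTheory.Sequence

section CI

variable (k : Type u) [Field k] (n : ℕ)

theorem ofList_ofFn_eq {R : Type*} [CommRing R] {c : ℕ} (f : Fin c → R) :
    Ideal.ofList (List.ofFn f) = Ideal.span (Set.range f) := by
  have : ({x | x ∈ List.ofFn f} : Set R) = Set.range f := by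
    ext x
    simp [List.mem_ofFn']
  rw [← this]

theorem hilbertFunction_ci_eq_prod
    (f : Fin n → MvPolynomial (Fin (n + 1)) k) (d : Fin n → ℕ) (hd : ∀ i, 1 ≤ d i)
    (hf : ∀ i, (f i).IsHomogeneous (d i))
    (hdim : ringKrullDim (MvPolynomial (Fin (n + 1)) k ⧸ Ideal.span (Set.range f)) = 1) :
    ∃ m₀ : ℕ, ∀ m : ℕ, m₀ ≤ m →
      Module.finrank k ↥(MvPolynomial.homogeneousSubmodule (Fin (n + 1)) k m) -
        Module.finrank k ↥((Ideal.span (Set.range f)).restrictScalars k ⊓
          MvPolynomial.homogeneousSubmodule (Fin (n + 1)) k m) =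
      ∏ i : Fin n, d i := by
  classical
  set fl : List (MvPolynomial (Fin (n + 1)) k) := List.ofFn f with hfl
  set dl : List ℕ := List.ofFn d with hdl
  have hfllen : fl.length = n := List.length_ofFn
  have hdllen : dl.length = n := List.length_ofFn
  have hofList : Ideal.ofList fl = Ideal.span (Set.range f) := ofList_ofFn_eq f
  -- the irrelevant ideal
  set 𝔪 : Ideal (MvPolynomial (Fin (n + 1)) k) :=
    RingHom.ker (MvPolynomial.constantCoeff : MvPolynomial (Fin (n + 1)) k →+* k) with h𝔪def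
  haveI h𝔪max : 𝔪.IsMaximal := by
    apply RingHom.ker_isMaximal_of_surjective
    intro c
    exact ⟨MvPolynomial.C c, MvPolynomial.constantCoeff_C _ c⟩
  haveI h𝔪prime : 𝔪.IsPrime := h𝔪max.isPrime
  have h𝔪mem : ∀ s, s ∉ 𝔪 → MvPolynomial.constantCoeff s ≠ 0 := by
    intro s hs h0
    exact hs (RingHom.mem_ker.mpr h0)
  have hfmem : ∀ i, f i ∈ CohB1.polyGrading n k (d i) := fun i =>
    (MvPolynomial.mem_homogeneousSubmodule _ _).mpr (hf i)
  have hfl𝔪 : Ideal.ofList fl ≤ 𝔪 := by
    rw [hofList, Ideal.span_le]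
    rintro _ ⟨i, rfl⟩
    rw [SetLike.mem_coe, h𝔪def, RingHom.mem_ker]
    exact constantCoeff_eq_zero_of_mem_polyGrading k n (hfmem i) (by have := hd i; omega)
  -- Cohen–Macaulayness and regularity
  haveI hRR : IsRegularRing (MvPolynomial (Fin (n + 1)) k) :=
    MvPolynomial.isRegularRing_of_isRegularRing k
  haveI hCM : LocCoh.IsCohenMacaulayRing (MvPolynomial (Fin (n + 1)) k) :=
    Groth.Agent.Lib.Helper82.CMPoly.isCohenMacaulayRing_of_isRegularRing _
  have hdimA : ringKrullDim (MvPolynomial (Fin (n + 1)) k) = ((n + 1 : ℕ) : WithBot ℕ∞) := by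
    rw [MvPolynomial.ringKrullDim_of_isNoetherianRing, ringKrullDim_eq_zero_of_field, zero_add,
      Nat.card_eq_fintype_card, Fintype.card_fin]
  have heq : ∀ p ∈ minimalPrimes (MvPolynomial (Fin (n + 1)) k),
      ringKrullDim (MvPolynomial (Fin (n + 1)) k ⧸ p) = ((n + 1 : ℕ) : WithBot ℕ∞) := by
    intro p hp
    rw [IsDomain.minimalPrimes_eq_singleton_bot, Set.mem_singleton_iff] at hp
    rw [hp, ringKrullDim_eq_of_ringEquiv (RingEquiv.quotientBot _), hdimA]
  have hi : fl.length ≤ n + 1 := by omega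
  have hle : ringKrullDim (MvPolynomial (Fin (n + 1)) k ⧸ Ideal.ofList fl) ≤
      ((n + 1 - fl.length : ℕ) : WithBot ℕ∞) := by
    rw [hofList, hdim, hfllen]
    have : n + 1 - n = 1 := by omega
    rw [this]
    simp
  have hne : Ideal.ofList fl ≠ ⊤ := by
    intro htop
    rw [hofList] at htop
    rw [htop] at hdim
    haveI : Subsingleton (MvPolynomial (Fin (n + 1)) k ⧸
        (⊤ : Ideal (MvPolynomial (Fin (n + 1)) k))) := Ideal.Quotient.subsingleton_iff.mpr rfl
    rw [ringKrullDim_eq_bot_of_subsingleton] at hdim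
    exact absurd hdim (by simp)
  have hmain := (Groth.Agent.Lib.Helper82.CMEquidim.main k (n + 1) heq fl hi hle hne).2 𝔪 hfl𝔪
  have hhomfl : ∀ x ∈ fl, ∃ e, x ∈ CohB1.polyGrading n k e := by
    intro x hx
    obtain ⟨i, rfl⟩ := (List.mem_ofFn' f x).mp hx
    exact ⟨d i, hfmem i⟩
  have hnzd := nzd_of_isWeaklyRegular_localization k n 𝔪 h𝔪mem fl hhomfl hmain.toIsWeaklyRegular
  -- the Hilbert polynomial
  have hlen : fl.length = dl.length := by rw [hfllen, hdllen]
  have hhom : ∀ i (h : i < fl.length), fl[i] ∈ CohB1.polyGrading n k (dl[i]'(hlen ▸ h)) := by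
    intro i h
    simp only [hfl, hdl, List.getElem_ofFn]
    exact hfmem _
  have hpos : ∀ e ∈ dl, 0 < e := by
    intro e he
    obtain ⟨i, rfl⟩ := (List.mem_ofFn' d e).mp he
    exact hd i
  obtain ⟨P, hP, -, hdeg, hlc⟩ := exists_HP_ofList k n fl dl hlen hhom hpos hnzd n
    (by omega) le_rfl
  have htakef : fl.take n = fl := List.take_of_length_le hfllen.le
  have htaked : dl.take n = dl := List.take_of_length_le hdllen.le
  rw [htakef, hofList] at hP
  rw [htaked, Nat.sub_self, Nat.factorial_zero, Nat.cast_one, one_mul, hdl, List.prod_ofFn] at hlc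
  rw [Nat.sub_self] at hdeg
  obtain ⟨m₀, hm₀⟩ := hP
  refine ⟨m₀, fun m hm => ?_⟩
  change hilbFn k n (Ideal.span (Set.range f)) m = ∏ i : Fin n, d i
  have h1 := hm₀ m hm
  rw [eq_C_of_natDegree_eq_zero hdeg, eval_C] at h1
  have h2 : P.leadingCoeff = P.coeff 0 := by rw [leadingCoeff, hdeg]
  rw [← h2, hlc] at h1
  exact_mod_cast h1.symm

end CI

end Groth.Agent.Lib.Helper87
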