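import Mathlib

/-!
# The scaling action on a polynomial ring and stable subspaces (helper87)

Over an infinite field, a subspace of `K[x_1, …, x_N]` stable under all scalings `x_i ↦ t x_i`
(`t ≠ 0`) contains the homogeneous components of each of its elements.
-/

set_option autoImplicit false
universe u

namespace Groth.Agent.Lib.Helper87.CMCone

open MvPolynomial

section Lagrange

/-- Lagrange interpolation gives coefficient functionals: for `k < #s` there are `c t` with
`∑_{t ∈ s} c t * t ^ m = δ_{mk}` for all `m < #s`. -/
theorem exists_coeffs {K : Type u} [Field K] (s : Finset K) (k : ℕ) :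
    ∃ c : K → K, ∀ m < s.card, ∑ t ∈ s, c t * t ^ m = if m = k then 1 else 0 := by
  classical
  refine ⟨fun t => (Lagrange.basis s id t).coeff k, fun m hm => ?_⟩
  have hinj : Set.InjOn (id : K → K) s := Function.injective_id.injOn
  have hdeg : (Polynomial.X ^ m : Polynomial K).degree < s.card := by
    rw [Polynomial.degree_X_pow]
    exact_mod_cast hm
  have h1 := Lagrange.eq_interpolate_of_eval_eq (r := fun t => t ^ m) hinj hdeg
    (fun i _ => by simp)
  have h2 := congrArg (fun p => Polynomial.coeff p k) h1
  simp only [Lagrange.interpolate_apply, Polynomial.finset_sum_coeff, Polynomial.coeff_C_mul,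
    Polynomial.coeff_X_pow] at h2
  rw [← h2.symm.trans (by simp only [eq_comm] : (if k = m then (1 : K) else 0) = if m = k then 1 else 0)]
  exact Finset.sum_congr rfl fun t _ => mul_comm _ _

end Lagrange

variable {K : Type u} [Field K] {σ : Type*}

/-- Scaling the point scales the value of a homogeneous polynomial. -/
theorem aeval_mul_of_isHomogeneous {R S : Type*} [CommSemiring R] [CommSemiring S] [Algebra R S]
    {φ : MvPolynomial σ R} {m : ℕ} (hφ : φ.IsHomogeneous m) (c : S) (g : σ → S) :
    aeval (fun i => c * g i) φ = c ^ m * aeval g φ := by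
  rw [aeval_def, eval₂_eq, aeval_def, eval₂_eq, Finset.mul_sum]
  refine Finset.sum_congr rfl fun d hd => ?_
  have hdeg : d.degree = m := by
    by_contra h
    exact (mem_support_iff.1 hd) (hφ.coeff_eq_zero h)
  simp_rw [mul_pow]
  rw [Finset.prod_mul_distrib, Finset.prod_pow_eq_pow_sum, ← Finsupp.degree_apply, hdeg]
  ring

/-- The scaling endomorphism `x_i ↦ t x_i`. -/
noncomputable def scale (t : K) : MvPolynomial σ K →ₐ[K] MvPolynomial σ K :=
  aeval (fun i => C t * X i)

theorem scale_of_isHomogeneous {f : MvPolynomial σ K} {m : ℕ} (hf : f.IsHomogeneous m) (t : K) :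
    scale t f = C (t ^ m) * f := by
  rw [scale, aeval_mul_of_isHomogeneous hf, aeval_X_left_apply, C_pow]

theorem scale_eq_sum (t : K) (f : MvPolynomial σ K) :
    scale t f = ∑ m ∈ Finset.range (f.totalDegree + 1), C (t ^ m) * homogeneousComponent m f := by
  conv_lhs => rw [← sum_homogeneousComponent f, map_sum]
  exact Finset.sum_congr rfl fun m _ =>
    scale_of_isHomogeneous (homogeneousComponent_isHomogeneous m f) t

theorem scale_scale (s t : K) (f : MvPolynomial σ K) : scale s (scale t f) = scale (s * t) f := by
  have : (scale s).comp (scale t) = (scale (s * t) : MvPolynomial σ K →ₐ[K] MvPolynomial σ K) := by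
    apply MvPolynomial.algHom_ext
    intro i
    simp only [scale, AlgHom.comp_apply, aeval_X, map_mul, aeval_C, algebraMap_eq, C_mul]
    ring
  exact congrArg (fun g => g f) this

theorem scale_one (f : MvPolynomial σ K) : scale (1 : K) f = f := by
  have : (scale (1 : K) : MvPolynomial σ K →ₐ[K] MvPolynomial σ K) = AlgHom.id K _ := by
    apply MvPolynomial.algHom_ext
    intro i
    simp [scale]
  exact congrArg (fun g => g f) this

/-- The scaling automorphism for `t ≠ 0`. -/
noncomputable def scaleEquiv (t : K) (ht : t ≠ 0) : MvPolynomial σ K ≃ₐ[K] MvPolynomial σ K :=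
  AlgEquiv.ofAlgHom (scale t) (scale t⁻¹)
    (by ext f; simp only [AlgHom.comp_apply, scale_scale, mul_inv_cancel₀ ht, scale_one,
      AlgHom.id_apply])
    (by ext f; simp only [AlgHom.comp_apply, scale_scale, inv_mul_cancel₀ ht, scale_one,
      AlgHom.id_apply])

@[simp]
theorem scaleEquiv_apply (t : K) (ht : t ≠ 0) (f : MvPolynomial σ K) :
    scaleEquiv t ht f = scale t f := rfl

/-- Over an infinite field, a subspace stable under all scalings contains all homogeneous
components of its elements. -/
theorem homogeneousComponent_mem_of_stable [Infinite K] (V : Submodule K (MvPolynomial σ K))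
    (hV : ∀ t : K, t ≠ 0 → ∀ f ∈ V, scale t f ∈ V) {f : MvPolynomial σ K} (hf : f ∈ V) (k : ℕ) :
    homogeneousComponent k f ∈ V := by
  classical
  by_cases hk : f.totalDegree < k
  · rw [homogeneousComponent_eq_zero _ _ hk]
    exact V.zero_mem
  push Not at hk
  have hinf : ({t : K | t ≠ 0} : Set K).Infinite := by
    have : ({t : K | t ≠ 0} : Set K) = Set.univ \ {0} := by ext; simp
    rw [this]
    exact Set.Infinite.diff Set.infinite_univ (Set.finite_singleton 0)
  obtain ⟨s, hs, hcard⟩ := hinf.exists_subset_card_eq (f.totalDegree + 1)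
  obtain ⟨c, hc⟩ := exists_coeffs s k
  have key : homogeneousComponent k f = ∑ t ∈ s, c t • scale t f := by
    have h1 : ∀ t ∈ s, c t • scale t f =
        ∑ m ∈ Finset.range (f.totalDegree + 1), (c t * t ^ m) • homogeneousComponent m f := by
      intro t _
      rw [scale_eq_sum, Finset.smul_sum]
      refine Finset.sum_congr rfl fun m _ => ?_
      rw [mul_smul, C_mul', ]
    rw [Finset.sum_congr rfl h1, Finset.sum_comm]
    have h2 : ∀ m ∈ Finset.range (f.totalDegree + 1),
        ∑ t ∈ s, (c t * t ^ m) • homogeneousComponent m f =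
          (if m = k then (1 : K) else 0) • homogeneousComponent m f := by
      intro m hm
      rw [← Finset.sum_smul, hc m (by rw [hcard]; exact Finset.mem_range.mp hm)]
    rw [Finset.sum_congr rfl h2]
    simp only [ite_smul, one_smul, zero_smul]
    rw [Finset.sum_ite_eq' (Finset.range (f.totalDegree + 1)) k, if_pos]
    exact Finset.mem_range.mpr (by omega)
  rw [key]
  exact V.sum_mem fun t ht => V.smul_mem _ (hV t (hs ht) f hf)

end Groth.Agent.Lib.Helper87.CMCone
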