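import Mathlib
import Groth.Agent.Lib.Helper87.CMCone1
import Groth.Agent.Lib.Helper29.CMLocusOpen
import Groth.Agent.Lib.Helper29.FlatAscent2

/-!
# A cone is Cohen–Macaulay iff it is so at its vertex (helper87)

The non-Cohen–Macaulay locus of `K[x]/I` (`I` homogeneous, `K` infinite) is closed and stable under
the scaling action, hence defined by a homogeneous ideal; if nonempty it contains the vertex.
-/

set_option autoImplicit false
universe u

namespace Groth.Agent.Lib.Helper87.CMCone

open MvPolynomial Groth.Agent.Lib.Helper29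

variable {K : Type u} [Field K] {N : ℕ}

/-- An ideal generated by homogeneous polynomials is stable under scaling. -/
theorem scale_mem_span {T : Set (MvPolynomial (Fin N) K)}
    (hT : ∀ f ∈ T, ∃ k : ℕ, f.IsHomogeneous k) (t : K) {g : MvPolynomial (Fin N) K}
    (hg : g ∈ Ideal.span T) : scale t g ∈ Ideal.span T := by
  induction hg using Submodule.span_induction with
  | mem f hf =>
    obtain ⟨k, hk⟩ := hT f hf
    rw [scale_of_isHomogeneous hk]
    exact Ideal.mul_mem_left _ _ (Ideal.subset_span hf)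
  | zero => rw [map_zero]; exact zero_mem _
  | add a b _ _ ha hb => rw [map_add]; exact add_mem ha hb
  | smul a b _ hb => rw [smul_eq_mul, map_mul]; exact Ideal.mul_mem_left _ _ hb

/-- The automorphism of `K[x]/I` induced by scaling. -/
noncomputable def quotScale {T : Set (MvPolynomial (Fin N) K)}
    (hT : ∀ f ∈ T, ∃ k : ℕ, f.IsHomogeneous k) (t : K) (ht : t ≠ 0) :
    (MvPolynomial (Fin N) K ⧸ Ideal.span T) ≃+* (MvPolynomial (Fin N) K ⧸ Ideal.span T) :=
  Ideal.quotientEquiv (Ideal.span T) (Ideal.span T) (scaleEquiv t ht).toRingEquiv (by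
    apply le_antisymm
    · intro g hg
      have h1 : scale t⁻¹ g ∈ Ideal.span T := scale_mem_span hT t⁻¹ hg
      have h2 : g = (scaleEquiv t ht).toRingEquiv (scale t⁻¹ g) := by
        change g = scale t (scale t⁻¹ g)
        rw [scale_scale, mul_inv_cancel₀ ht, scale_one]
      rw [h2]
      exact Ideal.mem_map_of_mem _ h1
    · rw [Ideal.map_le_iff_le_comap]
      intro g hg
      exact scale_mem_span hT t hg)

theorem quotScale_mk {T : Set (MvPolynomial (Fin N) K)}
    (hT : ∀ f ∈ T, ∃ k : ℕ, f.IsHomogeneous k) (t : K) (ht : t ≠ 0)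
    (g : MvPolynomial (Fin N) K) :
    quotScale hT t ht (Ideal.Quotient.mk _ g) = Ideal.Quotient.mk _ (scale t g) := rfl

theorem main_span [Infinite K] (T : Set (MvPolynomial (Fin N) K))
    (hT : ∀ f ∈ T, ∃ k : ℕ, f.IsHomogeneous k)
    [hm : ((RingHom.ker (MvPolynomial.constantCoeff : MvPolynomial (Fin N) K →+* K)).map
      (Ideal.Quotient.mk (Ideal.span T))).IsPrime]
    (hcm : LocCoh.IsCohenMacaulayLocalRing (Localization.AtPrime
        ((RingHom.ker (MvPolynomial.constantCoeff : MvPolynomial (Fin N) K →+* K)).map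
          (Ideal.Quotient.mk (Ideal.span T))))) :
    LocCoh.IsCohenMacaulayRing (MvPolynomial (Fin N) K ⧸ Ideal.span T) := by
  classical
  have hopen := isOpen_setOf_isCohenMacaulayLocalRing_of_surjective (MvPolynomial (Fin N) K)
    (MvPolynomial (Fin N) K ⧸ Ideal.span T) Ideal.Quotient.mk_surjective
  refine { isCohenMacaulayLocalRing_localization := ?_ }
  by_contra hcon
  push Not at hcon
  obtain ⟨q₀, hq₀p, hq₀⟩ := hcon
  -- the non-CM locus and its vanishing ideal
  set Z : Set (PrimeSpectrum (MvPolynomial (Fin N) K ⧸ Ideal.span T)) :=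
    {q | LocCoh.IsCohenMacaulayLocalRing (Localization.AtPrime q.asIdeal)}ᶜ with hZ
  have hZclosed : IsClosed Z := hopen.isClosed_compl
  have hZmem : ∀ q : PrimeSpectrum (MvPolynomial (Fin N) K ⧸ Ideal.span T),
      q ∈ Z ↔ ¬ LocCoh.IsCohenMacaulayLocalRing (Localization.AtPrime q.asIdeal) := fun q => Iff.rfl
  have hzl : PrimeSpectrum.zeroLocus (PrimeSpectrum.vanishingIdeal Z : Set _) = Z := by
    rw [PrimeSpectrum.zeroLocus_vanishingIdeal_eq_closure, hZclosed.closure_eq]
  have hq₀Z : (⟨q₀, hq₀p⟩ : PrimeSpectrum _) ∈ Z := (hZmem _).mpr hq₀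
  have hbne : PrimeSpectrum.vanishingIdeal Z ≠ ⊤ := by
    intro h
    have h1 : (1 : MvPolynomial (Fin N) K ⧸ Ideal.span T) ∈ PrimeSpectrum.vanishingIdeal Z := by
      rw [h]; trivial
    rw [PrimeSpectrum.mem_vanishingIdeal] at h1
    exact hq₀p.ne_top ((Ideal.eq_top_iff_one _).mpr (h1 _ hq₀Z))
  -- stability of the non-CM locus
  have hZstable : ∀ (t : K) (ht : t ≠ 0) (q : PrimeSpectrum (MvPolynomial (Fin N) K ⧸ Ideal.span T)),
      q ∈ Z → (⟨q.asIdeal.comap (quotScale hT t ht), inferInstance⟩ : PrimeSpectrum _) ∈ Z := by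
    intro t ht q hq
    rw [hZmem] at hq ⊢
    intro hc
    apply hq
    exact isCohenMacaulayLocalRing_of_ringEquiv
      (Localization.localRingEquiv (q.asIdeal.comap (quotScale hT t ht)) q.asIdeal
        (quotScale hT t ht) rfl) hc
  have hbstable : ∀ (t : K) (ht : t ≠ 0), ∀ b ∈ PrimeSpectrum.vanishingIdeal Z,
      quotScale hT t ht b ∈ PrimeSpectrum.vanishingIdeal Z := by
    intro t ht b hb
    rw [PrimeSpectrum.mem_vanishingIdeal] at hb ⊢
    intro q hq
    exact hb _ (hZstable t ht q hq)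
  -- pull back to the polynomial ring
  set V : Submodule K (MvPolynomial (Fin N) K) :=
    ((PrimeSpectrum.vanishingIdeal Z).comap (Ideal.Quotient.mk (Ideal.span T))).restrictScalars K
    with hV
  have hVmem : ∀ f, f ∈ V ↔ Ideal.Quotient.mk (Ideal.span T) f ∈ PrimeSpectrum.vanishingIdeal Z :=
    fun f => Iff.rfl
  have hVstable : ∀ t : K, t ≠ 0 → ∀ f ∈ V, scale t f ∈ V := by
    intro t ht f hf
    rw [hVmem] at hf ⊢
    rw [← quotScale_mk hT t ht]
    exact hbstable t ht _ hf
  have hle : (PrimeSpectrum.vanishingIdeal Z).comap (Ideal.Quotient.mk (Ideal.span T)) ≤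
      RingHom.ker (MvPolynomial.constantCoeff : MvPolynomial (Fin N) K →+* K) := by
    intro f hf
    have hf' : f ∈ V := hf
    have h0 := homogeneousComponent_mem_of_stable V hVstable hf' 0
    rw [homogeneousComponent_zero, hVmem] at h0
    rw [RingHom.mem_ker, constantCoeff_eq]
    by_contra hne
    apply hbne
    rw [Ideal.eq_top_iff_one]
    have h1 : (1 : MvPolynomial (Fin N) K ⧸ Ideal.span T) =
        Ideal.Quotient.mk (Ideal.span T) (C (coeff 0 f)⁻¹) *
          Ideal.Quotient.mk (Ideal.span T) (C (coeff 0 f)) := by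
      rw [← map_mul, ← C_mul, inv_mul_cancel₀ hne, C_1, map_one]
    rw [h1]
    exact Ideal.mul_mem_left _ _ h0
  have hle' : PrimeSpectrum.vanishingIdeal Z ≤
      (RingHom.ker (MvPolynomial.constantCoeff : MvPolynomial (Fin N) K →+* K)).map
        (Ideal.Quotient.mk (Ideal.span T)) := by
    rw [← Ideal.map_comap_of_surjective (Ideal.Quotient.mk (Ideal.span T))
      Ideal.Quotient.mk_surjective (PrimeSpectrum.vanishingIdeal Z)]
    exact Ideal.map_mono hle
  have hmZ : (⟨_, hm⟩ : PrimeSpectrum (MvPolynomial (Fin N) K ⧸ Ideal.span T)) ∈ Z := by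
    rw [← hzl, PrimeSpectrum.mem_zeroLocus]
    exact hle'
  exact (hZmem _).mp hmZ hcm

end Groth.Agent.Lib.Helper87.CMCone
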