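import Mathlib
import Groth.Agent.Lib.Helper87.CMVertex2
import Groth.Agent.Lib.Helper29.DepthFiniteAlg
import Groth.Agent.Lib.Helper29.RegSeqExact
import Groth.Agent.Lib.Helper29.DepthRees
import Groth.Agent.Lib.Helper93.Depth
import Groth.Agent.S14424

/-!
# Cohen–Macaulayness at the vertex of a union of two Cohen–Macaulay cones (helper87)
-/

set_option autoImplicit false
universe u v

namespace Groth.Agent.Lib.Helper87.CMVertex

open Groth.Agent.Lib.Helper29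

section Dim

/-- `dim R ⧸ (I ⊓ J) ≤ max (dim R ⧸ I) (dim R ⧸ J)`, in the form of a common bound. -/
theorem ringKrullDim_quotient_inf_le {R : Type*} [CommRing R] (I J : Ideal R) (n : WithBot ℕ∞)
    (hI : ringKrullDim (R ⧸ I) ≤ n) (hJ : ringKrullDim (R ⧸ J) ≤ n) :
    ringKrullDim (R ⧸ (I ⊓ J)) ≤ n := by
  rw [ringKrullDim_quotient] at hI hJ ⊢
  unfold Order.krullDim
  refine iSup_le fun p => ?_
  have hhead : I ≤ (p.head : PrimeSpectrum R).asIdeal ∨ J ≤ (p.head : PrimeSpectrum R).asIdeal := by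
    have h1 : I ⊓ J ≤ (p.head : PrimeSpectrum R).asIdeal := p.head.2
    exact (Ideal.IsPrime.inf_le (p.head : PrimeSpectrum R).isPrime).mp h1
  have hle : ∀ i, (p.head : PrimeSpectrum R).asIdeal ≤ ((p i : PrimeSpectrum R)).asIdeal := by
    intro i
    have : p.head ≤ p i := LTSeries.head_le p i
    exact this
  rcases hhead with h | h
  · let q : LTSeries (PrimeSpectrum.zeroLocus (R := R) I) :=
      { length := p.length
        toFun := fun i => ⟨(p i : PrimeSpectrum R), h.trans (hle i)⟩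
        step := fun i => p.step i }
    calc (p.length : WithBot ℕ∞) = q.length := rfl
      _ ≤ Order.krullDim _ := Order.LTSeries.length_le_krullDim q
      _ ≤ n := hI
  · let q : LTSeries (PrimeSpectrum.zeroLocus (R := R) J) :=
      { length := p.length
        toFun := fun i => ⟨(p i : PrimeSpectrum R), h.trans (hle i)⟩
        step := fun i => p.step i }
    calc (p.length : WithBot ℕ∞) = q.length := rfl
      _ ≤ Order.krullDim _ := Order.LTSeries.length_le_krullDim q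
      _ ≤ n := hJ

end Dim

section Main

variable {A : Type v} [CommRing A] [IsNoetherianRing A]

/-- `depth_𝔪 (A ⧸ 𝔞) = ht (𝔪 (A ⧸ 𝔞))` when `A ⧸ 𝔞` is Cohen–Macaulay and `𝔞 ≤ 𝔪` maximal. -/
theorem idealDepth_quotient_eq_height (𝔪 : Ideal A) (hmax : 𝔪.IsMaximal) (𝔞 : Ideal A)
    (h𝔞 : 𝔞 ≤ 𝔪) (hcm : LocCoh.IsCohenMacaulayRing (A ⧸ 𝔞)) :
    LocCoh.idealDepth 𝔪 (A ⧸ 𝔞) = (𝔪.map (Ideal.Quotient.mk 𝔞)).height := by
  have h1 := idealDepth_map_eq (A := A) (B := A ⧸ 𝔞) 𝔪 (A ⧸ 𝔞)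
  rw [h1]
  have hker : RingHom.ker (Ideal.Quotient.mk 𝔞) ≤ 𝔪 := by rw [Ideal.mk_ker]; exact h𝔞
  haveI := hmax
  have hMmax : (𝔪.map (Ideal.Quotient.mk 𝔞)).IsMaximal :=
    Ideal.IsMaximal.map_of_surjective_of_ker_le Ideal.Quotient.mk_surjective hker
  exact (Groth.Agent.S14424.result (A ⧸ 𝔞)).mp hcm _ hMmax.ne_top

theorem main_aux (𝔪 : Ideal A) (hmax : 𝔪.IsMaximal) (I J : Ideal A) (e : ℕ)
    (hI𝔪 : I ≤ 𝔪) (hJ𝔪 : J ≤ 𝔪)
    (hIcm : LocCoh.IsCohenMacaulayRing (A ⧸ I)) (hJcm : LocCoh.IsCohenMacaulayRing (A ⧸ J))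
    (hIJcm : LocCoh.IsCohenMacaulayRing (A ⧸ (I ⊔ J)))
    (hIdim : ringKrullDim (A ⧸ I) ≤ (e : WithBot ℕ∞))
    (hJdim : ringKrullDim (A ⧸ J) ≤ (e : WithBot ℕ∞))
    (hIht : (e : ℕ∞) ≤ (𝔪.map (Ideal.Quotient.mk I)).height)
    (hJht : (e : ℕ∞) ≤ (𝔪.map (Ideal.Quotient.mk J)).height)
    (hIJht : ((e - 1 : ℕ) : ℕ∞) ≤ (𝔪.map (Ideal.Quotient.mk (I ⊔ J))).height)
    [hm : (𝔪.map (Ideal.Quotient.mk (I ⊓ J))).IsPrime] :
    LocCoh.IsCohenMacaulayLocalRing (Localization.AtPrime (𝔪.map (Ideal.Quotient.mk (I ⊓ J)))) ∧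
      ringKrullDim (Localization.AtPrime (𝔪.map (Ideal.Quotient.mk (I ⊓ J)))) =
        (e : WithBot ℕ∞) := by
  have hIJ𝔪 : I ⊔ J ≤ 𝔪 := sup_le hI𝔪 hJ𝔪
  have hinf𝔪 : I ⊓ J ≤ 𝔪 := inf_le_left.trans hI𝔪
  -- depths over `A`
  have d1 : (e : ℕ∞) ≤ LocCoh.idealDepth 𝔪 (A ⧸ I) := by
    rw [idealDepth_quotient_eq_height 𝔪 hmax I hI𝔪 hIcm]; exact hIht
  have d2 : (e : ℕ∞) ≤ LocCoh.idealDepth 𝔪 (A ⧸ J) := by
    rw [idealDepth_quotient_eq_height 𝔪 hmax J hJ𝔪 hJcm]; exact hJht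
  have d3 : ((e - 1 : ℕ) : ℕ∞) ≤ LocCoh.idealDepth 𝔪 (A ⧸ (I ⊔ J)) := by
    rw [idealDepth_quotient_eq_height 𝔪 hmax (I ⊔ J) hIJ𝔪 hIJcm]; exact hIJht
  have d4 : (e : ℕ∞) ≤ LocCoh.idealDepth 𝔪 ((A ⧸ I) × (A ⧸ J)) := by
    refine Groth.Agent.Lib.Helper93.Depth.natCast_le_idealDepth_middle 𝔪
      (LinearMap.inl A (A ⧸ I) (A ⧸ J)) (LinearMap.snd A (A ⧸ I) (A ⧸ J))
      LinearMap.inl_injective ?_ LinearMap.snd_surjective e d1 d2
    intro y
    constructor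
    · intro hy
      refine ⟨y.1, ?_⟩
      ext
      · rfl
      · exact hy.symm
    · rintro ⟨x, rfl⟩
      rfl
  have d5 : (e : ℕ∞) ≤ LocCoh.idealDepth 𝔪 (A ⧸ (I ⊓ J)) :=
    Groth.Agent.Lib.Helper93.Depth.natCast_le_idealDepth_left 𝔪
      (quotInfToProd I J) (prodToQuotSup I J) (quotInfToProd_injective I J)
      (quotInfToProd_prodToQuotSup_exact I J) (prodToQuotSup_surjective I J) e d4 d3
  -- pass to the quotient ring and localize
  have h1 := idealDepth_map_eq (A := A) (B := A ⧸ (I ⊓ J)) 𝔪 (A ⧸ (I ⊓ J))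
  rw [h1] at d5
  have h2 := idealDepth_le_depth_localization (A ⧸ (I ⊓ J))
    (𝔪.map (Ideal.Quotient.mk (I ⊓ J))) (A ⧸ (I ⊓ J))
  rw [Groth.Agent.S14424.depth_localizedModule_self] at h2
  have d6 : (e : ℕ∞) ≤ LocCoh.depth (Localization.AtPrime (𝔪.map (Ideal.Quotient.mk (I ⊓ J))))
      (Localization.AtPrime (𝔪.map (Ideal.Quotient.mk (I ⊓ J)))) := d5.trans h2
  have hN : IsNoetherianRing (Localization.AtPrime (𝔪.map (Ideal.Quotient.mk (I ⊓ J)))) :=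
    IsLocalization.isNoetherianRing (𝔪.map (Ideal.Quotient.mk (I ⊓ J))).primeCompl _ inferInstance
  have h3 := depth_le_supportDim (Localization.AtPrime (𝔪.map (Ideal.Quotient.mk (I ⊓ J))))
    (Localization.AtPrime (𝔪.map (Ideal.Quotient.mk (I ⊓ J))))
  rw [Module.supportDim_self_eq_ringKrullDim] at h3
  -- dimension bound
  have h4 : ringKrullDim (Localization.AtPrime (𝔪.map (Ideal.Quotient.mk (I ⊓ J)))) ≤
      (e : WithBot ℕ∞) := by
    rw [IsLocalization.AtPrime.ringKrullDim_eq_height (𝔪.map (Ideal.Quotient.mk (I ⊓ J)))]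
    exact (Ideal.height_le_ringKrullDim_of_ne_top hm.ne_top).trans
      (ringKrullDim_quotient_inf_le I J _ hIdim hJdim)
  have h5 : ((e : ℕ∞) : WithBot ℕ∞) ≤ ((LocCoh.depth
      (Localization.AtPrime (𝔪.map (Ideal.Quotient.mk (I ⊓ J))))
      (Localization.AtPrime (𝔪.map (Ideal.Quotient.mk (I ⊓ J)))) : ℕ∞) : WithBot ℕ∞) :=
    WithBot.coe_le_coe.mpr d6
  have h6 : ringKrullDim (Localization.AtPrime (𝔪.map (Ideal.Quotient.mk (I ⊓ J)))) =
      (e : WithBot ℕ∞) := le_antisymm h4 (h5.trans h3)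
  refine ⟨{ supportDim_eq_depth := ?_ }, h6⟩
  rw [Module.supportDim_self_eq_ringKrullDim]
  apply le_antisymm
  · rw [h6]; exact h5
  · exact h3

end Main

end Groth.Agent.Lib.Helper87.CMVertex
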