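import Mathlib
import Groth.Agent.Lib.Helper87.CMVertex3

/-!
# Cohen–Macaulayness at the vertex of a union of two Cohen–Macaulay cones: graded assembly (helper87)
-/

set_option autoImplicit false
universe u v

namespace Groth.Agent.Lib.Helper87.CMVertex

open DirectSum

/-- If the degree-zero part of a nontrivial graded `K`-algebra is (the image of) the field `K`, the
irrelevant ideal is maximal. -/
theorem irrelevant_isMaximal (K : Type u) [Field K] (A : Type v) [CommRing A]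
    [Algebra K A] (𝒜 : ℕ → Submodule K A) [GradedAlgebra 𝒜]
    (h0 : ∀ a ∈ 𝒜 0, ∃ c : K, algebraMap K A c = a)
    (hne : (HomogeneousIdeal.irrelevant 𝒜).toIdeal ≠ ⊤) :
    (HomogeneousIdeal.irrelevant 𝒜).toIdeal.IsMaximal := by
  rw [Ideal.isMaximal_iff]
  refine ⟨(Ideal.ne_top_iff_one _).mp hne, fun J' x hJ' hx hxJ' => ?_⟩
  have hx0 : (decompose 𝒜 x 0 : A) ≠ 0 := hx
  obtain ⟨c, hc⟩ := h0 _ (SetLike.coe_mem (decompose 𝒜 x 0))
  have hc0 : c ≠ 0 := by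
    rintro rfl
    rw [map_zero] at hc
    exact hx0 hc.symm
  have h1 : x - (decompose 𝒜 x 0 : A) ∈ (HomogeneousIdeal.irrelevant 𝒜).toIdeal := by
    rw [mem_irrelevant_iff', decompose_sub, DirectSum.sub_apply, AddSubgroupClass.coe_sub,
      decompose_of_mem_same 𝒜 (SetLike.coe_mem _), sub_self]
  have h2 : (decompose 𝒜 x 0 : A) ∈ J' := by
    have := J'.sub_mem hxJ' (hJ' h1)
    simpa using this
  have h3 : (1 : A) = algebraMap K A c⁻¹ * (decompose 𝒜 x 0 : A) := by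
    rw [← hc, ← map_mul, inv_mul_cancel₀ hc0, map_one]
  rw [h3]
  exact J'.mul_mem_left _ h2

theorem main (K : Type u) [Field K] (A : Type v) [CommRing A]
    [Algebra K A] [IsNoetherianRing A] (𝒜 : ℕ → Submodule K A) [GradedAlgebra 𝒜]
    (h0 : ∀ a ∈ 𝒜 0, ∃ c : K, algebraMap K A c = a) (I J : Ideal A) (hI : I.IsHomogeneous 𝒜)
    (hJ : J.IsHomogeneous 𝒜) (e : ℕ)
    (hIcm : LocCoh.IsCohenMacaulayRing (A ⧸ I)) (hJcm : LocCoh.IsCohenMacaulayRing (A ⧸ J))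
    (hIJcm : LocCoh.IsCohenMacaulayRing (A ⧸ (I ⊔ J)))
    (hIdim : ringKrullDim (A ⧸ I) = (e : WithBot ℕ∞)) (hJdim : ringKrullDim (A ⧸ J) = (e : WithBot ℕ∞))
    (hIJdim : ringKrullDim (A ⧸ (I ⊔ J)) = ((e - 1 : ℕ) : WithBot ℕ∞))
    [hm : ((HomogeneousIdeal.irrelevant 𝒜).toIdeal.map (Ideal.Quotient.mk (I ⊓ J))).IsPrime] :
    LocCoh.IsCohenMacaulayLocalRing (Localization.AtPrime
        ((HomogeneousIdeal.irrelevant 𝒜).toIdeal.map (Ideal.Quotient.mk (I ⊓ J)))) ∧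
      ringKrullDim (Localization.AtPrime
        ((HomogeneousIdeal.irrelevant 𝒜).toIdeal.map (Ideal.Quotient.mk (I ⊓ J)))) =
          (e : WithBot ℕ∞) := by
  have hne : (HomogeneousIdeal.irrelevant 𝒜).toIdeal ≠ ⊤ := by
    intro h
    apply hm.ne_top
    rw [h, Ideal.map_top]
  have hmax := irrelevant_isMaximal K A 𝒜 h0 hne
  have hne_of_dim : ∀ (𝔞 : Ideal A) (n : ℕ), ringKrullDim (A ⧸ 𝔞) = (n : WithBot ℕ∞) → 𝔞 ≠ ⊤ := by
    intro 𝔞 n h htop
    have : Subsingleton (A ⧸ 𝔞) := Ideal.Quotient.subsingleton_iff.mpr htop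
    rw [ringKrullDim_eq_bot_of_subsingleton] at h
    exact WithBot.bot_ne_natCast n h
  have hIne := hne_of_dim I e hIdim
  have hJne := hne_of_dim J e hJdim
  have hIJne := hne_of_dim (I ⊔ J) (e - 1) hIJdim
  have hIJ : (I ⊔ J).IsHomogeneous 𝒜 := hI.sup hJ
  have k1 := ringKrullDim_quotient_le_height 𝒜 hmax hI hIne
  have k2 := ringKrullDim_quotient_le_height 𝒜 hmax hJ hJne
  have k3 := ringKrullDim_quotient_le_height 𝒜 hmax hIJ hIJne
  rw [hIdim] at k1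
  rw [hJdim] at k2
  rw [hIJdim] at k3
  have cast : ∀ (n : ℕ) (h : ℕ∞), (n : WithBot ℕ∞) ≤ (h : WithBot ℕ∞) → (n : ℕ∞) ≤ h :=
    fun n h hh => by exact_mod_cast hh
  exact main_aux _ hmax I J e (le_irrelevant_of_isHomogeneous 𝒜 hmax hI hIne)
    (le_irrelevant_of_isHomogeneous 𝒜 hmax hJ hJne) hIcm hJcm hIJcm hIdim.le hJdim.le
    (cast _ _ k1) (cast _ _ k2) (cast _ _ k3)

end Groth.Agent.Lib.Helper87.CMVertex
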