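import Groth.Agent.Lib.Helper87.Decaying
import Mathlib

set_option autoImplicit false

namespace Groth.Agent.Lib.Helper87

open TensorProduct

section L1

variable {R : Type*} [CommRing R] (I : Ideal R) {M N : Type*} [AddCommGroup M] [Module R M]
  [AddCommGroup N] [Module R N]

/-- `f` is surjective modulo every power of `I`. -/
def AdicSurj (f : M →ₗ[R] N) : Prop :=
  ∀ (n : ℕ) (y : N), ∃ x : M, y - f x ∈ (I ^ n • ⊤ : Submodule R N)

/-- `f` is injective modulo every power of `I`. -/
def AdicInj (f : M →ₗ[R] N) : Prop :=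
  ∀ (n : ℕ) (x : M), f x ∈ (I ^ n • ⊤ : Submodule R N) → x ∈ (I ^ n • ⊤ : Submodule R M)

variable {I}

lemma map_injective_of_adicInj {f : M →ₗ[R] N} (hb : AdicInj I f) :
    Function.Injective (AdicCompletion.map I f) := by
  rw [← LinearMap.ker_eq_bot, LinearMap.ker_eq_bot']
  intro x hx
  apply AdicCompletion.ext
  intro n
  obtain ⟨u, hu⟩ := Submodule.Quotient.mk_surjective _ (x.val n)
  have h1 : (AdicCompletion.map I f x).val n = Submodule.Quotient.mk (f u) := by
    rw [AdicCompletion.map_val_apply, ← hu]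
    rfl
  rw [hx, AdicCompletion.val_zero_apply, eq_comm, Submodule.Quotient.mk_eq_zero] at h1
  rw [← hu, AdicCompletion.val_zero_apply, Submodule.Quotient.mk_eq_zero]
  exact hb n u h1

lemma map_surjective_of_adic {f : M →ₗ[R] N} (ha : AdicSurj I f) (hb : AdicInj I f) :
    Function.Surjective (AdicCompletion.map I f) := by
  intro y
  have hrep : ∀ n : ℕ, ∃ x : M, Submodule.Quotient.mk (f x) = y.val n := by
    intro n
    obtain ⟨v, hv⟩ := Submodule.Quotient.mk_surjective _ (y.val n)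
    obtain ⟨x, hx⟩ := ha n v
    refine ⟨x, ?_⟩
    rw [← hv, eq_comm, Submodule.Quotient.eq]
    exact hx
  choose x hx using hrep
  have hcauchy : ∀ n, x n ≡ x (n + 1) [SMOD (I ^ n • ⊤ : Submodule R M)] := by
    intro n
    rw [SModEq.sub_mem]
    apply hb n
    rw [map_sub, ← SModEq.sub_mem, SModEq.def, hx n]
    have h1 := y.property (Nat.le_succ n)
    rw [← h1, ← hx (n + 1)]
    rfl
  refine ⟨AdicCompletion.mk I M (AdicCompletion.AdicCauchySequence.mk I M x hcauchy), ?_⟩
  apply AdicCompletion.ext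
  intro n
  rw [AdicCompletion.map_val_apply, ← hx n]
  rfl

lemma map_bijective_of_adic {f : M →ₗ[R] N} (ha : AdicSurj I f) (hb : AdicInj I f) :
    Function.Bijective (AdicCompletion.map I f) :=
  ⟨map_injective_of_adicInj hb, map_surjective_of_adic ha hb⟩

lemma AdicSurj.comp_equiv {P : Type*} [AddCommGroup P] [Module R P] {f : M →ₗ[R] N}
    (ha : AdicSurj I f) (e : N ≃ₗ[R] P) : AdicSurj I (e.toLinearMap ∘ₗ f) := by
  intro n y
  obtain ⟨x, hx⟩ := ha n (e.symm y)
  refine ⟨x, ?_⟩
  have := map_mem_smul_top e.toLinearMap (I ^ n) hx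
  simpa using this

lemma AdicInj.comp_equiv {P : Type*} [AddCommGroup P] [Module R P] {f : M →ₗ[R] N}
    (hb : AdicInj I f) (e : N ≃ₗ[R] P) : AdicInj I (e.toLinearMap ∘ₗ f) := by
  intro n x hx
  apply hb n
  have := map_mem_smul_top e.symm.toLinearMap (I ^ n) hx
  simpa using this

end L1

section L2

variable {A B : Type*} [CommRing A] [CommRing B] [Algebra A B] (I : Ideal A) (J : Ideal B)
  (hIJ : I.map (algebraMap A B) ≤ J)
  {M N : Type*} [AddCommGroup M] [Module A M] [AddCommGroup N] [Module A N]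

include hIJ in
lemma algebraMap_mem_pow {n : ℕ} {i : A} (hi : i ∈ I ^ n) : algebraMap A B i ∈ J ^ n := by
  have h1 : algebraMap A B i ∈ (I ^ n).map (algebraMap A B) := Ideal.mem_map_of_mem _ hi
  rw [Ideal.map_pow] at h1
  exact Ideal.pow_right_mono hIJ n h1

include hIJ in
/-- On a `B`-module, `I ^ n • ⊤` over `A` is contained in `J ^ n • ⊤` over `B`. -/
lemma smul_top_restrict_le {T : Type*} [AddCommGroup T] [Module A T] [Module B T]
    [IsScalarTower A B T] {n : ℕ} {t : T} (ht : t ∈ (I ^ n • ⊤ : Submodule A T)) :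
    t ∈ (J ^ n • ⊤ : Submodule B T) := by
  induction ht using Submodule.smul_induction_on' with
  | smul i hi t' _ =>
    rw [← algebraMap_smul B i t']
    exact Submodule.smul_mem_smul (algebraMap_mem_pow I J hIJ hi) Submodule.mem_top
  | add x _ y _ hx hy => exact add_mem hx hy

include hIJ in
lemma tmul_mem_smul_top (b : B) {n : ℕ} {w : N} (hw : w ∈ (I ^ n • ⊤ : Submodule A N)) :
    b ⊗ₜ[A] w ∈ (J ^ n • ⊤ : Submodule B (B ⊗[A] N)) := by
  apply smul_top_restrict_le I J hIJ
  exact map_mem_smul_top (TensorProduct.mk A B N b) (I ^ n) hw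

include hIJ in
lemma AdicSurj.baseChange {f : M →ₗ[A] N} (ha : AdicSurj I f) :
    AdicSurj J (f.baseChange B) := by
  intro n y
  induction y using TensorProduct.induction_on with
  | zero => exact ⟨0, by simp⟩
  | tmul b w =>
    obtain ⟨x, hx⟩ := ha n w
    refine ⟨b ⊗ₜ[A] x, ?_⟩
    rw [LinearMap.baseChange_tmul, ← TensorProduct.tmul_sub]
    exact tmul_mem_smul_top I J hIJ b hx
  | add y₁ y₂ h₁ h₂ =>
    obtain ⟨x₁, hx₁⟩ := h₁
    obtain ⟨x₂, hx₂⟩ := h₂
    refine ⟨x₁ + x₂, ?_⟩
    rw [map_add, add_sub_add_comm]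
    exact add_mem hx₁ hx₂

include hIJ in
lemma AdicInj.baseChange {f : M →ₗ[A] N} (ha : AdicSurj I f) (hb : AdicInj I f) :
    AdicInj J (f.baseChange B) := by
  intro n x hx
  -- the quotient and the inverse modulo `I ^ n`
  let S : Submodule A M := I ^ n • ⊤
  let T : Submodule A N := I ^ n • ⊤
  have hST : S ≤ T.comap f := fun m hm => map_mem_smul_top f (I ^ n) hm
  let fbar : (M ⧸ S) →ₗ[A] (N ⧸ T) := Submodule.mapQ S T f hST
  have hfbar_inj : Function.Injective fbar := by
    rw [← LinearMap.ker_eq_bot, LinearMap.ker_eq_bot']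
    intro q hq
    obtain ⟨m, rfl⟩ := Submodule.Quotient.mk_surjective _ q
    rw [Submodule.Quotient.mk_eq_zero]
    have : (Submodule.Quotient.mk (f m) : N ⧸ T) = 0 := hq
    rw [Submodule.Quotient.mk_eq_zero] at this
    exact hb n m this
  have hfbar_surj : Function.Surjective fbar := by
    intro q
    obtain ⟨w, rfl⟩ := Submodule.Quotient.mk_surjective _ q
    obtain ⟨m, hm⟩ := ha n w
    refine ⟨Submodule.Quotient.mk m, ?_⟩
    show (Submodule.Quotient.mk (f m) : N ⧸ T) = Submodule.Quotient.mk w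
    rw [eq_comm, Submodule.Quotient.eq]
    exact hm
  let ebar : (M ⧸ S) ≃ₗ[A] (N ⧸ T) := LinearEquiv.ofBijective fbar ⟨hfbar_inj, hfbar_surj⟩
  let g : N →ₗ[A] (M ⧸ S) := ebar.symm.toLinearMap ∘ₗ T.mkQ
  have hgf : g ∘ₗ f = S.mkQ := by
    ext m
    show ebar.symm (Submodule.Quotient.mk (f m)) = Submodule.Quotient.mk m
    rw [LinearEquiv.symm_apply_eq]
    rfl
  have hGF : (g.baseChange B) ∘ₗ (f.baseChange B) = S.mkQ.baseChange B := by
    rw [← LinearMap.baseChange_comp, hgf]
  -- image of `x` in `B ⊗ M/S`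
  have h1 : S.mkQ.baseChange B x ∈ (J ^ n • ⊤ : Submodule B (B ⊗[A] (M ⧸ S))) := by
    rw [← hGF]
    exact map_mem_smul_top (g.baseChange B) (J ^ n) hx
  have hsurj : Function.Surjective (S.mkQ.baseChange B) := by
    rw [LinearMap.baseChange_eq_ltensor]
    exact LinearMap.lTensor_surjective B S.mkQ_surjective
  have h2 : (J ^ n • ⊤ : Submodule B (B ⊗[A] (M ⧸ S))) =
      (J ^ n • ⊤ : Submodule B (B ⊗[A] M)).map (S.mkQ.baseChange B) := by
    rw [Submodule.map_smul'', Submodule.map_top, LinearMap.range_eq_top.mpr hsurj]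
  rw [h2] at h1
  obtain ⟨x', hx', hxx'⟩ := h1
  have h3 : x - x' ∈ (J ^ n • ⊤ : Submodule B (B ⊗[A] M)) := by
    have hker : (S.mkQ.lTensor B) (x - x') = 0 := by
      have : S.mkQ.baseChange B (x - x') = 0 := by rw [map_sub, hxx', sub_self]
      rw [← this]
      rfl
    have hex := lTensor_exact B (LinearMap.exact_subtype_mkQ S) S.mkQ_surjective
    have hrange : ∀ t : B ⊗[A] S, (S.subtype.lTensor B) t ∈
        (J ^ n • ⊤ : Submodule B (B ⊗[A] M)) := by
      intro t
      induction t using TensorProduct.induction_on with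
      | zero => simp
      | tmul b w =>
        rw [LinearMap.lTensor_tmul]
        exact tmul_mem_smul_top I J hIJ b w.2
      | add t₁ t₂ h₁ h₂ =>
        rw [map_add]
        exact add_mem h₁ h₂
    obtain ⟨t, ht⟩ := (hex (x - x')).mp hker
    rw [← ht]
    exact hrange t
  have : x = (x - x') + x' := by abel
  rw [this]
  exact add_mem h3 hx'

end L2

end Groth.Agent.Lib.Helper87
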