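import Mathlib

set_option autoImplicit false

namespace Groth.Agent.Lib.Helper87

open scoped TensorProduct
open KaehlerDifferential

section loc

universe u

variable {A B : Type u} [CommRing A] [CommRing B] [Algebra A B] (P : Algebra.Extension.{u} A B)
  (p : Ideal B) [p.IsPrime]

/-- the preimage in the extension ring of the complement of `p`. -/
abbrev locT : Submonoid P.Ring := p.primeCompl.comap (algebraMap P.Ring B)

theorem mem_locT (t : P.Ring) : t ∈ locT P p ↔ algebraMap P.Ring B t ∉ p := Iff.rfl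

theorem exists_locT_lift (s : p.primeCompl) : ∃ t : locT P p, algebraMap P.Ring B t = s := by
  obtain ⟨t, ht⟩ := P.algebraMap_surjective s
  exact ⟨⟨t, by rw [mem_locT, ht]; exact s.2⟩, ht⟩

/-- the map from the extension ring to the local ring of `B` at `p`. -/
noncomputable def toLocB : P.Ring →ₐ[A] Localization.AtPrime p :=
  (IsScalarTower.toAlgHom A B (Localization.AtPrime p)).comp (IsScalarTower.toAlgHom A P.Ring B)

theorem toLocB_apply (x : P.Ring) :
    toLocB P p x = algebraMap B (Localization.AtPrime p) (algebraMap P.Ring B x) := rfl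

theorem toLocB_isUnit (y : locT P p) : IsUnit (toLocB P p y) := by
  rw [toLocB_apply]
  exact IsLocalization.map_units (Localization.AtPrime p) (⟨_, y.2⟩ : p.primeCompl)

/-- the localised projection. -/
noncomputable def locPi : Localization (locT P p) →ₐ[A] Localization.AtPrime p :=
  IsLocalization.liftAlgHom (M := locT P p) (f := toLocB P p) (toLocB_isUnit P p)

theorem locPi_algebraMap (x : P.Ring) :
    locPi P p (algebraMap P.Ring (Localization (locT P p)) x) =
      algebraMap B (Localization.AtPrime p) (algebraMap P.Ring B x) := by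
  rw [locPi, IsLocalization.liftAlgHom_apply, IsLocalization.lift_eq]
  rfl

theorem locPi_surjective : Function.Surjective (locPi P p) := by
  intro b'
  obtain ⟨b, s, rfl⟩ := IsLocalization.exists_mk'_eq p.primeCompl b'
  obtain ⟨x, rfl⟩ := P.algebraMap_surjective b
  obtain ⟨t, ht⟩ := exists_locT_lift P p s
  refine ⟨IsLocalization.mk' _ x t, ?_⟩
  rw [IsLocalization.eq_mk'_iff_mul_eq, ← ht, ← locPi_algebraMap, ← map_mul,
    IsLocalization.mk'_spec, locPi_algebraMap]

theorem mem_ker_locPi (y : Localization (locT P p)) (hy : locPi P p y = 0) :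
    ∃ (x : P.Ring) (t : locT P p), x ∈ P.ker ∧ y = IsLocalization.mk' _ x t := by
  obtain ⟨x₀, t₀, rfl⟩ := IsLocalization.exists_mk'_eq (locT P p) y
  have h1 : locPi P p (algebraMap P.Ring _ x₀) = 0 := by
    rw [← IsLocalization.mk'_spec (Localization (locT P p)) x₀ t₀, map_mul, hy, zero_mul]
  rw [locPi_algebraMap, IsLocalization.map_eq_zero_iff p.primeCompl] at h1
  obtain ⟨s, hs⟩ := h1
  obtain ⟨t₁, ht₁⟩ := exists_locT_lift P p s
  refine ⟨t₁ * x₀, t₁ * t₀, ?_, ?_⟩
  · rw [RingHom.mem_ker, map_mul, ht₁, hs]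
  · rw [IsLocalization.mk'_eq_iff_eq]
    simp only [Submonoid.coe_mul]
    ring_nf

theorem ker_locPi_sq (hsq : P.ker ^ 2 = ⊥) :
    RingHom.ker (locPi P p : Localization (locT P p) →+* Localization.AtPrime p) ^ 2 = ⊥ := by
  rw [eq_bot_iff, pow_two, Ideal.mul_le]
  intro y₁ h₁ y₂ h₂
  obtain ⟨x₁, t₁, hx₁, rfl⟩ := mem_ker_locPi P p y₁ h₁
  obtain ⟨x₂, t₂, hx₂, rfl⟩ := mem_ker_locPi P p y₂ h₂
  rw [Ideal.mem_bot, ← IsLocalization.mk'_mul]
  have : x₁ * x₂ = 0 := by
    rw [← Ideal.mem_bot, ← hsq, pow_two]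
    exact Ideal.mul_mem_mul hx₁ hx₂
  rw [this, IsLocalization.mk'_zero]

end loc

end Groth.Agent.Lib.Helper87
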