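import Groth.Agent.Lib.Helper87.ConormalInj1

set_option autoImplicit false

namespace Groth.Agent.Lib.Helper87

open scoped TensorProduct
open KaehlerDifferential

section loc

universe u

variable {A B : Type u} [CommRing A] [CommRing B] [Algebra A B] (P : Algebra.Extension.{u} A B)
  (p : Ideal B) [p.IsPrime]

/-- the localised extension. -/
noncomputable def locExt : Algebra.Extension.{u} A (Localization.AtPrime p) :=
  Algebra.Extension.ofSurjective (locPi P p) (locPi_surjective P p)

theorem locExt_algebraMap (y : (locExt P p).Ring) :
    algebraMap (locExt P p).Ring (Localization.AtPrime p) y =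
      locPi P p (show Localization (locT P p) from y) := rfl

theorem locExt_ker_sq (hsq : P.ker ^ 2 = ⊥) : (locExt P p).ker ^ 2 = ⊥ :=
  ker_locPi_sq P p hsq

/-- the localisation map as a map of extensions. -/
noncomputable def locHom : P.Hom (locExt P p) where
  toRingHom := algebraMap P.Ring (Localization (locT P p))
  toRingHom_algebraMap := fun a => by
    rw [Algebra.algebraMap_self, RingHom.id_apply]
    exact (IsScalarTower.algebraMap_apply A P.Ring (Localization (locT P p)) a).symm
  algebraMap_toRingHom := fun x => locPi_algebraMap P p x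

theorem locHom_apply (x : P.Ring) :
    (locHom P p).toRingHom x = algebraMap P.Ring (Localization (locT P p)) x := rfl

/-- a section of the localised extension when `B_p` is formally smooth. -/
noncomputable def locSection (hsq : P.ker ^ 2 = ⊥)
    [Algebra.FormallySmooth A (Localization.AtPrime p)] :
    Localization.AtPrime p →ₐ[A] (locExt P p).Ring :=
  Algebra.FormallySmooth.liftOfSurjective (AlgHom.id A (Localization.AtPrime p)) (locPi P p)
    (locPi_surjective P p) ⟨2, ker_locPi_sq P p hsq⟩

theorem locSection_comp (hsq : P.ker ^ 2 = ⊥)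
    [Algebra.FormallySmooth A (Localization.AtPrime p)] :
    (IsScalarTower.toAlgHom A (locExt P p).Ring (Localization.AtPrime p)).comp
      (locSection P p hsq) = AlgHom.id A (Localization.AtPrime p) := by
  refine AlgHom.ext fun x => ?_
  exact Algebra.FormallySmooth.liftOfSurjective_apply (AlgHom.id A (Localization.AtPrime p))
    (locPi P p) (locPi_surjective P p) ⟨2, ker_locPi_sq P p hsq⟩ x

theorem locExt_cotangentComplex_injective (hsq : P.ker ^ 2 = ⊥)
    [Algebra.FormallySmooth A (Localization.AtPrime p)] :
    Function.Injective (locExt P p).cotangentComplex := by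
  rw [injective_iff_map_eq_zero]
  intro c hc
  obtain ⟨y, rfl⟩ := Algebra.Extension.Cotangent.mk_surjective c
  rw [Algebra.Extension.cotangentComplex_mk] at hc
  have h1 : kerToTensor A (locExt P p).Ring (Localization.AtPrime p) y = 0 := hc
  have h2 := congr($(retractionOfSectionOfKerSqZero_comp_kerToTensor (locSection P p hsq)
    (locExt_ker_sq P p hsq) (locSection_comp P p hsq)) y)
  rw [LinearMap.comp_apply, h1, map_zero, LinearMap.id_apply] at h2
  rw [← h2, map_zero]

theorem exists_smul_eq_zero_of_cotangentComplex (hsq : P.ker ^ 2 = ⊥)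
    [Algebra.FormallySmooth A (Localization.AtPrime p)] (c : P.Cotangent)
    (hc : P.cotangentComplex c = 0) : ∃ s : B, s ∉ p ∧ s • c = 0 := by
  have h1 : (locExt P p).cotangentComplex (Algebra.Extension.Cotangent.map (locHom P p) c) = 0 := by
    rw [← Algebra.Extension.CotangentSpace.map_cotangentComplex, hc, map_zero]
  have h2 := locExt_cotangentComplex_injective P p hsq (h1.trans (map_zero _).symm)
  obtain ⟨x, rfl⟩ := Algebra.Extension.Cotangent.mk_surjective c
  rw [Algebra.Extension.Cotangent.map_mk, Algebra.Extension.Cotangent.mk_eq_zero_iff,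
    locExt_ker_sq P p hsq, Ideal.mem_bot] at h2
  have h3 : algebraMap P.Ring (Localization (locT P p)) x.1 = 0 := h2
  rw [IsLocalization.map_eq_zero_iff (locT P p)] at h3
  obtain ⟨t, ht⟩ := h3
  refine ⟨algebraMap P.Ring B t, t.2, ?_⟩
  rw [algebraMap_smul, ← map_smul]
  have : (t : P.Ring) • x = 0 := by
    apply Subtype.ext
    exact ht
  rw [this, map_zero]

end loc

end Groth.Agent.Lib.Helper87
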