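import Groth.Agent.Lib.Helper87.ConormalInj2

set_option autoImplicit false

namespace Groth.Agent.Lib.Helper87

open scoped TensorProduct
open KaehlerDifferential

section main

universe u

variable {A B : Type u} [CommRing A] [CommRing B] [Algebra A B]

theorem cotangentComplex_injective_of_generically_smooth [IsReduced B]
    (hsm : ∀ p : PrimeSpectrum B, p.asIdeal ∈ minimalPrimes B → Algebra.IsSmoothAt A p.asIdeal)
    (P : Algebra.Extension.{u} A B) (hsq : P.ker ^ 2 = ⊥) [Module.Projective B P.Cotangent] :
    Function.Injective P.cotangentComplex := by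
  rw [injective_iff_map_eq_zero]
  intro c hc
  rw [← Module.forall_dual_apply_eq_zero_iff B c]
  intro φ
  have hmem : φ c ∈ nilradical B := by
    rw [nilradical_eq_sInf, Ideal.mem_sInf]
    intro J hJ
    have hJ' : J.IsPrime := hJ
    obtain ⟨p, hp, hpJ⟩ := Ideal.exists_minimalPrimes_le (bot_le : (⊥ : Ideal B) ≤ J)
    apply hpJ
    have hpp : p.IsPrime := hp.1.1
    have hs := hsm ⟨p, hpp⟩ hp
    haveI : Algebra.FormallySmooth A (Localization.AtPrime p) := hs
    obtain ⟨s, hsp, hsc⟩ := exists_smul_eq_zero_of_cotangentComplex P p hsq c hc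
    have h0 : s * φ c = 0 := by
      rw [← smul_eq_mul, ← map_smul, hsc, map_zero]
    exact (hpp.mem_or_mem (h0 ▸ p.zero_mem : s * φ c ∈ p)).resolve_left hsp
  rwa [nilradical_eq_zero, Ideal.zero_eq_bot, Ideal.mem_bot] at hmem

end main

end Groth.Agent.Lib.Helper87
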