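import Mathlib
import Groth.Prelude.Def_W4c5adicflatcomplDec
import Groth.Agent.Lib.Helper87.Decaying

/-!
More lemmas on modules of `I`-adically decaying functions.
-/

set_option autoImplicit false

namespace Groth.Agent.Lib.Helper87

open W4c5adicflatcompl

variable {A : Type*} [CommRing A] {I : Ideal A}

/-- In a separated module, a nonzero element has a largest `I`-adic order. -/
lemma exists_max_exp {M : Type*} [AddCommGroup M] [Module A M] [IsHausdorff I M]
    (x : M) (hx : x ≠ 0) :
    ∃ ks : ℕ, x ∈ (I ^ ks • ⊤ : Submodule A M) ∧ ∀ k, x ∈ (I ^ k • ⊤ : Submodule A M) → k ≤ ks := by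
  classical
  have hex : ∃ k₁, x ∉ (I ^ k₁ • ⊤ : Submodule A M) := by
    by_contra hcon
    push Not at hcon
    apply hx
    apply IsHausdorff.haus (I := I) inferInstance
    intro m
    rw [SModEq.zero]
    exact hcon m
  obtain ⟨k₁, hk₁⟩ := hex
  set P : ℕ → Prop := fun k => x ∈ (I ^ k • ⊤ : Submodule A M) with hP
  have hP0 : P 0 := by simp [hP]
  refine ⟨Nat.findGreatest P k₁, Nat.findGreatest_spec (P := P) (m := 0) (Nat.zero_le _) hP0, ?_⟩
  intro k hk
  have hkk : k ≤ k₁ := by
    by_contra hlt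
    push Not at hlt
    exact hk₁ (pow_smul_top_anti I (by omega) hk)
  exact Nat.le_findGreatest hkk hk

/-- Lifting decaying functions along a surjection onto a separated module. -/
lemma exists_decaying_lift {Z : Type*} {M M'' : Type*} [AddCommGroup M] [Module A M]
    [AddCommGroup M''] [Module A M''] [IsHausdorff I M''] (φ : M →ₗ[A] M'')
    (hφ : Function.Surjective φ) (g : Z → M'') (hg : g ∈ decaying I Z M'') :
    ∃ f : Z → M, f ∈ decaying I Z M ∧ ∀ z, φ (f z) = g z := by
  classical
  have hmap : ∀ k : ℕ, (I ^ k • ⊤ : Submodule A M).map φ = (I ^ k • ⊤ : Submodule A M'') := by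
    intro k
    rw [Submodule.map_smul'', Submodule.map_top, LinearMap.range_eq_top.2 hφ]
  have key : ∀ z, ∃ x : M, φ x = g z ∧
      ∀ k, g z ∈ (I ^ k • ⊤ : Submodule A M'') → x ∈ (I ^ k • ⊤ : Submodule A M) := by
    intro z
    by_cases h0 : g z = 0
    · exact ⟨0, by simp [h0], fun k _ => Submodule.zero_mem _⟩
    · obtain ⟨ks, hks, hmax⟩ := exists_max_exp (I := I) (g z) h0
      rw [← hmap ks] at hks
      obtain ⟨x, hx, hxz⟩ := hks
      exact ⟨x, hxz, fun k hk => pow_smul_top_anti I (hmax k hk) hx⟩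
  choose f hf1 hf2 using key
  refine ⟨f, ?_, hf1⟩
  intro n
  refine (hg n).subset ?_
  intro z hz
  simp only [Set.mem_ofPred_eq] at hz ⊢
  intro hmem
  exact hz (hf2 z n hmem)

end Groth.Agent.Lib.Helper87
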