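import Mathlib
import Groth.Prelude.Def_W4c5adicflatcomplDec
import Groth.Agent.Lib.Helper87.Decaying2
import Groth.Agent.S17541

/-!
Decaying functions with values in finite free modules and their submodules
(over a Noetherian adically complete ring).
-/

set_option autoImplicit false

namespace Groth.Agent.Lib.Helper87

open W4c5adicflatcompl

variable {A : Type*} [CommRing A] (I : Ideal A) {Z : Type*}

lemma smul_top_self (n : ℕ) : (I ^ n • ⊤ : Submodule A A) = I ^ n := by
  rw [smul_eq_mul, Ideal.mul_top]

/-- a vector all of whose coordinates are in `I ^ n` lies in `I ^ n • ⊤`. -/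
lemma pi_mem_smul_top {l : ℕ} {n : ℕ} (v : Fin l → A) (hv : ∀ i, v i ∈ I ^ n) :
    v ∈ (I ^ n • ⊤ : Submodule A (Fin l → A)) := by
  classical
  have e : v = ∑ i, v i • (Pi.single i (1 : A) : Fin l → A) := by
    funext i'
    simp [Finset.sum_apply, Pi.single_apply]
  rw [e]
  exact Submodule.sum_mem _ fun i _ => Submodule.smul_mem_smul (hv i) Submodule.mem_top

/-- a tuple of decaying functions is a decaying function into the finite free module -/
lemma decaying_pi {l : ℕ} (x : Fin l → decaying I Z A) :
    (fun z => fun i => ((x i : decaying I Z A) : Z → A) z) ∈ decaying I Z (Fin l → A) := by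
  intro n
  refine (Set.finite_iUnion fun i => (x i).2 n).subset ?_
  intro z hz
  simp only [Set.mem_ofPred_eq] at hz
  simp only [Set.mem_iUnion, Set.mem_ofPred_eq]
  by_contra hcon
  push Not at hcon
  apply hz
  apply pi_mem_smul_top
  intro i
  rw [← smul_top_self]
  exact hcon i

/-- the coordinates of a decaying function into a finite free module are decaying -/
lemma decaying_coord {k : ℕ} {Y : Z → (Fin k → A)} (hY : Y ∈ decaying I Z (Fin k → A))
    (j : Fin k) : (fun z => Y z j) ∈ decaying I Z A := by
  intro n
  refine (hY n).subset ?_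
  intro z hz
  simp only [Set.mem_ofPred_eq] at hz ⊢
  exact fun h => hz (map_mem_smul_top (LinearMap.proj j : (Fin k → A) →ₗ[A] A) _ h)

/-- Core lemma: a tuple of decaying functions with values in a submodule `K` of `A^l` is a
combination, with decaying coefficients, of finitely many elements of `K`. -/
lemma exists_decaying_coeffs [IsNoetherianRing A] [IsAdicComplete I A] {l : ℕ}
    (K : Submodule A (Fin l → A)) (x : Fin l → decaying I Z A)
    (hx : ∀ z, (fun i => ((x i : decaying I Z A) : Z → A) z) ∈ K) :
    ∃ (k : ℕ) (w : Fin k → (Fin l → A)) (c : Fin k → decaying I Z A),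
      (∀ j, w j ∈ K) ∧ ∀ i, x i = ∑ j, w j i • c j := by
  classical
  have hKfg : K.FG := IsNoetherian.noetherian K
  obtain ⟨k, w, hw⟩ := Submodule.fg_iff_exists_fin_generating_family.1 hKfg
  have hwK : ∀ j, w j ∈ K := fun j => hw ▸ Submodule.subset_span ⟨j, rfl⟩
  let π : (Fin k → A) →ₗ[A] K := Fintype.linearCombination A (fun j => (⟨w j, hwK j⟩ : K))
  have hπ : Function.Surjective π := by
    rw [← LinearMap.range_eq_top, Fintype.range_linearCombination]
    apply Submodule.map_injective_of_injective K.subtype_injective
    rw [Submodule.map_span, Submodule.map_top, Submodule.range_subtype, ← Set.range_comp]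
    exact hw
  let X : Z → K := fun z => ⟨fun i => ((x i : decaying I Z A) : Z → A) z, hx z⟩
  have hXdec : X ∈ decaying I Z K :=
    (Groth.Agent.S17541.result I Z (Fin l → A) K X).2 (decaying_pi I x)
  have hKfin : Module.Finite A K := Module.Finite.iff_fg.2 hKfg
  have hKH : IsHausdorff I K := IsHausdorff.of_le_jacobson I K (IsAdicComplete.le_jacobson_bot I)
  obtain ⟨Y, hYdec, hYX⟩ := exists_decaying_lift π hπ X hXdec
  refine ⟨k, w, fun j => ⟨fun z => Y z j, decaying_coord I hYdec j⟩, hwK, ?_⟩
  intro i
  apply Subtype.ext
  funext z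
  have h1 := congrArg (fun v : K => (v : Fin l → A) i) (hYX z)
  simp only [π, Fintype.linearCombination_apply, X] at h1
  rw [← h1]
  simp [Finset.sum_apply, mul_comm]

end Groth.Agent.Lib.Helper87
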