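import Mathlib
import Groth.Prelude.Def_W4c5adicflatcomplDec
import Groth.Agent.Lib.Helper87.Decaying
import Groth.Agent.Lib.Helper87.AdicSum
import Groth.Agent.S17537

/-!
The universal property of the module of decaying functions `Z → Â` (`Â` the `I`-adic completion
of a Noetherian ring `A`) with respect to `I`-adically complete modules.
-/

set_option autoImplicit false

namespace Groth.Agent.Lib.Helper87

open W4c5adicflatcompl

variable {A : Type*} [CommRing A] (I : Ideal A) {Z : Type*} {M : Type*}
  [AddCommGroup M] [Module A M]

/-- the action of an element of the completion `Â` on an element of a complete module, as an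
`A`-linear map in the first variable. -/
noncomputable def starLin [IsAdicComplete I M] (m : M) : AdicCompletion I A →ₗ[A] M where
  toFun a := (AdicCompletion.ofLinearEquiv I M).symm (a • AdicCompletion.ofLinearEquiv I M m)
  map_add' a b := by rw [add_smul, map_add]
  map_smul' c a := by rw [smul_assoc, map_smul, RingHom.id_apply]

lemma starLin_one [IsAdicComplete I M] (m : M) : starLin I m 1 = m := by
  simp [starLin]

lemma starLin_mem [IsAdicComplete I M] (m : M) {n : ℕ} {a : AdicCompletion I A}
    (ha : a ∈ (I ^ n • ⊤ : Submodule A (AdicCompletion I A))) :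
    starLin I m a ∈ (I ^ n • ⊤ : Submodule A M) :=
  map_mem_smul_top (starLin I m) _ ha

/-- the family whose adic sum defines the lift -/
noncomputable def liftFam [IsAdicComplete I M] (f : Z → M) (g : Z → AdicCompletion I A) : Z → M :=
  fun z => starLin I (f z) (g z)

lemma liftFam_finite [IsAdicComplete I M] (f : Z → M) (g : decaying I Z (AdicCompletion I A))
    (n : ℕ) : {z | liftFam I f g z ∉ (I ^ n • ⊤ : Submodule A M)}.Finite := by
  refine (g.2 n).subset ?_
  intro z hz
  simp only [Set.mem_ofPred_eq] at hz ⊢
  exact fun h => hz (starLin_mem I (f z) h)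

lemma exists_decLift [IsAdicComplete I M] (f : Z → M) :
    ∃ φ : decaying I Z (AdicCompletion I A) →ₗ[A] M,
      ∀ g : decaying I Z (AdicCompletion I A), IsAdicSum I (liftFam I f g) (φ g) := by
  classical
  have hex : ∀ g : decaying I Z (AdicCompletion I A),
      ∃ x : M, IsAdicSum I (liftFam I f g) x :=
    fun g => IsAdicSum.exists _ (liftFam_finite I f g)
  choose φ hφ using hex
  refine ⟨{ toFun := φ, map_add' := ?_, map_smul' := ?_ }, hφ⟩
  · intro g g'
    refine IsAdicSum.unique (hφ (g + g')) ?_
    have := (hφ g).add (hφ g')
    convert this using 1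
    funext z
    simp [liftFam]
  · intro a g
    simp only [RingHom.id_apply]
    refine IsAdicSum.unique (hφ (a • g)) ?_
    have := (hφ g).smul a
    convert this using 1
    funext z
    simp [liftFam]

/-- the lift of `f : Z → M` to decaying functions -/
noncomputable def decLift [IsAdicComplete I M] (f : Z → M) :
    decaying I Z (AdicCompletion I A) →ₗ[A] M :=
  (exists_decLift I f).choose

lemma decLift_isAdicSum [IsAdicComplete I M] (f : Z → M)
    (g : decaying I Z (AdicCompletion I A)) : IsAdicSum I (liftFam I f g) (decLift I f g) :=
  (exists_decLift I f).choose_spec g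

lemma decLift_single [IsAdicComplete I M] [DecidableEq Z] (f : Z → M) (z : Z) :
    decLift I f (single I z (1 : AdicCompletion I A)) = f z := by
  refine IsAdicSum.unique (decLift_isAdicSum I f _) ?_
  intro n
  refine ⟨{z}, fun z' hz' => ?_, ?_⟩
  · have hne : z' ≠ z := by simpa using hz'
    simp [liftFam, coe_single, Pi.single_eq_of_ne hne]
  · simp [liftFam, coe_single, starLin_one]

/-- Two linear maps out of `decaying I Z Â` into a separated module which agree on the functions
`single z 1` are equal (`A` Noetherian). -/
lemma decaying_hom_ext [IsNoetherianRing A] [IsHausdorff I M] [DecidableEq Z]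
    (φ φ' : decaying I Z (AdicCompletion I A) →ₗ[A] M)
    (h : ∀ z, φ (single I z (1 : AdicCompletion I A)) = φ' (single I z (1 : AdicCompletion I A))) :
    φ = φ' := by
  classical
  have hI : I.FG := IsNoetherian.noetherian I
  have hcomp : IsAdicComplete I (AdicCompletion I A) := AdicCompletion.isAdicComplete hI
  have happrox := (Groth.Agent.S17537.result I A).1 hcomp
  set ψ := φ - φ' with hψ
  have hψ1 : ∀ z, ψ (single I z (1 : AdicCompletion I A)) = 0 := by
    intro z
    simp [hψ, h z]
  suffices hzero : ∀ g, ψ g = 0 by
    ext g
    have := hzero g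
    rw [hψ, LinearMap.sub_apply, sub_eq_zero] at this
    exact this
  intro g
  apply IsHausdorff.haus (I := I) (M := M) inferInstance
  intro n
  rw [SModEq.zero]
  have hfgn : (I ^ n).FG := Ideal.FG.pow hI
  -- values on singles
  have hsingle : ∀ (z : Z) (a : AdicCompletion I A),
      ψ (single I z a) ∈ (I ^ n • ⊤ : Submodule A M) := by
    intro z a
    obtain ⟨a₀, ha₀⟩ := happrox n a
    have hdecomp : single I z a = a₀ • single I z (1 : AdicCompletion I A) +
        single I z (a - AdicCompletion.of I A a₀) := by
      apply Subtype.ext
      funext z'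
      by_cases hz : z' = z
      · subst hz
        simp only [Submodule.coe_add, Submodule.coe_smul, coe_single, Pi.add_apply,
          Pi.smul_apply, Pi.single_eq_same]
        have : a₀ • (1 : AdicCompletion I A) = AdicCompletion.of I A a₀ := by
          rw [Algebra.smul_def, mul_one]
          rfl
        rw [this]
        abel
      · simp [coe_single, Pi.single_eq_of_ne hz]
    rw [hdecomp, map_add, map_smul, hψ1, smul_zero, zero_add]
    apply map_mem_smul_top
    apply mem_smul_top_of_forall hfgn
    intro z'
    by_cases hz : z' = z
    · subst hz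
      simpa [coe_single] using ha₀
    · simp [coe_single, Pi.single_eq_of_ne hz]
  -- decompose `g`
  set S := (g.2 n).toFinset with hS
  have hdecomp : g = (∑ z ∈ S, single I z ((g : Z → AdicCompletion I A) z)) +
      (g - ∑ z ∈ S, single I z ((g : Z → AdicCompletion I A) z)) := by abel
  rw [hdecomp, map_add, map_sum]
  refine Submodule.add_mem _ (Submodule.sum_mem _ fun z _ => hsingle z _) ?_
  apply map_mem_smul_top
  apply mem_smul_top_of_forall hfgn
  intro z'
  have hval : ((g - ∑ z ∈ S, single I z ((g : Z → AdicCompletion I A) z) :
      decaying I Z (AdicCompletion I A)) : Z → AdicCompletion I A) z' =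
      if z' ∈ S then 0 else (g : Z → AdicCompletion I A) z' := by
    simp only [Submodule.coe_sub, Submodule.coe_sum, coe_single, Pi.sub_apply,
      Finset.sum_apply]
    rw [Finset.sum_pi_single]
    split_ifs <;> simp
  rw [hval]
  split_ifs with hz'
  · exact Submodule.zero_mem _
  · simpa [hS] using hz'

end Groth.Agent.Lib.Helper87
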