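import Groth.Agent.Lib.Helper87.KaehlerLift

set_option autoImplicit false

namespace Groth.Agent.Lib.Helper87

open scoped TensorProduct

section diag

universe u v

variable {k : Type u} [Field k] [CharZero k] {A : Type v} [CommRing A] [Algebra k A]

/-- the basic relation `ab ⊗ c + ac ⊗ b + bc ⊗ a`. -/
noncomputable def relG (k : Type u) [Field k] {A : Type v} [CommRing A] [Algebra k A]
    (a b c : A) : A ⊗[k] A :=
  (a * b) ⊗ₜ[k] c + (a * c) ⊗ₜ[k] b + (b * c) ⊗ₜ[k] a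

/-- the span of the basic relations. -/
noncomputable def relW (k : Type u) [Field k] (A : Type v) [CommRing A] [Algebra k A] :
    Submodule k (A ⊗[k] A) :=
  Submodule.span k (Set.range fun t : A × A × A => relG k t.1 t.2.1 t.2.2)

theorem relG_mem (a b c : A) : relG k a b c ∈ relW k A :=
  Submodule.subset_span ⟨(a, b, c), rfl⟩

/-- the bilinear map `a, b ↦ (1/3) [a ⊗ b - ab ⊗ 1]` to the quotient. -/
noncomputable def betaQ (k : Type u) [Field k] (A : Type v) [CommRing A] [Algebra k A] :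
    A →ₗ[k] A →ₗ[k] (A ⊗[k] A) ⧸ relW k A :=
  (TensorProduct.mk k A A - (LinearMap.mul k A).compr₂ ((TensorProduct.mk k A A).flip 1)).compr₂
    ((3⁻¹ : k) • (relW k A).mkQ)

theorem betaQ_apply (a b : A) :
    betaQ k A a b = (3⁻¹ : k) • (relW k A).mkQ (a ⊗ₜ[k] b - (a * b) ⊗ₜ[k] 1) := by
  simp [betaQ]

theorem betaQ_leibniz (a x y : A) :
    betaQ k A a (x * y) = betaQ k A (a * x) y + betaQ k A (a * y) x := by
  simp only [betaQ_apply]
  rw [← smul_add, ← map_add, ← sub_eq_zero, ← smul_sub, ← map_sub]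
  have : a ⊗ₜ[k] (x * y) - (a * (x * y)) ⊗ₜ[k] 1 -
      (((a * x) ⊗ₜ[k] y - (a * x * y) ⊗ₜ[k] 1) + ((a * y) ⊗ₜ[k] x - (a * y * x) ⊗ₜ[k] 1)) =
      relG k a (x * y) 1 - relG k a x y := by
    simp only [relG, mul_one]
    have e1 : a * x * y = a * (x * y) := by ring
    have e2 : a * y * x = a * (x * y) := by ring
    rw [e1, e2]
    abel
  rw [this]
  have hmem : relG k a (x * y) 1 - relG k a x y ∈ relW k A :=
    sub_mem (relG_mem _ _ _) (relG_mem _ _ _)
  rw [Submodule.mkQ_apply, (Submodule.Quotient.mk_eq_zero _).mpr hmem, smul_zero]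

/-- the key left inverse computation: `2 β(a,b) - β(b,a) = [a ⊗ b]`. -/
theorem betaQ_key (a b : A) :
    (2 : k) • betaQ k A a b - betaQ k A b a = (relW k A).mkQ (a ⊗ₜ[k] b) := by
  simp only [betaQ_apply]
  have h3 : (relW k A).mkQ (a ⊗ₜ[k] b) = (3⁻¹ : k) • ((3 : k) • (relW k A).mkQ (a ⊗ₜ[k] b)) := by
    rw [smul_smul, inv_mul_cancel₀ (by norm_num : (3 : k) ≠ 0), one_smul]
  rw [h3, smul_comm (2 : k), ← smul_sub, ← map_smul, ← map_smul, ← map_sub]
  congr 1
  rw [← sub_eq_zero, ← map_sub, Submodule.mkQ_apply, Submodule.Quotient.mk_eq_zero]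
  have : (2 : k) • (a ⊗ₜ[k] b - (a * b) ⊗ₜ[k] 1) - (b ⊗ₜ[k] a - (b * a) ⊗ₜ[k] 1) -
      (3 : k) • a ⊗ₜ[k] b = - relG k a b 1 := by
    simp only [relG, mul_one, mul_comm b a]
    module
  rw [this]
  exact neg_mem (relG_mem _ _ _)

end diag

end Groth.Agent.Lib.Helper87
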