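import Groth.Agent.Lib.Helper87.DiagIdeal1

set_option autoImplicit false

namespace Groth.Agent.Lib.Helper87

open scoped TensorProduct

section diag

universe u v

variable {k : Type u} [Field k] [CharZero k] {A : Type v} [CommRing A] [Algebra k A]

/-- swap of the first two factors. -/
noncomputable abbrev sw1 (k : Type u) [Field k] (A : Type v) [CommRing A] [Algebra k A] :
    A ⊗[k] (A ⊗[k] A) →ₗ[k] A ⊗[k] (A ⊗[k] A) :=
  (TensorProduct.leftComm k A A A).toLinearMap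

/-- swap of the last two factors. -/
noncomputable abbrev sw2 (k : Type u) [Field k] (A : Type v) [CommRing A] [Algebra k A] :
    A ⊗[k] (A ⊗[k] A) →ₗ[k] A ⊗[k] (A ⊗[k] A) :=
  LinearMap.lTensor A (TensorProduct.comm k A A).toLinearMap

/-- the symmetrisation of a pure tensor. -/
noncomputable def symT (k : Type u) [Field k] {A : Type v} [CommRing A] [Algebra k A]
    (a b c : A) : A ⊗[k] (A ⊗[k] A) :=
  a ⊗ₜ[k] (b ⊗ₜ[k] c) + b ⊗ₜ[k] (a ⊗ₜ[k] c) + a ⊗ₜ[k] (c ⊗ₜ[k] b) + c ⊗ₜ[k] (a ⊗ₜ[k] b) +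
    b ⊗ₜ[k] (c ⊗ₜ[k] a) + c ⊗ₜ[k] (b ⊗ₜ[k] a)

theorem sw1_symT (a b c : A) : sw1 k A (symT k a b c) = symT k a b c := by
  simp only [symT, map_add, LinearEquiv.coe_coe, TensorProduct.leftComm_tmul]
  abel

theorem sw2_symT (a b c : A) : sw2 k A (symT k a b c) = symT k a b c := by
  simp only [symT, map_add, LinearMap.lTensor_tmul, LinearEquiv.coe_coe, TensorProduct.comm_tmul]
  abel

/-- the full symmetrisation operator. -/
noncomputable def symOp (k : Type u) [Field k] (A : Type v) [CommRing A] [Algebra k A] :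
    A ⊗[k] (A ⊗[k] A) →ₗ[k] A ⊗[k] (A ⊗[k] A) :=
  LinearMap.id + sw1 k A + sw2 k A + sw1 k A ∘ₗ sw2 k A + sw2 k A ∘ₗ sw1 k A +
    sw1 k A ∘ₗ sw2 k A ∘ₗ sw1 k A

theorem symOp_tmul (a b c : A) : symOp k A (a ⊗ₜ[k] (b ⊗ₜ[k] c)) = symT k a b c := by
  simp only [symOp, symT, LinearMap.add_apply, LinearMap.id_apply, LinearMap.comp_apply,
    LinearEquiv.coe_coe, TensorProduct.leftComm_tmul, LinearMap.lTensor_tmul,
    TensorProduct.comm_tmul]

theorem symOp_of_fixed (x : A ⊗[k] (A ⊗[k] A)) (h1 : sw1 k A x = x) (h2 : sw2 k A x = x) :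
    symOp k A x = (6 : k) • x := by
  simp only [symOp, LinearMap.add_apply, LinearMap.id_apply, LinearMap.comp_apply, h1, h2]
  module

theorem r_symT (r : A ⊗[k] (A ⊗[k] A) →ₗ[k] A ⊗[k] A)
    (hr : ∀ a b c : A, r (a ⊗ₜ[k] (b ⊗ₜ[k] c)) = (a * b) ⊗ₜ[k] c) (a b c : A) :
    r (symT k a b c) = (2 : k) • relG k a b c := by
  simp only [symT, map_add, hr, relG, mul_comm b a, mul_comm c a, mul_comm c b]
  module

theorem D_relG (D : A ⊗[k] A →ₗ[k] Ω[A⁄k])
    (hD : ∀ a b : A, D (a ⊗ₜ[k] b) =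
      (2 : A) • (a • KaehlerDifferential.D k A b) - b • KaehlerDifferential.D k A a)
    (a b c : A) : D (relG k a b c) = 0 := by
  simp only [relG, map_add, hD, Derivation.leibniz]
  module

end diag

end Groth.Agent.Lib.Helper87
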