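import Groth.Agent.Lib.Helper87.DiagIdeal2

set_option autoImplicit false

namespace Groth.Agent.Lib.Helper87

open scoped TensorProduct

section diag

universe u v

variable {k : Type u} [Field k] [CharZero k] {A : Type v} [CommRing A] [Algebra k A]

theorem D_r_symOp (r : A ⊗[k] (A ⊗[k] A) →ₗ[k] A ⊗[k] A)
    (hr : ∀ a b c : A, r (a ⊗ₜ[k] (b ⊗ₜ[k] c)) = (a * b) ⊗ₜ[k] c)
    (D : A ⊗[k] A →ₗ[k] Ω[A⁄k])
    (hD : ∀ a b : A, D (a ⊗ₜ[k] b) =
      (2 : A) • (a • KaehlerDifferential.D k A b) - b • KaehlerDifferential.D k A a)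
    (x : A ⊗[k] (A ⊗[k] A)) : D (r (symOp k A x)) = 0 := by
  induction x using TensorProduct.induction_on with
  | zero => simp
  | tmul a y =>
    induction y using TensorProduct.induction_on with
    | zero => simp
    | tmul b c => rw [symOp_tmul, r_symT r hr, map_smul, D_relG D hD, smul_zero]
    | add y z hy hz => rw [TensorProduct.tmul_add, map_add, map_add, map_add, hy, hz, add_zero]
  | add x y hx hy => rw [map_add, map_add, map_add, hx, hy, add_zero]

theorem D_surjective (D : A ⊗[k] A →ₗ[k] Ω[A⁄k])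
    (hD : ∀ a b : A, D (a ⊗ₜ[k] b) =
      (2 : A) • (a • KaehlerDifferential.D k A b) - b • KaehlerDifferential.D k A a) :
    Function.Surjective D := by
  intro ω
  have hω : ω ∈ Submodule.span A (Set.range (KaehlerDifferential.D k A)) := by
    rw [KaehlerDifferential.span_range_derivation]; trivial
  suffices h : ∀ c : A, c • ω ∈ LinearMap.range D by
    have := h 1
    rwa [one_smul] at this
  induction hω using Submodule.span_induction with
  | mem ω hω =>
    obtain ⟨b, rfl⟩ := hω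
    intro c
    refine ⟨(3⁻¹ : k) • ((2 : k) • c ⊗ₜ[k] b + b ⊗ₜ[k] c), ?_⟩
    rw [map_smul, map_add, map_smul, hD, hD]
    have : (2 : k) • ((2 : A) • c • (KaehlerDifferential.D k A) b - b • (KaehlerDifferential.D k A) c) +
        ((2 : A) • b • (KaehlerDifferential.D k A) c - c • (KaehlerDifferential.D k A) b) =
        (3 : k) • (c • (KaehlerDifferential.D k A) b) := by
      rw [ofNat_smul_eq_nsmul k, ofNat_smul_eq_nsmul k, ofNat_smul_eq_nsmul A,
        ofNat_smul_eq_nsmul A]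
      module
    rw [this, smul_smul, inv_mul_cancel₀ (by norm_num : (3 : k) ≠ 0), one_smul]
  | zero => intro c; rw [smul_zero]; exact zero_mem _
  | add x y _ _ hx hy => intro c; rw [smul_add]; exact add_mem (hx c) (hy c)
  | smul a x _ hx => intro c; rw [smul_smul]; exact hx _

theorem kerD_le (D : A ⊗[k] A →ₗ[k] Ω[A⁄k])
    (hD : ∀ a b : A, D (a ⊗ₜ[k] b) =
      (2 : A) • (a • KaehlerDifferential.D k A b) - b • KaehlerDifferential.D k A a)
    (y : A ⊗[k] A) (hy : D y = 0) : y ∈ relW k A := by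
  obtain ⟨φ, hφ⟩ := exists_kaehler_lift (betaQ k A) betaQ_leibniz
  have hcomp : φ ∘ₗ D = (relW k A).mkQ := by
    apply TensorProduct.ext'
    intro a b
    rw [LinearMap.comp_apply, hD, map_sub, smul_smul, hφ, hφ, ← betaQ_key]
    congr 1
    have : (2 : A) * a = (2 : k) • a := by
      rw [Algebra.smul_def, map_ofNat]
    rw [this, map_smul, LinearMap.smul_apply]
  have := congr($hcomp y)
  rw [LinearMap.comp_apply, hy, map_zero] at this
  rw [← Submodule.Quotient.mk_eq_zero]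
  exact this.symm

theorem relW_le_image (r : A ⊗[k] (A ⊗[k] A) →ₗ[k] A ⊗[k] A)
    (hr : ∀ a b c : A, r (a ⊗ₜ[k] (b ⊗ₜ[k] c)) = (a * b) ⊗ₜ[k] c)
    (y : A ⊗[k] A) (hy : y ∈ relW k A) :
    ∃ x : A ⊗[k] (A ⊗[k] A), sw1 k A x = x ∧ sw2 k A x = x ∧ r x = y := by
  unfold relW at hy
  induction hy using Submodule.span_induction with
  | mem y hy =>
    obtain ⟨⟨a, b, c⟩, rfl⟩ := hy
    refine ⟨(2⁻¹ : k) • symT k a b c, ?_, ?_, ?_⟩
    · rw [map_smul, sw1_symT]
    · rw [map_smul, sw2_symT]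
    · rw [map_smul, r_symT r hr, smul_smul, inv_mul_cancel₀ (by norm_num : (2 : k) ≠ 0),
        one_smul]
  | zero => exact ⟨0, by simp, by simp, by simp⟩
  | add y z _ _ hy hz =>
    obtain ⟨x1, h1, h2, h3⟩ := hy
    obtain ⟨x2, h1', h2', h3'⟩ := hz
    exact ⟨x1 + x2, by rw [map_add, h1, h1'], by rw [map_add, h2, h2'], by rw [map_add, h3, h3']⟩
  | smul c y _ hy =>
    obtain ⟨x1, h1, h2, h3⟩ := hy
    exact ⟨c • x1, by rw [map_smul, h1], by rw [map_smul, h2], by rw [map_smul, h3]⟩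

theorem diag_sym3 (r : A ⊗[k] (A ⊗[k] A) →ₗ[k] A ⊗[k] A)
    (hr : ∀ a b c : A, r (a ⊗ₜ[k] (b ⊗ₜ[k] c)) = (a * b) ⊗ₜ[k] c)
    (D : A ⊗[k] A →ₗ[k] Ω[A⁄k])
    (hD : ∀ a b : A, D (a ⊗ₜ[k] b) =
      (2 : A) • (a • KaehlerDifferential.D k A b) - b • KaehlerDifferential.D k A a) :
    (∀ y : A ⊗[k] A, D y = 0 ↔ ∃ x : A ⊗[k] (A ⊗[k] A),
        TensorProduct.leftComm k A A A x = x ∧
        LinearMap.lTensor A (TensorProduct.comm k A A).toLinearMap x = x ∧ r x = y) ∧
    Function.Surjective D := by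
  refine ⟨fun y => ⟨fun hy => ?_, ?_⟩, D_surjective D hD⟩
  · exact relW_le_image r hr y (kerD_le D hD y hy)
  · rintro ⟨x, h1, h2, rfl⟩
    have h6 := symOp_of_fixed (k := k) x h1 h2
    have hx : x = (6⁻¹ : k) • symOp k A x := by
      rw [h6, smul_smul, inv_mul_cancel₀ (by norm_num : (6 : k) ≠ 0), one_smul]
    rw [hx, map_smul, map_smul, D_r_symOp r hr D hD, smul_zero]

end diag

end Groth.Agent.Lib.Helper87
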