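import Groth.Agent.Lib.Helper87.DiagIdeal3

set_option autoImplicit false

namespace Groth.Agent.Lib.Helper87

open scoped TensorProduct

section diag

universe u v

variable {k : Type u} [Field k] [CharZero k] {A : Type v} [CommRing A] [Algebra k A]

/-- the symmetrisation of a pure tensor under the swap of the last two factors. -/
noncomputable def sym2T (k : Type u) [Field k] {A : Type v} [CommRing A] [Algebra k A]
    (a u v : A) : A ⊗[k] (A ⊗[k] A) :=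
  a ⊗ₜ[k] (u ⊗ₜ[k] v) + a ⊗ₜ[k] (v ⊗ₜ[k] u)

omit [CharZero k] in
theorem sw2_sym2T (a u v : A) : sw2 k A (sym2T k a u v) = sym2T k a u v := by
  simp only [sym2T, map_add, LinearMap.lTensor_tmul, LinearEquiv.coe_coe, TensorProduct.comm_tmul]
  abel

omit [CharZero k] in
theorem add_sw2_tmul (a u v : A) :
    a ⊗ₜ[k] (u ⊗ₜ[k] v) + sw2 k A (a ⊗ₜ[k] (u ⊗ₜ[k] v)) = sym2T k a u v := by
  simp only [sym2T, LinearMap.lTensor_tmul, LinearEquiv.coe_coe, TensorProduct.comm_tmul]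

variable (r₁₂ r₂₃ : A ⊗[k] (A ⊗[k] A) →ₗ[k] A ⊗[k] A)
  (h₁₂ : ∀ a u v : A, r₁₂ (a ⊗ₜ[k] (u ⊗ₜ[k] v)) = (a * u) ⊗ₜ[k] v)
  (h₂₃ : ∀ a u v : A, r₂₃ (a ⊗ₜ[k] (u ⊗ₜ[k] v)) = (u * v) ⊗ₜ[k] a)

include h₁₂ in
omit [CharZero k] in
theorem r12_sym2T (a u v : A) :
    r₁₂ (sym2T k a u v) = (a * u) ⊗ₜ[k] v + (a * v) ⊗ₜ[k] u := by
  simp only [sym2T, map_add, h₁₂]

include h₂₃ in
omit [CharZero k] in
theorem r23_sym2T (a u v : A) :
    r₂₃ (sym2T k a u v) = (2 : k) • (u * v) ⊗ₜ[k] a := by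
  simp only [sym2T, map_add, h₂₃, mul_comm v u]
  module

/-- the submodule of `r₁₂`-images of symmetric elements killed by `r₂₃`. -/
noncomputable def relV : Submodule k (A ⊗[k] A) :=
  Submodule.map r₁₂ (LinearMap.ker (sw2 k A - LinearMap.id) ⊓ LinearMap.ker r₂₃)

omit [CharZero k] in
theorem mem_relV (y : A ⊗[k] A) :
    y ∈ relV r₁₂ r₂₃ ↔ ∃ x, sw2 k A x = x ∧ r₂₃ x = 0 ∧ r₁₂ x = y := by
  simp only [relV, Submodule.mem_map, Submodule.mem_inf, LinearMap.mem_ker, LinearMap.sub_apply,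
    LinearMap.id_apply, sub_eq_zero, and_assoc]

/-- the bilinear map `a, b ↦ [a ⊗ b - ab ⊗ 1]`. -/
noncomputable def betaV : A →ₗ[k] A →ₗ[k] (A ⊗[k] A) ⧸ relV r₁₂ r₂₃ :=
  (TensorProduct.mk k A A - (LinearMap.mul k A).compr₂ ((TensorProduct.mk k A A).flip 1)).compr₂
    (relV r₁₂ r₂₃).mkQ

omit [CharZero k] in
theorem betaV_apply (a b : A) :
    betaV r₁₂ r₂₃ a b = (relV r₁₂ r₂₃).mkQ (a ⊗ₜ[k] b - (a * b) ⊗ₜ[k] 1) := by
  simp [betaV]

include h₁₂ h₂₃ in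
omit [CharZero k] in
theorem betaV_leibniz (a x y : A) :
    betaV r₁₂ r₂₃ a (x * y) = betaV r₁₂ r₂₃ (a * x) y + betaV r₁₂ r₂₃ (a * y) x := by
  simp only [betaV_apply]
  rw [← map_add, ← sub_eq_zero, ← map_sub, Submodule.mkQ_apply, Submodule.Quotient.mk_eq_zero,
    mem_relV]
  refine ⟨sym2T k a (x * y) 1 - sym2T k a x y, ?_, ?_, ?_⟩
  · rw [map_sub, sw2_sym2T, sw2_sym2T]
  · rw [map_sub, r23_sym2T r₂₃ h₂₃, r23_sym2T r₂₃ h₂₃, mul_one, sub_self]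
  · rw [map_sub, r12_sym2T r₁₂ h₁₂, r12_sym2T r₁₂ h₁₂]
    have e1 : a * x * y = a * (x * y) := by ring
    have e2 : a * y * x = a * (x * y) := by ring
    rw [e1, e2, mul_one]
    abel

end diag

end Groth.Agent.Lib.Helper87
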