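import Groth.Agent.Lib.Helper87.DiagIdeal4

set_option autoImplicit false

namespace Groth.Agent.Lib.Helper87

open scoped TensorProduct

section diag

universe u v

variable {k : Type u} [Field k] [CharZero k] {A : Type v} [CommRing A] [Algebra k A]

/-- the section `u ⊗ a ↦ (1/2)(a ⊗ u ⊗ 1 + a ⊗ 1 ⊗ u)`. -/
noncomputable def secX (k : Type u) [Field k] (A : Type v) [CommRing A] [Algebra k A] :
    A ⊗[k] A →ₗ[k] A ⊗[k] (A ⊗[k] A) :=
  (2⁻¹ : k) • ((LinearMap.id + sw2 k A) ∘ₗ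
    (LinearMap.lTensor A ((TensorProduct.mk k A A).flip 1)) ∘ₗ
      (TensorProduct.comm k A A).toLinearMap)

omit [CharZero k] in
theorem secX_tmul (u a : A) : secX k A (u ⊗ₜ[k] a) = (2⁻¹ : k) • sym2T k a u 1 := by
  simp only [secX, sym2T, LinearMap.smul_apply, LinearMap.comp_apply, LinearEquiv.coe_coe,
    TensorProduct.comm_tmul, LinearMap.lTensor_tmul, LinearMap.flip_apply, TensorProduct.mk_apply,
    LinearMap.add_apply, LinearMap.id_apply]

omit [CharZero k] in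
theorem sw2_secX (q : A ⊗[k] A) : sw2 k A (secX k A q) = secX k A q := by
  induction q using TensorProduct.induction_on with
  | zero => simp
  | tmul u a => rw [secX_tmul, map_smul, sw2_sym2T]
  | add x y hx hy => rw [map_add, map_add, hx, hy]

variable (r₁₂ r₂₃ : A ⊗[k] (A ⊗[k] A) →ₗ[k] A ⊗[k] A)
  (h₁₂ : ∀ a u v : A, r₁₂ (a ⊗ₜ[k] (u ⊗ₜ[k] v)) = (a * u) ⊗ₜ[k] v)
  (h₂₃ : ∀ a u v : A, r₂₃ (a ⊗ₜ[k] (u ⊗ₜ[k] v)) = (u * v) ⊗ₜ[k] a)

include h₂₃ in
theorem r23_secX (q : A ⊗[k] A) : r₂₃ (secX k A q) = q := by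
  induction q using TensorProduct.induction_on with
  | zero => simp
  | tmul u a =>
    rw [secX_tmul, map_smul, r23_sym2T r₂₃ h₂₃, smul_smul,
      inv_mul_cancel₀ (by norm_num : (2 : k) ≠ 0), one_smul, mul_one]
  | add x y hx hy => rw [map_add, map_add, hx, hy]

include h₁₂ in
theorem mul_r12_secX (q : A ⊗[k] A) :
    LinearMap.mul' k A (r₁₂ (secX k A q)) = LinearMap.mul' k A q := by
  induction q using TensorProduct.induction_on with
  | zero => simp
  | tmul u a =>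
    rw [secX_tmul, map_smul, map_smul, r12_sym2T r₁₂ h₁₂, map_add, LinearMap.mul'_apply,
      LinearMap.mul'_apply, LinearMap.mul'_apply, mul_one, mul_one, mul_comm u a]
    rw [← two_smul k (a * u), smul_smul, inv_mul_cancel₀ (by norm_num : (2 : k) ≠ 0), one_smul]
  | add x y hx hy => rw [map_add, map_add, map_add, map_add, hx, hy]

variable (ψ : (A ⊗[k] A) × (A ⊗[k] A) →ₗ[k] Ω[A⁄k])
  (hψ : ∀ a u b v : A, ψ (a ⊗ₜ[k] u, b ⊗ₜ[k] v) =
    (2 : A) • (a • KaehlerDifferential.D k A u) - v • KaehlerDifferential.D k A b)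

/-- the first component of `ψ`. -/
noncomputable def psiL : A ⊗[k] A →ₗ[k] Ω[A⁄k] := ψ.comp (LinearMap.inl k _ _)

/-- the second component of `ψ`. -/
noncomputable def psiR : A ⊗[k] A →ₗ[k] Ω[A⁄k] := ψ.comp (LinearMap.inr k _ _)

omit [CharZero k] in
theorem psi_split (p q : A ⊗[k] A) :
    ψ (p, q) = psiL ψ p + psiR ψ q := by
  rw [psiL, psiR, LinearMap.comp_apply, LinearMap.comp_apply, ← map_add]
  simp

include hψ in
omit [CharZero k] in
theorem psiL_tmul (a u : A) :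
    psiL ψ (a ⊗ₜ[k] u) = (2 : A) • (a • KaehlerDifferential.D k A u) := by
  have := hψ a u 0 0
  rw [TensorProduct.zero_tmul, zero_smul, sub_zero] at this
  rw [psiL, LinearMap.comp_apply, LinearMap.inl_apply, this]

include hψ in
omit [CharZero k] in
theorem psiR_tmul (b v : A) :
    psiR ψ (b ⊗ₜ[k] v) = - (v • KaehlerDifferential.D k A b) := by
  have := hψ 0 0 b v
  rw [TensorProduct.zero_tmul, zero_smul, smul_zero, zero_sub] at this
  rw [psiR, LinearMap.comp_apply, LinearMap.inr_apply, this]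

/-- the composite `x ↦ ψ (r₁₂ x, r₂₃ x)` as a linear map. -/
noncomputable def bigPsi : A ⊗[k] (A ⊗[k] A) →ₗ[k] Ω[A⁄k] :=
  psiL ψ ∘ₗ r₁₂ + psiR ψ ∘ₗ r₂₃

omit [CharZero k] in
theorem bigPsi_apply (x : A ⊗[k] (A ⊗[k] A)) : bigPsi r₁₂ r₂₃ ψ x = ψ (r₁₂ x, r₂₃ x) := by
  rw [psi_split]; rfl

include h₁₂ h₂₃ hψ in
omit [CharZero k] in
theorem bigPsi_sym2T (a u v : A) : bigPsi r₁₂ r₂₃ ψ (sym2T k a u v) = 0 := by
  simp only [bigPsi, LinearMap.add_apply, LinearMap.comp_apply]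
  rw [r12_sym2T r₁₂ h₁₂, r23_sym2T r₂₃ h₂₃, map_add, map_smul, psiL_tmul ψ hψ, psiL_tmul ψ hψ,
    psiR_tmul ψ hψ, Derivation.leibniz, ofNat_smul_eq_nsmul k, ofNat_smul_eq_nsmul A,
    ofNat_smul_eq_nsmul A]
  module

include h₁₂ h₂₃ hψ in
omit [CharZero k] in
theorem bigPsi_add_sw2 (x : A ⊗[k] (A ⊗[k] A)) : bigPsi r₁₂ r₂₃ ψ (x + sw2 k A x) = 0 := by
  induction x using TensorProduct.induction_on with
  | zero => simp
  | tmul a y =>
    induction y using TensorProduct.induction_on with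
    | zero => simp
    | tmul b c => rw [add_sw2_tmul, bigPsi_sym2T r₁₂ r₂₃ h₁₂ h₂₃ ψ hψ]
    | add y z hy hz =>
      rw [TensorProduct.tmul_add, map_add (sw2 k A), add_add_add_comm, map_add, hy, hz, add_zero]
  | add x y hx hy => rw [map_add (sw2 k A), add_add_add_comm, map_add, hx, hy, add_zero]

include h₁₂ h₂₃ hψ in
theorem bigPsi_of_fixed (x : A ⊗[k] (A ⊗[k] A)) (hx : sw2 k A x = x) :
    bigPsi r₁₂ r₂₃ ψ x = 0 := by
  have h := bigPsi_add_sw2 r₁₂ r₂₃ h₁₂ h₂₃ ψ hψ x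
  rw [hx, ← two_smul k x, map_smul] at h
  exact (smul_eq_zero.mp h).resolve_left (by norm_num)

end diag

end Groth.Agent.Lib.Helper87
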