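import Groth.Agent.Lib.Helper87.DiagIdeal5

set_option autoImplicit false

namespace Groth.Agent.Lib.Helper87

open scoped TensorProduct

section diag

universe u v

variable {k : Type u} [Field k] [CharZero k] {A : Type v} [CommRing A] [Algebra k A]

variable (r₁₂ r₂₃ : A ⊗[k] (A ⊗[k] A) →ₗ[k] A ⊗[k] A)
  (h₁₂ : ∀ a u v : A, r₁₂ (a ⊗ₜ[k] (u ⊗ₜ[k] v)) = (a * u) ⊗ₜ[k] v)
  (h₂₃ : ∀ a u v : A, r₂₃ (a ⊗ₜ[k] (u ⊗ₜ[k] v)) = (u * v) ⊗ₜ[k] a)
  (ψ : (A ⊗[k] A) × (A ⊗[k] A) →ₗ[k] Ω[A⁄k])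
  (hψ : ∀ a u b v : A, ψ (a ⊗ₜ[k] u, b ⊗ₜ[k] v) =
    (2 : A) • (a • KaehlerDifferential.D k A u) - v • KaehlerDifferential.D k A b)

include h₁₂ h₂₃ hψ in
/-- an element of the diagonal ideal killed by `ψ(·, 0)` comes from a symmetric element. -/
theorem mem_relV_of_psiL (p : A ⊗[k] A) (hμ : LinearMap.mul' k A p = 0) (hp : psiL ψ p = 0) :
    p ∈ relV r₁₂ r₂₃ := by
  obtain ⟨φ, hφ⟩ := exists_kaehler_lift (betaV r₁₂ r₂₃) (betaV_leibniz r₁₂ r₂₃ h₁₂ h₂₃)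
  have hcomp : φ ∘ₗ psiL ψ = (2 : k) • ((relV r₁₂ r₂₃).mkQ -
      (relV r₁₂ r₂₃).mkQ ∘ₗ (TensorProduct.mk k A A).flip 1 ∘ₗ LinearMap.mul' k A) := by
    apply TensorProduct.ext'
    intro a b
    rw [LinearMap.comp_apply, psiL_tmul ψ hψ, smul_smul, hφ]
    have : (2 : A) * a = (2 : k) • a := by
      rw [Algebra.smul_def, map_ofNat]
    rw [this, map_smul, LinearMap.smul_apply, betaV_apply]
    simp only [LinearMap.smul_apply, LinearMap.sub_apply, LinearMap.comp_apply,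
      LinearMap.mul'_apply, LinearMap.flip_apply, TensorProduct.mk_apply, map_sub]
  have := congr($hcomp p)
  rw [LinearMap.comp_apply, hp, map_zero] at this
  simp only [LinearMap.smul_apply, LinearMap.sub_apply, LinearMap.comp_apply, hμ, map_zero,
    sub_zero] at this
  have h0 := (smul_eq_zero.mp this.symm).resolve_left (by norm_num)
  rwa [Submodule.mkQ_apply, Submodule.Quotient.mk_eq_zero] at h0

include hψ in
theorem psi_surj (ω : Ω[A⁄k]) :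
    ∃ p q : A ⊗[k] A, LinearMap.mul' k A p = LinearMap.mul' k A q ∧ ψ (p, q) = ω := by
  have hω : ω ∈ Submodule.span A (Set.range (KaehlerDifferential.D k A)) := by
    rw [KaehlerDifferential.span_range_derivation]; trivial
  suffices h : ∀ c : A, ∃ p : A ⊗[k] A, LinearMap.mul' k A p = 0 ∧ psiL ψ p = c • ω by
    obtain ⟨p, hp1, hp2⟩ := h 1
    refine ⟨p, 0, by rw [hp1, map_zero], ?_⟩
    rw [psi_split, hp2, map_zero, add_zero, one_smul]
  induction hω using Submodule.span_induction with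
  | mem ω hω =>
    obtain ⟨b, rfl⟩ := hω
    intro c
    refine ⟨(2⁻¹ : k) • (c ⊗ₜ[k] b - (c * b) ⊗ₜ[k] 1), ?_, ?_⟩
    · rw [map_smul, map_sub, LinearMap.mul'_apply, LinearMap.mul'_apply, mul_one, sub_self,
        smul_zero]
    · rw [map_smul, map_sub, psiL_tmul ψ hψ, psiL_tmul ψ hψ, Derivation.map_one_eq_zero,
        smul_zero, smul_zero, sub_zero, ofNat_smul_eq_nsmul A,
        ← ofNat_smul_eq_nsmul k, smul_smul, inv_mul_cancel₀ (by norm_num : (2 : k) ≠ 0), one_smul]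
  | zero => intro c; exact ⟨0, by simp, by simp⟩
  | add x y _ _ hx hy =>
    intro c
    obtain ⟨p1, h1, h2⟩ := hx c
    obtain ⟨p2, h1', h2'⟩ := hy c
    exact ⟨p1 + p2, by rw [map_add, h1, h1', add_zero], by rw [map_add, h2, h2', smul_add]⟩
  | smul a x _ hx => intro c; rw [smul_smul]; exact hx _

include h₁₂ h₂₃ hψ in
theorem diag_transp :
    (∀ p q : A ⊗[k] A, LinearMap.mul' k A p = LinearMap.mul' k A q →
      (ψ (p, q) = 0 ↔ ∃ x : A ⊗[k] (A ⊗[k] A),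
        LinearMap.lTensor A (TensorProduct.comm k A A).toLinearMap x = x ∧ r₁₂ x = p ∧ r₂₃ x = q)) ∧
    (∀ ω : Ω[A⁄k], ∃ p q : A ⊗[k] A, LinearMap.mul' k A p = LinearMap.mul' k A q ∧ ψ (p, q) = ω) := by
  refine ⟨fun p q hpq => ⟨fun h0 => ?_, ?_⟩, psi_surj ψ hψ⟩
  · -- reduce to q = 0
    set p' := p - r₁₂ (secX k A q) with hp'
    have hμ : LinearMap.mul' k A p' = 0 := by
      rw [hp', map_sub, mul_r12_secX r₁₂ h₁₂, hpq, sub_self]
    have hX := bigPsi_of_fixed r₁₂ r₂₃ h₁₂ h₂₃ ψ hψ (secX k A q) (sw2_secX q)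
    rw [bigPsi_apply, r23_secX r₂₃ h₂₃, psi_split] at hX
    rw [psi_split] at h0
    have hpL : psiL ψ p' = 0 := by
      rw [hp', map_sub, sub_eq_zero]
      exact add_right_cancel (h0.trans hX.symm)
    obtain ⟨x', hx1, hx2, hx3⟩ :=
      (mem_relV r₁₂ r₂₃ p').mp (mem_relV_of_psiL r₁₂ r₂₃ h₁₂ h₂₃ ψ hψ p' hμ hpL)
    refine ⟨x' + secX k A q, ?_, ?_, ?_⟩
    · rw [map_add, hx1, sw2_secX]
    · rw [map_add, hx3, hp', sub_add_cancel]
    · rw [map_add, hx2, zero_add, r23_secX r₂₃ h₂₃]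
  · rintro ⟨x, h1, rfl, rfl⟩
    rw [← bigPsi_apply]
    exact bigPsi_of_fixed r₁₂ r₂₃ h₁₂ h₂₃ ψ hψ x h1

end diag

end Groth.Agent.Lib.Helper87
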