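import Groth.Agent.Lib.Helper87.ConormalInj3

set_option autoImplicit false

namespace Groth.Agent.Lib.Helper87

open scoped TensorProduct
open KaehlerDifferential

section dcot

universe u

variable {A B : Type u} [CommRing A] [CommRing B] [Algebra A B] (P : Algebra.Extension.{u} A B)

/-- the differential `x ↦ 1 ⊗ dx` with values in the cotangent space. -/
noncomputable def dCot (x : P.Ring) : P.CotangentSpace := (1 : B) ⊗ₜ[P.Ring] D A P.Ring x

theorem dCot_add (x y : P.Ring) : dCot P (x + y) = dCot P x + dCot P y := by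
  rw [dCot, map_add, TensorProduct.tmul_add]; rfl

theorem dCot_sub (x y : P.Ring) : dCot P (x - y) = dCot P x - dCot P y := by
  rw [dCot, map_sub, TensorProduct.tmul_sub]; rfl

theorem dCot_zero : dCot P 0 = 0 := by
  rw [dCot, map_zero, TensorProduct.tmul_zero]

theorem dCot_one : dCot P 1 = 0 := by
  rw [dCot, Derivation.map_one_eq_zero, TensorProduct.tmul_zero]

theorem dCot_algebraMap (a : A) : dCot P (algebraMap A P.Ring a) = 0 := by
  rw [dCot, Derivation.map_algebraMap, TensorProduct.tmul_zero]

theorem dCot_mul (x y : P.Ring) :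
    dCot P (x * y) = algebraMap P.Ring B x • dCot P y + algebraMap P.Ring B y • dCot P x := by
  rw [dCot, Derivation.leibniz, TensorProduct.tmul_add, TensorProduct.tmul_smul,
    TensorProduct.tmul_smul, algebraMap_smul, algebraMap_smul]
  rfl

theorem toKaehler_dCot (x : P.Ring) : P.toKaehler (dCot P x) = D A B (algebraMap P.Ring B x) := by
  rw [dCot, KaehlerDifferential.mapBaseChange_tmul, one_smul, KaehlerDifferential.map_D]

theorem cotangentComplex_mk_eq (x : P.ker) :
    P.cotangentComplex (Algebra.Extension.Cotangent.mk x) = dCot P x.1 := rfl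

theorem exists_lift_dCot (b : B) (n : P.CotangentSpace) (h : P.toKaehler n = D A B b) :
    ∃ y : P.Ring, algebraMap P.Ring B y = b ∧ dCot P y = n := by
  obtain ⟨y₀, rfl⟩ := P.algebraMap_surjective b
  have h1 : P.toKaehler (n - dCot P y₀) = 0 := by
    rw [map_sub, toKaehler_dCot, h, sub_self]
  obtain ⟨c, hc⟩ := (P.exact_cotangentComplex_toKaehler _).mp h1
  obtain ⟨z, rfl⟩ := Algebra.Extension.Cotangent.mk_surjective c
  rw [cotangentComplex_mk_eq] at hc
  refine ⟨y₀ + z.1, ?_, ?_⟩
  · rw [map_add, (RingHom.mem_ker.mp z.2), add_zero]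
  · rw [dCot_add, hc, add_sub_cancel]

theorem lift_dCot_unique (hsq : P.ker ^ 2 = ⊥) (hinj : Function.Injective P.cotangentComplex)
    (y y' : P.Ring) (h1 : algebraMap P.Ring B y = algebraMap P.Ring B y')
    (h2 : dCot P y = dCot P y') : y = y' := by
  have hk : y - y' ∈ P.ker := by
    rw [RingHom.mem_ker, map_sub, h1, sub_self]
  have h3 : P.cotangentComplex (Algebra.Extension.Cotangent.mk ⟨y - y', hk⟩) = 0 := by
    rw [cotangentComplex_mk_eq, dCot_sub, h2, sub_self]
  have h4 := hinj (h3.trans (map_zero _).symm)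
  rw [Algebra.Extension.Cotangent.mk_eq_zero_iff, hsq, Ideal.mem_bot] at h4
  exact sub_eq_zero.mp h4

end dcot

end Groth.Agent.Lib.Helper87
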