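import Groth.Agent.Lib.Helper87.ExtIso1

set_option autoImplicit false

namespace Groth.Agent.Lib.Helper87

open scoped TensorProduct
open KaehlerDifferential

section iso

universe u

variable {A B : Type u} [CommRing A] [CommRing B] [Algebra A B]
  (P P' : Algebra.Extension.{u} A B)
  (e₂ : P.CotangentSpace ≃ₗ[B] P'.CotangentSpace)
  (h₂ : ∀ y, P'.toKaehler (e₂ y) = P.toKaehler y)

include h₂ in
theorem exists_image (x : P.Ring) :
    ∃ y : P'.Ring, algebraMap P'.Ring B y = algebraMap P.Ring B x ∧ dCot P' y = e₂ (dCot P x) :=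
  exists_lift_dCot P' _ _ (by rw [h₂, toKaehler_dCot])

/-- the underlying function of the comparison map. -/
noncomputable def isoFun (x : P.Ring) : P'.Ring := (exists_image P P' e₂ h₂ x).choose

theorem isoFun_algebraMap (x : P.Ring) :
    algebraMap P'.Ring B (isoFun P P' e₂ h₂ x) = algebraMap P.Ring B x :=
  (exists_image P P' e₂ h₂ x).choose_spec.1

theorem isoFun_dCot (x : P.Ring) : dCot P' (isoFun P P' e₂ h₂ x) = e₂ (dCot P x) :=
  (exists_image P P' e₂ h₂ x).choose_spec.2

variable (hsq' : P'.ker ^ 2 = ⊥) (hinj' : Function.Injective P'.cotangentComplex)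

include hsq' hinj' in
theorem isoFun_eq (x : P.Ring) (y : P'.Ring)
    (h1 : algebraMap P'.Ring B y = algebraMap P.Ring B x) (h2 : dCot P' y = e₂ (dCot P x)) :
    isoFun P P' e₂ h₂ x = y :=
  lift_dCot_unique P' hsq' hinj' _ _ ((isoFun_algebraMap P P' e₂ h₂ x).trans h1.symm)
    ((isoFun_dCot P P' e₂ h₂ x).trans h2.symm)

/-- the comparison map as a ring homomorphism. -/
noncomputable def isoRingHom : P.Ring →+* P'.Ring where
  toFun := isoFun P P' e₂ h₂
  map_one' := isoFun_eq P P' e₂ h₂ hsq' hinj' 1 1 (by rw [map_one, map_one])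
    (by rw [dCot_one, dCot_one, map_zero])
  map_mul' x y := by
    apply isoFun_eq P P' e₂ h₂ hsq' hinj'
    · rw [map_mul, map_mul, isoFun_algebraMap, isoFun_algebraMap]
    · rw [dCot_mul, dCot_mul, map_add, map_smul, map_smul, isoFun_algebraMap, isoFun_algebraMap,
        isoFun_dCot, isoFun_dCot]
  map_zero' := isoFun_eq P P' e₂ h₂ hsq' hinj' 0 0 (by rw [map_zero, map_zero])
    (by rw [dCot_zero, dCot_zero, map_zero])
  map_add' x y := by
    apply isoFun_eq P P' e₂ h₂ hsq' hinj'
    · rw [map_add, map_add, isoFun_algebraMap, isoFun_algebraMap]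
    · rw [dCot_add, dCot_add, map_add, isoFun_dCot, isoFun_dCot]

theorem isoRingHom_apply (x : P.Ring) :
    isoRingHom P P' e₂ h₂ hsq' hinj' x = isoFun P P' e₂ h₂ x := rfl

/-- the comparison map as a map of extensions. -/
noncomputable def isoHom : P.Hom P' where
  toRingHom := isoRingHom P P' e₂ h₂ hsq' hinj'
  toRingHom_algebraMap a := by
    rw [isoRingHom_apply, Algebra.algebraMap_self, RingHom.id_apply]
    apply isoFun_eq P P' e₂ h₂ hsq' hinj'
    · rw [← IsScalarTower.algebraMap_apply, ← IsScalarTower.algebraMap_apply]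
    · rw [dCot_algebraMap, dCot_algebraMap, map_zero]
  algebraMap_toRingHom x := by
    rw [isoRingHom_apply, isoFun_algebraMap, Algebra.algebraMap_self, RingHom.id_apply]

theorem isoHom_apply (x : P.Ring) :
    (isoHom P P' e₂ h₂ hsq' hinj').toRingHom x = isoFun P P' e₂ h₂ x := rfl

end iso

end Groth.Agent.Lib.Helper87
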