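import Groth.Agent.Lib.Helper87.ExtIso2

set_option autoImplicit false

namespace Groth.Agent.Lib.Helper87

open scoped TensorProduct
open KaehlerDifferential

section iso

universe u

variable {A B : Type u} [CommRing A] [CommRing B] [Algebra A B]
  (P P' : Algebra.Extension.{u} A B)
  (e₁ : P.Cotangent ≃ₗ[B] P'.Cotangent)
  (e₂ : P.CotangentSpace ≃ₗ[B] P'.CotangentSpace)
  (h₁ : ∀ x, e₂ (P.cotangentComplex x) = P'.cotangentComplex (e₁ x))
  (h₂ : ∀ y, P'.toKaehler (e₂ y) = P.toKaehler y)
  (hsq : P.ker ^ 2 = ⊥) (hsq' : P'.ker ^ 2 = ⊥)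
  (hinj : Function.Injective P.cotangentComplex)

include e₁ h₁ hinj in
theorem cotangentComplex_injective_transfer : Function.Injective P'.cotangentComplex := by
  rw [injective_iff_map_eq_zero]
  intro c hc
  obtain ⟨c₀, rfl⟩ := e₁.surjective c
  rw [← h₁] at hc
  have h3 : P.cotangentComplex c₀ = 0 := e₂.injective (hc.trans (map_zero _).symm)
  rw [hinj (h3.trans (map_zero _).symm), map_zero]

include h₁ hsq hinj in
theorem isoHom_bijective (hinj' : Function.Injective P'.cotangentComplex) :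
    Function.Bijective (isoHom P P' e₂ h₂ hsq' hinj').toRingHom := by
  constructor
  · rw [injective_iff_map_eq_zero]
    intro x hx
    rw [isoHom_apply] at hx
    have h3 : algebraMap P.Ring B x = 0 := by
      rw [← isoFun_algebraMap P P' e₂ h₂ x, hx, map_zero]
    have h4 : dCot P x = 0 := by
      apply e₂.injective
      rw [← isoFun_dCot P P' e₂ h₂ x, hx, dCot_zero, map_zero]
    exact lift_dCot_unique P hsq hinj x 0 (by rw [h3, map_zero]) (by rw [h4, dCot_zero])
  · intro y
    have h5 : P.toKaehler (e₂.symm (dCot P' y)) = D A B (algebraMap P'.Ring B y) := by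
      rw [← h₂, LinearEquiv.apply_symm_apply, toKaehler_dCot]
    obtain ⟨x, hx1, hx2⟩ := exists_lift_dCot P _ _ h5
    refine ⟨x, ?_⟩
    rw [isoHom_apply]
    apply isoFun_eq P P' e₂ h₂ hsq' hinj'
    · rw [hx1]
    · rw [hx2, LinearEquiv.apply_symm_apply]

include h₁ in
theorem isoHom_cotangent_map (hinj' : Function.Injective P'.cotangentComplex) :
    Algebra.Extension.Cotangent.map (isoHom P P' e₂ h₂ hsq' hinj') = e₁.toLinearMap := by
  apply LinearMap.ext
  intro c
  apply hinj'
  rw [LinearEquiv.coe_coe, ← h₁]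
  obtain ⟨x, rfl⟩ := Algebra.Extension.Cotangent.mk_surjective c
  rw [Algebra.Extension.Cotangent.map_mk, cotangentComplex_mk_eq, cotangentComplex_mk_eq]
  exact isoFun_dCot P P' e₂ h₂ x.1

include hsq hsq' hinj h₁ h₂ in
theorem exists_iso_of_cotangent_iso :
    ∃ f : P.Hom P', Function.Bijective f.toRingHom ∧
      Algebra.Extension.Cotangent.map f = e₁.toLinearMap := by
  have hinj' := cotangentComplex_injective_transfer P P' e₁ e₂ h₁ hinj
  exact ⟨isoHom P P' e₂ h₂ hsq' hinj', isoHom_bijective P P' e₁ e₂ h₁ h₂ hsq hsq' hinj hinj',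
    isoHom_cotangent_map P P' e₁ e₂ h₁ h₂ hsq' hinj'⟩

end iso

end Groth.Agent.Lib.Helper87
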