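import Groth.Prelude.Def_W4c2filtblowupsingRees
import Mathlib.Algebra.DirectSum.Decomposition
import Mathlib.RingTheory.GradedAlgebra.Basic

/-!
# The `ℤ`-grading of the extended Rees algebra of a filtration (helper87)
-/

set_option autoImplicit false
universe u

namespace Groth.Agent.Lib.Helper87.ExtRees

open FiltBl LaurentPolynomial DirectSum

variable {A : Type u} [CommRing A] (𝓕 : FiltBl.IdealFiltration A)

/-- The degree `n` part of the extended Rees algebra. -/
def deg (n : ℤ) : AddSubgroup 𝓕.extRees where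
  carrier := {x | ∀ m : ℤ, m ≠ n → (x : A[T;T⁻¹]).coeff m = 0}
  zero_mem' := by
    intro m _
    simp
  add_mem' := by
    intro x y hx hy m hm
    have hx' := hx m hm
    have hy' := hy m hm
    rw [Subalgebra.coe_add, AddMonoidAlgebra.coeff_add, Finsupp.add_apply, hx', hy', add_zero]
  neg_mem' := by
    intro x hx m hm
    have hx' := hx m hm
    rw [Subalgebra.coe_neg, AddMonoidAlgebra.coeff_neg, Finsupp.neg_apply, hx', neg_zero]

theorem mem_deg {n : ℤ} {x : 𝓕.extRees} :
    x ∈ deg 𝓕 n ↔ ∀ m : ℤ, m ≠ n → (x : A[T;T⁻¹]).coeff m = 0 := Iff.rfl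

theorem coe_eq_single_of_mem {n : ℤ} {x : 𝓕.extRees} (hx : x ∈ deg 𝓕 n) :
    (x : A[T;T⁻¹]) = AddMonoidAlgebra.single n ((x : A[T;T⁻¹]).coeff n) := by
  apply AddMonoidAlgebra.ext
  apply Finsupp.ext
  intro m
  rw [AddMonoidAlgebra.coeff_single, Finsupp.single_apply]
  split_ifs with h
  · subst h; rfl
  · exact hx m (Ne.symm h)

theorem single_mem_extRees (x : 𝓕.extRees) (n : ℤ) :
    (AddMonoidAlgebra.single n ((x : A[T;T⁻¹]).coeff n) : A[T;T⁻¹]) ∈ 𝓕.extRees := by
  intro m
  rw [AddMonoidAlgebra.coeff_single, Finsupp.single_apply]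
  split_ifs with h
  · subst h; exact x.2 n
  · exact Ideal.zero_mem _

/-- The degree `n` component of an element. -/
noncomputable def comp (x : 𝓕.extRees) (n : ℤ) : deg 𝓕 n :=
  ⟨⟨AddMonoidAlgebra.single n ((x : A[T;T⁻¹]).coeff n), single_mem_extRees 𝓕 x n⟩, by
    intro m hm
    change (AddMonoidAlgebra.single n ((x : A[T;T⁻¹]).coeff n) : A[T;T⁻¹]).coeff m = 0
    rw [AddMonoidAlgebra.coeff_single, Finsupp.single_apply, if_neg (Ne.symm hm)]⟩

theorem coe_comp (x : 𝓕.extRees) (n : ℤ) :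
    ((comp 𝓕 x n : 𝓕.extRees) : A[T;T⁻¹]) =
      AddMonoidAlgebra.single n ((x : A[T;T⁻¹]).coeff n) := rfl

instance gradedMonoid : SetLike.GradedMonoid (deg 𝓕) where
  one_mem := by
    intro m hm
    rw [Subalgebra.coe_one, AddMonoidAlgebra.one_def, AddMonoidAlgebra.coeff_single,
      Finsupp.single_apply, if_neg (Ne.symm hm)]
  mul_mem := by
    intro i j x y hx hy m hm
    rw [Subalgebra.coe_mul, coe_eq_single_of_mem 𝓕 hx, coe_eq_single_of_mem 𝓕 hy,
      AddMonoidAlgebra.single_mul_single, AddMonoidAlgebra.coeff_single, Finsupp.single_apply,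
      if_neg (Ne.symm hm)]

theorem coeff_coeAddMonoidHom (y : ⨁ n, deg 𝓕 n) (m : ℤ) :
    ((DirectSum.coeAddMonoidHom (deg 𝓕) y : 𝓕.extRees) : A[T;T⁻¹]).coeff m =
      (((y m : deg 𝓕 m) : 𝓕.extRees) : A[T;T⁻¹]).coeff m := by
  induction y using DirectSum.induction_on with
  | zero => simp
  | of n z =>
    rw [DirectSum.coeAddMonoidHom_of]
    by_cases h : n = m
    · subst h
      rw [DirectSum.of_eq_same]
    · rw [DirectSum.of_eq_of_ne _ _ _ (Ne.symm h)]
      rw [z.2 m (Ne.symm h)]
      simp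
  | add x y hx hy =>
    rw [map_add, Subalgebra.coe_add, AddMonoidAlgebra.coeff_add, Finsupp.add_apply, hx, hy,
      DirectSum.add_apply, AddSubgroup.coe_add, Subalgebra.coe_add, AddMonoidAlgebra.coeff_add,
      Finsupp.add_apply]

theorem isInternal : DirectSum.IsInternal (deg 𝓕) := by
  constructor
  · rw [injective_iff_map_eq_zero]
    intro y hy
    apply DFinsupp.ext
    intro m
    apply Subtype.ext
    apply Subtype.ext
    apply AddMonoidAlgebra.ext
    apply Finsupp.ext
    intro k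
    by_cases h : k = m
    · subst h
      rw [← coeff_coeAddMonoidHom, hy]
      rfl
    · rw [(y m).2 k h]
      rfl
  · intro x
    classical
    refine ⟨∑ n ∈ (x : A[T;T⁻¹]).coeff.support, DirectSum.of (fun n => deg 𝓕 n) n (comp 𝓕 x n), ?_⟩
    rw [map_sum]
    apply Subtype.ext
    rw [AddSubmonoidClass.coe_finsetSum]
    conv_rhs => rw [← AddMonoidAlgebra.sum_coeff_single (x : A[T;T⁻¹])]
    rw [Finsupp.sum]
    refine Finset.sum_congr rfl fun n _ => ?_
    rw [DirectSum.coeAddMonoidHom_of]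
    rfl

noncomputable instance gradedRing : GradedRing (deg 𝓕) where
  toGradedMonoid := gradedMonoid 𝓕
  toDecomposition := (isInternal 𝓕).chooseDecomposition

end Groth.Agent.Lib.Helper87.ExtRees
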