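import Groth.Agent.Lib.Helper87.ExtRees1
import Mathlib.RingTheory.Polynomial.Basic
import Mathlib.RingTheory.FiniteType
import Mathlib.RingTheory.Noetherian.Basic

/-!
# The extended Rees algebra: Noetherianity, the element `u`, the homogeneous maximal ideal
(helper87)
-/

set_option autoImplicit false
universe u

namespace Groth.Agent.Lib.Helper87.ExtRees

open FiltBl LaurentPolynomial DirectSum

variable {A : Type u} [CommRing A] (𝓕 : FiltBl.IdealFiltration A)

theorem single_mem_extRees' (n : ℤ) (a : A) (ha : a ∈ 𝓕.F n.toNat) :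
    (AddMonoidAlgebra.single n a : A[T;T⁻¹]) ∈ 𝓕.extRees := by
  intro m
  rw [AddMonoidAlgebra.coeff_single, Finsupp.single_apply]
  split_ifs with h
  · subst h; exact ha
  · exact Ideal.zero_mem _

theorem sum_comp (x : 𝓕.extRees) :
    ∑ n ∈ (x : A[T;T⁻¹]).coeff.support, (comp 𝓕 x n : 𝓕.extRees) = x := by
  apply Subtype.ext
  rw [AddSubmonoidClass.coe_finsetSum]
  conv_rhs => rw [← AddMonoidAlgebra.sum_coeff_single (x : A[T;T⁻¹])]
  rfl

theorem decompose_eq_comp (x : 𝓕.extRees) (n : ℤ) :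
    DirectSum.decompose (deg 𝓕) x n = comp 𝓕 x n := by
  have h1 := coeff_coeAddMonoidHom 𝓕 (DirectSum.decompose (deg 𝓕) x) n
  have h2 : DirectSum.coeAddMonoidHom (deg 𝓕) (DirectSum.decompose (deg 𝓕) x) = x :=
    DirectSum.Decomposition.left_inv x
  rw [h2] at h1
  apply Subtype.ext
  apply Subtype.ext
  rw [coe_eq_single_of_mem 𝓕 (DirectSum.decompose (deg 𝓕) x n).2, ← h1]
  rfl

section Noeth

/-- The inclusion of the Rees algebra into the extended Rees algebra. -/
noncomputable def reesToExt : 𝓕.rees →+* 𝓕.extRees where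
  toFun x := ⟨Polynomial.toLaurent (x : Polynomial A), by
    have hx : (x : Polynomial A) = ∑ i ∈ (x : Polynomial A).support,
        Polynomial.monomial i ((x : Polynomial A).coeff i) := Polynomial.as_sum_support _
    rw [hx, map_sum]
    refine Subalgebra.sum_mem _ fun i _ => ?_
    rw [Polynomial.toLaurent_C_mul_T, ← LaurentPolynomial.single_eq_C_mul_T]
    exact single_mem_extRees' 𝓕 _ _ (x.2 i)⟩
  map_one' := by
    apply Subtype.ext
    simp
  map_mul' x y := by
    apply Subtype.ext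
    simp
  map_zero' := by
    apply Subtype.ext
    simp
  map_add' x y := by
    apply Subtype.ext
    simp

theorem coe_reesToExt (x : 𝓕.rees) :
    ((reesToExt 𝓕 x : 𝓕.extRees) : A[T;T⁻¹]) = Polynomial.toLaurent (x : Polynomial A) := rfl

theorem coe_u_pow (k : ℕ) : ((𝓕.u ^ k : 𝓕.extRees) : A[T;T⁻¹]) = T (-(k : ℤ)) := by
  rw [Subalgebra.coe_pow]
  change (T (-1) : A[T;T⁻¹]) ^ k = _
  rw [LaurentPolynomial.T_pow, mul_neg, mul_one]

theorem comp_mem_range (x : 𝓕.extRees) (n : ℤ) :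
    ∃ p : Polynomial 𝓕.rees,
      Polynomial.eval₂RingHom (reesToExt 𝓕) 𝓕.u p = (comp 𝓕 x n : 𝓕.extRees) := by
  rcases le_or_gt 0 n with hn | hn
  · obtain ⟨k, rfl⟩ := Int.eq_ofNat_of_zero_le hn
    have hmem : Polynomial.monomial k ((x : A[T;T⁻¹]).coeff (k : ℤ)) ∈ 𝓕.rees := by
      intro m
      rw [Polynomial.coeff_monomial]
      split_ifs with h
      · subst h
        have := x.2 (k : ℤ)
        rwa [Int.toNat_natCast] at this
      · exact Ideal.zero_mem _
    refine ⟨Polynomial.C ⟨_, hmem⟩, ?_⟩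
    rw [Polynomial.coe_eval₂RingHom, Polynomial.eval₂_C]
    apply Subtype.ext
    rw [coe_reesToExt, coe_comp, Polynomial.toLaurent_C_mul_T,
      ← LaurentPolynomial.single_eq_C_mul_T]
  · obtain ⟨k, hk⟩ : ∃ k : ℕ, n = -(k : ℤ) := ⟨(-n).toNat, by omega⟩
    subst hk
    have hmem : Polynomial.C ((x : A[T;T⁻¹]).coeff (-(k : ℤ))) ∈ 𝓕.rees := by
      intro m
      rw [Polynomial.coeff_C]
      split_ifs with h
      · subst h
        rw [𝓕.zero_eq]
        trivial
      · exact Ideal.zero_mem _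
    refine ⟨Polynomial.C ⟨_, hmem⟩ * Polynomial.X ^ k, ?_⟩
    rw [Polynomial.coe_eval₂RingHom, Polynomial.eval₂_mul, Polynomial.eval₂_C,
      Polynomial.eval₂_pow, Polynomial.eval₂_X]
    apply Subtype.ext
    rw [Subalgebra.coe_mul, coe_u_pow, coe_reesToExt, coe_comp, Polynomial.toLaurent_C,
      ← LaurentPolynomial.single_eq_C_mul_T]

theorem eval₂_surjective :
    Function.Surjective (Polynomial.eval₂RingHom (reesToExt 𝓕) 𝓕.u) := by
  intro x
  choose f hf using comp_mem_range 𝓕 x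
  refine ⟨∑ n ∈ (x : A[T;T⁻¹]).coeff.support, f n, ?_⟩
  rw [map_sum]
  conv_rhs => rw [← sum_comp 𝓕 x]
  exact Finset.sum_congr rfl fun n _ => hf n

theorem isNoetherianRing_extRees [IsNoetherianRing A] (hfg : Algebra.FiniteType A 𝓕.rees) :
    IsNoetherianRing 𝓕.extRees := by
  have h1 : IsNoetherianRing 𝓕.rees := Algebra.FiniteType.isNoetherianRing A _
  exact isNoetherianRing_of_surjective _ _ _ (eval₂_surjective 𝓕)

end Noeth

section U

theorem u_mul_eq_zero (x : 𝓕.extRees) (h : x * 𝓕.u = 0) : x = 0 := by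
  apply Subtype.ext
  have h1 : (x : A[T;T⁻¹]) * T (-1) = 0 := by
    have := congrArg (fun y : 𝓕.extRees => (y : A[T;T⁻¹])) h
    simpa [FiltBl.IdealFiltration.u] using this
  have h2 : (x : A[T;T⁻¹]) = (x : A[T;T⁻¹]) * T (-1) * T 1 := by
    rw [mul_assoc, ← LaurentPolynomial.T_add]
    simp
  rw [h2, h1, zero_mul]
  rfl

theorem u_mem_nonZeroDivisors : 𝓕.u ∈ nonZeroDivisors 𝓕.extRees :=
  mem_nonZeroDivisors_iff_right.mpr (u_mul_eq_zero 𝓕)

end U

end Groth.Agent.Lib.Helper87.ExtRees
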