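import Groth.Agent.Lib.Helper87.ExtRees2
import Mathlib.RingTheory.GradedAlgebra.Homogeneous.Ideal
import Mathlib.RingTheory.LocalRing.MaximalIdeal.Basic

/-!
# The homogeneous maximal ideal of the extended Rees algebra over a local ring (helper87)
-/

set_option autoImplicit false
universe u

namespace Groth.Agent.Lib.Helper87.ExtRees

open FiltBl LaurentPolynomial DirectSum IsLocalRing

variable {A : Type u} [CommRing A] (𝓕 : FiltBl.IdealFiltration A)

theorem F_eq_top_of_one (h : 𝓕.F 1 = ⊤) (n : ℕ) : 𝓕.F n = ⊤ := by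
  induction n with
  | zero => exact 𝓕.zero_eq
  | succ n ih =>
    have := 𝓕.mul_le n 1
    rw [ih, h, Ideal.mul_top] at this
    exact top_le_iff.mp this

theorem F_one_ne_top [Nontrivial A] (hsep : ⨅ n, 𝓕.F n = ⊥) : 𝓕.F 1 ≠ ⊤ := by
  intro h
  have h1 : ⨅ n, 𝓕.F n = ⊤ := by
    rw [iInf_eq_top]
    exact F_eq_top_of_one 𝓕 h
  rw [hsep] at h1
  exact bot_ne_top h1

variable [IsLocalRing A]

theorem F_le_maximalIdeal (hsep : ⨅ n, 𝓕.F n = ⊥) (n : ℕ) (hn : 1 ≤ n) :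
    𝓕.F n ≤ maximalIdeal A :=
  (𝓕.antitone hn).trans (IsLocalRing.le_maximalIdeal (F_one_ne_top 𝓕 hsep))

/-- The homogeneous maximal ideal: elements whose degree zero coefficient lies in the maximal
ideal of `A`. -/
def irr (hsep : ⨅ n, 𝓕.F n = ⊥) : Ideal 𝓕.extRees where
  carrier := {x | (x : A[T;T⁻¹]).coeff 0 ∈ maximalIdeal A}
  zero_mem' := by
    change ((0 : 𝓕.extRees) : A[T;T⁻¹]).coeff 0 ∈ maximalIdeal A
    simp
  add_mem' := by
    intro x y hx hy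
    change ((x + y : 𝓕.extRees) : A[T;T⁻¹]).coeff 0 ∈ maximalIdeal A
    rw [Subalgebra.coe_add, AddMonoidAlgebra.coeff_add, Finsupp.add_apply]
    exact Ideal.add_mem _ hx hy
  smul_mem' := by
    intro c x hx
    change ((c * x : 𝓕.extRees) : A[T;T⁻¹]).coeff 0 ∈ maximalIdeal A
    classical
    rw [Subalgebra.coe_mul, AddMonoidAlgebra.coeff_mul]
    simp only [Finsupp.sum]
    refine Ideal.sum_mem _ fun i _ => Ideal.sum_mem _ fun j _ => ?_
    split_ifs with h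
    · rcases lt_trichotomy j 0 with hj | hj | hj
      · have hi : 1 ≤ i.toNat := by omega
        exact Ideal.mul_mem_right _ _ (F_le_maximalIdeal 𝓕 hsep _ hi (c.2 i))
      · subst hj
        exact Ideal.mul_mem_left _ _ hx
      · have hj' : 1 ≤ j.toNat := by omega
        exact Ideal.mul_mem_left _ _ (F_le_maximalIdeal 𝓕 hsep _ hj' (x.2 j))
    · exact Ideal.zero_mem _

theorem mem_irr (hsep : ⨅ n, 𝓕.F n = ⊥) (x : 𝓕.extRees) :
    x ∈ irr 𝓕 hsep ↔ (x : A[T;T⁻¹]).coeff 0 ∈ maximalIdeal A := Iff.rfl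

theorem irr_ne_top (hsep : ⨅ n, 𝓕.F n = ⊥) : irr 𝓕 hsep ≠ ⊤ := by
  intro h
  have h1 : (1 : 𝓕.extRees) ∈ irr 𝓕 hsep := by rw [h]; trivial
  rw [mem_irr, Subalgebra.coe_one, AddMonoidAlgebra.one_def, AddMonoidAlgebra.coeff_single,
    Finsupp.single_apply, if_pos rfl] at h1
  exact (Ideal.ne_top_iff_one _).mp (Ideal.IsPrime.ne_top inferInstance) h1

theorem u_mem_irr (hsep : ⨅ n, 𝓕.F n = ⊥) : 𝓕.u ∈ irr 𝓕 hsep := by
  rw [mem_irr]
  change (T (-1) : A[T;T⁻¹]).coeff 0 ∈ maximalIdeal A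
  rw [LaurentPolynomial.T_apply, if_neg (by decide)]
  exact Ideal.zero_mem _

omit [IsLocalRing A] in
theorem comp_zero_eq_algebraMap (x : 𝓕.extRees) :
    (comp 𝓕 x 0 : 𝓕.extRees) = algebraMap A 𝓕.extRees ((x : A[T;T⁻¹]).coeff 0) := by
  apply Subtype.ext
  rw [coe_comp, Subalgebra.coe_algebraMap, LaurentPolynomial.algebraMap_apply,
    Algebra.algebraMap_self, RingHom.id_apply, LaurentPolynomial.single_eq_C_mul_T,
    LaurentPolynomial.T_zero, mul_one]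

theorem le_irr_of_isHomogeneous (hsep : ⨅ n, 𝓕.F n = ⊥) (Q : Ideal 𝓕.extRees)
    (hQ : Q.IsHomogeneous (deg 𝓕)) (hne : Q ≠ ⊤) : Q ≤ irr 𝓕 hsep := by
  intro x hx
  rw [mem_irr]
  by_contra hcon
  have hunit : IsUnit ((x : A[T;T⁻¹]).coeff 0) := IsLocalRing.notMem_maximalIdeal.mp hcon
  have h1 : ((DirectSum.decompose (deg 𝓕) x 0 : deg 𝓕 0) : 𝓕.extRees) ∈ Q := hQ 0 hx
  rw [decompose_eq_comp, comp_zero_eq_algebraMap] at h1
  exact hne (Ideal.eq_top_of_isUnit_mem _ h1 (hunit.map _))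

end Groth.Agent.Lib.Helper87.ExtRees
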