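import Groth.Agent.Lib.Helper87.GrDepth5
import Groth.Agent.Lib.Helper29.DepthSelf

/-!
# Local properties of multigraded rings are detected at homogeneous primes (helper87)

For a Noetherian ring `R` graded by a finitely generated free abelian group and a prime `p` with
homogeneous core `p*`: `R_p` is Cohen–Macaulay iff `R_{p*}` is; Serre's condition `(S_k)` at `p*`
implies it at `p`.
-/

set_option autoImplicit false
universe u

namespace Groth.Agent.Lib.Helper87.GrLocal

open Groth.Agent.Lib.Helper87.GrDepth Groth.Agent.Lib.Helper87.GrHeight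

section Main

variable {ι : Type} [AddCommGroup ι] [DecidableEq ι] [Module.Free ℤ ι] [Module.Finite ℤ ι]
  (R : Type u) [CommRing R] [IsNoetherianRing R] (𝒜 : ι → AddSubgroup R) [GradedRing 𝒜]
  (p : Ideal R) [p.IsPrime] [(Ideal.homogeneousCore 𝒜 p).toIdeal.IsPrime]

omit [Module.Free ℤ ι] [Module.Finite ℤ ι] [(Ideal.homogeneousCore 𝒜 p).toIdeal.IsPrime] in
/-- `ht (p/p*)` is finite. -/
theorem exists_height_quotient_core :
    ∃ d : ℕ, (p.map (Ideal.Quotient.mk (Ideal.homogeneousCore 𝒜 p).toIdeal)).height = d := by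
  have hle : (Ideal.homogeneousCore 𝒜 p).toIdeal ≤ p := Ideal.toIdeal_homogeneousCore_le 𝒜 p
  have hprime : (p.map (Ideal.Quotient.mk (Ideal.homogeneousCore 𝒜 p).toIdeal)).IsPrime :=
    Ideal.map_isPrime_of_surjective Ideal.Quotient.mk_surjective (by rwa [Ideal.mk_ker])
  have hne : (p.map (Ideal.Quotient.mk (Ideal.homogeneousCore 𝒜 p).toIdeal)).height ≠ ⊤ :=
    Ideal.height_ne_top hprime.ne_top
  exact ⟨_, (ENat.natCast_toNat hne).symm⟩

/-- The depth and height of `R_p` in terms of those of `R_{p*}`. -/
theorem depth_and_height_eq_add (d : ℕ)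
    (hd : (p.map (Ideal.Quotient.mk (Ideal.homogeneousCore 𝒜 p).toIdeal)).height = d) :
    LocCoh.depth (Localization.AtPrime p) (Localization.AtPrime p) =
      LocCoh.depth (Localization.AtPrime (Ideal.homogeneousCore 𝒜 p).toIdeal)
        (Localization.AtPrime (Ideal.homogeneousCore 𝒜 p).toIdeal) + d ∧
    p.height = (Ideal.homogeneousCore 𝒜 p).toIdeal.height + d := by
  refine ⟨?_, ?_⟩
  · have h := (depth_and_supportDim_localization_eq_add R 𝒜 R 𝒜 p d hd).1
    rwa [Groth.Agent.Lib.Helper29.depth_localizedModule_self,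
      Groth.Agent.Lib.Helper29.depth_localizedModule_self] at h
  · rw [height_eq_core_add 𝒜 p, hd]

/-- `R_p` is Cohen–Macaulay iff `R_{p*}` is. -/
theorem isCohenMacaulayLocalRing_iff_core :
    LocCoh.IsCohenMacaulayLocalRing (Localization.AtPrime p) ↔
      LocCoh.IsCohenMacaulayLocalRing
        (Localization.AtPrime (Ideal.homogeneousCore 𝒜 p).toIdeal) := by
  obtain ⟨d, hd⟩ := exists_height_quotient_core R 𝒜 p
  obtain ⟨h1, h2⟩ := depth_and_height_eq_add R 𝒜 p d hd
  have hNp : IsNoetherianRing (Localization.AtPrime p) :=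
    IsLocalization.isNoetherianRing p.primeCompl _ inferInstance
  have hNq : IsNoetherianRing (Localization.AtPrime (Ideal.homogeneousCore 𝒜 p).toIdeal) :=
    IsLocalization.isNoetherianRing (Ideal.homogeneousCore 𝒜 p).toIdeal.primeCompl _ inferInstance
  have key : ∀ (q : Ideal R) [q.IsPrime] [IsNoetherianRing (Localization.AtPrime q)],
      LocCoh.IsCohenMacaulayLocalRing (Localization.AtPrime q) ↔
        q.height = LocCoh.depth (Localization.AtPrime q) (Localization.AtPrime q) := by
    intro q _ _
    constructor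
    · intro h
      have h3 := h.supportDim_eq_depth
      rw [Module.supportDim_self_eq_ringKrullDim,
        IsLocalization.AtPrime.ringKrullDim_eq_height q] at h3
      exact WithBot.coe_inj.mp h3
    · intro h
      refine { supportDim_eq_depth := ?_ }
      rw [Module.supportDim_self_eq_ringKrullDim,
        IsLocalization.AtPrime.ringKrullDim_eq_height q, h]
  rw [key p, key (Ideal.homogeneousCore 𝒜 p).toIdeal, h1, h2]
  constructor
  · intro h
    exact ENat.add_left_injective_of_ne_top (ENat.natCast_ne_top d) h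
  · intro h
    rw [h]

end Main

end Groth.Agent.Lib.Helper87.GrLocal
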