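import Groth.Agent.Lib.Helper87.ExtRees3
import Groth.Agent.Lib.Helper87.CMLocal1
import Groth.Agent.Lib.Helper87.GrLocal1
import Mathlib.RingTheory.GradedAlgebra.Radical

/-!
# The extended Rees algebra is Cohen–Macaulay iff the associated graded ring is (helper87)
-/

set_option autoImplicit false
universe u

namespace Groth.Agent.Lib.Helper87.ExtRees

open FiltBl LaurentPolynomial DirectSum IsLocalRing
open Groth.Agent.Lib.Helper87.CMLocal Groth.Agent.Lib.Helper87.GrLocal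

variable {A : Type u} [CommRing A] [IsNoetherianRing A] [IsLocalRing A]
  (𝓕 : FiltBl.IdealFiltration A)

omit [IsNoetherianRing A] in
/-- Every prime of the extended Rees algebra has its homogeneous core contained in a maximal ideal
containing `u`. -/
theorem exists_maximal_core_le (hsep : ⨅ n, 𝓕.F n = ⊥) (P : Ideal 𝓕.extRees) [P.IsPrime] :
    ∃ 𝔓 : Ideal 𝓕.extRees, 𝔓.IsMaximal ∧ 𝓕.u ∈ 𝔓 ∧
      (Ideal.homogeneousCore (deg 𝓕) P).toIdeal ≤ 𝔓 := by
  have hprime : (Ideal.homogeneousCore (deg 𝓕) P).toIdeal.IsPrime :=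
    Ideal.IsPrime.homogeneousCore inferInstance
  have h1 : (Ideal.homogeneousCore (deg 𝓕) P).toIdeal ≤ irr 𝓕 hsep :=
    le_irr_of_isHomogeneous 𝓕 hsep _ (Ideal.homogeneousCore (deg 𝓕) P).isHomogeneous
      hprime.ne_top
  obtain ⟨𝔓, h𝔓, hle⟩ := Ideal.exists_le_maximal (irr 𝓕 hsep) (irr_ne_top 𝓕 hsep)
  exact ⟨𝔓, h𝔓, hle (u_mem_irr 𝓕 hsep), h1.trans hle⟩

omit [IsNoetherianRing A] [IsLocalRing A] in
theorem comap_map_mk_of_mem (𝔓 : Ideal 𝓕.extRees) (hu : 𝓕.u ∈ 𝔓) :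
    (𝔓.map (Ideal.Quotient.mk (Ideal.span {𝓕.u}))).comap
      (Ideal.Quotient.mk (Ideal.span {𝓕.u})) = 𝔓 := by
  rw [Ideal.comap_map_of_surjective _ Ideal.Quotient.mk_surjective, ← RingHom.ker_eq_comap_bot,
    Ideal.mk_ker]
  exact sup_eq_left.mpr ((Ideal.span_singleton_le_iff_mem _).mpr hu)

theorem isCohenMacaulayRing_extRees_iff_gr (hsep : ⨅ n, 𝓕.F n = ⊥)
    (hfg : Algebra.FiniteType A 𝓕.rees) :
    LocCoh.IsCohenMacaulayRing 𝓕.extRees ↔ LocCoh.IsCohenMacaulayRing 𝓕.Gr := by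
  have hN : IsNoetherianRing 𝓕.extRees := isNoetherianRing_extRees 𝓕 hfg
  constructor
  · intro hCM
    refine { isCohenMacaulayLocalRing_localization := fun p hp => ?_ }
    exact (isCohenMacaulayLocalRing_iff_quotient 𝓕.extRees 𝓕.u (u_mem_nonZeroDivisors 𝓕) p).mp
      (hCM.isCohenMacaulayLocalRing_localization _)
  · intro hG
    refine { isCohenMacaulayLocalRing_localization := fun P hP => ?_ }
    have hprime : (Ideal.homogeneousCore (deg 𝓕) P).toIdeal.IsPrime :=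
      Ideal.IsPrime.homogeneousCore inferInstance
    rw [isCohenMacaulayLocalRing_iff_core 𝓕.extRees (deg 𝓕) P]
    obtain ⟨𝔓, h𝔓, hu, hle⟩ := exists_maximal_core_le 𝓕 hsep P
    have h𝔓prime : 𝔓.IsPrime := h𝔓.isPrime
    have hpprime : (𝔓.map (Ideal.Quotient.mk (Ideal.span {𝓕.u}))).IsPrime :=
      Ideal.map_isPrime_of_surjective Ideal.Quotient.mk_surjective (by
        rw [Ideal.mk_ker]
        exact (Ideal.span_singleton_le_iff_mem _).mpr hu)
    have h1 := (isCohenMacaulayLocalRing_iff_quotient 𝓕.extRees 𝓕.u (u_mem_nonZeroDivisors 𝓕)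
      (𝔓.map (Ideal.Quotient.mk (Ideal.span {𝓕.u})))).mpr
      (hG.isCohenMacaulayLocalRing_localization _)
    have h2 : LocCoh.IsCohenMacaulayLocalRing (Localization.AtPrime 𝔓) :=
      (isCohenMacaulayLocalRing_congr_ideal 𝓕.extRees _ 𝔓 (comap_map_mk_of_mem 𝓕 𝔓 hu)).mp h1
    exact isCohenMacaulayLocalRing_of_le 𝓕.extRees _ 𝔓 hle h2

end Groth.Agent.Lib.Helper87.ExtRees
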