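import Groth.Agent.Lib.Helper87.ExtReesCM
import Groth.Agent.Lib.Helper87.GorLocal2

/-!
# The extended Rees algebra is Gorenstein iff the associated graded ring is (helper87)
-/

set_option autoImplicit false
universe u

namespace Groth.Agent.Lib.Helper87.ExtRees

open FiltBl LaurentPolynomial DirectSum IsLocalRing
open Groth.Agent.Lib.Helper87.GorLocal

variable {A : Type u} [CommRing A] [IsNoetherianRing A] [IsLocalRing A]
  (𝓕 : FiltBl.IdealFiltration A)

theorem isGorensteinRing_extRees_iff_gr (hsep : ⨅ n, 𝓕.F n = ⊥)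
    (hfg : Algebra.FiniteType A 𝓕.rees) :
    LocCoh.IsGorensteinRing 𝓕.extRees ↔ LocCoh.IsGorensteinRing 𝓕.Gr := by
  have hN : IsNoetherianRing 𝓕.extRees := isNoetherianRing_extRees 𝓕 hfg
  have hNG : IsNoetherianRing 𝓕.Gr :=
    inferInstanceAs (IsNoetherianRing (𝓕.extRees ⧸ Ideal.span {𝓕.u}))
  constructor
  · intro hCM
    refine { isGorensteinLocalRing_localization := fun p hp => ?_ }
    exact (isGorensteinLocalRing_iff_quotient 𝓕.extRees 𝓕.u (u_mem_nonZeroDivisors 𝓕) p).mp
      (hCM.isGorensteinLocalRing_localization _)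
  · intro hG
    refine { isGorensteinLocalRing_localization := fun P hP => ?_ }
    have hprime : (Ideal.homogeneousCore (deg 𝓕) P).toIdeal.IsPrime :=
      Ideal.IsPrime.homogeneousCore inferInstance
    rw [isGorensteinLocalRing_iff_core 𝓕.extRees (deg 𝓕) P]
    obtain ⟨𝔓, h𝔓, hu, hle⟩ := exists_maximal_core_le 𝓕 hsep P
    have h𝔓prime : 𝔓.IsPrime := h𝔓.isPrime
    have hpprime : (𝔓.map (Ideal.Quotient.mk (Ideal.span {𝓕.u}))).IsPrime :=
      Ideal.map_isPrime_of_surjective Ideal.Quotient.mk_surjective (by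
        rw [Ideal.mk_ker]
        exact (Ideal.span_singleton_le_iff_mem _).mpr hu)
    have h1 := (isGorensteinLocalRing_iff_quotient 𝓕.extRees 𝓕.u (u_mem_nonZeroDivisors 𝓕)
      (𝔓.map (Ideal.Quotient.mk (Ideal.span {𝓕.u})))).mpr
      (hG.isGorensteinLocalRing_localization _)
    have h2 : LocCoh.IsGorensteinLocalRing (Localization.AtPrime 𝔓) :=
      (isGorensteinLocalRing_congr_ideal 𝓕.extRees _ 𝔓 (comap_map_mk_of_mem 𝓕 𝔓 hu)).mp h1
    exact isGorensteinLocalRing_of_le 𝓕.extRees _ 𝔓 hle h2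

end Groth.Agent.Lib.Helper87.ExtRees
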