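import Groth.Agent.Lib.Helper87.ExtRees2

/-!
# The Laurent polynomial ring is the localization of the extended Rees algebra at `u` (helper87)
-/

set_option autoImplicit false
universe u

namespace Groth.Agent.Lib.Helper87.ExtRees

open FiltBl LaurentPolynomial

variable {A : Type u} [CommRing A] (𝓕 : FiltBl.IdealFiltration A)

theorem algebraMap_extRees_apply (x : 𝓕.extRees) :
    algebraMap 𝓕.extRees A[T;T⁻¹] x = (x : A[T;T⁻¹]) := rfl

theorem algebraMap_extRees_injective :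
    Function.Injective (algebraMap 𝓕.extRees A[T;T⁻¹]) := Subtype.val_injective

theorem coeff_mul_T (z : A[T;T⁻¹]) (N n : ℤ) : (z * T (-N)).coeff n = z.coeff (n + N) := by
  change (z * AddMonoidAlgebra.single (-N) 1).coeff n = _
  rw [AddMonoidAlgebra.coeff_mul_single_apply, mul_one, neg_neg]

/-- Every Laurent polynomial becomes an element of the extended Rees algebra after multiplication
by a power of `u = T⁻¹`. -/
theorem exists_mul_T_mem (z : A[T;T⁻¹]) : ∃ N : ℕ, z * T (-(N : ℤ)) ∈ 𝓕.extRees := by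
  obtain ⟨N, hN⟩ : ∃ N : ℕ, ∀ m ∈ z.coeff.support, m ≤ (N : ℤ) := by
    obtain ⟨M, hM⟩ := z.coeff.support.exists_le
    exact ⟨M.toNat, fun m hm => (hM m hm).trans (Int.self_le_toNat M)⟩
  refine ⟨N, fun n => ?_⟩
  rw [coeff_mul_T]
  rcases le_or_gt n 0 with hn | hn
  · have : n.toNat = 0 := Int.toNat_of_nonpos hn
    rw [this, 𝓕.zero_eq]
    exact Submodule.mem_top
  · have h0 : z.coeff (n + N) = 0 := by
      by_contra hne
      have := hN (n + N) (Finsupp.mem_support_iff.mpr hne)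
      omega
    rw [h0]
    exact Ideal.zero_mem _

instance isLocalization_away_u : IsLocalization.Away 𝓕.u A[T;T⁻¹] := by
  refine (isLocalization_iff _ _).mpr ⟨?_, ?_, ?_⟩
  · rintro ⟨y, k, rfl⟩
    change IsUnit (((𝓕.u ^ k : 𝓕.extRees) : A[T;T⁻¹]))
    rw [coe_u_pow]
    exact LaurentPolynomial.isUnit_T _
  · intro z
    obtain ⟨N, hN⟩ := exists_mul_T_mem 𝓕 z
    refine ⟨(⟨z * T (-(N : ℤ)), hN⟩, ⟨𝓕.u ^ N, N, rfl⟩), ?_⟩
    change z * ((𝓕.u ^ N : 𝓕.extRees) : A[T;T⁻¹]) = z * T (-(N : ℤ))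
    rw [coe_u_pow]
  · intro x y h
    exact ⟨1, by rw [algebraMap_extRees_injective 𝓕 h]⟩

end Groth.Agent.Lib.Helper87.ExtRees
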