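import Groth.Agent.Lib.Helper87.ExtReesOpen1

/-!
# Cohen–Macaulayness of `Spec R' − V(R₊R')` for the extended Rees algebra (helper87)
-/

set_option autoImplicit false
universe u

namespace Groth.Agent.Lib.Helper87.ExtRees

open FiltBl LaurentPolynomial IsLocalRing
open Groth.Agent.Lib.Helper87.CMLocal Groth.Agent.Lib.Helper87.GrDepth
  Groth.Agent.Lib.Helper87.GrHeight

variable {A : Type u} [CommRing A] [IsNoetherianRing A] (𝓕 : FiltBl.IdealFiltration A)

omit [IsNoetherianRing A] in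
theorem C_mul_T_mem (n : ℕ) (a : A) (ha : a ∈ 𝓕.F n) :
    (C a * T (n : ℤ) : A[T;T⁻¹]) ∈ 𝓕.extRees := by
  have h1 : (C a * T (n : ℤ) : A[T;T⁻¹]) = AddMonoidAlgebra.single (n : ℤ) a := by
    rw [← LaurentPolynomial.single_eq_C_mul_T]
  rw [h1]
  exact single_mem_extRees' 𝓕 (n : ℤ) a (by simpa using ha)

theorem cm_open_iff (hfg : Algebra.FiniteType A 𝓕.rees)
    (G : Type u) [CommRing G] (φ : 𝓕.extRees →+* G) (hφ : Function.Surjective φ)
    (hker : RingHom.ker φ = Ideal.span {𝓕.u}) (Rp : Ideal 𝓕.extRees)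
    (hRp : Rp = Ideal.span {x : 𝓕.extRees | ∃ n : ℕ, 0 < n ∧ ∃ a ∈ 𝓕.F n,
      (x : LaurentPolynomial A) = LaurentPolynomial.C a * LaurentPolynomial.T (n : ℤ)}) :
    (∀ (P : Ideal 𝓕.extRees) [P.IsPrime], ¬ Rp ≤ P →
        LocCoh.IsCohenMacaulayLocalRing (Localization.AtPrime P)) ↔
      ((∀ (p : Ideal G) [p.IsPrime], ¬ Ideal.map φ Rp ≤ p →
          LocCoh.IsCohenMacaulayLocalRing (Localization.AtPrime p)) ∧
        (∀ (q : Ideal A) [q.IsPrime], ¬ 𝓕.F 1 ≤ q →
            LocCoh.IsCohenMacaulayLocalRing (Localization.AtPrime q))) := by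
  have hN : IsNoetherianRing 𝓕.extRees := isNoetherianRing_extRees 𝓕 hfg
  constructor
  · intro h
    refine ⟨fun p hp hnp => ?_, fun q hq hnq => ?_⟩
    · have hP : ¬ Rp ≤ p.comap φ := fun hle => hnp (Ideal.map_le_iff_le_comap.mpr hle)
      exact (isCohenMacaulayLocalRing_iff_of_surjective 𝓕.extRees 𝓕.u
        (u_mem_nonZeroDivisors 𝓕) φ hφ hker p).mp (h _ hP)
    · have h𝔔 : (q.map (algebraMap A A[T;T⁻¹])).IsPrime := isPrime_map q
      have hcomap : (q.map (algebraMap A A[T;T⁻¹])).comap (algebraMap A A[T;T⁻¹]) = q :=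
        comap_map q
      have hPprime : ((q.map (algebraMap A A[T;T⁻¹])).comap
          (algebraMap 𝓕.extRees A[T;T⁻¹])).IsPrime := Ideal.comap_isPrime _ _
      have hnP : ¬ Rp ≤ (q.map (algebraMap A A[T;T⁻¹])).comap
          (algebraMap 𝓕.extRees A[T;T⁻¹]) := by
        intro hle
        apply hnq
        intro a ha
        have hx : (C a * T ((1 : ℕ) : ℤ) : A[T;T⁻¹]) ∈ 𝓕.extRees := C_mul_T_mem 𝓕 1 a ha
        have hmem : (⟨C a * T ((1 : ℕ) : ℤ), hx⟩ : 𝓕.extRees) ∈ Rp := by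
          rw [hRp]
          exact Ideal.subset_span ⟨1, one_pos, a, ha, rfl⟩
        have h2 := hle hmem
        rw [Ideal.mem_comap, algebraMap_extRees_apply, mem_map_iff] at h2
        have h1 : (C a * T ((1 : ℕ) : ℤ) : A[T;T⁻¹]).coeff 1 ∈ q := h2 1
        have h3 : (C a * T ((1 : ℕ) : ℤ) : A[T;T⁻¹]) = AddMonoidAlgebra.single (1 : ℤ) a := by
          rw [← LaurentPolynomial.single_eq_C_mul_T]
          rfl
        rw [h3, AddMonoidAlgebra.coeff_single, Finsupp.single_apply, if_pos rfl] at h1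
        exact h1
      obtain ⟨e⟩ := nonempty_ringEquiv_atPrime (Submonoid.powers 𝓕.u)
        (q.map (algebraMap A A[T;T⁻¹])) _ rfl
      have hCM := h _ hnP
      have hCMQ := Groth.Agent.Lib.Helper29.isCohenMacaulayLocalRing_of_ringEquiv e hCM
      exact (isCohenMacaulayLocalRing_laurent_iff A _ q hcomap).mp hCMQ
  · rintro ⟨hG, hA⟩ P hP hnP
    by_cases hu : 𝓕.u ∈ P
    · have hkerle : RingHom.ker φ ≤ P := by
        rw [hker]
        exact (Ideal.span_singleton_le_iff_mem _).mpr hu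
      have hpprime : (P.map φ).IsPrime := Ideal.map_isPrime_of_surjective hφ hkerle
      have hcomap : (P.map φ).comap φ = P := by
        rw [Ideal.comap_map_of_surjective φ hφ, ← RingHom.ker_eq_comap_bot]
        exact sup_eq_left.mpr hkerle
      have hnp : ¬ Ideal.map φ Rp ≤ P.map φ := by
        intro hle
        apply hnP
        have := Ideal.map_le_iff_le_comap.mp hle
        rwa [hcomap] at this
      have h1 := (isCohenMacaulayLocalRing_iff_of_surjective 𝓕.extRees 𝓕.u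
        (u_mem_nonZeroDivisors 𝓕) φ hφ hker (P.map φ)).mpr (hG _ hnp)
      exact (isCohenMacaulayLocalRing_congr_ideal _ _ _ hcomap).mp h1
    · obtain ⟨𝔔, h𝔔, hcomap⟩ := exists_prime_away (S := A[T;T⁻¹]) 𝓕.u P hu
      have hqprime : (𝔔.comap (algebraMap A A[T;T⁻¹])).IsPrime := Ideal.comap_isPrime _ _
      have hnq : ¬ 𝓕.F 1 ≤ 𝔔.comap (algebraMap A A[T;T⁻¹]) := by
        intro hle
        apply hnP
        rw [hRp, Ideal.span_le]
        rintro x ⟨n, hn, a, ha, hx⟩
        rw [SetLike.mem_coe, ← hcomap, Ideal.mem_comap, algebraMap_extRees_apply, hx]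
        apply Ideal.mul_mem_right
        have h1 : a ∈ 𝓕.F 1 := 𝓕.antitone (show 1 ≤ n by omega) ha
        exact hle h1
      have hCMq := hA _ hnq
      have hCMQ := (isCohenMacaulayLocalRing_laurent_iff A 𝔔 _ rfl).mpr hCMq
      obtain ⟨e⟩ := nonempty_ringEquiv_atPrime (Submonoid.powers 𝓕.u) 𝔔 P hcomap
      exact Groth.Agent.Lib.Helper29.isCohenMacaulayLocalRing_of_ringEquiv e.symm hCMQ

end Groth.Agent.Lib.Helper87.ExtRees
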