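import Groth.Agent.Lib.Helper87.SkSelf1
import Groth.Agent.Lib.Helper87.ExtReesOpen1
import Groth.Agent.Lib.Helper87.ExtReesCM

/-!
# `(S_2)` for the extended Rees algebra iff `(S_1)` for `Gr` and `(S_2)` for `A` (helper87)
-/

set_option autoImplicit false
universe u

namespace Groth.Agent.Lib.Helper87.ExtRees

open FiltBl LaurentPolynomial IsLocalRing
open Groth.Agent.Lib.Helper87.SkSelf Groth.Agent.Lib.Helper87.GrDepth
  Groth.Agent.Lib.Helper87.GrHeight

variable {A : Type u} [CommRing A] [IsNoetherianRing A] (𝓕 : FiltBl.IdealFiltration A)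

theorem hasS2_extRees_iff (hfg : Algebra.FiniteType A 𝓕.rees) :
    LocCoh.HasSk 2 𝓕.extRees 𝓕.extRees ↔ (LocCoh.HasSk 1 𝓕.Gr 𝓕.Gr ∧ LocCoh.HasSk 2 A A) := by
  have hN : IsNoetherianRing 𝓕.extRees := isNoetherianRing_extRees 𝓕 hfg
  have hNS : IsNoetherianRing A[T;T⁻¹] := isNoetherianRing_addMonoidAlgebra
  rw [hasSk_self_iff, hasSk_self_iff, hasSk_self_iff]
  constructor
  · intro h
    refine ⟨fun p hp => ?_, fun q hq => ?_⟩
    · exact (skSelfAt_succ_iff_quotient 𝓕.extRees 1 𝓕.u (u_mem_nonZeroDivisors 𝓕) p).mp (h _)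
    · have h𝔔 : (q.map (algebraMap A A[T;T⁻¹])).IsPrime := isPrime_map q
      have hcomap : (q.map (algebraMap A A[T;T⁻¹])).comap (algebraMap A A[T;T⁻¹]) = q :=
        comap_map q
      have hlies : (q.map (algebraMap A A[T;T⁻¹])).LiesOver q := ⟨hcomap.symm⟩
      have hPprime : ((q.map (algebraMap A A[T;T⁻¹])).comap
          (algebraMap 𝓕.extRees A[T;T⁻¹])).IsPrime := Ideal.comap_isPrime _ _
      obtain ⟨e⟩ := nonempty_ringEquiv_atPrime (Submonoid.powers 𝓕.u)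
        (q.map (algebraMap A A[T;T⁻¹])) _ rfl
      have h1 := (skSelfAt_iff_of_ringEquiv 2 _ _ e).mp (h _)
      have hreg : IsRegularRing (q.Fiber A[T;T⁻¹]) := isRegularRing_fiber A q
      exact skSelfAt_of_flat_of_height_eq 2 q _ (height_map q) h1
  · rintro ⟨hG, hA⟩ P hP
    by_cases hu : 𝓕.u ∈ P
    · have hpprime : (P.map (Ideal.Quotient.mk (Ideal.span {𝓕.u}))).IsPrime :=
        Ideal.map_isPrime_of_surjective Ideal.Quotient.mk_surjective (by
          rw [Ideal.mk_ker]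
          exact (Ideal.span_singleton_le_iff_mem _).mpr hu)
      have h1 := (skSelfAt_succ_iff_quotient 𝓕.extRees 1 𝓕.u (u_mem_nonZeroDivisors 𝓕)
        (P.map (Ideal.Quotient.mk (Ideal.span {𝓕.u})))).mpr (hG _)
      exact (skSelfAt_congr_ideal 2 _ _ _ (comap_map_mk_of_mem 𝓕 P hu)).mp h1
    · obtain ⟨𝔔, h𝔔, hcomap⟩ := exists_prime_away (S := A[T;T⁻¹]) 𝓕.u P hu
      have hqprime : (𝔔.comap (algebraMap A A[T;T⁻¹])).IsPrime := Ideal.comap_isPrime _ _
      have hlies : 𝔔.LiesOver (𝔔.comap (algebraMap A A[T;T⁻¹])) := ⟨rfl⟩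
      have hreg : IsRegularRing ((𝔔.comap (algebraMap A A[T;T⁻¹])).Fiber A[T;T⁻¹]) :=
        isRegularRing_fiber A _
      have h1 := skSelfAt_of_flat 2 (𝔔.comap (algebraMap A A[T;T⁻¹])) 𝔔 (hA _)
      obtain ⟨e⟩ := nonempty_ringEquiv_atPrime (Submonoid.powers 𝓕.u) 𝔔 P hcomap
      exact (skSelfAt_iff_of_ringEquiv 2 P 𝔔 e).mpr h1

end Groth.Agent.Lib.Helper87.ExtRees
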