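import Groth.Agent.Lib.Helper87.LaurentUFD
import Groth.Agent.Lib.Helper87.ExtReesLoc
import Groth.Agent.Lib.Helper87.ExtRees3

/-!
# The extended Rees algebra is a UFD iff `A` is a UFD and `Gr` is a domain (helper87)
-/

set_option autoImplicit false
universe u

namespace Groth.Agent.Lib.Helper87.ExtRees

open FiltBl LaurentPolynomial
open Groth.Agent.Lib.Helper87.LaurentUFD

variable {A : Type u} [CommRing A] (𝓕 : FiltBl.IdealFiltration A)

/-- `u = T⁻¹` is irreducible in the extended Rees algebra of a proper filtration on a domain. -/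
theorem irreducible_u [IsDomain A] (h1 : 𝓕.F 1 ≠ ⊤) : Irreducible 𝓕.u := by
  have key : ∀ (z : 𝓕.extRees) (e : A) (k : ℤ), IsUnit e → (z : A[T;T⁻¹]) = C e * T k → 0 ≤ k →
      IsUnit z := by
    intro z e k he hz hk
    have hmem := z.2 k
    rw [hz, ← single_eq_C_mul_T, AddMonoidAlgebra.coeff_single, Finsupp.single_apply,
      if_pos rfl] at hmem
    have hk0 : k.toNat = 0 := by
      by_contra hne
      have hle : 𝓕.F k.toNat ≤ 𝓕.F 1 := 𝓕.antitone (by omega)
      exact h1 (Ideal.eq_top_of_isUnit_mem _ (hle hmem) he)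
    have hk' : k = 0 := by omega
    subst hk'
    have hz' : z = algebraMap A 𝓕.extRees e := by
      apply Subtype.ext
      rw [hz, T_zero, mul_one]
      rfl
    rw [hz']
    exact he.map _
  constructor
  · intro hunit
    obtain ⟨w, hw⟩ := hunit.exists_right_inv
    have hval : (T (-1) : A[T;T⁻¹]) * (w : A[T;T⁻¹]) = 1 := congrArg Subtype.val hw
    have hwT : (w : A[T;T⁻¹]) = T 1 := by
      calc (w : A[T;T⁻¹]) = T 1 * (T (-1) * (w : A[T;T⁻¹])) := by
            rw [← mul_assoc, ← T_add]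
            simp
        _ = T 1 := by rw [hval, mul_one]
    have hmem := w.2 1
    rw [hwT, T_apply, if_pos rfl] at hmem
    exact h1 ((Ideal.eq_top_iff_one _).mpr hmem)
  · intro a b hab
    have hval : (a : A[T;T⁻¹]) * (b : A[T;T⁻¹]) = T (-((1 : ℕ) : ℤ)) := by
      have h0 : ((a * b : 𝓕.extRees) : A[T;T⁻¹]) = (𝓕.u : A[T;T⁻¹]) :=
        congrArg Subtype.val hab.symm
      rw [Subalgebra.coe_mul] at h0
      rw [h0]
      rfl
    obtain ⟨c, i, hc, ha⟩ := eq_C_mul_T_of_mul_eq_T _ _ 1 hval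
    obtain ⟨d, j, hd, hb⟩ := eq_C_mul_T_of_mul_eq_T _ _ 1 (by rw [mul_comm]; exact hval)
    have hij : i + j = -1 := by
      rw [ha, hb] at hval
      have h3 : C (c * d) * T (i + j) = (T (-1) : A[T;T⁻¹]) := by
        rw [map_mul, T_add]
        rw [show (T (-1) : A[T;T⁻¹]) = T (-((1 : ℕ) : ℤ)) by simp, ← hval]
        ring
      have h2 : (C (c * d) * T (i + j) : A[T;T⁻¹]).coeff (i + j) =
          (T (-1) : A[T;T⁻¹]).coeff (i + j) := by rw [h3]
      rw [← single_eq_C_mul_T, AddMonoidAlgebra.coeff_single, Finsupp.single_apply, if_pos rfl,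
        T_apply] at h2
      by_contra hne
      rw [if_neg (Ne.symm hne)] at h2
      exact (hc.mul hd).ne_zero h2
    rcases le_or_gt 0 i with hi | hi
    · exact Or.inl (key a c i hc ha hi)
    · exact Or.inr (key b d j hd hb (by omega))

theorem ufd_extRees_iff [IsNoetherianRing A] [IsDomain A] [IsDomain 𝓕.extRees]
    (hsep : ⨅ n, 𝓕.F n = ⊥) (hfg : Algebra.FiniteType A 𝓕.rees) :
    UniqueFactorizationMonoid 𝓕.extRees ↔ (UniqueFactorizationMonoid A ∧ IsDomain 𝓕.Gr) := by
  have hN : IsNoetherianRing 𝓕.extRees := isNoetherianRing_extRees 𝓕 hfg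
  have hu0 : 𝓕.u ≠ 0 := mem_nonZeroDivisors_iff_ne_zero.mp (u_mem_nonZeroDivisors 𝓕)
  have hGdom : IsDomain 𝓕.Gr ↔ Prime 𝓕.u := by
    rw [← Ideal.span_singleton_prime hu0]
    exact Ideal.Quotient.isDomain_iff_prime (Ideal.span {𝓕.u})
  constructor
  · intro hufd
    have hL : UniqueFactorizationMonoid A[T;T⁻¹] :=
      UniqueFactorizationMonoid.of_isLocalization (Submonoid.powers 𝓕.u) A[T;T⁻¹]
    refine ⟨ufd_of_ufd_laurent hL, hGdom.mpr ?_⟩
    exact UniqueFactorizationMonoid.irreducible_iff_prime.mp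
      (irreducible_u 𝓕 (F_one_ne_top 𝓕 hsep))
  · rintro ⟨hA, hG⟩
    have hprime := hGdom.mp hG
    exact (UniqueFactorizationMonoid.iff_of_isLocalizationAway_of_prime hprime A[T;T⁻¹]).mpr
      ufd_laurent

end Groth.Agent.Lib.Helper87.ExtRees
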