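import Groth.Agent.Lib.Helper87.CIHilb1
import Groth.Agent.Lib.Helper55.DimTrdeg

/-!
# Forms of a given degree vanishing on an irreducible projective variety: a codimension bound
(helper87)
-/

set_option autoImplicit false
universe u

namespace Groth.Agent.Lib.Helper87.FanoForms

open MvPolynomial Cardinal

theorem le_choose (N j : ℕ) (hj : 1 ≤ j) (hjN : j + 1 ≤ N) : N ≤ N.choose j := by
  induction N generalizing j with
  | zero => omega
  | succ N ih =>
    rcases Nat.lt_or_ge j 2 with h | h
    · have : j = 1 := by omega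
      subst this
      rw [Nat.choose_one_right]
    · by_cases hN : j = N
      · subst hN
        rw [Nat.choose_succ_self_right]
      · obtain ⟨i, rfl⟩ : ∃ i, j = i + 1 := ⟨j - 1, by omega⟩
        rw [Nat.choose_succ_succ]
        have h1 := ih i (by omega) (by omega)
        have h2 : N ≤ N.choose i.succ := ih (i + 1) (by omega) (by omega)
        omega

section Var

variable (k : Type u) [Field k]

/-- among the variables one can choose `dim` many which are algebraically independent modulo a
prime -/
theorem exists_algebraicIndependent_variables (m : ℕ)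
    (𝔭 : Ideal (MvPolynomial (Fin (m + 1)) k)) [𝔭.IsPrime] (s : ℕ)
    (hdim : ringKrullDim (MvPolynomial (Fin (m + 1)) k ⧸ 𝔭) = s) :
    ∃ e : Fin s → Fin (m + 1), Function.Injective e ∧
      AlgebraicIndependent k (fun i => Ideal.Quotient.mk 𝔭 (X (e i))) := by
  classical
  haveI : IsDomain (MvPolynomial (Fin (m + 1)) k ⧸ 𝔭) :=
    (Ideal.Quotient.isDomain_iff_prime 𝔭).mpr inferInstance
  obtain ⟨s', h1, h2⟩ := Groth.Agent.Lib.Helper55.exists_ringKrullDim_eq_and_trdeg_eq k
    (MvPolynomial (Fin (m + 1)) k ⧸ 𝔭)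
  have hss : s' = s := by
    rw [hdim] at h1
    exact_mod_cast h1.symm
  subst hss
  set x : Fin (m + 1) → MvPolynomial (Fin (m + 1)) k ⧸ 𝔭 :=
    fun j => Ideal.Quotient.mk 𝔭 (X j) with hx
  have hadj : Algebra.adjoin k (Set.range x) = ⊤ := by
    have : Set.range x = (Ideal.Quotient.mkₐ k 𝔭) '' Set.range
        (X : Fin (m + 1) → MvPolynomial (Fin (m + 1)) k) := by
      rw [← Set.range_comp]
      rfl
    rw [this, ← AlgHom.map_adjoin, MvPolynomial.adjoin_range_X, Algebra.map_top,
      AlgHom.range_eq_top]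
    exact Ideal.Quotient.mkₐ_surjective k _
  haveI : Algebra.IsAlgebraic (Algebra.adjoin k (Set.range x))
      (MvPolynomial (Fin (m + 1)) k ⧸ 𝔭) := by
    refine ⟨fun a => ?_⟩
    have ha : a ∈ Algebra.adjoin k (Set.range x) := by rw [hadj]; exact Algebra.mem_top
    exact isAlgebraic_algebraMap (⟨a, ha⟩ : Algebra.adjoin k (Set.range x))
  haveI : FaithfulSMul k (MvPolynomial (Fin (m + 1)) k ⧸ 𝔭) :=
    (faithfulSMul_iff_algebraMap_injective _ _).mpr
      (algebraMap k (MvPolynomial (Fin (m + 1)) k ⧸ 𝔭)).injective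
  obtain ⟨t, hts, ht⟩ := exists_isTranscendenceBasis_subset (R := k) (Set.range x)
  have hcard : #t = (s' : Cardinal) := by
    rw [ht.cardinalMk_eq_trdeg, h2]
  obtain ⟨eq⟩ := Cardinal.mk_eq_nat_iff.mp hcard
  choose j hj using fun y : t => hts y.2
  refine ⟨fun i => j (eq.symm i), ?_, ?_⟩
  · intro i i' hii
    have h3 : x (j (eq.symm i)) = x (j (eq.symm i')) := congrArg x hii
    rw [hj, hj] at h3
    exact eq.symm.injective (Subtype.ext h3)
  · have h4 : (fun i => Ideal.Quotient.mk 𝔭 (X (j (eq.symm i)))) =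
        ((↑) : t → MvPolynomial (Fin (m + 1)) k ⧸ 𝔭) ∘ eq.symm := by
      funext i
      exact hj (eq.symm i)
    rw [h4]
    exact ht.1.comp _ eq.symm.injective

theorem ringKrullDim_quotient_radical {R : Type*} [CommRing R] (I : Ideal R) :
    ringKrullDim (R ⧸ I.radical) = ringKrullDim (R ⧸ I) := by
  rw [ringKrullDim_quotient, ringKrullDim_quotient, PrimeSpectrum.zeroLocus_radical]

/-- the forms of degree `d + 1` vanishing on an irreducible variety of dimension `m - d` in `P^m`
have codimension at least `m + 1` -/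
theorem main (m d : ℕ) (hd : 1 ≤ d) (hdm : d + 1 ≤ m)
    (I : Ideal (MvPolynomial (Fin (m + 1)) k)) (hirr : I.radical.IsPrime)
    (hdim : ringKrullDim (MvPolynomial (Fin (m + 1)) k ⧸ I) = ((m + 1 - d : ℕ) : WithBot ℕ∞)) :
    m + 1 + Module.finrank k ↥(CohB1.polyGrading m k (d + 1) ⊓ Submodule.restrictScalars k I)
      ≤ Module.finrank k ↥(CohB1.polyGrading m k (d + 1)) := by
  classical
  obtain ⟨r, hr⟩ : ∃ r, m = r + d := ⟨m - d, by omega⟩
  have hs : m + 1 - d = r + 1 := by omega
  rw [hs] at hdim
  haveI := hirr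
  rw [← ringKrullDim_quotient_radical] at hdim
  obtain ⟨e, hinj, hind⟩ := exists_algebraicIndependent_variables k m I.radical (r + 1) hdim
  set ρ : MvPolynomial (Fin (r + 1)) k →ₐ[k] MvPolynomial (Fin (m + 1)) k := rename e with hρ
  have hρinj : Function.Injective ρ := rename_injective e hinj
  set W : Submodule k (MvPolynomial (Fin (m + 1)) k) :=
    Submodule.map ρ.toLinearMap (CohB1.polyGrading r k (d + 1)) with hW
  have hWle : W ≤ CohB1.polyGrading m k (d + 1) := by
    rintro _ ⟨q, hq, rfl⟩
    exact (mem_homogeneousSubmodule _ _).mpr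
      (IsHomogeneous.rename_isHomogeneous ((mem_homogeneousSubmodule _ _).mp hq))
  have hWrank : Module.finrank k W = (r + (d + 1)).choose r := by
    rw [← finrank_polyGrading k r (d + 1)]
    exact (Submodule.equivMapOfInjective ρ.toLinearMap hρinj _).finrank_eq.symm
  have hdisj : W ⊓ (CohB1.polyGrading m k (d + 1) ⊓ Submodule.restrictScalars k I) = ⊥ := by
    rw [eq_bot_iff]
    rintro w ⟨⟨q, _, rfl⟩, _, hwI⟩
    have hwI' : ρ q ∈ I := hwI
    have h1 : Ideal.Quotient.mk I.radical (ρ q) = 0 :=
      Ideal.Quotient.eq_zero_iff_mem.mpr (Ideal.le_radical hwI')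
    have h2 : aeval (fun i => Ideal.Quotient.mk I.radical (X (e i))) q = 0 := by
      rw [← h1, hρ]
      have : (aeval (fun i => Ideal.Quotient.mk I.radical (X (e i))) :
          MvPolynomial (Fin (r + 1)) k →ₐ[k] _) =
          (Ideal.Quotient.mkₐ k I.radical).comp (rename e) := by
        apply MvPolynomial.algHom_ext
        intro i
        simp
      rw [this]
      rfl
    have h3 : q = 0 := by
      have := hind
      rw [AlgebraicIndependent] at this
      exact this (by rw [h2, map_zero])
    rw [Submodule.mem_bot]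
    change ρ q = 0
    rw [h3, map_zero]
  haveI : Module.Finite k ↥(CohB1.polyGrading m k (d + 1)) := finite_polyGrading k m (d + 1)
  have hsup : W ⊔ (CohB1.polyGrading m k (d + 1) ⊓ Submodule.restrictScalars k I) ≤
      CohB1.polyGrading m k (d + 1) := sup_le hWle inf_le_left
  haveI : Module.Finite k W := Submodule.finiteDimensional_of_le hWle
  haveI : Module.Finite k ↥(CohB1.polyGrading m k (d + 1) ⊓ Submodule.restrictScalars k I) :=
    Submodule.finiteDimensional_of_le inf_le_left
  have h5 := Submodule.finrank_sup_add_finrank_inf_eq W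
    (CohB1.polyGrading m k (d + 1) ⊓ Submodule.restrictScalars k I)
  rw [hdisj, finrank_bot, add_zero] at h5
  have h6 := Submodule.finrank_mono hsup
  have h7 : m + 1 ≤ (r + (d + 1)).choose r := by
    have h8 := le_choose (m + 1) r (by omega) (by omega)
    have h9 : r + (d + 1) = m + 1 := by omega
    rw [h9]
    exact h8
  omega

end Var

end Groth.Agent.Lib.Helper87.FanoForms
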