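import Mathlib
import Groth.Prelude.Def_W4c5adicflatcomplDec
import Groth.Agent.Lib.Helper87.Decaying

/-!
* `ker_inf_smul_top_le`: if `φ : D → M` is surjective onto a flat module, then
  `ker φ ⊓ J • ⊤ ≤ J • ker φ` for a finitely generated ideal `J`.
* `decayingCongr`: a linear equivalence of modules induces one on decaying functions.
-/

set_option autoImplicit false

namespace Groth.Agent.Lib.Helper87

open W4c5adicflatcompl

variable {A : Type*} [CommRing A]

lemma ker_inf_smul_top_le {D M : Type*} [AddCommGroup D] [Module A D] [AddCommGroup M]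
    [Module A M] [Module.Flat A M] (φ : D →ₗ[A] M) (hφ : Function.Surjective φ)
    (J : Ideal A) (hJ : J.FG) :
    LinearMap.ker φ ⊓ (J • ⊤ : Submodule A D) ≤ J • LinearMap.ker φ := by
  classical
  rintro g ⟨hgK, hgJ⟩
  obtain ⟨r, a, ha⟩ := Submodule.fg_iff_exists_fin_generating_family.1 hJ
  have ha' : Ideal.span (Set.range a) = J := ha
  rw [← ha'] at hgJ
  obtain ⟨d, -, hgd⟩ := exists_sum_of_mem_span_smul a ⊤ hgJ
  have hrel : ∑ i, a i • φ (d i) = 0 := by
    have : φ g = 0 := hgK
    rw [hgd, map_sum] at this
    simpa using this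
  obtain ⟨k, b, y, hy, hb⟩ := Module.Flat.isTrivialRelation_of_sum_smul_eq_zero hrel
  have hy' : ∀ i, φ (d i) = ∑ j, b i j • y j := hy
  choose e he using fun j => hφ (y j)
  have hd' : ∀ i, d i - ∑ j, b i j • e j ∈ LinearMap.ker φ := by
    intro i
    rw [LinearMap.mem_ker, map_sub, map_sum, hy' i, sub_eq_zero]
    refine Finset.sum_congr rfl fun j _ => ?_
    rw [map_smul, he]
  have hg : g = ∑ i, a i • (d i - ∑ j, b i j • e j) := by
    rw [hgd]
    simp only [smul_sub, Finset.sum_sub_distrib, Finset.smul_sum, smul_smul]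
    rw [Finset.sum_comm]
    have : ∑ j, ∑ i, (a i * b i j) • e j = 0 := by
      refine Finset.sum_eq_zero fun j _ => ?_
      rw [← Finset.sum_smul, hb j, zero_smul]
    rw [this, sub_zero]
  rw [hg]
  refine Submodule.sum_mem _ fun i _ => Submodule.smul_mem_smul ?_ (hd' i)
  rw [← ha']
  exact Ideal.subset_span ⟨i, rfl⟩

/-- a linear equivalence of modules induces a linear equivalence on decaying functions -/
def decayingCongr (I : Ideal A) (Z : Type*) {N N' : Type*} [AddCommGroup N] [Module A N]
    [AddCommGroup N'] [Module A N'] (e : N ≃ₗ[A] N') : decaying I Z N ≃ₗ[A] decaying I Z N' where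
  toFun f := ⟨fun z => e ((f : Z → N) z), fun n => (f.2 n).subset fun z hz => by
    simp only [Set.mem_ofPred_eq] at hz ⊢
    exact fun h => hz (by simpa using map_mem_smul_top e.toLinearMap _ h)⟩
  invFun f := ⟨fun z => e.symm ((f : Z → N') z), fun n => (f.2 n).subset fun z hz => by
    simp only [Set.mem_ofPred_eq] at hz ⊢
    intro h
    apply hz
    have := map_mem_smul_top e.symm.toLinearMap _ h
    simpa using this⟩
  map_add' f g := by
    apply Subtype.ext
    funext z
    simp
  map_smul' a f := by
    apply Subtype.ext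
    funext z
    simp
  left_inv f := by
    apply Subtype.ext
    funext z
    simp
  right_inv f := by
    apply Subtype.ext
    funext z
    simp

end Groth.Agent.Lib.Helper87
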