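import Mathlib
import Groth.Prelude.Def_FrobAlg

set_option autoImplicit false

namespace Groth.Agent.Lib.Helper87

open FrobAlg TensorProduct

section twist

universe u

variable (p : ℕ) [Fact p.Prime] (A : Type u) [CommRing A] [CharP A p] (I : Ideal A)

theorem twist_smul_def (a : A) (t : Twist p A) : a • t = toTwist p A (a ^ p) * t := by
  rw [Algebra.smul_def, algebraMap_twist]

/-- the identity `Twist p A → A` as a Frobenius-semilinear map. -/
noncomputable def twistToBase : Twist p A →ₛₗ[frobenius A p] A where
  toFun := (toTwist p A).symm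
  map_add' := map_add _
  map_smul' a t := by
    change (toTwist p A).symm (a • t) = frobenius A p a • (toTwist p A).symm t
    rw [twist_smul_def, map_mul, RingEquiv.symm_apply_apply, frobenius_def, smul_eq_mul]

theorem twistToBase_apply (t : Twist p A) : twistToBase p A t = (toTwist p A).symm t := rfl

theorem twistToBase_toTwist (a : A) : twistToBase p A (toTwist p A a) = a :=
  RingEquiv.symm_apply_apply _ a

theorem toTwist_twistToBase (t : Twist p A) : toTwist p A (twistToBase p A t) = t :=
  RingEquiv.apply_symm_apply _ t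

/-- `I^n • ⊤` is stable under ring multiplication in the twist. -/
theorem mul_mem_smul_top (n : ℕ) (s t : Twist p A)
    (ht : t ∈ (I ^ n • ⊤ : Submodule A (Twist p A))) :
    s * t ∈ (I ^ n • ⊤ : Submodule A (Twist p A)) := by
  refine Submodule.smul_induction_on ht ?_ ?_
  · intro r hr m _
    rw [mul_smul_comm]
    exact Submodule.smul_mem_smul hr Submodule.mem_top
  · intro x y hx hy
    rw [mul_add]
    exact Submodule.add_mem _ hx hy

/-- the ideal of `A` corresponding to `I^n • ⊤` in the twist. -/
def twistIdeal (n : ℕ) : Ideal A where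
  carrier := {a | toTwist p A a ∈ (I ^ n • ⊤ : Submodule A (Twist p A))}
  add_mem' {a b} ha hb := by
    change toTwist p A (a + b) ∈ (I ^ n • ⊤ : Submodule A (Twist p A))
    rw [map_add]
    exact Submodule.add_mem _ ha hb
  zero_mem' := by
    change toTwist p A 0 ∈ (I ^ n • ⊤ : Submodule A (Twist p A))
    rw [map_zero]
    exact Submodule.zero_mem _
  smul_mem' s a ha := by
    change toTwist p A (s • a) ∈ (I ^ n • ⊤ : Submodule A (Twist p A))
    rw [smul_eq_mul, map_mul]
    exact mul_mem_smul_top p A I n _ _ ha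

theorem mem_twistIdeal (n : ℕ) (a : A) :
    a ∈ twistIdeal p A I n ↔ toTwist p A a ∈ (I ^ n • ⊤ : Submodule A (Twist p A)) := Iff.rfl

theorem pow_mem_twistIdeal (n : ℕ) (a : A) (ha : a ∈ I ^ n) : a ^ p ∈ twistIdeal p A I n := by
  rw [mem_twistIdeal]
  have h : toTwist p A (a ^ p) = a • (1 : Twist p A) := by
    rw [twist_smul_def, mul_one]
  rw [h]
  exact Submodule.smul_mem_smul ha Submodule.mem_top

theorem exists_pow_le_twistIdeal [IsNoetherianRing A] (n : ℕ) :
    ∃ k : ℕ, (I ^ n) ^ k ≤ twistIdeal p A I n := by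
  apply Ideal.exists_pow_le_of_le_radical_of_fg
  · intro a ha
    exact ⟨p, pow_mem_twistIdeal p A I n a ha⟩
  · exact (isNoetherianRing_iff_ideal_fg A).mp inferInstance _

theorem twistToBase_mem (n : ℕ) (t : Twist p A)
    (ht : t ∈ (I ^ n • ⊤ : Submodule A (Twist p A))) :
    twistToBase p A t ∈ (I ^ n • ⊤ : Submodule A A) := by
  refine Submodule.smul_induction_on ht ?_ ?_
  · intro r hr m _
    rw [map_smulₛₗ, frobenius_def]
    have hp : 0 < p := (Fact.out : p.Prime).pos
    have hrp : r ^ p ∈ I ^ n := by
      have hp1 : p = (p - 1) + 1 := by omega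
      rw [hp1, pow_succ]
      exact Ideal.mul_mem_left _ _ hr
    exact Submodule.smul_mem_smul hrp Submodule.mem_top
  · intro x y hx hy
    rw [map_add]
    exact Submodule.add_mem _ hx hy

/-- the level-`n` comparison map. -/
noncomputable def theta (n : ℕ) :
    (Twist p A ⧸ (I ^ n • ⊤ : Submodule A (Twist p A))) →ₛₗ[frobenius A p]
      (A ⧸ (I ^ n • ⊤ : Submodule A A)) :=
  Submodule.mapQ _ _ (twistToBase p A) (fun t ht => twistToBase_mem p A I n t ht)

theorem theta_mk (n : ℕ) (t : Twist p A) :
    theta p A I n (Submodule.Quotient.mk t) = Submodule.Quotient.mk (twistToBase p A t) := rfl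

end twist

end Groth.Agent.Lib.Helper87
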