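import Groth.Agent.Lib.Helper87.FrobCompl1

set_option autoImplicit false

namespace Groth.Agent.Lib.Helper87

open FrobAlg TensorProduct

section compare

universe u

variable (p : ℕ) [Fact p.Prime] (A : Type u) [CommRing A] [CharP A p] (I : Ideal A)

theorem smul_top_eq_self (J : Ideal A) : (J • ⊤ : Submodule A A) = J := by simp

theorem pow_le_twistIdeal_of_le (n k m : ℕ) (hk : (I ^ n) ^ k ≤ twistIdeal p A I n)
    (hm : n * k ≤ m) : I ^ m ≤ twistIdeal p A I n := by
  refine le_trans (Ideal.pow_le_pow_right hm) ?_
  rw [pow_mul]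
  exact hk

theorem adic_eq_zero_of_theta [IsNoetherianRing A] (x : AdicCompletion I (Twist p A))
    (h : ∀ n, theta p A I n (x.val n) = 0) : x = 0 := by
  obtain ⟨c, rfl⟩ := AdicCompletion.mk_surjective I (Twist p A) x
  have hmem : ∀ m, twistToBase p A (c m) ∈ I ^ m := by
    intro m
    have := h m
    rw [AdicCompletion.mk_apply_coe, Submodule.mkQ_apply, theta_mk,
      Submodule.Quotient.mk_eq_zero, smul_top_eq_self] at this
    exact this
  ext n
  rw [AdicCompletion.mk_apply_coe, Submodule.mkQ_apply, AdicCompletion.val_zero_apply,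
    Submodule.Quotient.mk_eq_zero]
  obtain ⟨k, hk⟩ := exists_pow_le_twistIdeal p A I n
  set m := n * k + n with hm
  have hIm : I ^ m ≤ twistIdeal p A I n :=
    pow_le_twistIdeal_of_le p A I n k m hk (by omega)
  have h1 : c m ∈ (I ^ n • ⊤ : Submodule A (Twist p A)) := by
    have := hIm (hmem m)
    rw [mem_twistIdeal, toTwist_twistToBase] at this
    exact this
  have hnm : n ≤ m := by omega
  have h2 := c.property hnm
  rw [SModEq.def] at h2
  rw [← Submodule.Quotient.mk_eq_zero, h2, Submodule.Quotient.mk_eq_zero]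
  exact h1

theorem exists_adic_theta [IsNoetherianRing A] (y : AdicCompletion I A) :
    ∃ x : AdicCompletion I (Twist p A), ∀ n, theta p A I n (x.val n) = y.val n := by
  obtain ⟨a, rfl⟩ := AdicCompletion.mk_surjective I A y
  choose k hk using exists_pow_le_twistIdeal p A I
  set M : ℕ → ℕ := fun n => ∑ j ∈ Finset.range (n + 1), (j * k j + j) with hM
  have hMn : ∀ n, n * k n + n ≤ M n := by
    intro n
    rw [hM]
    exact Finset.single_le_sum (f := fun j => j * k j + j) (fun _ _ => Nat.zero_le _)
      (Finset.self_mem_range_succ n)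
  have hMmono : ∀ n, M n ≤ M (n + 1) := by
    intro n
    rw [hM]
    simp only
    rw [Finset.sum_range_succ _ (n + 1)]
    exact Nat.le_add_right _ _
  have hI : ∀ n, I ^ (M n) ≤ twistIdeal p A I n := by
    intro n
    exact pow_le_twistIdeal_of_le p A I n (k n) (M n) (hk n) (by have := hMn n; omega)
  set c : ℕ → Twist p A := fun n => toTwist p A (a (M n)) with hc
  have hcauchy : ∀ n, c n ≡ c (n + 1) [SMOD (I ^ n • ⊤ : Submodule A (Twist p A))] := by
    intro n
    rw [SModEq.sub_mem, hc]
    simp only
    rw [← map_sub, ← mem_twistIdeal]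
    apply hI n
    have h1 := a.property (hMmono n)
    rw [SModEq.sub_mem, smul_top_eq_self] at h1
    exact h1
  refine ⟨AdicCompletion.mk I (Twist p A) (AdicCompletion.AdicCauchySequence.mk I _ c hcauchy), ?_⟩
  intro n
  rw [AdicCompletion.mk_apply_coe, AdicCompletion.mk_apply_coe, Submodule.mkQ_apply,
    Submodule.mkQ_apply, theta_mk]
  change Submodule.Quotient.mk (twistToBase p A (toTwist p A (a (M n)))) = _
  rw [twistToBase_toTwist]
  have hnM : n ≤ M n := by have := hMn n; omega
  have h2 := a.property hnM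
  rw [SModEq.def] at h2
  exact h2.symm

end compare

end Groth.Agent.Lib.Helper87
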