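import Groth.Agent.Lib.Helper87.FrobCompl2

set_option autoImplicit false

namespace Groth.Agent.Lib.Helper87

open FrobAlg TensorProduct

section final

universe u

variable (p : ℕ) [Fact p.Prime] (A : Type u) [CommRing A] [CharP A p] (I : Ideal A)

theorem relFrob_tmul (B : Type u) [CommRing B] [Algebra A B] [CharP B p] (b : B)
    (t : Twist p A) :
    relFrob p A B (b ⊗ₜ[A] t) = b ^ p * algebraMap A B ((toTwist p A).symm t) := by
  simp only [relFrob, RingHom.comp_apply, AlgHom.toRingHom_eq_coe, RingHom.coe_coe,
    Algebra.TensorProduct.lift_tmul]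
  rfl

theorem val_pow_adic (n k : ℕ) (x : AdicCompletion I A) : (x ^ k).val n = x.val n ^ k := by
  induction k with
  | zero => rw [pow_zero, pow_zero, AdicCompletion.val_one]
  | succ k ih => rw [pow_succ, pow_succ, AdicCompletion.val_mul, ih]

theorem theta_relation [CharP (AdicCompletion I A) p] (z : AdicCompletion I A ⊗[A] Twist p A)
    (n : ℕ) :
    theta p A I n ((AdicCompletion.ofTensorProduct I (Twist p A) z).val n) =
      (relFrob p A (AdicCompletion I A) z).val n := by
  induction z using TensorProduct.induction_on with
  | zero => rw [map_zero, map_zero, AdicCompletion.val_zero_apply, map_zero,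
      AdicCompletion.val_zero_apply]
  | add x y hx hy =>
    rw [map_add, map_add, AdicCompletion.val_add_apply, map_add, hx, hy,
      AdicCompletion.val_add_apply]
  | tmul b t =>
    rw [AdicCompletion.ofTensorProduct_tmul, relFrob_tmul, AdicCompletion.smul_eval,
      AdicCompletion.val_mul, val_pow_adic]
    obtain ⟨β, rfl⟩ := AdicCompletion.mk_surjective I A b
    rw [AdicCompletion.mk_apply_coe, AdicCompletion.of_apply, Submodule.mkQ_apply,
      Submodule.mkQ_apply]
    have h1 : (Submodule.Quotient.mk (β n) : A ⧸ (I ^ n • ⊤ : Ideal A)) •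
        (Submodule.Quotient.mk t : Twist p A ⧸ (I ^ n • ⊤ : Submodule A (Twist p A))) =
        Submodule.Quotient.mk (β n • t) := rfl
    rw [h1, theta_mk, map_smulₛₗ, frobenius_def, AdicCompletion.algebraMap_apply,
      AdicCompletion.of_apply, Submodule.mkQ_apply, Algebra.algebraMap_self_apply,
      twistToBase_apply]
    change Ideal.Quotient.mk (I ^ n • ⊤ : Ideal A) (β n ^ p * (toTwist p A).symm t) =
      (Ideal.Quotient.mk (I ^ n • ⊤ : Ideal A) (β n)) ^ p *
        Ideal.Quotient.mk (I ^ n • ⊤ : Ideal A) ((toTwist p A).symm t)
    rw [map_mul, map_pow]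

theorem module_finite_twist (hF : (frobenius A p).Finite) : Module.Finite A (Twist p A) := hF

theorem relFrob_adicCompletion_bijective [IsNoetherianRing A] (hF : (frobenius A p).Finite)
    [CharP (AdicCompletion I A) p] :
    Function.Bijective (relFrob p A (AdicCompletion I A)) := by
  have : Module.Finite A (Twist p A) := module_finite_twist p A hF
  have hΨ := AdicCompletion.ofTensorProduct_bijective_of_finite_of_isNoetherian I (Twist p A)
  constructor
  · rw [injective_iff_map_eq_zero]
    intro z hz
    have h1 : AdicCompletion.ofTensorProduct I (Twist p A) z = 0 := by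
      apply adic_eq_zero_of_theta p A I
      intro n
      rw [theta_relation, hz, AdicCompletion.val_zero_apply]
    have h2 : AdicCompletion.ofTensorProduct I (Twist p A) z =
        AdicCompletion.ofTensorProduct I (Twist p A) 0 := by rw [h1, map_zero]
    exact hΨ.1 h2
  · intro y
    obtain ⟨x, hx⟩ := exists_adic_theta p A I y
    obtain ⟨z, rfl⟩ := hΨ.2 x
    refine ⟨z, ?_⟩
    apply AdicCompletion.ext
    intro n
    rw [← theta_relation, hx]

end final

end Groth.Agent.Lib.Helper87
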