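import Mathlib

set_option autoImplicit false

namespace Groth.Agent.Lib.Helper87

open PowerSeries

section gaps

universe u

variable {k : Type u} [Field k] (A : Subalgebra k (PowerSeries k))

/-- A common denominator carrying all of `k⟦X⟧` into `A`. -/
lemma exists_conductor (hA : Module.Finite ↥A (PowerSeries k))
    (hbir : ∀ f : PowerSeries k, ∃ a ∈ A, a ≠ 0 ∧ a * f ∈ A) :
    ∃ a₀ ∈ A, a₀ ≠ 0 ∧ ∀ f : PowerSeries k, a₀ * f ∈ A := by
  classical
  obtain ⟨S, hS⟩ := hA.fg_top
  choose a haA ha0 haf using hbir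
  refine ⟨∏ s ∈ S, a s, Subalgebra.prod_mem A (fun s _ => haA s),
    Finset.prod_ne_zero_iff.mpr (fun s _ => ha0 s), ?_⟩
  intro f
  have hf : f ∈ Submodule.span ↥A (S : Set (PowerSeries k)) := by rw [hS]; trivial
  induction hf using Submodule.span_induction with
  | mem s hs =>
    have hs' : s ∈ S := hs
    rw [← Finset.prod_erase_mul S a hs', mul_assoc]
    exact A.mul_mem (Subalgebra.prod_mem A (fun s _ => haA s)) (haf s)
  | zero => rw [mul_zero]; exact A.zero_mem
  | add x y _ _ hx hy => rw [mul_add]; exact A.add_mem hx hy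
  | smul b x _ hx =>
    have : (∏ s ∈ S, a s) * (b • x) = (b : PowerSeries k) * ((∏ s ∈ S, a s) * x) := by
      rw [Subalgebra.smul_def]
      show (∏ s ∈ S, a s) * ((b : PowerSeries k) * x) = _
      ring
    rw [this]
    exact A.mul_mem b.2 hx

/-- Everything of large order lies in `A`. -/
lemma exists_order_bound (hA : Module.Finite ↥A (PowerSeries k))
    (hbir : ∀ f : PowerSeries k, ∃ a ∈ A, a ≠ 0 ∧ a * f ∈ A) :
    ∃ c : ℕ, ∀ g : PowerSeries k, (c : ℕ∞) ≤ g.order → g ∈ A := by
  obtain ⟨a₀, ha₀A, ha₀0, ha₀⟩ := exists_conductor A hA hbir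
  refine ⟨a₀.order.toNat, fun g hg => ?_⟩
  have hdvd : (X : PowerSeries k) ^ a₀.order.toNat ∣ g := by
    rw [X_pow_dvd_iff]
    intro m hm
    apply coeff_of_lt_order
    exact lt_of_lt_of_le (by exact_mod_cast hm) hg
  obtain ⟨g', rfl⟩ := hdvd
  obtain ⟨u, hu⟩ := isUnit_divided_by_X_pow_order ha₀0
  have h1 : (X : PowerSeries k) ^ a₀.order.toNat * g' = a₀ * ((↑u⁻¹ : PowerSeries k) * g') := by
    conv_rhs => rw [← X_pow_order_mul_divXPowOrder (f := a₀), ← hu]
    rw [mul_assoc, ← mul_assoc (u : PowerSeries k), Units.mul_inv, one_mul]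
  rw [h1]
  exact ha₀ _

theorem gaps_main (hA : Module.Finite ↥A (PowerSeries k))
    (hbir : ∀ f : PowerSeries k, ∃ a ∈ A, a ≠ 0 ∧ a * f ∈ A) (Γ : Set ℕ)
    (hΓ : ∀ n : ℕ, n ∈ Γ ↔ ∃ f ∈ A, PowerSeries.order f = n) :
    Γᶜ.Finite ∧ Module.finrank k (PowerSeries k ⧸ Subalgebra.toSubmodule A) = Γᶜ.ncard := by
  classical
  obtain ⟨c, hc⟩ := exists_order_bound A hA hbir
  have hGsub : Γᶜ ⊆ {n | n < c} := by
    intro n hn
    by_contra hnc
    have hnc' : c ≤ n := not_lt.mp hnc
    apply hn
    rw [hΓ]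
    refine ⟨X ^ n, hc _ ?_, order_X_pow n⟩
    rw [order_X_pow]
    exact_mod_cast hnc'
  have hGfin : Γᶜ.Finite := (Set.finite_lt_nat c).subset hGsub
  refine ⟨hGfin, ?_⟩
  haveI : Fintype ↥(Γᶜ) := hGfin.fintype
  let π : PowerSeries k →ₗ[k] (PowerSeries k ⧸ Subalgebra.toSubmodule A) :=
    (Subalgebra.toSubmodule A).mkQ
  have hπ0 : ∀ f, f ∈ A → π f = 0 := by
    intro f hf
    exact (Submodule.Quotient.mk_eq_zero _).mpr hf
  let v : ↥(Γᶜ) → (PowerSeries k ⧸ Subalgebra.toSubmodule A) := fun n => π (X ^ (n : ℕ))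
  -- spanning
  have hspan_aux : ∀ (m : ℕ) (f : PowerSeries k), ((c - m : ℕ) : ℕ∞) ≤ f.order →
      π f ∈ Submodule.span k (Set.range v) := by
    intro m
    induction m with
    | zero =>
      intro f hf
      rw [hπ0 f (hc f (by simpa using hf))]
      exact Submodule.zero_mem _
    | succ m ih =>
      intro f hf
      by_cases hmc : c ≤ m
      · apply ih f
        have h1 : c - m = 0 := Nat.sub_eq_zero_of_le hmc
        rw [h1]; simp
      · have hmc' : m < c := not_le.mp hmc
        set n := c - (m + 1) with hn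
        have hn1 : c - m = n + 1 := by omega
        have hlow : ∀ i < n, coeff i f = 0 := by
          intro i hi
          apply coeff_of_lt_order
          exact lt_of_lt_of_le (by exact_mod_cast hi) hf
        by_cases hnΓ : n ∈ Γ
        · obtain ⟨g, hgA, hgo⟩ := (hΓ n).mp hnΓ
          obtain ⟨hβ, hglow⟩ := order_eq_nat.mp hgo
          set α := coeff n f with hα
          set β := coeff n g with hβdef
          have hf' : ((c - m : ℕ) : ℕ∞) ≤ (f - (α / β) • g).order := by
            rw [hn1]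
            apply nat_le_order
            intro i hi
            rw [map_sub, map_smul, smul_eq_mul]
            rcases Nat.lt_succ_iff_lt_or_eq.mp hi with hi' | rfl
            · rw [hlow i hi', hglow i hi', mul_zero, sub_zero]
            · rw [← hα, ← hβdef, div_mul_cancel₀ _ hβ, sub_self]
          have h2 := ih _ hf'
          have h3 : π f = π (f - (α / β) • g) := by
            rw [map_sub, map_smul, hπ0 g hgA, smul_zero, sub_zero]
          rw [h3]
          exact h2
        · set α := coeff n f with hα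
          have hf' : ((c - m : ℕ) : ℕ∞) ≤ (f - α • (X : PowerSeries k) ^ n).order := by
            rw [hn1]
            apply nat_le_order
            intro i hi
            rw [map_sub, map_smul, smul_eq_mul, coeff_X_pow]
            rcases Nat.lt_succ_iff_lt_or_eq.mp hi with hi' | rfl
            · rw [hlow i hi', if_neg (Nat.ne_of_lt hi'), mul_zero, sub_zero]
            · rw [if_pos rfl, mul_one, ← hα, sub_self]
          have h2 := ih _ hf'
          have h3 : π f = π (f - α • (X : PowerSeries k) ^ n) + α • v ⟨n, hnΓ⟩ := by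
            show π f = π (f - α • (X : PowerSeries k) ^ n) + α • π (X ^ n)
            rw [← map_smul, ← map_add, sub_add_cancel]
          rw [h3]
          exact Submodule.add_mem _ h2
            (Submodule.smul_mem _ _ (Submodule.subset_span ⟨_, rfl⟩))
  have hspan : ⊤ ≤ Submodule.span k (Set.range v) := by
    intro q _
    obtain ⟨f, rfl⟩ := Submodule.Quotient.mk_surjective _ q
    exact hspan_aux c f (by simp)
  -- independence
  have hli : LinearIndependent k v := by
    rw [Fintype.linearIndependent_iff]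
    intro g hg
    by_contra hne
    push Not at hne
    have hsum : (∑ i : ↥(Γᶜ), g i • (X : PowerSeries k) ^ (i : ℕ)) ∈ A := by
      have h1 : π (∑ i : ↥(Γᶜ), g i • (X : PowerSeries k) ^ (i : ℕ)) = 0 := by
        rw [map_sum]
        simp only [map_smul]
        exact hg
      exact (Submodule.Quotient.mk_eq_zero _).mp h1
    have hcoeff : ∀ j : ↥(Γᶜ), coeff (j : ℕ)
        (∑ i : ↥(Γᶜ), g i • (X : PowerSeries k) ^ (i : ℕ)) = g j := by
      intro j
      rw [map_sum]
      simp only [map_smul, smul_eq_mul, coeff_X_pow]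
      rw [Finset.sum_eq_single j]
      · rw [if_pos rfl, mul_one]
      · intro b _ hb
        rw [if_neg, mul_zero]
        intro h
        exact hb (Subtype.ext h.symm)
      · intro h
        exact absurd (Finset.mem_univ j) h
    have hcoeff' : ∀ m : ℕ, m ∈ Γ → coeff m
        (∑ i : ↥(Γᶜ), g i • (X : PowerSeries k) ^ (i : ℕ)) = 0 := by
      intro m hm
      rw [map_sum]
      apply Finset.sum_eq_zero
      intro i _
      rw [map_smul, smul_eq_mul, coeff_X_pow, if_neg, mul_zero]
      intro h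
      exact i.2 (h ▸ hm)
    -- minimal index with nonzero coefficient
    have hex : ∃ n : ℕ, ∃ h : n ∈ Γᶜ, g ⟨n, h⟩ ≠ 0 := by
      obtain ⟨i, hi⟩ := hne
      exact ⟨i, i.2, hi⟩
    let n₀ := Nat.find hex
    obtain ⟨hn₀G, hn₀⟩ := Nat.find_spec hex
    have hord : (∑ i : ↥(Γᶜ), g i • (X : PowerSeries k) ^ (i : ℕ)).order = (n₀ : ℕ) := by
      rw [order_eq_nat]
      refine ⟨?_, ?_⟩
      · rw [hcoeff ⟨n₀, hn₀G⟩]
        exact hn₀
      · intro i hi
        by_cases hiΓ : i ∈ Γ
        · exact hcoeff' i hiΓ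
        · rw [hcoeff ⟨i, hiΓ⟩]
          by_contra h
          exact Nat.find_min hex hi ⟨hiΓ, h⟩
    exact hn₀G ((hΓ n₀).mpr ⟨_, hsum, hord⟩)
  have b : Module.Basis ↥(Γᶜ) k (PowerSeries k ⧸ Subalgebra.toSubmodule A) :=
    Module.Basis.mk hli hspan
  rw [Module.finrank_eq_nat_card_basis b, Nat.card_coe_set_eq]

end gaps

end Groth.Agent.Lib.Helper87
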