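import Mathlib

set_option autoImplicit false

namespace Groth.Agent.Lib.Helper87

open scoped RealInnerProductSpace

/-- The rational numbers inside the reals. -/
noncomputable def Qr : Subfield ℝ := (algebraMap ℚ ℝ).fieldRange

lemma mem_Qr_iff {x : ℝ} : x ∈ Qr ↔ ∃ q : ℚ, (q : ℝ) = x := RingHom.mem_fieldRange

lemma ratCast_mem_Qr (q : ℚ) : (q : ℝ) ∈ Qr := mem_Qr_iff.mpr ⟨q, rfl⟩

lemma intCast_mem_Qr (n : ℤ) : (n : ℝ) ∈ Qr := mem_Qr_iff.mpr ⟨n, by simp⟩

section R

variable {E : Type*} [NormedAddCommGroup E] [InnerProductSpace ℝ E] [FiniteDimensional ℝ E]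

/-- A real combination of vectors with rational Gram matrix, having rational inner products with
them, is a rational combination. -/
theorem rat_comb {ι : Type*} [DecidableEq ι] (a : ι → E) (s : Finset ι)
    (hrat : ∀ i ∈ s, ∀ j ∈ s, ⟪a i, a j⟫ ∈ Qr) :
    ∀ v ∈ Submodule.span ℝ (a '' (s : Set ι)), (∀ i ∈ s, ⟪a i, v⟫ ∈ Qr) →
      ∃ c : ι → ℝ, (∀ i, c i ∈ Qr) ∧ v = ∑ i ∈ s, c i • a i := by
  induction s using Finset.induction_on with
  | empty =>
    intro v hv _
    simp only [Finset.coe_empty, Set.image_empty, Submodule.span_empty, Submodule.mem_bot] at hv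
    exact ⟨fun _ => 0, fun _ => Qr.zero_mem, by simp [hv]⟩
  | insert j s hj ih =>
    have hrat' : ∀ i ∈ s, ∀ i' ∈ s, ⟪a i, a i'⟫ ∈ Qr := fun i hi i' hi' =>
      hrat i (Finset.mem_insert_of_mem hi) i' (Finset.mem_insert_of_mem hi')
    have IH := ih hrat'
    intro v hv hvr
    rw [Finset.coe_insert, Set.image_insert_eq, Submodule.mem_span_insert] at hv
    obtain ⟨t, w, hw, hvw⟩ := hv
    set S := Submodule.span ℝ (a '' (s : Set ι)) with hS
    have hmemS : ∀ i ∈ s, a i ∈ S := fun i hi =>
      Submodule.subset_span (Set.mem_image_of_mem a hi)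
    -- the projection of `a j`
    set p := S.starProjection (a j) with hp
    have hpS : p ∈ S := Submodule.starProjection_apply_mem S (a j)
    have hperp : a j - p ∈ Sᗮ := Submodule.sub_starProjection_mem_orthogonal (a j)
    have hperp' : ∀ x ∈ S, ⟪x, a j - p⟫ = 0 := fun x hx => (Submodule.mem_orthogonal S _).mp hperp x hx
    -- p is a rational combination
    have hp_rat : ∀ i ∈ s, ⟪a i, p⟫ ∈ Qr := by
      intro i hi
      have h1 := hperp' (a i) (hmemS i hi)
      rw [inner_sub_right, sub_eq_zero] at h1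
      rw [← h1]
      exact hrat i (Finset.mem_insert_of_mem hi) j (Finset.mem_insert_self j s)
    obtain ⟨c, hc, hpc⟩ := IH p hpS hp_rat
    -- claim: there is a rational `t'` with `v - t' • a j ∈ S`
    have key : ∃ t' : ℝ, t' ∈ Qr ∧ v - t' • a j ∈ S := by
      by_cases h0 : a j - p = 0
      · refine ⟨0, Qr.zero_mem, ?_⟩
        have haj : a j = p := sub_eq_zero.mp h0
        rw [zero_smul, sub_zero, hvw, haj]
        exact S.add_mem (S.smul_mem t hpS) hw
      · have hN : ⟪a j - p, a j - p⟫ ≠ 0 := fun h => h0 (inner_self_eq_zero.mp h)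
        -- N is rational
        have hN_eq : ⟪a j - p, a j - p⟫ = ⟪a j, a j⟫ - ∑ i ∈ s, c i * ⟪a i, a j⟫ := by
          have h1 : ⟪p, a j - p⟫ = 0 := hperp' p hpS
          rw [inner_sub_left, h1, sub_zero, inner_sub_right]
          congr 1
          rw [real_inner_comm, hpc, sum_inner]
          refine Finset.sum_congr rfl fun i _ => ?_
          rw [real_inner_smul_left]
        have hN_rat : ⟪a j - p, a j - p⟫ ∈ Qr := by
          rw [hN_eq]
          refine Qr.sub_mem (hrat j (Finset.mem_insert_self j s) j (Finset.mem_insert_self j s)) ?_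
          refine Qr.sum_mem fun i hi => Qr.mul_mem (hc i) ?_
          exact hrat i (Finset.mem_insert_of_mem hi) j (Finset.mem_insert_self j s)
        -- ⟪a j - p, v⟫ rational
        have hAv_eq : ⟪a j - p, v⟫ = ⟪a j, v⟫ - ∑ i ∈ s, c i * ⟪a i, v⟫ := by
          rw [inner_sub_left]
          congr 1
          rw [hpc, sum_inner]
          refine Finset.sum_congr rfl fun i _ => ?_
          rw [real_inner_smul_left]
        have hAv_rat : ⟪a j - p, v⟫ ∈ Qr := by
          rw [hAv_eq]
          refine Qr.sub_mem (hvr j (Finset.mem_insert_self j s)) ?_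
          refine Qr.sum_mem fun i hi => Qr.mul_mem (hc i) ?_
          exact hvr i (Finset.mem_insert_of_mem hi)
        -- ⟪a j - p, v⟫ = t * N
        have hAv : ⟪a j - p, v⟫ = t * ⟪a j - p, a j - p⟫ := by
          have h1 : ⟪a j - p, w⟫ = 0 := by rw [real_inner_comm]; exact hperp' w hw
          have h2 : ⟪a j - p, p⟫ = 0 := by rw [real_inner_comm]; exact hperp' p hpS
          rw [hvw, inner_add_right, h1, add_zero, real_inner_smul_right, inner_sub_right (a j - p),
            h2, sub_zero]
        have ht : t ∈ Qr := by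
          have : t = ⟪a j - p, v⟫ / ⟪a j - p, a j - p⟫ := by
            rw [hAv]; field_simp
          rw [this]
          exact Qr.div_mem hAv_rat hN_rat
        refine ⟨t, ht, ?_⟩
        rw [hvw, add_sub_cancel_left]
        exact hw
    obtain ⟨t', ht', hvS⟩ := key
    have hv_rat : ∀ i ∈ s, ⟪a i, v - t' • a j⟫ ∈ Qr := by
      intro i hi
      rw [inner_sub_right, real_inner_smul_right]
      exact Qr.sub_mem (hvr i (Finset.mem_insert_of_mem hi))
        (Qr.mul_mem ht' (hrat i (Finset.mem_insert_of_mem hi) j (Finset.mem_insert_self j s)))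
    obtain ⟨d, hd, hvd⟩ := IH _ hvS hv_rat
    refine ⟨fun i => if i = j then t' else d i, fun i => ?_, ?_⟩
    · by_cases hij : i = j
      · simp only [hij, if_true]; exact ht'
      · simp only [hij, if_false]; exact hd i
    · rw [Finset.sum_insert hj]
      beta_reduce
      rw [if_pos rfl]
      have : ∑ i ∈ s, (if i = j then t' else d i) • a i = ∑ i ∈ s, d i • a i := by
        refine Finset.sum_congr rfl fun i hi => ?_
        have : i ≠ j := fun h => hj (h ▸ hi)
        rw [if_neg this]
      rw [this, ← hvd]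
      abel

end R

end Groth.Agent.Lib.Helper87
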