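import Mathlib

set_option autoImplicit false

namespace Groth.Agent.Lib.Helper87

section mn

variable {E : Type*} [NormedAddCommGroup E] [InnerProductSpace ℝ E] [FiniteDimensional ℝ E]
  (S : Finset (Module.Dual ℝ E)) (hS : S.Nonempty)

lemma mn_smul {c : ℝ} (hc : 0 ≤ c) (v : E) :
    S.inf' hS (fun f => f (c • v)) = c * S.inf' hS (fun f => f v) := by
  obtain ⟨f₀, hf₀, h₀⟩ := Finset.exists_mem_eq_inf' hS (fun f => f v)
  apply le_antisymm
  · calc S.inf' hS (fun f => f (c • v)) ≤ f₀ (c • v) := Finset.inf'_le _ hf₀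
      _ = c * S.inf' hS (fun f => f v) := by rw [map_smul, smul_eq_mul, h₀]
  · rw [Finset.le_inf'_iff]
    intro f hf
    rw [map_smul, smul_eq_mul]
    exact mul_le_mul_of_nonneg_left (Finset.inf'_le (fun f => f v) hf) hc

lemma mn_add_le (v w : E) :
    S.inf' hS (fun f => f v) + S.inf' hS (fun f => f w) ≤ S.inf' hS (fun f => f (v + w)) := by
  rw [Finset.le_inf'_iff]
  intro f hf
  rw [map_add]
  exact add_le_add (Finset.inf'_le (fun f => f v) hf) (Finset.inf'_le (fun f => f w) hf)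

lemma mn_zero : S.inf' hS (fun f => f (0 : E)) = 0 := by
  obtain ⟨f₀, _, h₀⟩ := Finset.exists_mem_eq_inf' hS (fun f => f (0 : E))
  rw [h₀, map_zero]

lemma continuous_mn : Continuous fun v : E => S.inf' hS (fun f => f v) :=
  Continuous.finset_inf'_apply hS fun f _ => LinearMap.continuous_of_finiteDimensional f

end mn

section max

variable {E : Type*} [NormedAddCommGroup E] [InnerProductSpace ℝ E] [FiniteDimensional ℝ E]
  (F G : Finset (Module.Dual ℝ E)) (hF : F.Nonempty) (hG : G.Nonempty)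

theorem exists_unit_max
    (hpos : ∃ v : E, 0 ≤ F.inf' hF (fun f => f v) ∧ 0 < G.inf' hG (fun g => g v)) :
    ∃ u : E, ‖u‖ = 1 ∧ 0 ≤ F.inf' hF (fun f => f u) ∧ 0 < G.inf' hG (fun g => g u) ∧
      ∀ v : E, v ≠ 0 → 0 ≤ F.inf' hF (fun f => f v) →
        G.inf' hG (fun g => g v) / ‖v‖ ≤ G.inf' hG (fun g => g u) := by
  obtain ⟨v₁, hv₁F, hv₁G⟩ := hpos
  have hv₁0 : v₁ ≠ 0 := by
    rintro rfl
    rw [mn_zero] at hv₁G
    exact lt_irrefl _ hv₁G
  let K : Set E := Metric.sphere 0 1 ∩ (fun v : E => F.inf' hF (fun f => f v)) ⁻¹' Set.Ici 0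
  have hK : IsCompact K :=
    (isCompact_sphere 0 1).inter_right (isClosed_Ici.preimage (continuous_mn F hF))
  have hnorm : ∀ v : E, v ≠ 0 → 0 ≤ F.inf' hF (fun f => f v) → ‖v‖⁻¹ • v ∈ K := by
    intro v hv hvF
    refine ⟨?_, ?_⟩
    · rw [mem_sphere_zero_iff_norm]
      exact norm_smul_inv_norm (𝕜 := ℝ) hv
    · show 0 ≤ F.inf' hF (fun f => f (‖v‖⁻¹ • v))
      rw [mn_smul F hF (inv_nonneg.mpr (norm_nonneg v))]
      exact mul_nonneg (inv_nonneg.mpr (norm_nonneg v)) hvF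
  have hne : K.Nonempty := ⟨_, hnorm v₁ hv₁0 hv₁F⟩
  obtain ⟨u, huK, hmax⟩ := hK.exists_isMaxOn hne (continuous_mn G hG).continuousOn
  have hbound : ∀ v : E, v ≠ 0 → 0 ≤ F.inf' hF (fun f => f v) →
      G.inf' hG (fun g => g v) / ‖v‖ ≤ G.inf' hG (fun g => g u) := by
    intro v hv hvF
    have h1 := hmax (hnorm v hv hvF)
    simp only [Set.mem_ofPred_eq] at h1
    rw [mn_smul G hG (inv_nonneg.mpr (norm_nonneg v))] at h1
    rw [div_eq_inv_mul]
    exact h1
  refine ⟨u, mem_sphere_zero_iff_norm.mp huK.1, huK.2, ?_, hbound⟩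
  have h2 := hbound v₁ hv₁0 hv₁F
  exact lt_of_lt_of_le (div_pos hv₁G (norm_pos_iff.mpr hv₁0)) h2

theorem unit_max_unique (u : E) (hu1 : ‖u‖ = 1) (huF : 0 ≤ F.inf' hF (fun f => f u))
    (huG : 0 < G.inf' hG (fun g => g u))
    (hmax : ∀ v : E, v ≠ 0 → 0 ≤ F.inf' hF (fun f => f v) →
        G.inf' hG (fun g => g v) / ‖v‖ ≤ G.inf' hG (fun g => g u))
    (w : E) (hw1 : ‖w‖ = 1) (hwF : 0 ≤ F.inf' hF (fun f => f w))
    (hwG : G.inf' hG (fun g => g w) = G.inf' hG (fun g => g u)) : w = u := by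
  by_contra hne
  set M := G.inf' hG (fun g => g u) with hM
  have hmF : 0 ≤ F.inf' hF (fun f => f (u + w)) :=
    le_trans (add_nonneg huF hwF) (mn_add_le F hF u w)
  have hmG : 2 * M ≤ G.inf' hG (fun g => g (u + w)) := by
    have := mn_add_le G hG u w
    rw [hwG] at this
    linarith
  have hm0 : u + w ≠ 0 := by
    intro h0
    rw [h0, mn_zero] at hmG
    linarith
  have h1 := hmax (u + w) hm0 hmF
  have hpos : 0 < ‖u + w‖ := norm_pos_iff.mpr hm0
  rw [div_le_iff₀ hpos] at h1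
  have hlt : ‖u + w‖ < 2 := by
    have hray : ¬ SameRay ℝ u w := by
      rw [sameRay_iff_of_norm_eq (by rw [hu1, hw1])]
      exact fun h => hne h.symm
    have := norm_add_lt_of_not_sameRay hray
    rw [hu1, hw1] at this
    linarith
  nlinarith

theorem eq_norm_smul_of_max (u : E) (hu1 : ‖u‖ = 1) (huF : 0 ≤ F.inf' hF (fun f => f u))
    (huG : 0 < G.inf' hG (fun g => g u))
    (hmax : ∀ v : E, v ≠ 0 → 0 ≤ F.inf' hF (fun f => f v) →
        G.inf' hG (fun g => g v) / ‖v‖ ≤ G.inf' hG (fun g => g u))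
    (v : E) (hv : v ≠ 0) (hvF : 0 ≤ F.inf' hF (fun f => f v))
    (hvG : G.inf' hG (fun g => g v) / ‖v‖ = G.inf' hG (fun g => g u)) : v = ‖v‖ • u := by
  have hpos : 0 < ‖v‖ := norm_pos_iff.mpr hv
  have h1 : ‖v‖⁻¹ • v = u := by
    apply unit_max_unique F G hF hG u hu1 huF huG hmax
    · exact norm_smul_inv_norm (𝕜 := ℝ) hv
    · rw [mn_smul F hF (inv_nonneg.mpr (norm_nonneg v))]
      exact mul_nonneg (inv_nonneg.mpr (norm_nonneg v)) hvF
    · rw [mn_smul G hG (inv_nonneg.mpr (norm_nonneg v)), ← hvG, div_eq_inv_mul]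
  rw [← h1, smul_smul, mul_inv_cancel₀ hpos.ne', one_smul]

end max

end Groth.Agent.Lib.Helper87
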