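import Groth.Agent.Lib.Helper87.GitLattice2
import Mathlib

set_option autoImplicit false

namespace Groth.Agent.Lib.Helper87

open scoped RealInnerProductSpace
open Filter Topology

section kkt

variable {E : Type*} [NormedAddCommGroup E] [InnerProductSpace ℝ E] [FiniteDimensional ℝ E]

/-- The Riesz vector of a linear functional. -/
noncomputable def riesz (h : Module.Dual ℝ E) : E :=
  (InnerProductSpace.toDual ℝ E).symm (LinearMap.toContinuousLinearMap h)

lemma inner_riesz (h : Module.Dual ℝ E) (x : E) : ⟪riesz h, x⟫ = h x := by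
  unfold riesz
  rw [InnerProductSpace.toDual_symm_apply]
  rfl

variable (F G : Finset (Module.Dual ℝ E)) (hF : F.Nonempty) (hG : G.Nonempty)

theorem kkt_mem_span [DecidableEq (Module.Dual ℝ E)]
    (u : E) (hu1 : ‖u‖ = 1) (huF : 0 ≤ F.inf' hF (fun f => f u))
    (huG : 0 < G.inf' hG (fun g => g u))
    (hmax : ∀ v : E, v ≠ 0 → 0 ≤ F.inf' hF (fun f => f v) →
        G.inf' hG (fun g => g v) / ‖v‖ ≤ G.inf' hG (fun g => g u)) :
    u ∈ Submodule.span ℝ (riesz ''
      ((G.filter (fun g => g u = G.inf' hG (fun g => g u)) ∪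
        F.filter (fun f => f u = 0) : Finset (Module.Dual ℝ E)) : Set (Module.Dual ℝ E))) := by
  set M := G.inf' hG (fun g => g u) with hM
  set T : Finset (Module.Dual ℝ E) :=
    G.filter (fun g => g u = M) ∪ F.filter (fun f => f u = 0) with hT
  set S := Submodule.span ℝ (riesz '' (T : Set (Module.Dual ℝ E))) with hS
  rw [← Submodule.orthogonal_orthogonal S, Submodule.mem_orthogonal]
  intro w hw
  -- functionals in T vanish on w
  have hTw : ∀ h ∈ T, h w = 0 := by
    intro h hh
    rw [← inner_riesz h w]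
    exact (Submodule.mem_orthogonal S w).mp hw _
      (Submodule.subset_span (Set.mem_image_of_mem riesz hh))
  -- continuity helper
  have hcont : ∀ h : Module.Dual ℝ E, Continuous fun t : ℝ => h (u + t • w) := by
    intro h
    have : (fun t : ℝ => h (u + t • w)) = fun t : ℝ => h u + t * h w := by
      funext t; rw [map_add, map_smul, smul_eq_mul]
    rw [this]
    fun_prop
  -- eventually in the cone
  have hevF : ∀ᶠ t : ℝ in 𝓝 0, ∀ f ∈ F, 0 ≤ f (u + t • w) := by
    rw [Filter.eventually_all_finset]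
    intro f hf
    by_cases hfu : f u = 0
    · have hfT : f ∈ T := Finset.mem_union_right _ (Finset.mem_filter.mpr ⟨hf, hfu⟩)
      refine Filter.Eventually.of_forall fun t => ?_
      rw [map_add, map_smul, hfu, hTw f hfT, smul_zero, add_zero]
    · have hfpos : 0 < f u := lt_of_le_of_ne (le_trans huF (Finset.inf'_le (fun f => f u) hf))
        (Ne.symm hfu)
      have h0 : (0 : ℝ) < (fun t : ℝ => f (u + t • w)) 0 := by simpa using hfpos
      exact ((hcont f).tendsto 0).eventually (lt_mem_nhds h0) |>.mono fun t ht => le_of_lt ht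
  have hevG : ∀ᶠ t : ℝ in 𝓝 0, ∀ g ∈ G, M ≤ g (u + t • w) := by
    rw [Filter.eventually_all_finset]
    intro g hg
    by_cases hgu : g u = M
    · have hgT : g ∈ T := Finset.mem_union_left _ (Finset.mem_filter.mpr ⟨hg, hgu⟩)
      refine Filter.Eventually.of_forall fun t => ?_
      rw [map_add, map_smul, hgu, hTw g hgT, smul_zero, add_zero]
    · have hgpos : M < g u := lt_of_le_of_ne (Finset.inf'_le (fun g => g u) hg) (Ne.symm hgu)
      have h0 : M < (fun t : ℝ => g (u + t • w)) 0 := by simpa using hgpos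
      exact ((hcont g).tendsto 0).eventually (lt_mem_nhds h0) |>.mono fun t ht => le_of_lt ht
  -- the local minimum
  set c := ⟪u, w⟫ with hc
  let ψ : ℝ → ℝ := fun t => 1 + (2 * c) * t + ‖w‖ ^ 2 * t ^ 2
  have hψnorm : ∀ t : ℝ, ‖u + t • w‖ ^ 2 = ψ t := by
    intro t
    rw [norm_add_sq_real, hu1, norm_smul, real_inner_smul_right, Real.norm_eq_abs, mul_pow,
      sq_abs]
    simp only [ψ]
    ring
  have hmin : IsLocalMin ψ 0 := by
    filter_upwards [hevF, hevG] with t htF htG
    have h1 : 0 ≤ F.inf' hF (fun f => f (u + t • w)) := (Finset.le_inf'_iff hF _).mpr htF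
    have h2 : M ≤ G.inf' hG (fun g => g (u + t • w)) := (Finset.le_inf'_iff hG _).mpr htG
    have h3 : u + t • w ≠ 0 := by
      intro h0
      rw [h0, mn_zero] at h2
      linarith
    have h4 := hmax _ h3 h1
    have hpos : 0 < ‖u + t • w‖ := norm_pos_iff.mpr h3
    rw [div_le_iff₀ hpos] at h4
    have h5 : 1 ≤ ‖u + t • w‖ := by
      by_contra hlt
      push Not at hlt
      have : M * ‖u + t • w‖ < M * 1 := mul_lt_mul_of_pos_left hlt huG
      linarith
    have h6 : (1 : ℝ) ≤ ‖u + t • w‖ ^ 2 := by nlinarith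
    rw [hψnorm] at h6
    simpa [ψ] using h6
  have hderiv : HasDerivAt ψ (2 * c) 0 := by
    have h1 : HasDerivAt (fun t : ℝ => 1 + (2 * c) * t) (2 * c) 0 := by
      have := ((hasDerivAt_id (0 : ℝ)).const_mul (2 * c)).const_add 1
      simpa using this
    have h2 : HasDerivAt (fun t : ℝ => ‖w‖ ^ 2 * t ^ 2) 0 0 := by
      have := (hasDerivAt_pow 2 (0 : ℝ)).const_mul (‖w‖ ^ 2)
      simpa using this
    have h3 := h1.fun_add h2
    rw [add_zero] at h3
    exact h3
  have h0 := hmin.hasDerivAt_eq_zero hderiv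
  rw [real_inner_comm]
  linarith

end kkt

end Groth.Agent.Lib.Helper87
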