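import Groth.Agent.Lib.Helper87.GitLattice1
import Groth.Agent.Lib.Helper87.GitLattice3
import Mathlib

set_option autoImplicit false

namespace Groth.Agent.Lib.Helper87

open scoped RealInnerProductSpace

section ratvec

variable {E : Type*} [NormedAddCommGroup E] [InnerProductSpace ℝ E] [FiniteDimensional ℝ E]

/-- A rational multiple relation: clearing denominators of finitely many rationals. -/
lemma exists_common_den {ι : Type*} (s : Finset ι) (c : ι → ℝ) (hc : ∀ i, c i ∈ Qr) :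
    ∃ D : ℕ, D ≠ 0 ∧ ∀ i ∈ s, ∃ n : ℤ, (D : ℝ) * c i = n := by
  classical
  choose q hq using fun i => mem_Qr_iff.mp (hc i)
  refine ⟨∏ i ∈ s, (q i).den, ?_, ?_⟩
  · exact Finset.prod_ne_zero_iff.mpr fun i _ => (q i).den_ne_zero
  · intro i hi
    refine ⟨(∏ j ∈ s.erase i, ((q j).den : ℤ)) * (q i).num, ?_⟩
    rw [← Finset.mul_prod_erase s _ hi, ← hq i]
    have h1 : ((q i).den : ℝ) * (q i : ℝ) = ((q i).num : ℝ) := by
      have := Rat.den_mul_eq_num (q i)
      exact_mod_cast congrArg (fun x : ℚ => (x : ℝ)) this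
    push_cast
    rw [mul_comm ((q i).den : ℝ), mul_assoc, h1]

variable (L : Submodule ℤ E)

/-- If `v` has rational inner products with a finite generating set of the lattice `L`, whose
mutual inner products are rational, and `L` spans, then a positive multiple of `v` is in `L`. -/
theorem exists_nat_smul_mem (gens : Finset E) (hgens : Submodule.span ℤ (gens : Set E) = L)
    (hspan : Submodule.span ℝ (L : Set E) = ⊤)
    (hint : ∀ x ∈ L, ∀ y ∈ L, ∃ n : ℤ, inner ℝ x y = (n : ℝ))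
    (v : E) (hv : ∀ x ∈ gens, ⟪x, v⟫ ∈ Qr) :
    ∃ D : ℕ, D ≠ 0 ∧ (D : ℝ) • v ∈ L := by
  classical
  have hgL : ∀ x ∈ gens, x ∈ L := fun x hx => hgens ▸ Submodule.subset_span hx
  have hspan' : Submodule.span ℝ (gens : Set E) = ⊤ := by
    rw [← hspan, ← hgens, Submodule.span_span_of_tower]
  have hrat : ∀ x ∈ gens, ∀ y ∈ gens, ⟪(id x : E), (id y : E)⟫ ∈ Qr := by
    intro x hx y hy
    obtain ⟨n, hn⟩ := hint x (hgL x hx) y (hgL y hy)
    rw [id, id, hn]
    exact intCast_mem_Qr n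
  have hvmem : v ∈ Submodule.span ℝ ((id : E → E) '' (gens : Set E)) := by
    rw [Set.image_id, hspan']; trivial
  obtain ⟨c, hc, hvc⟩ := rat_comb (id : E → E) gens hrat v hvmem hv
  obtain ⟨D, hD0, hD⟩ := exists_common_den gens c hc
  refine ⟨D, hD0, ?_⟩
  rw [hvc, Finset.smul_sum]
  refine L.sum_mem fun x hx => ?_
  obtain ⟨n, hn⟩ := hD x hx
  rw [smul_smul, hn, id, Int.cast_smul_eq_zsmul]
  exact L.smul_mem n (hgL x hx)

end ratvec

section ray

variable {E : Type*} [NormedAddCommGroup E] [InnerProductSpace ℝ E] [FiniteDimensional ℝ E]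
  (L : Submodule ℤ E) [DiscreteTopology L] [IsZLattice ℝ L]
  (F G : Finset (Module.Dual ℝ E)) (hF : F.Nonempty) (hG : G.Nonempty)

theorem exists_lattice_on_ray
    (hint : ∀ x ∈ L, ∀ y ∈ L, ∃ n : ℤ, inner ℝ x y = (n : ℝ))
    (hFi : ∀ f ∈ F, ∀ x ∈ L, ∃ n : ℤ, f x = (n : ℝ))
    (hGi : ∀ g ∈ G, ∀ x ∈ L, ∃ n : ℤ, g x = (n : ℝ))
    (u : E) (hu1 : ‖u‖ = 1) (huF : 0 ≤ F.inf' hF (fun f => f u))
    (huG : 0 < G.inf' hG (fun g => g u))
    (hmax : ∀ v : E, v ≠ 0 → 0 ≤ F.inf' hF (fun f => f v) →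
        G.inf' hG (fun g => g v) / ‖v‖ ≤ G.inf' hG (fun g => g u)) :
    ∃ t : ℝ, 0 < t ∧ t • u ∈ L := by
  classical
  obtain ⟨gens, hgens⟩ := ZLattice.FG ℝ L
  have hspan : Submodule.span ℝ (L : Set E) = ⊤ := IsZLattice.span_top
  have hgL : ∀ x ∈ gens, x ∈ L := fun x hx => hgens ▸ Submodule.subset_span hx
  set M := G.inf' hG (fun g => g u) with hM
  set T : Finset (Module.Dual ℝ E) :=
    G.filter (fun g => g u = M) ∪ F.filter (fun f => f u = 0) with hT
  have hkkt : u ∈ Submodule.span ℝ (riesz '' (T : Set (Module.Dual ℝ E))) :=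
    kkt_mem_span F G hF hG u hu1 huF huG hmax
  have hTint : ∀ h ∈ T, ∀ x ∈ L, ∃ n : ℤ, h x = (n : ℝ) := by
    intro h hh
    rcases Finset.mem_union.mp hh with hh | hh
    · exact hGi h (Finset.mem_filter.mp hh).1
    · exact hFi h (Finset.mem_filter.mp hh).1
  have hTu : ∀ h ∈ T, M⁻¹ * h u ∈ Qr := by
    intro h hh
    rcases Finset.mem_union.mp hh with hh | hh
    · rw [(Finset.mem_filter.mp hh).2, inv_mul_cancel₀ huG.ne']
      exact Qr.one_mem
    · rw [(Finset.mem_filter.mp hh).2, mul_zero]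
      exact Qr.zero_mem
  -- each Riesz vector has a positive multiple in `L`
  have hriesz : ∀ h ∈ T, ∃ D : ℕ, D ≠ 0 ∧ (D : ℝ) • riesz h ∈ L := by
    intro h hh
    apply exists_nat_smul_mem L gens hgens hspan hint
    intro x hx
    rw [real_inner_comm, inner_riesz]
    obtain ⟨n, hn⟩ := hTint h hh x (hgL x hx)
    rw [hn]
    exact intCast_mem_Qr n
  -- rational Gram matrix of the Riesz vectors
  have hgram : ∀ h ∈ T, ∀ h' ∈ T, ⟪riesz h, riesz h'⟫ ∈ Qr := by
    intro h hh h' hh'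
    obtain ⟨D, hD0, hD⟩ := hriesz h' hh'
    obtain ⟨n, hn⟩ := hTint h hh _ hD
    rw [inner_riesz]
    rw [map_smul, smul_eq_mul] at hn
    have hD0' : (D : ℝ) ≠ 0 := Nat.cast_ne_zero.mpr hD0
    have : h (riesz h') = (n : ℝ) / (D : ℝ) := by
      rw [← hn]; field_simp
    rw [this]
    exact Qr.div_mem (intCast_mem_Qr n) (by exact_mod_cast intCast_mem_Qr (D : ℤ))
  -- the scaled maximiser is a rational combination of Riesz vectors
  have hv : M⁻¹ • u ∈ Submodule.span ℝ (riesz '' (T : Set (Module.Dual ℝ E))) :=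
    Submodule.smul_mem _ _ hkkt
  have hvr : ∀ h ∈ T, ⟪riesz h, M⁻¹ • u⟫ ∈ Qr := by
    intro h hh
    rw [inner_riesz, map_smul, smul_eq_mul]
    exact hTu h hh
  obtain ⟨d, hd, hvd⟩ := rat_comb riesz T hgram (M⁻¹ • u) hv hvr
  -- hence has rational inner products with the generators
  have hvgens : ∀ x ∈ gens, ⟪x, M⁻¹ • u⟫ ∈ Qr := by
    intro x hx
    rw [hvd, inner_sum]
    refine Qr.sum_mem fun h hh => ?_
    rw [real_inner_smul_right, real_inner_comm, inner_riesz]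
    obtain ⟨n, hn⟩ := hTint h hh x (hgL x hx)
    rw [hn]
    exact Qr.mul_mem (hd h) (intCast_mem_Qr n)
  obtain ⟨D, hD0, hD⟩ := exists_nat_smul_mem L gens hgens hspan hint (M⁻¹ • u) hvgens
  refine ⟨(D : ℝ) * M⁻¹, ?_, ?_⟩
  · exact mul_pos (Nat.cast_pos.mpr (Nat.pos_of_ne_zero hD0)) (inv_pos.mpr huG)
  · rw [← smul_smul]
    exact hD

end ray

end Groth.Agent.Lib.Helper87
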