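import Groth.Agent.Lib.Helper87.GitLattice4
import Mathlib

set_option autoImplicit false

namespace Groth.Agent.Lib.Helper87

section prim

variable {E : Type*} [NormedAddCommGroup E] [InnerProductSpace ℝ E] [FiniteDimensional ℝ E]
  (L : Submodule ℤ E) [DiscreteTopology L]

lemma lattice_inter_closedBall_finite (r : ℝ) :
    (Metric.closedBall (0 : E) r ∩ (L : Set E)).Finite := by
  have H : IsClosed (X := E) L := @AddSubgroup.isClosed_of_discrete _ _ _ _ _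
    L.toAddSubgroup (inferInstanceAs (DiscreteTopology L))
  exact Metric.finite_isBounded_inter_isClosed DiscreteTopology.isDiscrete
    (Metric.isBounded_closedBall (x := (0 : E)) (r := r)) H

theorem exists_primitive_on_ray (u : E) (hu1 : ‖u‖ = 1)
    (hex : ∃ t : ℝ, 0 < t ∧ t • u ∈ L) :
    ∃ t₀ : ℝ, 0 < t₀ ∧ t₀ • u ∈ L ∧ ∀ t : ℝ, 0 < t → t • u ∈ L → ∃ n : ℕ, t = n * t₀ := by
  obtain ⟨t₁, ht₁, ht₁L⟩ := hex
  have hu0 : u ≠ 0 := by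
    intro h
    rw [h, norm_zero] at hu1
    exact zero_ne_one hu1
  let R : Set ℝ := {t | 0 < t ∧ t • u ∈ L ∧ t ≤ t₁}
  have hRfin : R.Finite := by
    have hinj : Set.InjOn (fun t : ℝ => t • u) R := by
      intro a _ b _ hab
      exact smul_left_injective ℝ hu0 hab
    refine Set.Finite.of_finite_image ((lattice_inter_closedBall_finite L t₁).subset ?_) hinj
    rintro _ ⟨t, ⟨ht0, htL, htle⟩, rfl⟩
    refine ⟨?_, htL⟩
    rw [mem_closedBall_zero_iff, norm_smul, hu1, mul_one, Real.norm_eq_abs, abs_of_pos ht0]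
    exact htle
  have hRne : R.Nonempty := ⟨t₁, ht₁, ht₁L, le_rfl⟩
  obtain ⟨t₀, ⟨ht₀, ht₀L, ht₀le⟩, hmin⟩ := Set.exists_min_image R id hRfin hRne
  refine ⟨t₀, ht₀, ht₀L, ?_⟩
  intro t ht htL
  let n := ⌊t / t₀⌋₊
  have hn1 : (n : ℝ) ≤ t / t₀ := Nat.floor_le (div_nonneg ht.le ht₀.le)
  have hn2 : t / t₀ < n + 1 := Nat.lt_floor_add_one _
  have hr0 : 0 ≤ t - n * t₀ := by
    have := (le_div_iff₀ ht₀).mp hn1
    linarith
  have hr1 : t - n * t₀ < t₀ := by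
    have := (div_lt_iff₀ ht₀).mp hn2
    linarith
  have hrL : (t - n * t₀) • u ∈ L := by
    rw [sub_smul, mul_smul]
    refine L.sub_mem htL ?_
    rw [Nat.cast_smul_eq_nsmul]
    exact L.smul_of_tower_mem n ht₀L
  refine ⟨n, ?_⟩
  by_contra hne
  have hrpos : 0 < t - n * t₀ := lt_of_le_of_ne hr0 (fun h => hne (by linarith))
  have hrR : (t - n * t₀) ∈ R := ⟨hrpos, hrL, by linarith⟩
  have := hmin _ hrR
  simp only [id] at this
  linarith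

end prim

section main

variable {E : Type*} [NormedAddCommGroup E] [InnerProductSpace ℝ E] [FiniteDimensional ℝ E]
  (L : Submodule ℤ E) [DiscreteTopology L] [IsZLattice ℝ L]

theorem git_lattice_main
    (hint : ∀ x ∈ L, ∀ y ∈ L, ∃ n : ℤ, inner ℝ x y = (n : ℝ))
    (F G : Finset (Module.Dual ℝ E)) (hF : F.Nonempty) (hG : G.Nonempty)
    (hFi : ∀ f ∈ F, ∀ x ∈ L, ∃ n : ℤ, f x = (n : ℝ))
    (hGi : ∀ g ∈ G, ∀ x ∈ L, ∃ n : ℤ, g x = (n : ℝ))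
    (hpos : ∃ v : E, 0 ≤ F.inf' hF (fun f => f v) ∧ 0 < G.inf' hG (fun g => g v)) :
    ∃ M : ℝ, IsGreatest ((fun v => G.inf' hG (fun g => g v) / ‖v‖) ''
        {v : E | v ≠ 0 ∧ 0 ≤ F.inf' hF (fun f => f v)}) M ∧
      ∃! v₀ : E, v₀ ∈ L ∧ v₀ ≠ 0 ∧ 0 ≤ F.inf' hF (fun f => f v₀) ∧
        G.inf' hG (fun g => g v₀) / ‖v₀‖ = M ∧
        ∀ v ∈ L, v ≠ 0 → 0 ≤ F.inf' hF (fun f => f v) → G.inf' hG (fun g => g v) / ‖v‖ = M →
          ∃ n : ℤ, v = n • v₀ := by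
  obtain ⟨u, hu1, huF, huG, hmax⟩ := exists_unit_max F G hF hG hpos
  have hu0 : u ≠ 0 := by
    intro h
    rw [h, norm_zero] at hu1
    exact zero_ne_one hu1
  set M := G.inf' hG (fun g => g u) with hM
  refine ⟨M, ⟨⟨u, ⟨hu0, huF⟩, by simp [hu1, hM]⟩, ?_⟩, ?_⟩
  · rintro _ ⟨v, ⟨hv0, hvF⟩, rfl⟩
    exact hmax v hv0 hvF
  obtain ⟨t₀, ht₀, ht₀L, hmult⟩ := exists_primitive_on_ray L u hu1
    (exists_lattice_on_ray L F G hF hG hint hFi hGi u hu1 huF huG hmax)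
  have hratio : ∀ t : ℝ, 0 < t → G.inf' hG (fun g => g (t • u)) / ‖t • u‖ = M := by
    intro t ht
    rw [mn_smul G hG ht.le, norm_smul, hu1, mul_one, Real.norm_eq_abs, abs_of_pos ht,
      mul_div_cancel_left₀ _ ht.ne']
  have hconeF : ∀ t : ℝ, 0 < t → 0 ≤ F.inf' hF (fun f => f (t • u)) := by
    intro t ht
    rw [mn_smul F hF ht.le]
    exact mul_nonneg ht.le huF
  -- every lattice maximiser is a natural multiple of `t₀ • u`
  have hall : ∀ v ∈ L, v ≠ 0 → 0 ≤ F.inf' hF (fun f => f v) →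
      G.inf' hG (fun g => g v) / ‖v‖ = M → ∃ n : ℕ, v = ((n : ℝ) * t₀) • u := by
    intro v hvL hv0 hvF hvG
    have h1 := eq_norm_smul_of_max F G hF hG u hu1 huF huG hmax v hv0 hvF hvG
    have hpos' : 0 < ‖v‖ := norm_pos_iff.mpr hv0
    obtain ⟨n, hn⟩ := hmult ‖v‖ hpos' (h1 ▸ hvL)
    exact ⟨n, by rw [← hn]; exact h1⟩
  refine ⟨t₀ • u, ⟨ht₀L, smul_ne_zero ht₀.ne' hu0, hconeF t₀ ht₀, hratio t₀ ht₀, ?_⟩, ?_⟩
  · intro v hvL hv0 hvF hvG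
    obtain ⟨n, hn⟩ := hall v hvL hv0 hvF hvG
    refine ⟨(n : ℤ), ?_⟩
    rw [hn, mul_smul, ← Int.cast_smul_eq_zsmul ℝ, Int.cast_natCast]
  · rintro v₁ ⟨hv₁L, hv₁0, hv₁F, hv₁G, hv₁all⟩
    obtain ⟨n, hn⟩ := hall v₁ hv₁L hv₁0 hv₁F hv₁G
    obtain ⟨m, hm⟩ := hv₁all (t₀ • u) ht₀L (smul_ne_zero ht₀.ne' hu0) (hconeF t₀ ht₀)
      (hratio t₀ ht₀)
    rw [hn, ← Int.cast_smul_eq_zsmul ℝ, smul_smul] at hm
    have h2 : t₀ = (m : ℝ) * ((n : ℝ) * t₀) := smul_left_injective ℝ hu0 hm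
    have h3 : (m : ℝ) * (n : ℝ) = 1 := by
      have : t₀ * 1 = t₀ * ((m : ℝ) * (n : ℝ)) := by linarith
      exact (mul_left_cancel₀ ht₀.ne' this).symm
    have h4 : m * (n : ℤ) = 1 := by exact_mod_cast h3
    have h5 : (n : ℤ) = 1 :=
      Int.eq_one_of_mul_eq_one_left (Int.natCast_nonneg n) h4
    have h6 : n = 1 := by exact_mod_cast h5
    rw [hn, h6, Nat.cast_one, one_mul]

end main

end Groth.Agent.Lib.Helper87
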