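import Groth.Agent.Lib.Helper29.DepthQuot
import Groth.Agent.Lib.Helper2.GorensteinQuotient
import Groth.Agent.Lib.Helper60.BE
import Groth.Agent.Lib.Helper24.GorenEquiv

/-!
# Gorenstein local rings: quotient by a nonzerodivisor, generization (helper87)
-/

set_option autoImplicit false
universe u

namespace Groth.Agent.Lib.Helper87.GorLocal

open IsLocalRing

section Basic

variable (R : Type u) [CommRing R]

theorem isGorensteinLocalRing_congr_ideal (p p' : Ideal R) [p.IsPrime] [p'.IsPrime]
    (h : p = p') :
    LocCoh.IsGorensteinLocalRing (Localization.AtPrime p) ↔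
      LocCoh.IsGorensteinLocalRing (Localization.AtPrime p') := by
  subst h
  rfl

/-- Gorenstein-ness generizes: if `R_𝔓` is Gorenstein and `Q ≤ 𝔓` then `R_Q` is Gorenstein. -/
theorem isGorensteinLocalRing_of_le (Q 𝔓 : Ideal R) [Q.IsPrime] [𝔓.IsPrime] (hle : Q ≤ 𝔓)
    (h : LocCoh.IsGorensteinLocalRing (Localization.AtPrime 𝔓)) :
    LocCoh.IsGorensteinLocalRing (Localization.AtPrime Q) := by
  have hN : IsNoetherianRing (Localization.AtPrime 𝔓) := h.toIsNoetherian
  have hG : LocCoh.IsGorensteinRing (Localization.AtPrime 𝔓) :=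
    ((Groth.Agent.Lib.Helper60.exists_hasInjectiveDimensionLT_self_iff
      (Localization.AtPrime 𝔓)).mp h.exists_hasInjectiveDimensionLT).1
  have hdisj : Disjoint (𝔓.primeCompl : Set R) (Q : Set R) := by
    rw [Set.disjoint_left]
    intro x hx hxq
    exact hx (hle hxq)
  have hprime : (Q.map (algebraMap R (Localization.AtPrime 𝔓))).IsPrime :=
    IsLocalization.isPrime_of_isPrime_disjoint 𝔓.primeCompl _ _ inferInstance hdisj
  have hcomap : (Q.map (algebraMap R (Localization.AtPrime 𝔓))).comap
      (algebraMap R (Localization.AtPrime 𝔓)) = Q :=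
    IsLocalization.under_map_of_isPrime_disjoint 𝔓.primeCompl _ inferInstance hdisj
  have h2 := hG.isGorensteinLocalRing_localization (Q.map (algebraMap R (Localization.AtPrime 𝔓)))
  have h1 : IsLocalization.AtPrime
      (Localization.AtPrime (Q.map (algebraMap R (Localization.AtPrime 𝔓))))
      ((Q.map (algebraMap R (Localization.AtPrime 𝔓))).comap
        (algebraMap R (Localization.AtPrime 𝔓))) :=
    IsLocalization.isLocalization_isLocalization_atPrime_isLocalization 𝔓.primeCompl _
      (Q.map (algebraMap R (Localization.AtPrime 𝔓)))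
  have h1' : IsLocalization.AtPrime
      (Localization.AtPrime (Q.map (algebraMap R (Localization.AtPrime 𝔓)))) Q := by
    have := h1
    simp only [hcomap] at this
    exact this
  exact Groth.Agent.Lib.Helper24.isGorensteinLocalRing_of_ringEquiv
    (IsLocalization.algEquiv Q.primeCompl
      (Localization.AtPrime (Q.map (algebraMap R (Localization.AtPrime 𝔓))))
      (Localization.AtPrime Q)).toRingEquiv h2

end Basic

section Quot

variable (R : Type u) [CommRing R] [IsNoetherianRing R]

/-- Quotient by a nonzerodivisor: `R_P` is Gorenstein iff `(R/t)_{P/t}` is. -/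
theorem isGorensteinLocalRing_iff_quotient (t : R) (ht : t ∈ nonZeroDivisors R)
    (p : Ideal (R ⧸ Ideal.span {t})) [p.IsPrime] :
    LocCoh.IsGorensteinLocalRing
        (Localization.AtPrime (p.comap (Ideal.Quotient.mk (Ideal.span {t})))) ↔
      LocCoh.IsGorensteinLocalRing (Localization.AtPrime p) := by
  set P : Ideal R := p.comap (Ideal.Quotient.mk (Ideal.span {t})) with hP
  have htP : t ∈ P := by
    rw [hP, Ideal.mem_comap]
    have : Ideal.Quotient.mk (Ideal.span {t}) t = 0 :=
      Ideal.Quotient.eq_zero_iff_mem.mpr (Ideal.mem_span_singleton_self t)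
    rw [this]
    exact Ideal.zero_mem _
  have hmap : P.map (Ideal.Quotient.mk (Ideal.span {t})) = p :=
    Ideal.map_comap_of_surjective _ Ideal.Quotient.mk_surjective p
  have hprime : (P.map (Ideal.Quotient.mk (Ideal.span {t}))).IsPrime := by
    rw [hmap]; infer_instance
  have hNP : IsNoetherianRing (Localization.AtPrime P) :=
    IsLocalization.isNoetherianRing P.primeCompl _ inferInstance
  set x := algebraMap R (Localization.AtPrime P) t with hx
  have hreg : IsSMulRegular (Localization.AtPrime P) x := by
    have hmem : x ∈ nonZeroDivisors (Localization.AtPrime P) :=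
      IsLocalization.map_nonZeroDivisors_le P.primeCompl (Localization.AtPrime P)
        (Submonoid.mem_map_of_mem _ ht)
    intro a b hab
    have h1 : (a - b) * x = 0 := by
      simp only [smul_eq_mul] at hab
      rw [sub_mul, mul_comm a, mul_comm b, hab, sub_self]
    exact sub_eq_zero.mp (mem_nonZeroDivisors_iff_right.mp hmem _ h1)
  have hxm : x ∈ maximalIdeal (Localization.AtPrime P) := by
    rw [IsLocalization.AtPrime.to_map_mem_maximal_iff (Localization.AtPrime P) P]
    exact htP
  have hIp : Ideal.span {t} ≤ P := (Ideal.span_singleton_le_iff_mem P).mpr htP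
  set I' := (Ideal.span {t}).map (algebraMap R (Localization.AtPrime P)) with hI'
  have hI'eq : I' = Ideal.span {x} := by
    rw [hI', Ideal.map_span, Set.image_singleton]
  have h1 : IsLocalization (Algebra.algebraMapSubmonoid (R ⧸ Ideal.span {t}) P.primeCompl)
      (Localization.AtPrime P ⧸ I') := inferInstance
  rw [Groth.Agent.Lib.Helper29.algebraMapSubmonoid_quotient_primeCompl' R hIp] at h1
  have hAt : IsLocalization.AtPrime (Localization.AtPrime P ⧸ I')
      (P.map (Ideal.Quotient.mk (Ideal.span {t}))) := h1
  let e : Localization.AtPrime (P.map (Ideal.Quotient.mk (Ideal.span {t}))) ≃+*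
      (Localization.AtPrime P ⧸ I') :=
    (IsLocalization.algEquiv (P.map (Ideal.Quotient.mk (Ideal.span {t}))).primeCompl
      (Localization.AtPrime (P.map (Ideal.Quotient.mk (Ideal.span {t}))))
      (Localization.AtPrime P ⧸ I')).toRingEquiv
  rw [← isGorensteinLocalRing_congr_ideal _ _ _ hmap,
    Groth.Agent.Lib.Helper24.isGorensteinLocalRing_iff_of_ringEquiv e,
    Groth.Agent.Lib.Helper24.isGorensteinLocalRing_quotient_congr hI'eq]
  exact Groth.Agent.Lib.Helper2.Rees.isGorensteinLocalRing_iff_quotient
    (Localization.AtPrime P) x hxm hreg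

end Quot

end Groth.Agent.Lib.Helper87.GorLocal
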