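import Mathlib.RingTheory.RegularLocalRing.Polynomial
import Mathlib.Algebra.Polynomial.Laurent
import Mathlib.Algebra.MonoidAlgebra.Basic
import Mathlib.RingTheory.Localization.LocalizationLocalization
import Mathlib.LinearAlgebra.Dimension.Free
import Mathlib.LinearAlgebra.Pi

/-!
# The group algebra of a finitely generated free abelian group over a regular ring is regular
(helper87)
-/

set_option autoImplicit false
universe u

namespace Groth.Agent.Lib.Helper87.GrDepth

open AddMonoidAlgebra

/-- A localization of a regular ring is regular (same argument as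
`Groth.Agent.Lib.Helper73.RegularRing.isRegularRing_of_isLocalization`, restated here to keep
the imports of this file light). -/
theorem isRegularRing_of_isLocalization {R : Type u} [CommRing R] [IsRegularRing R]
    (T : Submonoid R) (R' : Type u) [CommRing R'] [Algebra R R'] [IsLocalization T R'] :
    IsRegularRing R' := by
  have hN : IsNoetherianRing R' := IsLocalization.isNoetherianRing T R' inferInstance
  rw [isRegularRing_iff]
  intro Q hQ
  have loc2 : IsLocalization.AtPrime (Localization.AtPrime Q) (Q.comap (algebraMap R R')) :=
    IsLocalization.isLocalization_isLocalization_atPrime_isLocalization T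
      (Localization.AtPrime Q) Q
  let e := IsLocalization.algEquiv (Q.comap (algebraMap R R')).primeCompl
    (Localization.AtPrime (Q.comap (algebraMap R R'))) (Localization.AtPrime Q)
  exact IsRegularLocalRing.of_ringEquiv e.toRingEquiv

theorem isRegularRing_laurentPolynomial (A : Type u) [CommRing A] [IsRegularRing A] :
    IsRegularRing (LaurentPolynomial A) :=
  isRegularRing_of_isLocalization (Submonoid.powers (Polynomial.X : Polynomial A)) _

theorem isRegularRing_addMonoidAlgebra_fin (A : Type u) [CommRing A] [IsRegularRing A] (n : ℕ) :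
    IsRegularRing (AddMonoidAlgebra A (Fin n → ℤ)) := by
  induction n with
  | zero =>
    exact IsRegularRing.of_ringEquiv (AddMonoidAlgebra.uniqueRingEquiv (R := A) (Fin 0 → ℤ)).symm
  | succ n ih =>
    have h1 : IsRegularRing (LaurentPolynomial (AddMonoidAlgebra A (Fin n → ℤ))) :=
      isRegularRing_laurentPolynomial _
    let e1 : AddMonoidAlgebra A (ℤ × (Fin n → ℤ)) ≃+*
        LaurentPolynomial (AddMonoidAlgebra A (Fin n → ℤ)) :=
      AddMonoidAlgebra.curryRingEquiv
    let e2 : AddMonoidAlgebra A (ℤ × (Fin n → ℤ)) ≃+* AddMonoidAlgebra A (Fin (n + 1) → ℤ) :=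
      AddMonoidAlgebra.mapDomainRingEquiv A
        (Fin.consLinearEquiv ℤ (fun _ : Fin (n + 1) => ℤ)).toAddEquiv
    exact IsRegularRing.of_ringEquiv (e1.symm.trans e2)

/-- For a regular ring `A` and a finitely generated free abelian group `ι`, the group algebra
`A[ι]` is a regular ring. -/
theorem isRegularRing_addMonoidAlgebra (A : Type u) [CommRing A] [IsRegularRing A]
    (ι : Type) [AddCommGroup ι] [Module.Free ℤ ι] [Module.Finite ℤ ι] :
    IsRegularRing (AddMonoidAlgebra A ι) := by
  have h := isRegularRing_addMonoidAlgebra_fin A (Module.finrank ℤ ι)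
  exact IsRegularRing.of_ringEquiv
    (AddMonoidAlgebra.mapDomainRingEquiv A (Module.finBasis ℤ ι).equivFun.toAddEquiv).symm

end Groth.Agent.Lib.Helper87.GrDepth
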