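import Mathlib

/-!
# Extended ideals in `R[ι]` and their heights (helper87)

For a commutative ring `R` and an additive commutative monoid `ι`, the extension of an ideal `I`
of `R` to the monoid algebra `R[ι]` consists of the elements all of whose coefficients lie in `I`.
For `ι` a finitely generated torsion-free abelian group and `R` Noetherian, `ht (p R[ι]) = ht p`.
-/

set_option autoImplicit false
universe u

namespace Groth.Agent.Lib.Helper87.GrHeight

open AddMonoidAlgebra

section Ext

variable {R : Type u} [CommRing R] {ι : Type} [AddCommMonoid ι]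

theorem mem_map_iff (I : Ideal R) (f : AddMonoidAlgebra R ι) :
    f ∈ I.map (algebraMap R (AddMonoidAlgebra R ι)) ↔ ∀ a, f.coeff a ∈ I := by
  classical
  constructor
  · intro hf a
    have hle : I.map (algebraMap R (AddMonoidAlgebra R ι)) ≤
        RingHom.ker (AddMonoidAlgebra.mapRingHom ι (Ideal.Quotient.mk I)) := by
      rw [Ideal.map_le_iff_le_comap]
      intro r hr
      rw [Ideal.mem_comap, RingHom.mem_ker, AddMonoidAlgebra.coe_algebraMap, Function.comp_apply,
        AddMonoidAlgebra.mapRingHom_single]
      simp [Ideal.Quotient.eq_zero_iff_mem.mpr hr]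
    have h1 := hle hf
    rw [RingHom.mem_ker] at h1
    have h2 := congrArg (fun g => g.coeff a) h1
    simp only [AddMonoidAlgebra.coeff_mapRingHom, AddMonoidAlgebra.coeff_zero,
      Finsupp.coe_zero, Pi.zero_apply] at h2
    exact Ideal.Quotient.eq_zero_iff_mem.mp h2
  · intro hf
    rw [← AddMonoidAlgebra.sum_coeff_single f]
    refine Ideal.sum_mem _ fun a _ => ?_
    have : single a (f.coeff a) =
        algebraMap R (AddMonoidAlgebra R ι) (f.coeff a) * single a 1 := by
      rw [AddMonoidAlgebra.coe_algebraMap, Function.comp_apply, Algebra.algebraMap_self,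
        RingHom.id_apply, AddMonoidAlgebra.single_mul_single, zero_add, mul_one]
    rw [this]
    exact Ideal.mul_mem_right _ _ (Ideal.mem_map_of_mem _ (hf a))

theorem comap_map (I : Ideal R) :
    (I.map (algebraMap R (AddMonoidAlgebra R ι))).comap (algebraMap R (AddMonoidAlgebra R ι)) =
      I := by
  classical
  ext r
  rw [Ideal.mem_comap, mem_map_iff]
  constructor
  · intro h
    have := h 0
    rwa [AddMonoidAlgebra.coe_algebraMap, Function.comp_apply, Algebra.algebraMap_self,
      RingHom.id_apply, AddMonoidAlgebra.coeff_single, Finsupp.single_apply, if_pos rfl] at this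
  · intro h a
    rw [AddMonoidAlgebra.coe_algebraMap, Function.comp_apply, Algebra.algebraMap_self,
      RingHom.id_apply, AddMonoidAlgebra.coeff_single, Finsupp.single_apply]
    split_ifs
    · exact h
    · exact I.zero_mem

theorem map_eq_ker (I : Ideal R) :
    I.map (algebraMap R (AddMonoidAlgebra R ι)) =
      RingHom.ker (AddMonoidAlgebra.mapRingHom ι (Ideal.Quotient.mk I)) := by
  ext f
  rw [mem_map_iff, RingHom.mem_ker]
  constructor
  · intro h
    ext a
    rw [AddMonoidAlgebra.coeff_mapRingHom, AddMonoidAlgebra.coeff_zero, Finsupp.coe_zero,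
      Pi.zero_apply]
    exact Ideal.Quotient.eq_zero_iff_mem.mpr (h a)
  · intro h a
    have h2 := congrArg (fun g => g.coeff a) h
    simp only [AddMonoidAlgebra.coeff_mapRingHom, AddMonoidAlgebra.coeff_zero,
      Finsupp.coe_zero, Pi.zero_apply] at h2
    exact Ideal.Quotient.eq_zero_iff_mem.mp h2

theorem mapRingHom_mk_surjective (I : Ideal R) :
    Function.Surjective (AddMonoidAlgebra.mapRingHom ι (Ideal.Quotient.mk I)) := by
  intro g
  induction g using AddMonoidAlgebra.induction_linear with
  | zero => exact ⟨0, map_zero _⟩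
  | add x y hx hy =>
    obtain ⟨x', rfl⟩ := hx
    obtain ⟨y', rfl⟩ := hy
    exact ⟨x' + y', map_add _ _ _⟩
  | single a b =>
    obtain ⟨b', rfl⟩ := Ideal.Quotient.mk_surjective b
    exact ⟨single a b', AddMonoidAlgebra.mapRingHom_single _ _ _⟩

end Ext

section Height

variable {R : Type u} [CommRing R] [IsNoetherianRing R] {ι : Type} [AddCommGroup ι]
  [Module.Free ℤ ι] [Module.Finite ℤ ι]

omit [Module.Finite ℤ ι] in
theorem isAddTorsionFree : IsAddTorsionFree ι :=
  Module.isTorsionFree_int_iff_isAddTorsionFree.mp inferInstance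

omit [Module.Free ℤ ι] in
theorem addMonoidFG : AddMonoid.FG ι :=
  AddGroup.fg_iff_addMonoid_fg.mp (Module.Finite.iff_addGroup_fg.mp inferInstance)

omit [Module.Free ℤ ι] in
theorem isNoetherianRing_addMonoidAlgebra : IsNoetherianRing (AddMonoidAlgebra R ι) := by
  have := addMonoidFG (ι := ι)
  have : Algebra.FiniteType R (AddMonoidAlgebra R ι) := inferInstance
  exact Algebra.FiniteType.isNoetherianRing R _

omit [IsNoetherianRing R] in
theorem isPrime_map (p : Ideal R) [p.IsPrime] :
    (p.map (algebraMap R (AddMonoidAlgebra R ι))).IsPrime := by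
  have := isAddTorsionFree (ι := ι)
  have := addMonoidFG (ι := ι)
  have : NoZeroDivisors (AddMonoidAlgebra (R ⧸ p) ι) := inferInstance
  have : IsDomain (AddMonoidAlgebra (R ⧸ p) ι) := NoZeroDivisors.to_isDomain _
  rw [map_eq_ker]
  exact RingHom.ker_isPrime _

theorem height_map (p : Ideal R) [p.IsPrime] :
    (p.map (algebraMap R (AddMonoidAlgebra R ι))).height = p.height := by
  have hN := isNoetherianRing_addMonoidAlgebra (R := R) (ι := ι)
  have hP := isPrime_map (ι := ι) p
  have hlies : (p.map (algebraMap R (AddMonoidAlgebra R ι))).LiesOver p :=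
    ⟨(comap_map p).symm⟩
  rw [Ideal.height_eq_height_add_of_liesOver_of_hasGoingDown p
    (p.map (algebraMap R (AddMonoidAlgebra R ι))), Ideal.map_quotient_self]
  have : Nontrivial (AddMonoidAlgebra R ι ⧸ p.map (algebraMap R (AddMonoidAlgebra R ι))) :=
    Ideal.Quotient.nontrivial_iff.mpr hP.ne_top
  rw [Ideal.height_bot, add_zero]

end Height

end Groth.Agent.Lib.Helper87.GrHeight
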