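import Groth.Agent.Lib.Helper87.GrHeight1

/-!
# The coaction automorphism of `R[ι]` for a `ι`-graded ring `R` (helper87)
-/

set_option autoImplicit false
universe u

namespace Groth.Agent.Lib.Helper87.GrHeight

open AddMonoidAlgebra DirectSum

section Coact

variable {R : Type u} [CommRing R] {ι : Type} [AddCommGroup ι] [DecidableEq ι]
  (𝒜 : ι → AddSubgroup R) [GradedRing 𝒜]

/-- The coaction `R → R[ι]`, `r ↦ ∑ r_a t^a`, on the direct sum. -/
noncomputable def coactAux : (⨁ i, 𝒜 i) →+* AddMonoidAlgebra R ι :=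
  DirectSum.toSemiring
    (fun i => (AddMonoidAlgebra.singleAddHom i).comp (𝒜 i).subtype)
    (by
      change AddMonoidAlgebra.single (0 : ι) ((1 : R)) = 1
      rfl)
    (by
      intro i j ai aj
      change AddMonoidAlgebra.single (i + j) ((ai : R) * (aj : R)) =
        AddMonoidAlgebra.single i (ai : R) * AddMonoidAlgebra.single j (aj : R)
      rw [AddMonoidAlgebra.single_mul_single])

/-- The coaction `R → R[ι]`, `r ↦ ∑ r_a t^a`. -/
noncomputable def coact : R →+* AddMonoidAlgebra R ι :=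
  (coactAux 𝒜).comp (DirectSum.decomposeRingEquiv 𝒜).toRingHom

theorem coact_of_mem {i : ι} {r : R} (hr : r ∈ 𝒜 i) :
    coact 𝒜 r = AddMonoidAlgebra.single i r := by
  change coactAux 𝒜 (DirectSum.decompose 𝒜 r) = _
  rw [DirectSum.decompose_of_mem 𝒜 hr]
  unfold coactAux
  rw [DirectSum.toSemiring_of]
  rfl

theorem coeff_coact (r : R) (a : ι) :
    (coact 𝒜 r).coeff a = (DirectSum.decompose 𝒜 r a : R) := by
  induction r using DirectSum.Decomposition.inductionOn 𝒜 with
  | zero => simp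
  | @homogeneous i m =>
    rw [coact_of_mem 𝒜 m.2, AddMonoidAlgebra.coeff_single, Finsupp.single_apply]
    split_ifs with h
    · subst h
      rw [DirectSum.decompose_of_mem_same 𝒜 m.2]
    · rw [DirectSum.decompose_of_mem_ne 𝒜 m.2 h]
  | add x y hx hy =>
    rw [map_add, AddMonoidAlgebra.coeff_add, Finsupp.add_apply, hx, hy, DirectSum.decompose_add,
      DirectSum.add_apply, AddSubgroup.coe_add]

variable (R ι) in
/-- The automorphism of `R[ι]` induced by negation on `ι`. -/
noncomputable def negAut : AddMonoidAlgebra R ι ≃+* AddMonoidAlgebra R ι :=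
  (AddMonoidAlgebra.domCongr R R (AddEquiv.neg ι)).toRingEquiv

omit [DecidableEq ι] in
theorem negAut_single (a : ι) (r : R) :
    negAut R ι (AddMonoidAlgebra.single a r) = AddMonoidAlgebra.single (-a) r := by
  change AddMonoidAlgebra.domCongr R R (AddEquiv.neg ι) (AddMonoidAlgebra.single a r) = _
  rw [AddMonoidAlgebra.domCongr_single]
  rfl

/-- `σ : R[ι] → R[ι]`, `r_a t^b ↦ r_a t^(a+b)`. -/
noncomputable def sigmaHom : AddMonoidAlgebra R ι →+* AddMonoidAlgebra R ι :=
  AddMonoidAlgebra.liftNCRingHom (coact 𝒜) (AddMonoidAlgebra.of R ι) (fun _ _ => Commute.all _ _)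

/-- `σ⁻¹ : R[ι] → R[ι]`, `r_a t^b ↦ r_a t^(b-a)`. -/
noncomputable def sigmaInvHom : AddMonoidAlgebra R ι →+* AddMonoidAlgebra R ι :=
  AddMonoidAlgebra.liftNCRingHom (((negAut R ι : AddMonoidAlgebra R ι →+* AddMonoidAlgebra R ι)).comp
    (coact 𝒜)) (AddMonoidAlgebra.of R ι) (fun _ _ => Commute.all _ _)

theorem sigmaHom_single (a : ι) (r : R) :
    sigmaHom 𝒜 (AddMonoidAlgebra.single a r) = coact 𝒜 r * AddMonoidAlgebra.single a 1 := by
  unfold sigmaHom
  rw [AddMonoidAlgebra.liftNCRingHom_single, AddMonoidAlgebra.of_apply]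
  rfl

theorem sigmaInvHom_single (a : ι) (r : R) :
    sigmaInvHom 𝒜 (AddMonoidAlgebra.single a r) =
      negAut R ι (coact 𝒜 r) * AddMonoidAlgebra.single a 1 := by
  unfold sigmaInvHom
  rw [AddMonoidAlgebra.liftNCRingHom_single, AddMonoidAlgebra.of_apply]
  rfl

theorem sigmaHom_single_of_mem {i : ι} {r : R} (hr : r ∈ 𝒜 i) (a : ι) :
    sigmaHom 𝒜 (AddMonoidAlgebra.single a r) = AddMonoidAlgebra.single (i + a) r := by
  rw [sigmaHom_single, coact_of_mem 𝒜 hr, AddMonoidAlgebra.single_mul_single, mul_one]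

theorem sigmaInvHom_single_of_mem {i : ι} {r : R} (hr : r ∈ 𝒜 i) (a : ι) :
    sigmaInvHom 𝒜 (AddMonoidAlgebra.single a r) = AddMonoidAlgebra.single (-i + a) r := by
  rw [sigmaInvHom_single, coact_of_mem 𝒜 hr, negAut_single, AddMonoidAlgebra.single_mul_single,
    mul_one]

theorem sigmaInvHom_comp_sigmaHom :
    (sigmaInvHom 𝒜).comp (sigmaHom 𝒜) = RingHom.id _ := by
  apply AddMonoidAlgebra.ringHom_ext
  · intro r
    induction r using DirectSum.Decomposition.inductionOn 𝒜 with
    | zero => simp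
    | @homogeneous i m =>
      rw [RingHom.comp_apply, sigmaHom_single_of_mem 𝒜 m.2, sigmaInvHom_single_of_mem 𝒜 m.2]
      simp
    | add x y hx hy =>
      rw [AddMonoidAlgebra.single_add, map_add, hx, hy, map_add]
  · intro a
    rw [RingHom.comp_apply, sigmaHom_single_of_mem 𝒜 (SetLike.GradedOne.one_mem),
      sigmaInvHom_single_of_mem 𝒜 (SetLike.GradedOne.one_mem)]
    simp

theorem sigmaHom_comp_sigmaInvHom :
    (sigmaHom 𝒜).comp (sigmaInvHom 𝒜) = RingHom.id _ := by
  apply AddMonoidAlgebra.ringHom_ext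
  · intro r
    induction r using DirectSum.Decomposition.inductionOn 𝒜 with
    | zero => simp
    | @homogeneous i m =>
      rw [RingHom.comp_apply, sigmaInvHom_single_of_mem 𝒜 m.2, sigmaHom_single_of_mem 𝒜 m.2]
      simp
    | add x y hx hy =>
      rw [AddMonoidAlgebra.single_add, map_add, hx, hy, map_add]
  · intro a
    rw [RingHom.comp_apply, sigmaInvHom_single_of_mem 𝒜 (SetLike.GradedOne.one_mem),
      sigmaHom_single_of_mem 𝒜 (SetLike.GradedOne.one_mem)]
    simp

/-- The coaction automorphism `σ` of `R[ι]`. -/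
noncomputable def sigma : AddMonoidAlgebra R ι ≃+* AddMonoidAlgebra R ι :=
  RingEquiv.ofRingHom (sigmaHom 𝒜) (sigmaInvHom 𝒜) (sigmaHom_comp_sigmaInvHom 𝒜)
    (sigmaInvHom_comp_sigmaHom 𝒜)

theorem sigma_algebraMap (r : R) :
    sigma 𝒜 (algebraMap R (AddMonoidAlgebra R ι) r) = coact 𝒜 r := by
  change sigmaHom 𝒜 _ = _
  rw [AddMonoidAlgebra.coe_algebraMap, Function.comp_apply, Algebra.algebraMap_self,
    RingHom.id_apply, sigmaHom_single]
  change coact 𝒜 r * 1 = _
  rw [mul_one]

theorem sigma_symm_algebraMap (r : R) :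
    (sigma 𝒜).symm (algebraMap R (AddMonoidAlgebra R ι) r) = negAut R ι (coact 𝒜 r) := by
  change sigmaInvHom 𝒜 _ = _
  rw [AddMonoidAlgebra.coe_algebraMap, Function.comp_apply, Algebra.algebraMap_self,
    RingHom.id_apply, sigmaInvHom_single]
  change negAut R ι (coact 𝒜 r) * 1 = _
  rw [mul_one]

end Coact

end Groth.Agent.Lib.Helper87.GrHeight
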