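import Groth.Agent.Lib.Helper87.GrHeight2

/-!
# `ht p = ht p* + ht (p/p*)` for multigraded Noetherian rings (helper87)
-/

set_option autoImplicit false
universe u

namespace Groth.Agent.Lib.Helper87.GrHeight

open AddMonoidAlgebra DirectSum

section Core

variable {R : Type u} [CommRing R] {ι : Type} [AddCommGroup ι] [DecidableEq ι]
  (𝒜 : ι → AddSubgroup R) [GradedRing 𝒜]

theorem mem_homogeneousCore_iff (p : Ideal R) (r : R) :
    r ∈ (p.homogeneousCore 𝒜).toIdeal ↔ ∀ a, (DirectSum.decompose 𝒜 r a : R) ∈ p := by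
  classical
  constructor
  · intro hr a
    exact Ideal.toIdeal_homogeneousCore_le 𝒜 p ((p.homogeneousCore 𝒜).isHomogeneous a hr)
  · intro h
    rw [← DirectSum.sum_support_decompose 𝒜 r]
    refine Ideal.sum_mem _ fun a _ => ?_
    exact Ideal.mem_homogeneousCore_of_homogeneous_of_mem ⟨a, (DirectSum.decompose 𝒜 r a).2⟩ (h a)

theorem comap_sigma_comap (p : Ideal R) :
    ((p.map (algebraMap R (AddMonoidAlgebra R ι))).comap
        (sigma 𝒜 : AddMonoidAlgebra R ι →+* AddMonoidAlgebra R ι)).comap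
      (algebraMap R (AddMonoidAlgebra R ι)) = (p.homogeneousCore 𝒜).toIdeal := by
  ext r
  rw [Ideal.mem_comap, Ideal.mem_comap, RingEquiv.coe_toRingHom, sigma_algebraMap, mem_map_iff,
    mem_homogeneousCore_iff]
  simp only [coeff_coact]

/-- `σ` preserves the extension of a homogeneous ideal. -/
theorem map_sigma_eq (q : Ideal R) (hq : q.IsHomogeneous 𝒜) :
    (q.map (algebraMap R (AddMonoidAlgebra R ι))).map
        (sigma 𝒜 : AddMonoidAlgebra R ι →+* AddMonoidAlgebra R ι) =
      q.map (algebraMap R (AddMonoidAlgebra R ι)) := by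
  have h1 : (q.map (algebraMap R (AddMonoidAlgebra R ι))).map
      (sigma 𝒜 : AddMonoidAlgebra R ι →+* AddMonoidAlgebra R ι) ≤
      q.map (algebraMap R (AddMonoidAlgebra R ι)) := by
    rw [Ideal.map_map, Ideal.map_le_iff_le_comap]
    intro r hr
    rw [Ideal.mem_comap, RingHom.comp_apply, RingEquiv.coe_toRingHom, sigma_algebraMap,
      mem_map_iff]
    intro a
    rw [coeff_coact]
    exact hq a hr
  have h2 : (q.map (algebraMap R (AddMonoidAlgebra R ι))).map
      ((sigma 𝒜).symm : AddMonoidAlgebra R ι →+* AddMonoidAlgebra R ι) ≤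
      q.map (algebraMap R (AddMonoidAlgebra R ι)) := by
    rw [Ideal.map_map, Ideal.map_le_iff_le_comap]
    intro r hr
    rw [Ideal.mem_comap, RingHom.comp_apply, RingEquiv.coe_toRingHom, sigma_symm_algebraMap,
      mem_map_iff]
    intro a
    change (AddMonoidAlgebra.domCongr R R (AddEquiv.neg ι) (coact 𝒜 r)).coeff a ∈ q
    rw [AddMonoidAlgebra.coeff_domCongr, coeff_coact]
    exact hq _ hr
  refine le_antisymm h1 ?_
  have h3 := Ideal.map_mono (f := (sigma 𝒜 : AddMonoidAlgebra R ι →+* AddMonoidAlgebra R ι)) h2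
  rw [Ideal.map_map] at h3
  have h4 : ((sigma 𝒜 : AddMonoidAlgebra R ι →+* AddMonoidAlgebra R ι)).comp
      ((sigma 𝒜).symm : AddMonoidAlgebra R ι →+* AddMonoidAlgebra R ι) = RingHom.id _ := by
    ext x <;> simp
  rw [h4, Ideal.map_id] at h3
  exact h3

end Core

section Main

variable {R : Type u} [CommRing R] [IsNoetherianRing R] {ι : Type} [AddCommGroup ι]
  [DecidableEq ι] [Module.Free ℤ ι] [Module.Finite ℤ ι]
  (𝒜 : ι → AddSubgroup R) [GradedRing 𝒜]

theorem height_eq_core_add (p : Ideal R) [hp : p.IsPrime] :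
    p.height = (p.homogeneousCore 𝒜).toIdeal.height +
      (p.map (Ideal.Quotient.mk (p.homogeneousCore 𝒜).toIdeal)).height := by
  set S := AddMonoidAlgebra R ι with hS
  set q : Ideal R := (p.homogeneousCore 𝒜).toIdeal with hq
  have hqp : q ≤ p := Ideal.toIdeal_homogeneousCore_le 𝒜 p
  have hqhom : q.IsHomogeneous 𝒜 := (p.homogeneousCore 𝒜).isHomogeneous
  set pS : Ideal S := p.map (algebraMap R S) with hpS
  set qS : Ideal S := q.map (algebraMap R S) with hqS
  have hNS : IsNoetherianRing S := isNoetherianRing_addMonoidAlgebra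
  have hpSprime : pS.IsPrime := isPrime_map p
  set P : Ideal S := pS.comap (sigma 𝒜 : S →+* S) with hPdef
  have hPprime : P.IsPrime := Ideal.comap_isPrime _ _
  have hPq : P.comap (algebraMap R S) = q := comap_sigma_comap 𝒜 p
  have hqprime : q.IsPrime := by
    rw [← hPq]
    exact Ideal.comap_isPrime _ _
  have hlies : P.LiesOver q := ⟨hPq.symm⟩
  -- `ht P = ht p`
  have h1 : P.height = p.height := by
    rw [hPdef]
    have := RingEquiv.height_comap (sigma 𝒜) pS
    rw [← height_map (ι := ι) p]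
    exact this
  -- the going-down formula
  have h2 := Ideal.height_eq_height_add_of_liesOver_of_hasGoingDown q P
  -- transport along `σ̄`
  have hσq : qS = qS.map (sigma 𝒜 : S →+* S) := (map_sigma_eq 𝒜 q hqhom).symm
  let σbar : S ⧸ qS ≃+* S ⧸ qS := Ideal.quotientEquiv qS qS (sigma 𝒜) hσq
  have hqSpS : qS ≤ pS := Ideal.map_mono hqp
  have hqSP : qS ≤ P := by
    rw [hPdef, ← Ideal.map_le_iff_le_comap, ← hσq]
    exact hqSpS
  have h3 : P.map (Ideal.Quotient.mk qS) =
      (pS.map (Ideal.Quotient.mk qS)).comap (σbar : S ⧸ qS →+* S ⧸ qS) := by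
    ext x
    obtain ⟨x, rfl⟩ := Ideal.Quotient.mk_surjective x
    rw [Ideal.mem_quotient_iff_mem hqSP, Ideal.mem_comap, RingEquiv.coe_toRingHom]
    change _ ↔ Ideal.Quotient.mk qS (sigma 𝒜 x) ∈ pS.map (Ideal.Quotient.mk qS)
    rw [Ideal.mem_quotient_iff_mem hqSpS]
  have h4 : (P.map (Ideal.Quotient.mk qS)).height = (pS.map (Ideal.Quotient.mk qS)).height := by
    rw [h3]
    exact RingEquiv.height_comap σbar _
  -- identify `S ⧸ qS` with `(R ⧸ q)[ι]`
  let e : S ⧸ qS ≃+* AddMonoidAlgebra (R ⧸ q) ι :=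
    (Ideal.quotEquivOfEq (map_eq_ker q)).trans
      (RingHom.quotientKerEquivOfSurjective (mapRingHom_mk_surjective q))
  have he : ∀ x : S, e (Ideal.Quotient.mk qS x) =
      AddMonoidAlgebra.mapRingHom ι (Ideal.Quotient.mk q) x := fun x => rfl
  have hp'prime : (p.map (Ideal.Quotient.mk q)).IsPrime :=
    Ideal.map_isPrime_of_surjective Ideal.Quotient.mk_surjective (by rwa [Ideal.mk_ker])
  have h5 : (pS.map (Ideal.Quotient.mk qS)).map (e : S ⧸ qS →+* AddMonoidAlgebra (R ⧸ q) ι) =
      (p.map (Ideal.Quotient.mk q)).map (algebraMap (R ⧸ q) (AddMonoidAlgebra (R ⧸ q) ι)) := by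
    rw [hpS, Ideal.map_map, Ideal.map_map, Ideal.map_map]
    congr 1
    ext r
    simp only [RingHom.comp_apply, RingEquiv.coe_toRingHom, he]
    rw [AddMonoidAlgebra.coe_algebraMap, AddMonoidAlgebra.coe_algebraMap]
    simp
  have h6 : (pS.map (Ideal.Quotient.mk qS)).height = (p.map (Ideal.Quotient.mk q)).height := by
    rw [← RingEquiv.height_map e]
    change (Ideal.map (e : S ⧸ qS →+* AddMonoidAlgebra (R ⧸ q) ι) _).height = _
    rw [h5]
    exact height_map (ι := ι) _
  rw [← h1, h2, h4, h6]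

end Main

end Groth.Agent.Lib.Helper87.GrHeight
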