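import Mathlib.RingTheory.GradedAlgebra.Basic
import Mathlib.RingTheory.Ideal.Maximal
import Mathlib.RingTheory.Ideal.Prime
import Mathlib.RingTheory.Ideal.Operations
import Mathlib.Algebra.Algebra.Basic

/-!
# Graded Noether normalisation I: the irrelevant ideal and homogeneous prime avoidance (helper87)

Setting: a `ℤ`-graded algebra `R = ⊕ 𝒜 n` over a field `k`, with `𝒜 n = 0` for `n < 0` and
`𝒜 0 = k·1`.
-/

set_option autoImplicit false
universe u

namespace Groth.Agent.Lib.Helper87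

open DirectSum

section Irr

variable {k : Type u} [Field k] {R : Type u} [CommRing R] [Algebra k R]
  (𝒜 : ℤ → Submodule k R) [GradedAlgebra 𝒜]

/-- the irrelevant ideal, generated by the homogeneous elements of positive degree -/
def irr : Ideal R := Ideal.span (⋃ n ∈ Set.Ioi (0 : ℤ), (𝒜 n : Set R))

theorem mem_irr_of_pos {n : ℤ} (hn : 0 < n) {x : R} (hx : x ∈ 𝒜 n) : x ∈ irr 𝒜 := by
  apply Ideal.subset_span
  simp only [Set.mem_iUnion, Set.mem_Ioi]
  exact ⟨n, hn, hx⟩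

theorem exists_sub_algebraMap_mem_irr (hpos : ∀ n : ℤ, n < 0 → 𝒜 n = ⊥)
    (h0 : 𝒜 0 = Submodule.span k {(1 : R)}) (f : R) :
    ∃ c : k, f - algebraMap k R c ∈ irr 𝒜 := by
  classical
  induction f using DirectSum.Decomposition.inductionOn 𝒜 with
  | zero => exact ⟨0, by simp⟩
  | @homogeneous n f =>
    obtain ⟨f, h1⟩ := f
    change ∃ c : k, f - algebraMap k R c ∈ irr 𝒜
    rcases lt_trichotomy n 0 with hn | hn | hn
    · rw [hpos n hn, Submodule.mem_bot] at h1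
      exact ⟨0, by rw [h1]; simp⟩
    · subst hn
      rw [h0, Submodule.mem_span_singleton] at h1
      obtain ⟨c, hc⟩ := h1
      refine ⟨c, ?_⟩
      rw [← hc, Algebra.algebraMap_eq_smul_one, sub_self]
      exact Submodule.zero_mem _
    · exact ⟨0, by rw [map_zero, sub_zero]; exact mem_irr_of_pos 𝒜 hn h1⟩
  | add f g hf hg =>
    obtain ⟨c, hc⟩ := hf
    obtain ⟨c', hc'⟩ := hg
    refine ⟨c + c', ?_⟩
    have : f + g - algebraMap k R (c + c') = (f - algebraMap k R c) + (g - algebraMap k R c') := by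
      rw [map_add]; ring
    rw [this]
    exact Ideal.add_mem _ hc hc'

/-- a prime containing the irrelevant ideal is maximal -/
theorem isMaximal_of_irr_le (hpos : ∀ n : ℤ, n < 0 → 𝒜 n = ⊥)
    (h0 : 𝒜 0 = Submodule.span k {(1 : R)}) (p : Ideal R) [hp : p.IsPrime] (h : irr 𝒜 ≤ p) :
    p.IsMaximal := by
  rw [Ideal.isMaximal_iff]
  refine ⟨fun h1 => hp.ne_top ((Ideal.eq_top_iff_one _).mpr h1), ?_⟩
  intro J x hpJ hxp hxJ
  obtain ⟨c, hc⟩ := exists_sub_algebraMap_mem_irr 𝒜 hpos h0 x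
  have hcJ : algebraMap k R c ∈ J := by
    have h1 : x - algebraMap k R c ∈ J := hpJ (h hc)
    have h2 : algebraMap k R c = x - (x - algebraMap k R c) := by ring
    rw [h2]
    exact J.sub_mem hxJ h1
  have hc0 : c ≠ 0 := by
    rintro rfl
    rw [map_zero, sub_zero] at hc
    exact hxp (h hc)
  have h3 : (1 : R) = algebraMap k R c⁻¹ * algebraMap k R c := by
    rw [← map_mul, inv_mul_cancel₀ hc0, map_one]
  rw [h3]
  exact J.mul_mem_left _ hcJ

end Irr

section Avoid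

variable {k : Type u} [Field k] {R : Type u} [CommRing R] [Algebra k R]
  (𝒜 : ℤ → Submodule k R) [GradedAlgebra 𝒜]

theorem deg_nonneg_of_ne_zero (hpos : ∀ n : ℤ, n < 0 → 𝒜 n = ⊥) {j : ℤ} {y : R} (hy : y ∈ 𝒜 j)
    (hy0 : y ≠ 0) : 0 ≤ j := by
  by_contra h
  rw [not_le] at h
  rw [hpos j h, Submodule.mem_bot] at hy
  exact hy0 hy

theorem exists_aux_y (hpos : ∀ n : ℤ, n < 0 → 𝒜 n = ⊥) (Q : Ideal R) [hQp : Q.IsPrime]
    (hQ : ¬ irr 𝒜 ≤ Q) (S' : Finset (Ideal R)) :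
    ∃ (e : ℤ) (y : R), 0 < e ∧ y ∈ 𝒜 e ∧ y ∉ Q ∧
      ∀ P ∈ S', (∃ (j : ℤ) (y' : R), y' ∈ 𝒜 j ∧ y' ∈ P ∧ y' ∉ Q) → y ∈ P := by
  classical
  induction S' using Finset.induction_on with
  | empty =>
    have : ¬ (⋃ n ∈ Set.Ioi (0 : ℤ), (𝒜 n : Set R)) ⊆ (Q : Set R) := fun h =>
      hQ (Ideal.span_le.mpr h)
    rw [Set.not_subset] at this
    obtain ⟨y, hy, hyQ⟩ := this
    simp only [Set.mem_iUnion, Set.mem_Ioi] at hy
    obtain ⟨n, hn, hyn⟩ := hy
    exact ⟨n, y, hn, hyn, hyQ, fun P hP => absurd hP (Finset.notMem_empty P)⟩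
  | insert P S' _ ih =>
    obtain ⟨e, y, he, hye, hyQ, hyP⟩ := ih
    by_cases hex : ∃ (j : ℤ) (y' : R), y' ∈ 𝒜 j ∧ y' ∈ P ∧ y' ∉ Q
    · obtain ⟨j, y', hy'j, hy'P, hy'Q⟩ := hex
      have hj : 0 ≤ j := deg_nonneg_of_ne_zero 𝒜 hpos hy'j (fun h => hy'Q (h ▸ Q.zero_mem))
      refine ⟨e + j, y * y', by omega, SetLike.GradedMul.mul_mem hye hy'j, ?_, ?_⟩
      · intro h
        rcases hQp.mem_or_mem h with h | h
        · exact hyQ h
        · exact hy'Q h
      · intro P' hP' hex'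
        rcases Finset.mem_insert.mp hP' with rfl | hP'
        · exact Ideal.mul_mem_left _ _ hy'P
        · exact Ideal.mul_mem_right _ _ (hyP P' hP' hex')
    · refine ⟨e, y, he, hye, hyQ, ?_⟩
      intro P' hP' hex'
      rcases Finset.mem_insert.mp hP' with rfl | hP'
      · exact absurd hex' hex
      · exact hyP P' hP' hex'

/-- **Homogeneous prime avoidance** for the irrelevant ideal (after helper39's `GrPieces`). -/
theorem exists_homogeneous_notMem (hpos : ∀ n : ℤ, n < 0 → 𝒜 n = ⊥) (S : Finset (Ideal R))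
    (hS : ∀ P ∈ S, P.IsPrime ∧ ¬ irr 𝒜 ≤ P) :
    ∃ (d : ℤ) (x : R), 0 < d ∧ x ∈ 𝒜 d ∧ ∀ P ∈ S, x ∉ P := by
  classical
  induction S using Finset.induction_on with
  | empty => exact ⟨1, 0, one_pos, zero_mem _, fun P hP => absurd hP (Finset.notMem_empty P)⟩
  | insert Q S' _ ih =>
    obtain ⟨d, x, hd, hxd, hxS⟩ := ih (fun P hP => hS P (Finset.mem_insert_of_mem hP))
    haveI hQp : Q.IsPrime := (hS Q (Finset.mem_insert_self _ _)).1
    have hQ : ¬ irr 𝒜 ≤ Q := (hS Q (Finset.mem_insert_self _ _)).2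
    by_cases hxQ : x ∈ Q
    · obtain ⟨e, y, he, hye, hyQ, hyP⟩ := exists_aux_y 𝒜 hpos Q hQ S'
      have hxe : x ^ e.toNat ∈ 𝒜 (d * e) := by
        have := SetLike.pow_mem_graded e.toNat hxd
        rwa [nsmul_eq_mul, Int.toNat_of_nonneg he.le, mul_comm] at this
      have hyd : y ^ d.toNat ∈ 𝒜 (d * e) := by
        have := SetLike.pow_mem_graded d.toNat hye
        rwa [nsmul_eq_mul, Int.toNat_of_nonneg hd.le] at this
      have he' : e.toNat ≠ 0 := by omega
      have hd' : d.toNat ≠ 0 := by omega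
      refine ⟨d * e, x ^ e.toNat + y ^ d.toNat, mul_pos hd he, add_mem hxe hyd, ?_⟩
      have hzQ : x ^ e.toNat + y ^ d.toNat ∉ Q := by
        intro h
        have h1 : x ^ e.toNat ∈ Q := Ideal.pow_mem_of_mem _ hxQ _ (Nat.pos_of_ne_zero he')
        have h2 : y ^ d.toNat ∈ Q := (Ideal.add_mem_iff_right _ h1).mp h
        exact hyQ (hQp.mem_of_pow_mem _ h2)
      intro P hP
      rcases Finset.mem_insert.mp hP with rfl | hP
      · exact hzQ
      · haveI hPp : P.IsPrime := (hS P (Finset.mem_insert_of_mem hP)).1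
        by_cases hex : ∃ (j : ℤ) (y' : R), y' ∈ 𝒜 j ∧ y' ∈ P ∧ y' ∉ Q
        · have hyP' : y ∈ P := hyP P hP hex
          intro h
          have h2 : y ^ d.toNat ∈ P := Ideal.pow_mem_of_mem _ hyP' _ (Nat.pos_of_ne_zero hd')
          have h1 : x ^ e.toNat ∈ P := (Ideal.add_mem_iff_left _ h2).mp h
          exact hxS P hP (hPp.mem_of_pow_mem _ h1)
        · intro h
          exact hex ⟨d * e, _, add_mem hxe hyd, h, hzQ⟩
    · refine ⟨d, x, hd, hxd, fun P hP => ?_⟩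
      rcases Finset.mem_insert.mp hP with rfl | hP
      · exact hxQ
      · exact hxS P hP

end Avoid

end Groth.Agent.Lib.Helper87
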