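import Groth.Agent.Lib.Helper87.GrNoeth1
import Mathlib.RingTheory.KrullDimension.NonZeroDivisors
import Mathlib.RingTheory.Ideal.MinimalPrime.Noetherian
import Mathlib.RingTheory.FiniteType

/-!
# Graded Noether normalisation II: cutting the dimension down by homogeneous elements (helper87)
-/

set_option autoImplicit false
universe u

namespace Groth.Agent.Lib.Helper87

open DirectSum

section Drop

variable {R : Type u} [CommRing R]

/-- If every prime over `J ⊇ I` is maximal or strictly contains a prime over `I`, then passing from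
`I` to `J` lowers the dimension of the quotient. -/
theorem ringKrullDim_quotient_le_of_drop (I J : Ideal R) (hIJ : I ≤ J) (n : ℕ)
    (hI : ringKrullDim (R ⧸ I) ≤ ((n + 1 : ℕ) : WithBot ℕ∞))
    (h : ∀ q : Ideal R, q.IsPrime → J ≤ q →
      q.IsMaximal ∨ ∃ p : Ideal R, p.IsPrime ∧ I ≤ p ∧ p < q) :
    ringKrullDim (R ⧸ J) ≤ (n : WithBot ℕ∞) := by
  rw [ringKrullDim_quotient] at hI ⊢
  rw [Order.krullDim, iSup_le_iff]
  intro l
  have hJq : J ≤ l.head.1.asIdeal := fun a ha => l.head.2 ha
  rcases h l.head.1.asIdeal l.head.1.2 hJq with hmax | ⟨p, hp, hIp, hpq⟩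
  · -- the chain has length zero
    have hlen : l.length = 0 := by
      by_contra hne
      have hpos : 0 < l.length := Nat.pos_of_ne_zero hne
      have hlt : l.head < l ⟨1, by omega⟩ := by
        apply l.strictMono
        change (0 : ℕ) < 1
        exact Nat.zero_lt_one
      have hlt' : l.head.1.asIdeal < (l ⟨1, by omega⟩).1.asIdeal := hlt
      have := hmax.eq_of_le (l ⟨1, by omega⟩).1.2.ne_top hlt'.le
      exact hlt'.ne this
    rw [hlen]
    exact_mod_cast Nat.zero_le n
  · let p' : PrimeSpectrum.zeroLocus (R := R) (I : Set R) := ⟨⟨p, hp⟩, hIp⟩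
    let ι : PrimeSpectrum.zeroLocus (R := R) (J : Set R) → PrimeSpectrum.zeroLocus (R := R) (I : Set R) :=
      fun q => ⟨q.1, fun a ha => q.2 (hIJ ha)⟩
    have hι : StrictMono ι := fun a b hab => hab
    let l' := l.map ι hι
    have hp' : p' < l'.head := by
      change p' < ι l.head
      exact hpq
    have h1 := Order.LTSeries.length_le_krullDim (l'.cons p' hp')
    have h2 : ((l'.cons p' hp').length : WithBot ℕ∞) ≤ ((n + 1 : ℕ) : WithBot ℕ∞) := h1.trans hI
    have h3 : (l'.cons p' hp').length = l.length + 1 := by simp [l']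
    rw [h3] at h2
    have h4 : l.length + 1 ≤ n + 1 := by exact_mod_cast h2
    exact_mod_cast Nat.le_of_succ_le_succ h4

end Drop

section Cut

variable {k : Type u} [Field k] {R : Type u} [CommRing R] [Algebra k R]
  (𝒜 : ℤ → Submodule k R) [GradedAlgebra 𝒜]

/-- Starting from homogeneous elements of positive degree cutting out a locus of dimension `≤ n`,
at most `n` further homogeneous elements of positive degree cut the dimension down to `≤ 0`. -/
theorem exists_finset_dim_zero (hpos : ∀ n : ℤ, n < 0 → 𝒜 n = ⊥)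
    (h0 : 𝒜 0 = Submodule.span k {(1 : R)}) [Algebra.FiniteType k R] :
    ∀ (n : ℕ) (s : Finset R), (∀ x ∈ s, ∃ d : ℤ, 0 < d ∧ x ∈ 𝒜 d) →
      ringKrullDim (R ⧸ Ideal.span (s : Set R)) ≤ (n : WithBot ℕ∞) →
      ∃ s' : Finset R, s'.card ≤ s.card + n ∧ (∀ x ∈ s', ∃ d : ℤ, 0 < d ∧ x ∈ 𝒜 d) ∧
        ringKrullDim (R ⧸ Ideal.span (s' : Set R)) ≤ 0 := by
  classical
  haveI : IsNoetherianRing R := Algebra.FiniteType.isNoetherianRing k R
  intro n
  induction n with
  | zero =>
    intro s hs hdim
    exact ⟨s, by simp, hs, by exact_mod_cast hdim⟩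
  | succ n ih =>
    intro s hs hdim
    set I : Ideal R := Ideal.span (s : Set R) with hI
    have hfin : (I.minimalPrimes).Finite := Ideal.finite_minimalPrimes_of_isNoetherianRing R I
    let P : Finset (Ideal R) := hfin.toFinset.filter (fun p => ¬ p.IsMaximal)
    have hP : ∀ p ∈ P, p.IsPrime ∧ ¬ irr 𝒜 ≤ p := by
      intro p hp
      rw [Finset.mem_filter, Set.Finite.mem_toFinset] at hp
      haveI : p.IsPrime := hp.1.1.1
      exact ⟨hp.1.1.1, fun hle => hp.2 (isMaximal_of_irr_le 𝒜 hpos h0 p hle)⟩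
    obtain ⟨d, x, hd, hxd, hxP⟩ := exists_homogeneous_notMem 𝒜 hpos P hP
    have hspan : Ideal.span ((insert x s : Finset R) : Set R) = Ideal.span {x} ⊔ I := by
      rw [Finset.coe_insert, Ideal.span_insert]
    have hle : I ≤ Ideal.span ((insert x s : Finset R) : Set R) := by
      rw [hspan]; exact le_sup_right
    have hxmem : x ∈ Ideal.span ((insert x s : Finset R) : Set R) :=
      Ideal.subset_span (by simp)
    have hdrop : ringKrullDim (R ⧸ Ideal.span ((insert x s : Finset R) : Set R)) ≤
        (n : WithBot ℕ∞) := by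
      refine ringKrullDim_quotient_le_of_drop I _ hle n hdim ?_
      intro q hq hJq
      haveI := hq
      obtain ⟨p, hpmin, hpq⟩ := Ideal.exists_minimalPrimes_le (hle.trans hJq)
      by_cases hpmax : p.IsMaximal
      · left
        have : p = q := hpmax.eq_of_le hq.ne_top hpq
        rw [← this]
        exact hpmax
      · right
        refine ⟨p, hpmin.1.1, hpmin.1.2, lt_of_le_of_ne hpq ?_⟩
        intro hpq'
        have hpP : p ∈ P := by
          rw [Finset.mem_filter, Set.Finite.mem_toFinset]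
          exact ⟨hpmin, hpmax⟩
        apply hxP p hpP
        rw [hpq']
        exact hJq hxmem
    have hs' : ∀ y ∈ insert x s, ∃ d : ℤ, 0 < d ∧ y ∈ 𝒜 d := by
      intro y hy
      rcases Finset.mem_insert.mp hy with rfl | hy
      · exact ⟨d, hd, hxd⟩
      · exact hs y hy
    obtain ⟨s', hcard, hs'deg, hs'dim⟩ := ih (insert x s) hs' hdrop
    refine ⟨s', ?_, hs'deg, hs'dim⟩
    have := Finset.card_insert_le x s
    omega

/-- A graded algebra of finite type over a field `k = 𝒜 0`, of dimension `r`, has at most `r`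
homogeneous elements of positive degree cutting out a locus of dimension `≤ 0`. -/
theorem exists_finset_dim_zero' (hpos : ∀ n : ℤ, n < 0 → 𝒜 n = ⊥)
    (h0 : 𝒜 0 = Submodule.span k {(1 : R)}) [Algebra.FiniteType k R] (r : ℕ)
    (hr : ringKrullDim R = r) :
    ∃ s : Finset R, s.card ≤ r ∧ (∀ x ∈ s, ∃ d : ℤ, 0 < d ∧ x ∈ 𝒜 d) ∧
      ringKrullDim (R ⧸ Ideal.span (s : Set R)) ≤ 0 := by
  have h1 : ringKrullDim (R ⧸ Ideal.span ((∅ : Finset R) : Set R)) ≤ (r : WithBot ℕ∞) := by
    rw [Finset.coe_empty, Ideal.span_empty, ← hr]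
    exact (ringKrullDim_eq_of_ringEquiv (RingEquiv.quotientBot R)).le
  obtain ⟨s, hcard, hs, hdim⟩ := exists_finset_dim_zero 𝒜 hpos h0 r ∅ (by simp) h1
  exact ⟨s, by simpa using hcard, hs, hdim⟩

end Cut

end Groth.Agent.Lib.Helper87
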