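import Groth.Agent.Lib.Helper87.GrNoeth2
import Mathlib.RingTheory.IntegralClosure.IsIntegralClosure.Basic
import Mathlib.RingTheory.MvPolynomial.Basic
import Mathlib.RingTheory.Adjoin.Polynomial.Basic

/-!
# Graded Noether normalisation III: graded Nakayama (helper87)

If homogeneous elements `y i` of positive degree generate an ideal with finite-dimensional quotient,
then `R` is finite, hence integral, over `k[y]`.
-/

set_option autoImplicit false
universe u

namespace Groth.Agent.Lib.Helper87

open DirectSum

section Nak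

variable {k : Type u} [Field k] {R : Type u} [CommRing R] [Algebra k R]
  (𝒜 : ℤ → Submodule k R) [GradedAlgebra 𝒜]

/-- graded Nakayama: finiteness over the subalgebra generated by a homogeneous family of positive
degrees whose ideal has a finite-dimensional quotient -/
theorem finite_adjoin_of_finite_quotient (hpos : ∀ n : ℤ, n < 0 → 𝒜 n = ⊥)
    {ι : Type*} [Fintype ι] (y : ι → R) (d : ι → ℤ) (hd : ∀ i, 0 < d i)
    (hy : ∀ i, y i ∈ 𝒜 (d i))
    (hfin : Module.Finite k (R ⧸ Ideal.span (Set.range y))) :
    Module.Finite (Algebra.adjoin k (Set.range y)) R := by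
  classical
  set J : Ideal R := Ideal.span (Set.range y) with hJ
  set A : Subalgebra k R := Algebra.adjoin k (Set.range y) with hA
  -- lifts of a spanning set of the quotient
  obtain ⟨S₀, hS₀⟩ := hfin.fg_top
  have hlift : ∀ q : R ⧸ J, ∃ v : R, Ideal.Quotient.mk J v = q := Ideal.Quotient.mk_surjective
  choose lift hliftq using hlift
  let V₀ : Finset R := S₀.image lift
  let V : Finset R := V₀.biUnion fun v => (decompose 𝒜 v).support.image fun n => (decompose 𝒜 v n : R)
  let F : Submodule A R := Submodule.span A (V : Set R)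
  have hyA : ∀ i, y i ∈ A := fun i => Algebra.subset_adjoin ⟨i, rfl⟩
  have hmulF : ∀ i, ∀ z ∈ F, z * y i ∈ F := by
    intro i z hz
    have : z * y i = (⟨y i, hyA i⟩ : A) • z := by rw [mul_comm]; rfl
    rw [this]
    exact F.smul_mem _ hz
  -- components of elements of `span k V₀` lie in `F`
  have hcomp : ∀ g ∈ Submodule.span k (V₀ : Set R), ∀ n : ℤ, (decompose 𝒜 g n : R) ∈ F := by
    intro g hg n
    induction hg using Submodule.span_induction with
    | mem v hv =>
      by_cases hn : n ∈ (decompose 𝒜 v).support
      · apply Submodule.subset_span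
        rw [Finset.mem_coe, Finset.mem_biUnion]
        exact ⟨v, hv, Finset.mem_image.mpr ⟨n, hn, rfl⟩⟩
      · rw [DFinsupp.mem_support_iff, not_not] at hn
        rw [hn]
        exact F.zero_mem
    | zero => rw [decompose_zero]; exact F.zero_mem
    | add g g' _ _ hg hg' =>
      rw [decompose_add, DirectSum.add_apply, Submodule.coe_add]
      exact F.add_mem hg hg'
    | smul c g _ hg =>
      rw [decompose_smul, DirectSum.smul_apply, Submodule.coe_smul]
      exact Submodule.smul_of_tower_mem F c hg
  -- every homogeneous element lies in `F`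
  have hhom : ∀ N : ℕ, ∀ n : ℤ, n < N → ∀ f ∈ 𝒜 n, f ∈ F := by
    intro N
    induction N with
    | zero =>
      intro n hn f hf
      rw [hpos n (by exact_mod_cast hn), Submodule.mem_bot] at hf
      rw [hf]
      exact F.zero_mem
    | succ N ih =>
      intro n hn f hf
      -- f = g + j with g in span k V₀ and j ∈ J
      have h1 : Ideal.Quotient.mk J f ∈ Submodule.span k ((S₀ : Set (R ⧸ J))) := by
        rw [hS₀]; exact Submodule.mem_top
      have h2 : (S₀ : Set (R ⧸ J)) = (Ideal.Quotient.mkₐ k J).toLinearMap '' (V₀ : Set R) := by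
        ext q
        simp only [Finset.mem_coe, Set.mem_image, V₀, Finset.mem_image]
        constructor
        · intro hq
          exact ⟨lift q, ⟨q, hq, rfl⟩, hliftq q⟩
        · rintro ⟨v, ⟨q', hq', rfl⟩, rfl⟩
          change Ideal.Quotient.mk J (lift q') ∈ S₀
          rw [hliftq q']
          exact hq'
      rw [h2, ← Submodule.map_span] at h1
      obtain ⟨g, hg, hgf⟩ := h1
      have hfg : f - g ∈ J := by
        rw [← Ideal.Quotient.eq]
        exact hgf.symm
      obtain ⟨h, hh⟩ := Ideal.mem_span_range_iff_exists_fun.mp hfg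
      have hf_eq : f = g + ∑ i, h i * y i := by rw [hh]; ring
      have hfn : (decompose 𝒜 f n : R) = f := decompose_of_mem_same 𝒜 hf
      rw [← hfn, hf_eq, decompose_add, DirectSum.add_apply, Submodule.coe_add, decompose_sum,
        DFinsupp.finsetSum_apply, AddSubmonoidClass.coe_finsetSum]
      refine F.add_mem (hcomp g hg n) (F.sum_mem fun i _ => ?_)
      have h3 := coe_decompose_mul_add_of_right_mem 𝒜 (a := h i) (i := n - d i) (hy i)
      rw [sub_add_cancel] at h3
      rw [h3]
      refine hmulF i _ (ih (n - d i) ?_ _ (SetLike.coe_mem _))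
      have := hd i
      push_cast at hn
      omega
  have hall : ∀ f : R, f ∈ F := by
    intro f
    rw [← DirectSum.sum_support_decompose 𝒜 f]
    refine F.sum_mem fun n _ => ?_
    exact hhom (n.toNat + 1) n (by push_cast; omega) _ (SetLike.coe_mem _)
  exact ⟨⟨V, eq_top_iff.mpr fun f _ => hall f⟩⟩

/-- graded Nakayama, integrality form -/
theorem isIntegral_aeval_of_finite_quotient (hpos : ∀ n : ℤ, n < 0 → 𝒜 n = ⊥)
    {ι : Type*} [Fintype ι] (y : ι → R) (d : ι → ℤ) (hd : ∀ i, 0 < d i)
    (hy : ∀ i, y i ∈ 𝒜 (d i))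
    (hfin : Module.Finite k (R ⧸ Ideal.span (Set.range y))) :
    (MvPolynomial.aeval y : MvPolynomial ι k →ₐ[k] R).toRingHom.IsIntegral := by
  haveI := finite_adjoin_of_finite_quotient 𝒜 hpos y d hd hy hfin
  have h1 : (algebraMap (Algebra.adjoin k (Set.range y)) R).IsIntegral :=
    (Algebra.IsIntegral.of_finite (Algebra.adjoin k (Set.range y)) R).isIntegral
  -- `aeval y` factors through the adjoin
  have hrange : ∀ p : MvPolynomial ι k, MvPolynomial.aeval y p ∈ Algebra.adjoin k (Set.range y) := by
    intro p
    rw [Algebra.adjoin_range_eq_range_aeval]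
    exact ⟨p, rfl⟩
  let φ : MvPolynomial ι k →ₐ[k] Algebra.adjoin k (Set.range y) :=
    (MvPolynomial.aeval y).codRestrict _ hrange
  have hφsurj : Function.Surjective φ := by
    rintro ⟨a, ha⟩
    rw [Algebra.adjoin_range_eq_range_aeval] at ha
    obtain ⟨p, hp⟩ := ha
    exact ⟨p, Subtype.ext hp⟩
  have h2 : φ.toRingHom.IsIntegral := RingHom.isIntegral_of_surjective _ hφsurj
  have h3 : (MvPolynomial.aeval y : MvPolynomial ι k →ₐ[k] R).toRingHom =
      (algebraMap (Algebra.adjoin k (Set.range y)) R).comp φ.toRingHom := by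
    ext p <;> rfl
  rw [h3]
  exact RingHom.IsIntegral.trans _ _ h2 h1

end Nak

end Groth.Agent.Lib.Helper87
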