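import Groth.Agent.Lib.Helper87.GrNoeth4

/-!
# Graded Noether normalisation relative to an ideal, I: cutting down (helper87)
-/

set_option autoImplicit false
universe u

namespace Groth.Agent.Lib.Helper87

open DirectSum

section CutRel

variable {k : Type u} [Field k] {R : Type u} [CommRing R] [Algebra k R]
  (𝒜 : ℤ → Submodule k R) [GradedAlgebra 𝒜]

/-- relative version of `exists_finset_dim_zero`: cutting `V(I₀)` down to dimension `≤ 0` -/
theorem exists_finset_dim_zero_rel (hpos : ∀ n : ℤ, n < 0 → 𝒜 n = ⊥)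
    (h0 : 𝒜 0 = Submodule.span k {(1 : R)}) [Algebra.FiniteType k R] (I₀ : Ideal R) :
    ∀ (n : ℕ) (s : Finset R), (∀ x ∈ s, ∃ d : ℤ, 0 < d ∧ x ∈ 𝒜 d) →
      ringKrullDim (R ⧸ (I₀ ⊔ Ideal.span (s : Set R))) ≤ (n : WithBot ℕ∞) →
      ∃ s' : Finset R, s'.card ≤ s.card + n ∧ (∀ x ∈ s', ∃ d : ℤ, 0 < d ∧ x ∈ 𝒜 d) ∧
        ringKrullDim (R ⧸ (I₀ ⊔ Ideal.span (s' : Set R))) ≤ 0 := by
  classical
  haveI : IsNoetherianRing R := Algebra.FiniteType.isNoetherianRing k R
  intro n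
  induction n with
  | zero =>
    intro s hs hdim
    exact ⟨s, by simp, hs, by exact_mod_cast hdim⟩
  | succ n ih =>
    intro s hs hdim
    set I : Ideal R := I₀ ⊔ Ideal.span (s : Set R) with hI
    have hfin : (I.minimalPrimes).Finite := Ideal.finite_minimalPrimes_of_isNoetherianRing R I
    let P : Finset (Ideal R) := hfin.toFinset.filter (fun p => ¬ p.IsMaximal)
    have hP : ∀ p ∈ P, p.IsPrime ∧ ¬ irr 𝒜 ≤ p := by
      intro p hp
      rw [Finset.mem_filter, Set.Finite.mem_toFinset] at hp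
      haveI : p.IsPrime := hp.1.1.1
      exact ⟨hp.1.1.1, fun hle => hp.2 (isMaximal_of_irr_le 𝒜 hpos h0 p hle)⟩
    obtain ⟨d, x, hd, hxd, hxP⟩ := exists_homogeneous_notMem 𝒜 hpos P hP
    have hspan : I₀ ⊔ Ideal.span ((insert x s : Finset R) : Set R) = Ideal.span {x} ⊔ I := by
      rw [Finset.coe_insert, Ideal.span_insert, hI, ← sup_assoc, ← sup_assoc,
        sup_comm I₀ (Ideal.span {x})]
    have hle : I ≤ I₀ ⊔ Ideal.span ((insert x s : Finset R) : Set R) := by
      rw [hspan]; exact le_sup_right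
    have hxmem : x ∈ I₀ ⊔ Ideal.span ((insert x s : Finset R) : Set R) :=
      (le_sup_right : Ideal.span ((insert x s : Finset R) : Set R) ≤ _)
        (Ideal.subset_span (by simp))
    have hdrop : ringKrullDim (R ⧸ (I₀ ⊔ Ideal.span ((insert x s : Finset R) : Set R))) ≤
        (n : WithBot ℕ∞) := by
      refine ringKrullDim_quotient_le_of_drop I _ hle n hdim ?_
      intro q hq hJq
      haveI := hq
      obtain ⟨p, hpmin, hpq⟩ := Ideal.exists_minimalPrimes_le (hle.trans hJq)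
      by_cases hpmax : p.IsMaximal
      · left
        have : p = q := hpmax.eq_of_le hq.ne_top hpq
        rw [← this]
        exact hpmax
      · right
        refine ⟨p, hpmin.1.1, hpmin.1.2, lt_of_le_of_ne hpq ?_⟩
        intro hpq'
        have hpP : p ∈ P := by
          rw [Finset.mem_filter, Set.Finite.mem_toFinset]
          exact ⟨hpmin, hpmax⟩
        apply hxP p hpP
        rw [hpq']
        exact hJq hxmem
    have hs' : ∀ y ∈ insert x s, ∃ d : ℤ, 0 < d ∧ y ∈ 𝒜 d := by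
      intro y hy
      rcases Finset.mem_insert.mp hy with rfl | hy
      · exact ⟨d, hd, hxd⟩
      · exact hs y hy
    obtain ⟨s', hcard, hs'deg, hs'dim⟩ := ih (insert x s) hs' hdrop
    refine ⟨s', ?_, hs'deg, hs'dim⟩
    have := Finset.card_insert_le x s
    omega

theorem exists_finset_dim_zero_rel' (hpos : ∀ n : ℤ, n < 0 → 𝒜 n = ⊥)
    (h0 : 𝒜 0 = Submodule.span k {(1 : R)}) [Algebra.FiniteType k R] (I₀ : Ideal R) (r : ℕ)
    (hr : ringKrullDim (R ⧸ I₀) = r) :
    ∃ s : Finset R, s.card ≤ r ∧ (∀ x ∈ s, ∃ d : ℤ, 0 < d ∧ x ∈ 𝒜 d) ∧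
      ringKrullDim (R ⧸ (I₀ ⊔ Ideal.span (s : Set R))) ≤ 0 := by
  have h1 : ringKrullDim (R ⧸ (I₀ ⊔ Ideal.span ((∅ : Finset R) : Set R))) ≤ (r : WithBot ℕ∞) := by
    rw [Finset.coe_empty, Ideal.span_empty, sup_bot_eq, hr]
  obtain ⟨s, hcard, hs, hdim⟩ := exists_finset_dim_zero_rel 𝒜 hpos h0 I₀ r ∅ (by simp) h1
  exact ⟨s, by simpa using hcard, hs, hdim⟩

end CutRel

end Groth.Agent.Lib.Helper87
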