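import Groth.Agent.Lib.Helper87.GrNoethRel1

/-!
# Graded Noether normalisation relative to a homogeneous ideal, II (helper87)
-/

set_option autoImplicit false
universe u

namespace Groth.Agent.Lib.Helper87

open DirectSum

section Gen

variable {k : Type u} [Field k] {R : Type u} [CommRing R] [Algebra k R]

/-- finiteness over the adjoin gives integrality of `aeval` -/
theorem isIntegral_aeval_of_finite_adjoin {ι : Type*} (y : ι → R)
    [Module.Finite (Algebra.adjoin k (Set.range y)) R] :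
    (MvPolynomial.aeval y : MvPolynomial ι k →ₐ[k] R).toRingHom.IsIntegral := by
  have h1 : (algebraMap (Algebra.adjoin k (Set.range y)) R).IsIntegral :=
    (Algebra.IsIntegral.of_finite (Algebra.adjoin k (Set.range y)) R).isIntegral
  have hrange : ∀ p : MvPolynomial ι k, MvPolynomial.aeval y p ∈ Algebra.adjoin k (Set.range y) := by
    intro p
    rw [Algebra.adjoin_range_eq_range_aeval]
    exact ⟨p, rfl⟩
  let φ : MvPolynomial ι k →ₐ[k] Algebra.adjoin k (Set.range y) :=
    (MvPolynomial.aeval y).codRestrict _ hrange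
  have hφsurj : Function.Surjective φ := by
    rintro ⟨a, ha⟩
    rw [Algebra.adjoin_range_eq_range_aeval] at ha
    obtain ⟨p, hp⟩ := ha
    exact ⟨p, Subtype.ext hp⟩
  have h2 : φ.toRingHom.IsIntegral := RingHom.isIntegral_of_surjective _ hφsurj
  have h3 : (MvPolynomial.aeval y : MvPolynomial ι k →ₐ[k] R).toRingHom =
      (algebraMap (Algebra.adjoin k (Set.range y)) R).comp φ.toRingHom := by
    ext p <;> rfl
  rw [h3]
  exact RingHom.IsIntegral.trans _ _ h2 h1

end Gen

section NakRel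

variable {k : Type u} [Field k] {R : Type u} [CommRing R] [Algebra k R]
  (𝒜 : ℤ → Submodule k R) [GradedAlgebra 𝒜]

/-- graded Nakayama modulo a homogeneous ideal -/
theorem finite_adjoin_mk_of_finite_quotient (hpos : ∀ n : ℤ, n < 0 → 𝒜 n = ⊥) (I₀ : Ideal R)
    (hI₀ : ∀ f ∈ I₀, ∀ n : ℤ, (decompose 𝒜 f n : R) ∈ I₀)
    {ι : Type*} [Fintype ι] (y : ι → R) (d : ι → ℤ) (hd : ∀ i, 0 < d i)
    (hy : ∀ i, y i ∈ 𝒜 (d i))
    (hfin : Module.Finite k (R ⧸ (I₀ ⊔ Ideal.span (Set.range y)))) :
    Module.Finite (Algebra.adjoin k (Set.range fun i => Ideal.Quotient.mk I₀ (y i))) (R ⧸ I₀) := by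
  classical
  set J : Ideal R := I₀ ⊔ Ideal.span (Set.range y) with hJ
  set A : Subalgebra k (R ⧸ I₀) :=
    Algebra.adjoin k (Set.range fun i => Ideal.Quotient.mk I₀ (y i)) with hA
  obtain ⟨S₀, hS₀⟩ := hfin.fg_top
  have hlift : ∀ q : R ⧸ J, ∃ v : R, Ideal.Quotient.mk J v = q := Ideal.Quotient.mk_surjective
  choose lift hliftq using hlift
  let V₀ : Finset R := S₀.image lift
  let V : Finset R := V₀.biUnion fun v => (decompose 𝒜 v).support.image fun n => (decompose 𝒜 v n : R)
  let F : Submodule A (R ⧸ I₀) := Submodule.span A ((V.image (Ideal.Quotient.mk I₀) : Finset (R ⧸ I₀)) : Set (R ⧸ I₀))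
  have hyA : ∀ i, Ideal.Quotient.mk I₀ (y i) ∈ A := fun i => Algebra.subset_adjoin ⟨i, rfl⟩
  have hmulF : ∀ i, ∀ z ∈ F, z * Ideal.Quotient.mk I₀ (y i) ∈ F := by
    intro i z hz
    have : z * Ideal.Quotient.mk I₀ (y i) = (⟨Ideal.Quotient.mk I₀ (y i), hyA i⟩ : A) • z := by
      rw [mul_comm]; rfl
    rw [this]
    exact F.smul_mem _ hz
  have hcomp : ∀ g ∈ Submodule.span k (V₀ : Set R), ∀ n : ℤ,
      Ideal.Quotient.mk I₀ (decompose 𝒜 g n : R) ∈ F := by
    intro g hg n
    induction hg using Submodule.span_induction with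
    | mem v hv =>
      by_cases hn : n ∈ (decompose 𝒜 v).support
      · apply Submodule.subset_span
        rw [Finset.mem_coe, Finset.mem_image]
        refine ⟨(decompose 𝒜 v n : R), ?_, rfl⟩
        rw [Finset.mem_biUnion]
        exact ⟨v, hv, Finset.mem_image.mpr ⟨n, hn, rfl⟩⟩
      · rw [DFinsupp.mem_support_iff, not_not] at hn
        rw [hn]
        simp only [ZeroMemClass.coe_zero, map_zero]
        exact F.zero_mem
    | zero => rw [decompose_zero]; simp only [DirectSum.zero_apply, ZeroMemClass.coe_zero, map_zero]; exact F.zero_mem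
    | add g g' _ _ hg hg' =>
      rw [decompose_add, DirectSum.add_apply, Submodule.coe_add, map_add]
      exact F.add_mem hg hg'
    | smul c g _ hg =>
      rw [decompose_smul, DirectSum.smul_apply, Submodule.coe_smul]
      have : Ideal.Quotient.mk I₀ (c • (decompose 𝒜 g n : R)) =
          c • Ideal.Quotient.mk I₀ (decompose 𝒜 g n : R) := by
        rw [Algebra.smul_def, Algebra.smul_def, map_mul]; rfl
      rw [this]
      exact Submodule.smul_of_tower_mem F c hg
  have hhom : ∀ N : ℕ, ∀ n : ℤ, n < N → ∀ f ∈ 𝒜 n, Ideal.Quotient.mk I₀ f ∈ F := by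
    intro N
    induction N with
    | zero =>
      intro n hn f hf
      rw [hpos n (by exact_mod_cast hn), Submodule.mem_bot] at hf
      rw [hf, map_zero]
      exact F.zero_mem
    | succ N ih =>
      intro n hn f hf
      have h1 : Ideal.Quotient.mk J f ∈ Submodule.span k ((S₀ : Set (R ⧸ J))) := by
        rw [hS₀]; exact Submodule.mem_top
      have h2 : (S₀ : Set (R ⧸ J)) = (Ideal.Quotient.mkₐ k J).toLinearMap '' (V₀ : Set R) := by
        ext q
        simp only [Finset.mem_coe, Set.mem_image, V₀, Finset.mem_image]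
        constructor
        · intro hq
          exact ⟨lift q, ⟨q, hq, rfl⟩, hliftq q⟩
        · rintro ⟨v, ⟨q', hq', rfl⟩, rfl⟩
          change Ideal.Quotient.mk J (lift q') ∈ S₀
          rw [hliftq q']
          exact hq'
      rw [h2, ← Submodule.map_span] at h1
      obtain ⟨g, hg, hgf⟩ := h1
      have hfg : f - g ∈ J := by
        rw [← Ideal.Quotient.eq]
        exact hgf.symm
      obtain ⟨i₀, hi₀, j, hj, hij⟩ := Submodule.mem_sup.mp hfg
      obtain ⟨h, hh⟩ := Ideal.mem_span_range_iff_exists_fun.mp hj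
      have hf_eq : f = g + i₀ + ∑ i, h i * y i := by rw [hh, add_assoc, hij]; ring
      have hfn : (decompose 𝒜 f n : R) = f := decompose_of_mem_same 𝒜 hf
      rw [← hfn, hf_eq, decompose_add, decompose_add, DirectSum.add_apply, DirectSum.add_apply,
        Submodule.coe_add, Submodule.coe_add, decompose_sum,
        DFinsupp.finsetSum_apply, AddSubmonoidClass.coe_finsetSum, map_add, map_add, map_sum]
      have hi₀n : Ideal.Quotient.mk I₀ (decompose 𝒜 i₀ n : R) = 0 :=
        Ideal.Quotient.eq_zero_iff_mem.mpr (hI₀ i₀ hi₀ n)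
      rw [hi₀n, add_zero]
      refine F.add_mem (hcomp g hg n) (F.sum_mem fun i _ => ?_)
      have h3 := coe_decompose_mul_add_of_right_mem 𝒜 (a := h i) (i := n - d i) (hy i)
      rw [sub_add_cancel] at h3
      rw [h3, map_mul]
      refine hmulF i _ (ih (n - d i) ?_ _ (SetLike.coe_mem _))
      have := hd i
      push_cast at hn
      omega
  have hall : ∀ f : R ⧸ I₀, f ∈ F := by
    intro f
    obtain ⟨f, rfl⟩ := Ideal.Quotient.mk_surjective f
    rw [← DirectSum.sum_support_decompose 𝒜 f, map_sum]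
    refine F.sum_mem fun n _ => ?_
    exact hhom (n.toNat + 1) n (by push_cast; omega) _ (SetLike.coe_mem _)
  exact ⟨⟨V.image (Ideal.Quotient.mk I₀), eq_top_iff.mpr fun f _ => hall f⟩⟩

/-- **Graded Noether normalisation modulo a homogeneous ideal** `I₀` with `dim R/I₀ = r`. -/
theorem exists_homogeneous_noether_rel (hpos : ∀ n : ℤ, n < 0 → 𝒜 n = ⊥)
    (h0 : 𝒜 0 = Submodule.span k {(1 : R)}) [Algebra.FiniteType k R] (I₀ : Ideal R)
    (hI₀ : ∀ f ∈ I₀, ∀ n : ℤ, (decompose 𝒜 f n : R) ∈ I₀) (r : ℕ)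
    (hr : ringKrullDim (R ⧸ I₀) = r) :
    ∃ D₀ : ℕ, 0 < D₀ ∧ ∀ D : ℕ, 0 < D → D₀ ∣ D → ∃ y : Fin r → R,
      (∀ i, y i ∈ 𝒜 (D : ℤ)) ∧
      AlgebraicIndependent k (fun i => Ideal.Quotient.mk I₀ (y i)) ∧
      (MvPolynomial.aeval (fun i => Ideal.Quotient.mk I₀ (y i)) :
        MvPolynomial (Fin r) k →ₐ[k] R ⧸ I₀).toRingHom.IsIntegral := by
  classical
  obtain ⟨s, hcard, hs, hdim⟩ := exists_finset_dim_zero_rel' 𝒜 hpos h0 I₀ r hr
  choose! deg hdegpos hdegmem using hs
  refine ⟨∏ x ∈ s, (deg x).toNat, Finset.prod_pos fun x hx => ?_, ?_⟩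
  · have := hdegpos x hx
    omega
  intro D hD hdvd
  have hdvd' : ∀ x ∈ s, (deg x).toNat ∣ D := fun x hx => (Finset.dvd_prod_of_mem _ hx).trans hdvd
  let e : R → ℕ := fun x => D / (deg x).toNat
  have he : ∀ x ∈ s, e x * (deg x).toNat = D := fun x hx => Nat.div_mul_cancel (hdvd' x hx)
  have hepos : ∀ x ∈ s, 0 < e x := by
    intro x hx
    rcases Nat.eq_zero_or_pos (e x) with h | h
    · have := he x hx
      rw [h, zero_mul] at this
      omega
    · exact h
  let y : s → R := fun x => x.1 ^ e x.1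
  have hy : ∀ x : s, y x ∈ 𝒜 (D : ℤ) := by
    intro x
    have h1 := SetLike.pow_mem_graded (e x.1) (hdegmem x.1 x.2)
    have h2 : e x.1 • deg x.1 = (D : ℤ) := by
      rw [nsmul_eq_mul, ← he x.1 x.2]
      have := hdegpos x.1 x.2
      push_cast
      rw [Int.toNat_of_nonneg this.le]
    rw [h2] at h1
    exact h1
  have hzl : PrimeSpectrum.zeroLocus (R := R)
      ((I₀ ⊔ Ideal.span (Set.range y) : Ideal R) : Set R) =
      PrimeSpectrum.zeroLocus ((I₀ ⊔ Ideal.span (s : Set R) : Ideal R) : Set R) := by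
    ext q
    simp only [PrimeSpectrum.mem_zeroLocus, SetLike.coe_subset_coe, sup_le_iff, Ideal.span_le]
    refine and_congr_right fun _ => ?_
    constructor
    · intro h x hx
      have : y ⟨x, hx⟩ ∈ q.asIdeal := h ⟨⟨x, hx⟩, rfl⟩
      exact q.2.mem_of_pow_mem _ this
    · rintro h _ ⟨x, rfl⟩
      exact Ideal.pow_mem_of_mem _ (h x.2) _ (hepos x.1 x.2)
  have hdim' : ringKrullDim (R ⧸ (I₀ ⊔ Ideal.span (Set.range y))) ≤ 0 := by
    rw [ringKrullDim_quotient] at hdim ⊢
    rw [hzl]
    exact hdim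
  haveI : Algebra.FiniteType k (R ⧸ (I₀ ⊔ Ideal.span (Set.range y))) :=
    Algebra.FiniteType.of_surjective (Ideal.Quotient.mkₐ k _) (Ideal.Quotient.mkₐ_surjective k _)
  have hfin : Module.Finite k (R ⧸ (I₀ ⊔ Ideal.span (Set.range y))) := by
    rw [Module.finite_iff_krullDimLE_zero, Ring.krullDimLE_iff]
    exact_mod_cast hdim'
  haveI := finite_adjoin_mk_of_finite_quotient 𝒜 hpos I₀ hI₀ y (fun _ => (D : ℤ))
    (fun _ => by exact_mod_cast hD) hy hfin
  have hint := isIntegral_aeval_of_finite_adjoin (k := k) (fun i => Ideal.Quotient.mk I₀ (y i))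
  have hcs : Fintype.card s ≤ r := by rw [Fintype.card_coe]; exact hcard
  obtain ⟨hcard', hinj⟩ := injective_aeval_of_isIntegral_of_card_le
    (fun i => Ideal.Quotient.mk I₀ (y i)) r hr hcs hint
  let ε : Fin r ≃ s := (Fintype.equivFinOfCardEq hcard').symm
  refine ⟨y ∘ ε, fun i => hy (ε i), ?_, ?_⟩
  · have hyind : AlgebraicIndependent k (fun i => Ideal.Quotient.mk I₀ (y i)) := hinj
    exact hyind.comp ε ε.injective
  · have h1 : (MvPolynomial.aeval (fun i => Ideal.Quotient.mk I₀ ((y ∘ ε) i)) :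
          MvPolynomial (Fin r) k →ₐ[k] R ⧸ I₀).toRingHom =
        (MvPolynomial.aeval (fun i => Ideal.Quotient.mk I₀ (y i)) :
          MvPolynomial s k →ₐ[k] R ⧸ I₀).toRingHom.comp
          (MvPolynomial.rename ε : MvPolynomial (Fin r) k →ₐ[k] MvPolynomial s k).toRingHom := by
      ext i
      · simp
      · simp
    rw [h1]
    exact RingHom.IsIntegral.trans _ _
      (RingHom.isIntegral_of_surjective _ (MvPolynomial.rename_surjective _ ε.surjective)) hint

end NakRel

end Groth.Agent.Lib.Helper87
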