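import Mathlib

set_option autoImplicit false

namespace Groth.Agent.Lib.Helper87

open HomogeneousLocalization

universe u v

section

variable {R : Type u} {A : Type v} [CommRing R] [CommRing A] [Algebra R A]
    (𝒜 : ℕ → Submodule R A) [GradedAlgebra 𝒜]

lemma monomial_mem_graded {n : ℕ} (σ : Fin n → A) (hσ : ∀ i, σ i ∈ 𝒜 1) (E : Fin n → ℕ) :
    ∏ j, σ j ^ E j ∈ 𝒜 (∑ j, E j) := by
  have := SetLike.prod_pow_mem_graded 𝒜 (fun _ => 1) σ E (F := Finset.univ) (fun k _ => hσ k)
  simpa using this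

theorem adjoin_away_prod_pow_eq_top
    {n : ℕ} (σ : Fin n → A) (hσ : ∀ i, σ i ∈ 𝒜 1) {s : ℕ} (hs : 0 < s)
    (hgen : ∀ i, Algebra.adjoin (𝒜 0)
      {z : HomogeneousLocalization.Away 𝒜 (σ i) |
        ∃ f ∈ 𝒜 s, z.val = Localization.mk f
          ⟨σ i ^ s, Submonoid.pow_mem _ (Submonoid.mem_powers (σ i)) s⟩} = ⊤)
    (K : Fin n → ℕ) (hK : ∑ i, K i = s) :
    Algebra.adjoin (𝒜 0)
      {z : HomogeneousLocalization.Away 𝒜 (∏ i, σ i ^ K i) |
        ∃ f ∈ 𝒜 s, z.val = Localization.mk f ⟨∏ i, σ i ^ K i, Submonoid.mem_powers _⟩} = ⊤ := by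
  classical
  -- an index with positive exponent
  have hex : ∃ i₀, 0 < K i₀ := by
    by_contra hne
    push Not at hne
    have : ∑ i, K i = 0 := Finset.sum_eq_zero (fun i _ => Nat.le_zero.mp (hne i))
    omega
  obtain ⟨i₀, hi₀⟩ := hex
  let K' : Fin n → ℕ := fun j => if j = i₀ then K j - 1 else K j
  let ρ : A := ∏ j, σ j ^ K' j
  have hKK' : ∀ j, K j = K' j + (if j = i₀ then 1 else 0) := by
    intro j
    by_cases hj : j = i₀
    · have h1 : K' j = K j - 1 := if_pos hj
      rw [h1, if_pos hj]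
      subst hj
      omega
    · have h1 : K' j = K j := if_neg hj
      rw [h1, if_neg hj, add_zero]
  have hτρ : ∏ i, σ i ^ K i = σ i₀ * ρ := by
    have h1 : ∀ j, σ j ^ K j = σ j ^ K' j * (if j = i₀ then σ j else 1) := by
      intro j
      rw [hKK' j, pow_add]
      by_cases hj : j = i₀
      · simp [hj]
      · simp [hj]
    rw [Finset.prod_congr rfl fun j _ => h1 j, Finset.prod_mul_distrib, mul_comm]
    congr 1
    rw [Finset.prod_ite_eq' Finset.univ i₀ σ, if_pos (Finset.mem_univ _)]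
  have hsumK' : ∑ j, K' j + 1 = s := by
    rw [← hK, Finset.sum_congr rfl fun j _ => hKK' j, Finset.sum_add_distrib]
    simp
  have hρmem : ρ ∈ 𝒜 (s - 1) := by
    have h1 := monomial_mem_graded 𝒜 σ hσ K'
    have h2 : ∑ j, K' j = s - 1 := by omega
    rwa [h2] at h1
  have hτmem : ∏ i, σ i ^ K i ∈ 𝒜 s := by
    have h1 := monomial_mem_graded 𝒜 σ hσ K
    rwa [hK] at h1
  set τ : A := ∏ i, σ i ^ K i with hτ
  set C := Algebra.adjoin (𝒜 0)
      {z : HomogeneousLocalization.Away 𝒜 τ |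
        ∃ f ∈ 𝒜 s, z.val = Localization.mk f ⟨τ, Submonoid.mem_powers _⟩} with hC
  -- basic generators
  have hgenC : ∀ h : A, ∀ hh : h ∈ 𝒜 (1 • s), Away.mk 𝒜 hτmem 1 h hh ∈ C := by
    intro h hh
    apply Algebra.subset_adjoin
    refine ⟨h, by simpa using hh, ?_⟩
    rw [Away.val_mk]
    congr 1
    exact Subtype.ext (pow_one τ)
  have hσs : ∀ j, σ j ^ s ∈ 𝒜 (1 • s) := by
    intro j
    have := SetLike.pow_mem_graded s (hσ j)
    simpa using this
  -- the comparison map
  let φ : Away 𝒜 (σ i₀) →ₐ[𝒜 0] Away 𝒜 τ := awayMapₐ 𝒜 hρmem hτρ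
  have hφC : ∀ z : Away 𝒜 (σ i₀), φ z ∈ C := by
    intro z
    have hz : z ∈ Algebra.adjoin (𝒜 0)
      {z : HomogeneousLocalization.Away 𝒜 (σ i₀) |
        ∃ f ∈ 𝒜 s, z.val = Localization.mk f
          ⟨σ i₀ ^ s, Submonoid.pow_mem _ (Submonoid.mem_powers (σ i₀)) s⟩} := by
      rw [hgen i₀]; trivial
    induction hz using Algebra.adjoin_induction with
    | mem z hz =>
      obtain ⟨h, hh, hzval⟩ := hz
      have hh' : h ∈ 𝒜 (s • 1) := by simpa using hh
      have hzeq : z = Away.mk 𝒜 (hσ i₀) s h hh' := by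
        apply HomogeneousLocalization.val_injective
        rw [hzval, Away.val_mk]
      have hh1 : h ∈ 𝒜 (1 • s) := by simpa using hh
      have key : φ z = Away.mk 𝒜 hτmem 1 h hh1 *
          ∏ j, (Away.mk 𝒜 hτmem 1 (σ j ^ s) (hσs j)) ^ K' j := by
        rw [hzeq]
        show awayMap 𝒜 hρmem hτρ _ = _
        rw [awayMap_mk]
        apply HomogeneousLocalization.val_injective
        rw [Away.val_mk, HomogeneousLocalization.val_mul]
        have hprod : (∏ j, (Away.mk 𝒜 hτmem 1 (σ j ^ s) (hσs j)) ^ K' j).val =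
            ∏ j, ((Away.mk 𝒜 hτmem 1 (σ j ^ s) (hσs j)) ^ K' j).val :=
          map_prod (algebraMap (Away 𝒜 τ) (Localization.Away τ)) _ _
        rw [hprod]
        simp only [HomogeneousLocalization.val_pow, Away.val_mk, Localization.mk_pow,
          Localization.mk_prod, Localization.mk_mul]
        rw [Localization.mk_eq_mk_iff]
        apply Localization.r_of_eq
        simp only [Submonoid.coe_mul, SubmonoidClass.coe_pow, Submonoid.coe_finsetProd]
        have e1 : ∏ j, ((σ j ^ s) ^ K' j) = ρ ^ s := by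
          rw [← Finset.prod_pow]
          refine Finset.prod_congr rfl fun j _ => ?_
          rw [← pow_mul, ← pow_mul, mul_comm]
        have e2 : ∏ j : Fin n, ((τ ^ 1) ^ K' j) = τ ^ (s - 1) := by
          rw [Finset.prod_pow_eq_pow_sum, pow_one]
          congr 1
          omega
        rw [e1, e2]
        have e3 : τ ^ s = τ * τ ^ (s - 1) := by
          rw [← pow_succ']
          congr 1
          omega
        rw [e3]
        ring
      rw [key]
      exact C.mul_mem (hgenC h hh1)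
        (Subalgebra.prod_mem _ fun j _ => C.pow_mem (hgenC _ (hσs j)) _)
    | algebraMap r =>
      rw [AlgHom.commutes]
      exact C.algebraMap_mem r
    | add x y _ _ hx hy =>
      rw [map_add]
      exact C.add_mem hx hy
    | mul x y _ _ hx hy =>
      rw [map_mul]
      exact C.mul_mem hx hy
  -- every element
  rw [eq_top_iff]
  intro w _
  obtain ⟨m, a, ha, rfl⟩ := Away.mk_surjective 𝒜 hτmem w
  have ha' : a ∈ 𝒜 ((m * s) • 1) := by simpa [mul_comm] using ha
  have key : Away.mk 𝒜 hτmem m a ha =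
      φ (Away.mk 𝒜 (hσ i₀) (m * s) a ha') *
        (Away.mk 𝒜 hτmem 1 (σ i₀ ^ s) (hσs i₀)) ^ m := by
    show _ = awayMap 𝒜 hρmem hτρ _ * _
    rw [awayMap_mk]
    apply HomogeneousLocalization.val_injective
    rw [HomogeneousLocalization.val_mul, HomogeneousLocalization.val_pow]
    simp only [Away.val_mk, Localization.mk_pow, Localization.mk_mul]
    rw [Localization.mk_eq_mk_iff]
    apply Localization.r_of_eq
    simp only [Submonoid.coe_mul, SubmonoidClass.coe_pow]
    have e1 : τ ^ (m * s) = (σ i₀ * ρ) ^ (m * s) := by rw [← hτρ]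
    rw [pow_one, e1]
    ring
  rw [key]
  exact C.mul_mem (hφC _) (C.pow_mem (hgenC _ (hσs i₀)) _)

end

end Groth.Agent.Lib.Helper87
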