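import Mathlib

set_option autoImplicit false

namespace Groth.Agent.Lib.Helper87

open Polynomial

/-- `Φ_n` divides `∑_{j<d} X^{kj}` over `ℤ` when `n ∣ kd` and `n ∤ k`. -/
theorem cyclotomic_dvd_geom_sum_pow_int (n k d : ℕ) (hk : 0 < k) (hd : 0 < d) (h1 : n ∣ k * d)
    (h2 : ¬ n ∣ k) : cyclotomic n ℤ ∣ ∑ j ∈ Finset.range d, ((X : ℤ[X]) ^ k) ^ j := by
  have hkd : 0 < k * d := Nat.mul_pos hk hd
  have hsub : k.divisors ⊆ (k * d).divisors := Nat.divisors_subset_of_dvd hkd.ne' (dvd_mul_right k d)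
  have e1 : (∑ j ∈ Finset.range d, ((X : ℤ[X]) ^ k) ^ j) * (X ^ k - 1) = X ^ (k * d) - 1 := by
    rw [geom_sum_mul, pow_mul]
  have e2 : (X : ℤ[X]) ^ (k * d) - 1 =
      (∏ e ∈ (k * d).divisors \ k.divisors, cyclotomic e ℤ) * (X ^ k - 1) := by
    rw [← prod_cyclotomic_eq_X_pow_sub_one hkd, ← prod_cyclotomic_eq_X_pow_sub_one hk,
      Finset.prod_sdiff hsub]
  have hne : (X : ℤ[X]) ^ k - 1 ≠ 0 := by
    have := (monic_X_pow_sub_C (1 : ℤ) hk.ne').ne_zero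
    simpa using this
  have e3 : ∑ j ∈ Finset.range d, ((X : ℤ[X]) ^ k) ^ j =
      ∏ e ∈ (k * d).divisors \ k.divisors, cyclotomic e ℤ :=
    mul_right_cancel₀ hne (e1.trans e2)
  rw [e3]
  apply Finset.dvd_prod_of_mem
  rw [Finset.mem_sdiff, Nat.mem_divisors, Nat.mem_divisors]
  exact ⟨⟨h1, hkd.ne'⟩, fun h => h2 h.1⟩

/-- the same divisibility over any commutative ring. -/
theorem cyclotomic_dvd_geom_sum_pow (R : Type*) [CommRing R] (n k d : ℕ) (hk : 0 < k) (hd : 0 < d)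
    (h1 : n ∣ k * d) (h2 : ¬ n ∣ k) :
    cyclotomic n R ∣ ∑ j ∈ Finset.range d, ((X : R[X]) ^ k) ^ j := by
  have h := cyclotomic_dvd_geom_sum_pow_int n k d hk hd h1 h2
  have h' := Polynomial.map_dvd (Int.castRingHom R) h
  rw [map_cyclotomic_int] at h'
  simpa [Polynomial.map_sum, Polynomial.map_pow] using h'

/-- the element `W(u) = ∑_{j<d} ∑_{i<j} u^i`. -/
def geomW {R : Type*} [CommRing R] (u : R) (d : ℕ) : R :=
  ∑ j ∈ Finset.range d, ∑ i ∈ Finset.range j, u ^ i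

theorem one_sub_mul_geomW {R : Type*} [CommRing R] (u : R) (d : ℕ)
    (h : ∑ j ∈ Finset.range d, u ^ j = 0) : (1 - u) * geomW u d = d := by
  rw [geomW, Finset.mul_sum]
  have : ∀ j ∈ Finset.range d, (1 - u) * ∑ i ∈ Finset.range j, u ^ i = 1 - u ^ j := by
    intro j _
    exact mul_neg_geom_sum u j
  rw [Finset.sum_congr rfl this, Finset.sum_sub_distrib, h, sub_zero]
  simp

theorem geomW_map {R S : Type*} [CommRing R] [CommRing S] (φ : R →+* S) (u : R) (d : ℕ) :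
    φ (geomW u d) = geomW (φ u) d := by
  simp [geomW, map_sum, map_pow]

end Groth.Agent.Lib.Helper87
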