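import Groth.Agent.Lib.Helper87.GrpAlgCyc1
import Groth.Prelude.Def_W4c6equivkfinstabCyc

set_option autoImplicit false

namespace Groth.Agent.Lib.Helper87

open Polynomial W4c6equivkfinstab

section cyc

variable (Λ : Type*) [CommRing Λ]

/-- in the cyclotomic quotient of the group ring of a finite cyclic group, the geometric sum of a
nonzero group element vanishes. -/
theorem geom_sum_single_mem_cycIdeal (C : Type*) [AddCommGroup C] [Finite C] [IsAddCyclic C]
    (c : C) (hc : c ≠ 0) :
    ∑ j ∈ Finset.range (addOrderOf c), (AddMonoidAlgebra.single c (1 : Λ)) ^ j ∈ cycIdeal Λ C := by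
  obtain ⟨g, hg⟩ := IsAddCyclic.exists_generator (α := C)
  have hn : addOrderOf g = Nat.card C := addOrderOf_eq_card_of_forall_mem_zmultiples hg
  have htop : AddSubgroup.zmultiples g = ⊤ := by
    rw [eq_top_iff]; intro x _; exact hg x
  obtain ⟨k, hk⟩ := mem_multiples_iff_mem_zmultiples.mpr (hg c)
  have hk' : k • g = c := hk
  have hkpos : 0 < k := by
    rcases Nat.eq_zero_or_pos k with h0 | h0
    · exfalso; apply hc; rw [← hk', h0, zero_smul]
    · exact h0
  have hdpos : 0 < addOrderOf c := addOrderOf_pos c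
  have h1 : Nat.card C ∣ k * addOrderOf c := by
    rw [← hn, addOrderOf_dvd_iff_nsmul_eq_zero, mul_comm, mul_smul, hk', addOrderOf_nsmul_eq_zero]
  have h2 : ¬ Nat.card C ∣ k := by
    rw [← hn, addOrderOf_dvd_iff_nsmul_eq_zero, hk']
    exact hc
  obtain ⟨Q, hQ⟩ := cyclotomic_dvd_geom_sum_pow Λ (Nat.card C) k (addOrderOf c) hkpos hdpos h1 h2
  have hsingle : AddMonoidAlgebra.single c (1 : Λ) = (AddMonoidAlgebra.single g (1 : Λ)) ^ k := by
    rw [AddMonoidAlgebra.single_pow, one_pow, hk']
  have e : ∑ j ∈ Finset.range (addOrderOf c), (AddMonoidAlgebra.single c (1 : Λ)) ^ j =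
      aeval (AddMonoidAlgebra.single g (1 : Λ)) (cyclotomic (Nat.card C) Λ) *
        aeval (AddMonoidAlgebra.single g (1 : Λ)) Q := by
    rw [← map_mul, ← hQ, map_sum]
    refine Finset.sum_congr rfl (fun j _ => ?_)
    rw [map_pow, map_pow, aeval_X, hsingle]
  rw [e]
  apply Ideal.mul_mem_right
  apply Ideal.subset_span
  exact ⟨g, htop, rfl⟩

end cyc

end Groth.Agent.Lib.Helper87
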