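import Groth.Agent.Lib.Helper87.GrpAlgCyc2

set_option autoImplicit false

namespace Groth.Agent.Lib.Helper87

open Polynomial W4c6equivkfinstab

section sep

variable (Λ : Type*) [CommRing Λ] (M : Type*) [AddCommGroup M]

/-- the separating element attached to `b`, an exponent `d` and an inverse `v` of `d`. -/
noncomputable def sepElt (b : M) (d : ℕ) (v : Λ) : AddMonoidAlgebra Λ M :=
  AddMonoidAlgebra.single 0 v *
    ((1 - AddMonoidAlgebra.single b 1) * geomW (AddMonoidAlgebra.single b (1 : Λ)) d)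

theorem quotMap_single (B : AddSubgroup M) (b : M) (r : Λ) :
    quotMap Λ M B (AddMonoidAlgebra.single b r) =
      AddMonoidAlgebra.single ((QuotientAddGroup.mk b : M ⧸ B)) r := by
  simp [quotMap]

theorem quotMap_single_of_mem (B : AddSubgroup M) (b : M) (hb : b ∈ B) :
    quotMap Λ M B (AddMonoidAlgebra.single b 1) = 1 := by
  rw [quotMap_single, (QuotientAddGroup.eq_zero_iff b).mpr hb]
  rfl

theorem quotMap_sepElt_of_mem (B : AddSubgroup M) (b : M) (hb : b ∈ B) (d : ℕ) (v : Λ) :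
    quotMap Λ M B (sepElt Λ M b d v) = 0 := by
  rw [sepElt, map_mul, map_mul, map_sub, map_one, quotMap_single_of_mem Λ M B b hb, sub_self,
    zero_mul, mul_zero]

theorem cycQuotMap_sepElt_of_mem (B : AddSubgroup M) (b : M) (hb : b ∈ B) (d : ℕ) (v : Λ) :
    cycQuotMap Λ M B (sepElt Λ M b d v) = 0 := by
  rw [cycQuotMap, RingHom.comp_apply, quotMap_sepElt_of_mem Λ M B b hb, map_zero]

theorem single_zero_mul_natCast (v : Λ) (d : ℕ) :
    (AddMonoidAlgebra.single (0 : M) v : AddMonoidAlgebra Λ M) * (d : AddMonoidAlgebra Λ M) =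
      AddMonoidAlgebra.single 0 (v * d) := by
  rw [AddMonoidAlgebra.natCast_def, AddMonoidAlgebra.single_mul_single, add_zero]

theorem cycQuotMap_sepElt_of_notMem (B : AddSubgroup M) [B.FiniteIndex] [IsAddCyclic (M ⧸ B)]
    (b : M) (hb : b ∉ B) (v : Λ)
    (hv : v * (addOrderOf (QuotientAddGroup.mk b : M ⧸ B) : Λ) = 1) :
    cycQuotMap Λ M B (sepElt Λ M b (addOrderOf (QuotientAddGroup.mk b : M ⧸ B)) v) = 1 := by
  haveI : Finite (M ⧸ B) := AddSubgroup.finite_quotient_of_finiteIndex
  set c : M ⧸ B := QuotientAddGroup.mk b with hc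
  set d := addOrderOf c with hd
  have hc0 : c ≠ 0 := by
    rw [hc, Ne, QuotientAddGroup.eq_zero_iff]; exact hb
  have hsum : ∑ j ∈ Finset.range d,
      (cycQuotMap Λ M B (AddMonoidAlgebra.single b 1)) ^ j = 0 := by
    have h1 := geom_sum_single_mem_cycIdeal Λ (M ⧸ B) c hc0
    rw [← Ideal.Quotient.eq_zero_iff_mem, map_sum] at h1
    rw [← h1]
    refine Finset.sum_congr rfl (fun j _ => ?_)
    rw [map_pow, cycQuotMap, RingHom.comp_apply, quotMap_single]
  rw [sepElt, map_mul, map_mul, map_sub, map_one, geomW_map, one_sub_mul_geomW _ _ hsum]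
  have h2 : (d : CycQuot Λ (M ⧸ B)) = cycQuotMap Λ M B (d : AddMonoidAlgebra Λ M) := by
    rw [map_natCast]
  rw [h2, ← map_mul, single_zero_mul_natCast, hv]
  exact map_one _

end sep

end Groth.Agent.Lib.Helper87
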