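import Groth.Agent.Lib.Helper87.GrpAlgCyc3

set_option autoImplicit false

namespace Groth.Agent.Lib.Helper87

open Polynomial W4c6equivkfinstab

section main

universe u v

variable (Λ : Type u) [CommRing Λ] (M : Type v) [AddCommGroup M]

/-- an inverse of the order of an element of `M ⧸ B` when the index is invertible. -/
theorem exists_inv_addOrderOf (B : AddSubgroup M) [B.FiniteIndex] (N : ℕ)
    (hN : B.index ∣ N) (hu : IsUnit (N : Λ)) (b : M) :
    ∃ v : Λ, v * (addOrderOf (QuotientAddGroup.mk b : M ⧸ B) : Λ) = 1 := by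
  haveI : Finite (M ⧸ B) := AddSubgroup.finite_quotient_of_finiteIndex
  have h1 : addOrderOf (QuotientAddGroup.mk b : M ⧸ B) ∣ N := by
    refine dvd_trans ?_ hN
    rw [AddSubgroup.index_eq_card]
    exact addOrderOf_dvd_natCard _
  have h2 : IsUnit ((addOrderOf (QuotientAddGroup.mk b : M ⧸ B) : ℕ) : Λ) :=
    isUnit_of_dvd_unit (Nat.cast_dvd_cast h1) hu
  obtain ⟨w, hw⟩ := h2
  exact ⟨↑w⁻¹, by rw [← hw, Units.inv_mul]⟩

theorem cycQuot_smul_def (B : AddSubgroup M) (r : AddMonoidAlgebra Λ M)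
    (m : CycQuot Λ (M ⧸ B)) : r • m = cycQuotMap Λ M B r * m := by
  obtain ⟨m₀, rfl⟩ := Ideal.Quotient.mk_surjective m
  rw [cycQuotMap, RingHom.comp_apply, ← map_mul]
  rfl

theorem quotGroupRing_smul_def (B : AddSubgroup M) (r : AddMonoidAlgebra Λ M)
    (m : AddMonoidAlgebra Λ (M ⧸ B)) : r • m = quotMap Λ M B r * m := by
  rw [Algebra.smul_def]
  rfl

theorem subsingleton_localized_cycQuot (B B' : AddSubgroup M) [B.FiniteIndex] [B'.FiniteIndex]
    [IsAddCyclic (M ⧸ B)] [IsAddCyclic (M ⧸ B')] (hne : B ≠ B')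
    (hu : IsUnit ((B.index * B'.index : ℕ) : Λ)) :
    Subsingleton (LocalizedModule (locSubmonoid Λ M B') (CycQuot Λ (M ⧸ B))) := by
  rw [LocalizedModule.subsingleton_iff]
  suffices h : ∃ s : AddMonoidAlgebra Λ M, cycQuotMap Λ M B' s = 1 ∧ cycQuotMap Λ M B s = 0 by
    obtain ⟨s, hs1, hs0⟩ := h
    intro m
    exact ⟨s, hs1, by rw [cycQuot_smul_def, hs0, zero_mul]⟩
  by_cases hB : B' ≤ B
  · -- then `B ⊄ B'`
    have hnot : ¬ B ≤ B' := fun h => hne (le_antisymm h hB)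
    obtain ⟨b, hbB, hbB'⟩ := SetLike.not_le_iff_exists.mp hnot
    obtain ⟨v, hv⟩ := exists_inv_addOrderOf Λ M B' (B.index * B'.index) (dvd_mul_left _ _) hu b
    exact ⟨sepElt Λ M b _ v, cycQuotMap_sepElt_of_notMem Λ M B' b hbB' v hv,
      cycQuotMap_sepElt_of_mem Λ M B b hbB _ v⟩
  · obtain ⟨b', hbB', hbB⟩ := SetLike.not_le_iff_exists.mp hB
    obtain ⟨v, hv⟩ := exists_inv_addOrderOf Λ M B (B.index * B'.index) (dvd_mul_right _ _) hu b'
    refine ⟨1 - sepElt Λ M b' (addOrderOf (QuotientAddGroup.mk b' : M ⧸ B)) v, ?_, ?_⟩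
    · rw [map_sub, map_one, cycQuotMap_sepElt_of_mem Λ M B' b' hbB', sub_zero]
    · rw [map_sub, map_one, cycQuotMap_sepElt_of_notMem Λ M B b' hbB v hv, sub_self]

theorem subsingleton_localized_quotGroupRing (B₀ B : AddSubgroup M) [B₀.FiniteIndex]
    [B.FiniteIndex] [IsAddCyclic (M ⧸ B)] (hle : ¬ B₀ ≤ B)
    (hu : IsUnit ((B₀.index * B.index : ℕ) : Λ)) :
    Subsingleton (LocalizedModule (locSubmonoid Λ M B) (AddMonoidAlgebra Λ (M ⧸ B₀))) := by
  rw [LocalizedModule.subsingleton_iff]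
  obtain ⟨b₀, hb₀, hbB⟩ := SetLike.not_le_iff_exists.mp hle
  obtain ⟨v, hv⟩ := exists_inv_addOrderOf Λ M B (B₀.index * B.index) (dvd_mul_left _ _) hu b₀
  intro m
  refine ⟨sepElt Λ M b₀ _ v, cycQuotMap_sepElt_of_notMem Λ M B b₀ hbB v hv, ?_⟩
  rw [quotGroupRing_smul_def, quotMap_sepElt_of_mem Λ M B₀ b₀ hb₀, zero_mul]

end main

end Groth.Agent.Lib.Helper87
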