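import Groth.Agent.Lib.Helper87.GrpAlgCyc4

set_option autoImplicit false

namespace Groth.Agent.Lib.Helper87

open Polynomial W4c6equivkfinstab

section kernel

variable (Λ : Type*) [CommRing Λ] (C : Type*) [AddCommGroup C]

/-- the geometric sum `∑_{j<m} [c]^j`. -/
noncomputable def geomS (c : C) (m : ℕ) : AddMonoidAlgebra Λ C :=
  ∑ j ∈ Finset.range m, (AddMonoidAlgebra.single c (1 : Λ)) ^ j

theorem geomS_mul_single (c : C) (m : ℕ) (hm : m • c = 0) :
    geomS Λ C c m * AddMonoidAlgebra.single c 1 = geomS Λ C c m := by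
  have hu : (AddMonoidAlgebra.single c (1 : Λ)) ^ m = 1 := by
    rw [AddMonoidAlgebra.single_pow, hm, one_pow]; rfl
  have h := geom_sum_mul (AddMonoidAlgebra.single c (1 : Λ)) m
  rw [hu, sub_self, mul_sub, mul_one, sub_eq_zero] at h
  exact h

theorem geomS_mul_single_nsmul (c : C) (m : ℕ) (hm : m • c = 0) (k : ℕ) :
    geomS Λ C c m * AddMonoidAlgebra.single (k • c) 1 = geomS Λ C c m := by
  induction k with
  | zero =>
    rw [zero_smul]
    exact mul_one _
  | succ k ih =>
    have : AddMonoidAlgebra.single ((k + 1) • c) (1 : Λ) =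
        AddMonoidAlgebra.single (k • c) 1 * AddMonoidAlgebra.single c 1 := by
      rw [AddMonoidAlgebra.single_mul_single, one_mul, succ_nsmul]
    rw [this, ← mul_assoc, ih, geomS_mul_single Λ C c m hm]

theorem geomS_mul_single_of_mem [Finite C] (c z : C) (hz : z ∈ AddSubgroup.zmultiples c) :
    geomS Λ C c (addOrderOf c) * AddMonoidAlgebra.single z 1 = geomS Λ C c (addOrderOf c) := by
  obtain ⟨k, hk⟩ := mem_multiples_iff_mem_zmultiples.mpr hz
  have hk' : k • c = z := hk
  rw [← hk']
  exact geomS_mul_single_nsmul Λ C c _ (addOrderOf_nsmul_eq_zero c) k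

theorem geomS_mul_eq_zero_of_mapDomain [Finite C] (c : C) (y : AddMonoidAlgebra Λ C)
    (hy : AddMonoidAlgebra.mapDomain (QuotientAddGroup.mk' (AddSubgroup.zmultiples c)) y = 0) :
    geomS Λ C c (addOrderOf c) * y = 0 := by
  set Z := AddSubgroup.zmultiples c with hZ
  set S := geomS Λ C c (addOrderOf c) with hS
  let ψ : AddMonoidAlgebra Λ (C ⧸ Z) →+ AddMonoidAlgebra Λ C :=
    AddMonoidAlgebra.liftNC (AddMonoidAlgebra.singleAddHom (0 : C))
      (fun q => S * AddMonoidAlgebra.single (Quotient.out (Multiplicative.toAdd q)) 1)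
  have key : ∀ y : AddMonoidAlgebra Λ C,
      S * y = ψ (AddMonoidAlgebra.mapDomain (QuotientAddGroup.mk' Z) y) := by
    intro y
    induction y using AddMonoidAlgebra.induction_linear with
    | zero => rw [mul_zero, AddMonoidAlgebra.mapDomain_zero, map_zero]
    | add x y hx hy => rw [mul_add, hx, hy, AddMonoidAlgebra.mapDomain_add, map_add]
    | single a r =>
      rw [AddMonoidAlgebra.mapDomain_single, AddMonoidAlgebra.liftNC_single]
      obtain ⟨z, hz⟩ := QuotientAddGroup.mk_out_eq_add Z a
      have h1 : (Quotient.out (Multiplicative.toAdd (Multiplicative.ofAdd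
          ((QuotientAddGroup.mk' Z) a))) : C) = a + z := hz
      rw [h1]
      have h2 : AddMonoidAlgebra.single (a + (z : C)) (1 : Λ) =
          AddMonoidAlgebra.single (z : C) 1 * AddMonoidAlgebra.single a 1 := by
        rw [AddMonoidAlgebra.single_mul_single, one_mul, add_comm]
      rw [h2, ← mul_assoc S, geomS_mul_single_of_mem Λ C c z z.2]
      have h3 : AddMonoidAlgebra.single a r =
          AddMonoidAlgebra.single (0 : C) r * AddMonoidAlgebra.single a (1 : Λ) := by
        rw [AddMonoidAlgebra.single_mul_single, mul_one, zero_add]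
      rw [h3]
      change S * _ = AddMonoidAlgebra.single (0 : C) r * _
      ring
  rw [key, hy, map_zero]

end kernel

end Groth.Agent.Lib.Helper87
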