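import Groth.Agent.Lib.Helper87.GrpAlgInj1

set_option autoImplicit false

namespace Groth.Agent.Lib.Helper87

open Polynomial W4c6equivkfinstab

section regular

variable (Λ : Type*) [CommRing Λ] (C : Type*) [AddCommGroup C]

/-- `y` is killed by all the geometric sums of nonzero elements. -/
def KillsGeom (y : AddMonoidAlgebra Λ C) : Prop :=
  ∀ c : C, c ≠ 0 → geomS Λ C c (addOrderOf c) * y = 0

variable {Λ C}

theorem KillsGeom.mul_left {y : AddMonoidAlgebra Λ C} (hy : KillsGeom Λ C y)
    (t : AddMonoidAlgebra Λ C) : KillsGeom Λ C (t * y) := by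
  intro c hc
  rw [mul_left_comm, hy c hc, mul_zero]

theorem one_sub_mul_geomW' {R : Type*} [CommRing R] (u : R) (d : ℕ) :
    (1 - u) * geomW u d = d - ∑ j ∈ Finset.range d, u ^ j := by
  rw [geomW, Finset.mul_sum]
  have : ∀ j ∈ Finset.range d, (1 - u) * ∑ i ∈ Finset.range j, u ^ i = 1 - u ^ j := by
    intro j _
    exact mul_neg_geom_sum u j
  rw [Finset.sum_congr rfl this, Finset.sum_sub_distrib]
  simp

variable (Λ C)

/-- differences of distinct group elements act injectively on elements killed by the geometric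
sums. -/
theorem eq_zero_of_single_sub_single_mul [Finite C] (hN : IsUnit ((Nat.card C : ℕ) : Λ))
    (y : AddMonoidAlgebra Λ C) (hy : KillsGeom Λ C y) (a b : C) (hab : a ≠ b)
    (h : (AddMonoidAlgebra.single a (1 : Λ) - AddMonoidAlgebra.single b 1) * y = 0) : y = 0 := by
  set c : C := b - a with hc
  have hc0 : c ≠ 0 := by
    rw [hc, Ne, sub_eq_zero]; exact fun h => hab h.symm
  set u : AddMonoidAlgebra Λ C := AddMonoidAlgebra.single c (1 : Λ) with hu
  have h1 : (1 - u) * y = 0 := by
    have e : (1 : AddMonoidAlgebra Λ C) - u = AddMonoidAlgebra.single (-a) (1 : Λ) *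
        (AddMonoidAlgebra.single a (1 : Λ) - AddMonoidAlgebra.single b 1) := by
      rw [mul_sub, AddMonoidAlgebra.single_mul_single, AddMonoidAlgebra.single_mul_single,
        neg_add_cancel, one_mul, hu, hc, AddMonoidAlgebra.one_def, neg_add_eq_sub]
    rw [e, mul_assoc, h, mul_zero]
  have h2 : ((addOrderOf c : ℕ) : AddMonoidAlgebra Λ C) * y = 0 := by
    have e := one_sub_mul_geomW' u (addOrderOf c)
    have e2 : ((addOrderOf c : ℕ) : AddMonoidAlgebra Λ C) =
        (1 - u) * geomW u (addOrderOf c) + geomS Λ C c (addOrderOf c) := by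
      rw [e, geomS]; ring
    rw [e2, add_mul, hy c hc0, add_zero, mul_right_comm, h1, zero_mul]
  have h3 : IsUnit ((addOrderOf c : ℕ) : Λ) :=
    isUnit_of_dvd_unit (Nat.cast_dvd_cast (addOrderOf_dvd_natCard c)) hN
  obtain ⟨w, hw⟩ := h3
  have h4 : AddMonoidAlgebra.single (0 : C) ((↑w⁻¹ : Λ)) *
      ((addOrderOf c : ℕ) : AddMonoidAlgebra Λ C) = 1 := by
    rw [single_zero_mul_natCast, ← hw, Units.inv_mul]; rfl
  calc y = 1 * y := (one_mul y).symm
    _ = 0 := by rw [← h4, mul_assoc, h2, mul_zero]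

/-- the multiplicative set generated by the differences of distinct group elements. -/
noncomputable def diffSubmonoid : Submonoid (AddMonoidAlgebra Λ C) :=
  Submonoid.closure {x | ∃ a b : C, a ≠ b ∧
    x = AddMonoidAlgebra.single a (1 : Λ) - AddMonoidAlgebra.single b 1}

theorem eq_zero_of_mem_diffSubmonoid_mul [Finite C] (hN : IsUnit ((Nat.card C : ℕ) : Λ))
    (u : AddMonoidAlgebra Λ C) (hu : u ∈ diffSubmonoid Λ C) :
    ∀ y : AddMonoidAlgebra Λ C, KillsGeom Λ C y → u * y = 0 → y = 0 := by
  induction hu using Submonoid.closure_induction with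
  | mem x hx =>
    obtain ⟨a, b, hab, rfl⟩ := hx
    intro y hy h
    exact eq_zero_of_single_sub_single_mul Λ C hN y hy a b hab h
  | one =>
    intro y _ h
    rwa [one_mul] at h
  | mul u₁ u₂ _ _ ih₁ ih₂ =>
    intro y hy h
    rw [mul_assoc] at h
    exact ih₂ y hy (ih₁ (u₂ * y) (hy.mul_left u₂) h)

end regular

end Groth.Agent.Lib.Helper87
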