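import Groth.Agent.Lib.Helper87.GrpAlgInj2

set_option autoImplicit false

namespace Groth.Agent.Lib.Helper87

open Polynomial W4c6equivkfinstab

section vdm

variable (Λ : Type*) [CommRing Λ] (C : Type*) [AddCommGroup C]

/-- Vandermonde argument: if `n + 1` distinct group elements are killed by `n`, a product of
differences of group elements vanishes. -/
theorem exists_mem_diffSubmonoid_eq_zero (n : ℕ) (hn : 0 < n) (r : Fin (n + 1) → C)
    (hr : Function.Injective r) (hrn : ∀ i, n • r i = 0) :
    (0 : AddMonoidAlgebra Λ C) ∈ diffSubmonoid Λ C := by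
  classical
  set v : Fin (n + 1) → AddMonoidAlgebra Λ C := fun i => AddMonoidAlgebra.single (r i) (1 : Λ)
    with hv
  set V := Matrix.vandermonde v with hV
  set a : Fin (n + 1) → AddMonoidAlgebra Λ C := Pi.single (Fin.last n) 1 - Pi.single 0 1 with ha
  have hVa : V.mulVec a = 0 := by
    rw [ha, Matrix.mulVec_sub, Matrix.mulVec_single_one, Matrix.mulVec_single_one]
    funext i
    change V i (Fin.last n) - V i 0 = 0
    rw [hV, Matrix.vandermonde_apply, Matrix.vandermonde_apply, hv]
    change AddMonoidAlgebra.single (r i) (1 : Λ) ^ n - AddMonoidAlgebra.single (r i) (1 : Λ) ^ 0 = 0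
    rw [AddMonoidAlgebra.single_pow, hrn, pow_zero, one_pow]
    exact sub_self _
  have hdet : V.det • a = 0 := by
    have h1 : (V.adjugate * V).mulVec a = 0 := by
      rw [← Matrix.mulVec_mulVec, hVa, Matrix.mulVec_zero]
    rw [Matrix.adjugate_mul, Matrix.smul_mulVec, Matrix.one_mulVec] at h1
    exact h1
  have hlast : (Fin.last n : Fin (n + 1)) ≠ 0 := by
    intro h
    have := congrArg Fin.val h
    simp at this
    omega
  have hdet0 : V.det = 0 := by
    have h2 := congrFun hdet (Fin.last n)
    rw [Pi.smul_apply, ha, Pi.sub_apply, Pi.single_eq_same, Pi.single_eq_of_ne hlast, sub_zero,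
      smul_eq_mul, mul_one] at h2
    exact h2
  rw [← hdet0, hV, Matrix.det_vandermonde]
  refine Submonoid.prod_mem _ (fun i _ => Submonoid.prod_mem _ (fun j hj => ?_))
  apply Submonoid.subset_closure
  refine ⟨r j, r i, ?_, rfl⟩
  intro h
  have := hr h
  rw [Finset.mem_Ioi] at hj
  exact hj.ne' this

theorem isAddCyclic_of_killsGeom_ne_zero [Finite C] (hN : IsUnit ((Nat.card C : ℕ) : Λ))
    (y : AddMonoidAlgebra Λ C) (hy : KillsGeom Λ C y) (hy0 : y ≠ 0) : IsAddCyclic C := by
  classical
  haveI := Fintype.ofFinite C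
  apply isAddCyclic_of_card_nsmul_eq_zero_le
  intro n hn
  by_contra hlt
  push_neg at hlt
  set T : Finset C := Finset.univ.filter (fun a => n • a = 0) with hT
  have hcard : Fintype.card (Fin (n + 1)) ≤ Fintype.card T := by
    rw [Fintype.card_fin, Fintype.card_coe]
    exact hlt
  obtain ⟨e⟩ := Function.Embedding.nonempty_of_card_le hcard
  have h0 := exists_mem_diffSubmonoid_eq_zero Λ C n hn (fun i => (e i : C))
    (fun i j h => e.injective (Subtype.ext h))
    (fun i => by
      have := (Finset.mem_filter.mp (e i).2)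
      exact this.2)
  exact hy0 (eq_zero_of_mem_diffSubmonoid_mul Λ C hN 0 h0 y hy (zero_mul y))

end vdm

end Groth.Agent.Lib.Helper87
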