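import Groth.Agent.Lib.Helper87.GrpAlgInj3

set_option autoImplicit false

namespace Groth.Agent.Lib.Helper87

open Polynomial W4c6equivkfinstab

section cyc

variable (Λ : Type*) [CommRing Λ] (C : Type*) [AddCommGroup C]

/-- `Φ_d · ∏_{d' ∣ d, d' < d} (X^{d'} - 1)` is a multiple of `X^d - 1`. -/
theorem cyclotomic_mul_prod_eq (d : ℕ) (hd : 0 < d) :
    ∃ Q : Λ[X], cyclotomic d Λ * ∏ d' ∈ d.properDivisors, ((X : Λ[X]) ^ d' - 1) =
      (X ^ d - 1) * Q := by
  have h1 : ∏ d' ∈ d.properDivisors, cyclotomic d' Λ ∣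
      ∏ d' ∈ d.properDivisors, ((X : Λ[X]) ^ d' - 1) :=
    Finset.prod_dvd_prod_of_dvd _ _ (fun d' _ => cyclotomic.dvd_X_pow_sub_one d' Λ)
  obtain ⟨Q, hQ⟩ := h1
  refine ⟨Q, ?_⟩
  rw [hQ, ← mul_assoc, ← prod_cyclotomic_eq_X_pow_sub_one hd Λ,
    ← Nat.insert_self_properDivisors hd.ne', Finset.prod_insert Nat.self_notMem_properDivisors]

theorem exists_mem_diffSubmonoid_mul_eq_zero [Finite C] (y : AddMonoidAlgebra Λ C)
    (hy : y ∈ cycIdeal Λ C) : ∃ u ∈ diffSubmonoid Λ C, u * y = 0 := by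
  rw [cycIdeal] at hy
  induction hy using Submodule.span_induction with
  | mem x hx =>
    obtain ⟨g, hg, rfl⟩ := hx
    set d := Nat.card C with hd
    have hdpos : 0 < d := Nat.card_pos
    have hord : addOrderOf g = d := by
      apply addOrderOf_eq_card_of_forall_mem_zmultiples
      intro x; rw [hg]; trivial
    obtain ⟨Q, hQ⟩ := cyclotomic_mul_prod_eq Λ d hdpos
    refine ⟨∏ d' ∈ d.properDivisors,
      (AddMonoidAlgebra.single (d' • g) (1 : Λ) - AddMonoidAlgebra.single 0 1), ?_, ?_⟩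
    · refine Submonoid.prod_mem _ (fun d' hd' => ?_)
      apply Submonoid.subset_closure
      refine ⟨d' • g, 0, ?_, rfl⟩
      rw [Nat.mem_properDivisors] at hd'
      intro h0
      rw [← addOrderOf_dvd_iff_nsmul_eq_zero, hord] at h0
      have hpos : 0 < d' := Nat.pos_of_dvd_of_pos hd'.1 hdpos
      exact absurd (Nat.le_of_dvd hpos h0) (not_le.mpr hd'.2)
    · have e := congrArg (aeval (AddMonoidAlgebra.single g (1 : Λ))) hQ
      rw [map_mul, map_mul, map_sub, map_pow, aeval_X, map_one, AddMonoidAlgebra.single_pow,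
        one_pow, ← hord, addOrderOf_nsmul_eq_zero] at e
      have e0 : (AddMonoidAlgebra.single (0 : C) (1 : Λ)) - 1 = 0 := sub_self _
      rw [e0, zero_mul, map_prod] at e
      rw [mul_comm]
      rw [← e, hord]
      congr 1
      refine Finset.prod_congr rfl (fun d' _ => ?_)
      rw [map_sub, map_pow, aeval_X, map_one, AddMonoidAlgebra.single_pow, one_pow]
      rfl
  | zero => exact ⟨1, Submonoid.one_mem _, mul_zero _⟩
  | add x y _ _ hx hy =>
    obtain ⟨u₁, hu₁, h₁⟩ := hx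
    obtain ⟨u₂, hu₂, h₂⟩ := hy
    refine ⟨u₁ * u₂, Submonoid.mul_mem _ hu₁ hu₂, ?_⟩
    rw [mul_add, mul_right_comm, h₁, zero_mul, mul_assoc, h₂, mul_zero, add_zero]
  | smul a x _ hx =>
    obtain ⟨u, hu, h⟩ := hx
    refine ⟨u, hu, ?_⟩
    rw [smul_eq_mul, mul_left_comm, h, mul_zero]

/-- the main vanishing lemma. -/
theorem eq_zero_of_killsGeom [Finite C] (hN : IsUnit ((Nat.card C : ℕ) : Λ))
    (y : AddMonoidAlgebra Λ C) (hy : KillsGeom Λ C y)
    (hcyc : IsAddCyclic C → y ∈ cycIdeal Λ C) : y = 0 := by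
  by_contra h0
  have hC := isAddCyclic_of_killsGeom_ne_zero Λ C hN y hy h0
  obtain ⟨u, hu, h⟩ := exists_mem_diffSubmonoid_mul_eq_zero Λ C y (hcyc hC)
  exact h0 (eq_zero_of_mem_diffSubmonoid_mul Λ C hN u hu y hy h)

end cyc

end Groth.Agent.Lib.Helper87
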