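import Groth.Agent.Lib.Helper87.GrpAlgInj4

set_option autoImplicit false

namespace Groth.Agent.Lib.Helper87

open Polynomial W4c6equivkfinstab

section inj

universe u v

variable (Λ : Type u) [CommRing Λ] (M : Type v) [AddCommGroup M]

theorem quotMap_eq_mapDomainRingHom (B : AddSubgroup M) :
    quotMap Λ M B = AddMonoidAlgebra.mapDomainRingHom Λ (QuotientAddGroup.mk' B) := rfl

/-- if `B ≤ B'`, the kernel of `quotMap B` is contained in the kernel of `quotMap B'`. -/
theorem quotMap_eq_zero_of_le (B B' : AddSubgroup M) (h : B ≤ B') (x : AddMonoidAlgebra Λ M)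
    (hx : quotMap Λ M B x = 0) : quotMap Λ M B' x = 0 := by
  have hker : B ≤ (QuotientAddGroup.mk' B').ker := by
    intro b hb
    rw [AddMonoidHom.mem_ker, QuotientAddGroup.mk'_apply, QuotientAddGroup.eq_zero_iff]
    exact h hb
  have e : QuotientAddGroup.mk' B' =
      (QuotientAddGroup.lift B (QuotientAddGroup.mk' B') hker).comp (QuotientAddGroup.mk' B) :=
    (QuotientAddGroup.lift_comp_mk' B (QuotientAddGroup.mk' B') hker).symm
  rw [quotMap_eq_mapDomainRingHom, e, AddMonoidAlgebra.mapDomainRingHom_comp, RingHom.comp_apply,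
    ← quotMap_eq_mapDomainRingHom, hx, map_zero]

/-- General injectivity: an element of `Λ[M]` whose images in all cyclotomic quotients attached to
subgroups `B ≥ B₀` with cyclic quotient vanish has zero image in `Λ[M ⧸ B₀]`. -/
theorem quotMap_eq_zero_of_forall_cycQuotMap (B₀ : AddSubgroup M) [B₀.FiniteIndex]
    (hu : IsUnit ((B₀.index : ℕ) : Λ)) (x : AddMonoidAlgebra Λ M)
    (hx : ∀ B : AddSubgroup M, B₀ ≤ B → IsAddCyclic (M ⧸ B) → cycQuotMap Λ M B x = 0) :
    quotMap Λ M B₀ x = 0 := by
  suffices H : ∀ n : ℕ, ∀ B : AddSubgroup M, B₀ ≤ B → B.index = n → quotMap Λ M B x = 0 from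
    H _ B₀ le_rfl rfl
  intro n
  induction n using Nat.strong_induction_on with
  | _ n ih =>
    intro B hB hn
    haveI : B.FiniteIndex := AddSubgroup.finiteIndex_of_le hB
    haveI : Finite (M ⧸ B) := AddSubgroup.finite_quotient_of_finiteIndex
    have hN : IsUnit ((Nat.card (M ⧸ B) : ℕ) : Λ) := by
      rw [← AddSubgroup.index_eq_card]
      exact isUnit_of_dvd_unit (Nat.cast_dvd_cast (AddSubgroup.index_dvd_of_le hB)) hu
    apply eq_zero_of_killsGeom Λ (M ⧸ B) hN
    · intro c hc
      apply geomS_mul_eq_zero_of_mapDomain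
      set Z := AddSubgroup.zmultiples c with hZ
      set B' := AddSubgroup.comap (QuotientAddGroup.mk' B) Z with hB'
      have hle : B ≤ B' := by
        intro b hb
        rw [hB', AddSubgroup.mem_comap, QuotientAddGroup.mk'_apply,
          (QuotientAddGroup.eq_zero_iff b).mpr hb]
        exact Z.zero_mem
      have hlt : B < B' := by
        refine lt_of_le_of_ne hle ?_
        intro heq
        obtain ⟨c', rfl⟩ := QuotientAddGroup.mk'_surjective B c
        have h1 : c' ∈ B' := by
          rw [hB', AddSubgroup.mem_comap]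
          exact AddSubgroup.mem_zmultiples _
        rw [← heq] at h1
        exact hc ((QuotientAddGroup.eq_zero_iff c').mpr h1)
      have hidx : B'.index < n := by
        rw [← hn]
        exact AddSubgroup.index_strictAnti hlt
      have h0 : quotMap Λ M B' x = 0 := ih _ hidx B' (hB.trans hle) rfl
      have hker : B' ≤ ((QuotientAddGroup.mk' Z).comp (QuotientAddGroup.mk' B)).ker := by
        intro m hm
        rw [AddMonoidHom.mem_ker, AddMonoidHom.comp_apply, QuotientAddGroup.mk'_apply,
          QuotientAddGroup.mk'_apply, QuotientAddGroup.eq_zero_iff]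
        exact hm
      have e : (QuotientAddGroup.mk' Z).comp (QuotientAddGroup.mk' B) =
          (QuotientAddGroup.lift B' _ hker).comp (QuotientAddGroup.mk' B') :=
        (QuotientAddGroup.lift_comp_mk' B' _ hker).symm
      have e2 : AddMonoidAlgebra.mapDomain (QuotientAddGroup.mk' Z) (quotMap Λ M B x) =
          AddMonoidAlgebra.mapDomainRingHom Λ
            ((QuotientAddGroup.mk' Z).comp (QuotientAddGroup.mk' B)) x := by
        rw [AddMonoidAlgebra.mapDomainRingHom_comp]
        rfl
      rw [e2, e, AddMonoidAlgebra.mapDomainRingHom_comp, RingHom.comp_apply,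
        ← quotMap_eq_mapDomainRingHom, h0, map_zero]
    · intro hcyc
      have h1 := hx B hB hcyc
      rw [cycQuotMap, RingHom.comp_apply, Ideal.Quotient.eq_zero_iff_mem] at h1
      exact h1

end inj

end Groth.Agent.Lib.Helper87
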