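import Groth.Agent.Lib.Helper87.GrpAlgOrth

set_option autoImplicit false

namespace Groth.Agent.Lib.Helper87

open Polynomial W4c6equivkfinstab

section main1

universe u v

variable (Λ : Type u) [CommRing Λ] (A : Type v) [AddCommGroup A]

theorem groupRing_bijective_pi_cycQuot [Finite A] (hA : IsUnit ((Nat.card A : ℕ) : Λ)) :
    Function.Bijective (RingHom.pi fun B : {B : AddSubgroup A // IsAddCyclic (A ⧸ B)} =>
      cycQuotMap Λ A B.1) := by
  classical
  constructor
  · rw [injective_iff_map_eq_zero]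
    intro x hx
    haveI : (⊥ : AddSubgroup A).FiniteIndex := AddSubgroup.finiteIndex_of_finite_quotient
    have hu : IsUnit (((⊥ : AddSubgroup A).index : ℕ) : Λ) := by
      rw [AddSubgroup.index_bot]; exact hA
    have h0 := quotMap_eq_zero_of_forall_cycQuotMap Λ A ⊥ hu x (fun B _ hB => by
      have := congrFun hx ⟨B, hB⟩
      exact this)
    have hinj : Function.Injective (QuotientAddGroup.mk' (⊥ : AddSubgroup A)) := by
      rw [injective_iff_map_eq_zero]
      intro a ha
      rw [QuotientAddGroup.mk'_apply, QuotientAddGroup.eq_zero_iff] at ha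
      exact ha
    have h1 : AddMonoidAlgebra.mapDomain (QuotientAddGroup.mk' (⊥ : AddSubgroup A)) x =
        AddMonoidAlgebra.mapDomain (QuotientAddGroup.mk' (⊥ : AddSubgroup A)) 0 := by
      rw [AddMonoidAlgebra.mapDomain_zero]
      exact h0
    exact AddMonoidAlgebra.mapDomain_injective hinj h1
  · intro t
    haveI : Finite (AddSubgroup A) := inferInstance
    set J : Finset (AddSubgroup A) :=
      (Set.toFinite {B : AddSubgroup A | IsAddCyclic (A ⧸ B)}).toFinset with hJdef
    have hJ : ∀ B ∈ J, B.FiniteIndex ∧ IsAddCyclic (A ⧸ B) ∧ B.index ∣ Nat.card A := by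
      intro B hB
      rw [hJdef, Set.Finite.mem_toFinset] at hB
      exact ⟨AddSubgroup.finiteIndex_of_finite_quotient, hB, AddSubgroup.index_dvd_card B⟩
    obtain ⟨e, he⟩ := exists_orth Λ A (Nat.card A) hA J hJ
    have hr : ∀ B : AddSubgroup A, ∃ r : AddMonoidAlgebra Λ A,
        ∀ h : IsAddCyclic (A ⧸ B), cycQuotMap Λ A B r = t ⟨B, h⟩ := by
      intro B
      by_cases h : IsAddCyclic (A ⧸ B)
      · obtain ⟨r, hr⟩ := cycQuotMap_surjective Λ A B (t ⟨B, h⟩)
        exact ⟨r, fun _ => hr⟩
      · exact ⟨0, fun h' => absurd h' h⟩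
    choose r hr using hr
    refine ⟨∑ B ∈ J, e B * r B, ?_⟩
    funext B'
    obtain ⟨B', hB'⟩ := B'
    have hB'J : B' ∈ J := by
      rw [hJdef, Set.Finite.mem_toFinset]; exact hB'
    change cycQuotMap Λ A B' (∑ B ∈ J, e B * r B) = t ⟨B', hB'⟩
    rw [map_sum, Finset.sum_eq_single B']
    · rw [map_mul, (he B' hB'J).1, one_mul, hr B' hB']
    · intro B hB hne
      rw [map_mul, (he B hB).2 B' hB'J hne.symm, zero_mul]
    · intro h; exact absurd hB'J h

end main1

end Groth.Agent.Lib.Helper87
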