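import Groth.Agent.Lib.Helper87.GrpAlgOrth

set_option autoImplicit false

namespace Groth.Agent.Lib.Helper87

open Polynomial W4c6equivkfinstab

section main2

universe u v

variable (Λ : Type u) [CommRing Λ] (M : Type v) [AddCommGroup M]

theorem finite_subgroups_ge (B₀ : AddSubgroup M) [B₀.FiniteIndex] :
    Finite {B : AddSubgroup M // B₀ ≤ B} := by
  haveI : Finite (M ⧸ B₀) := AddSubgroup.finite_quotient_of_finiteIndex
  exact Finite.of_equiv _ (QuotientAddGroup.comapMk'OrderIso B₀).toEquiv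

theorem groupRing_bijective_pi_localized (B₀ : AddSubgroup M) [B₀.FiniteIndex]
    (hu : IsUnit ((B₀.index : ℕ) : Λ)) :
    Function.Bijective (LinearMap.pi (R := AddMonoidAlgebra Λ M)
      fun B : {B : AddSubgroup M // B₀ ≤ B ∧ IsAddCyclic (M ⧸ B)} =>
        LocalizedModule.mkLinearMap (locSubmonoid Λ M B.1)
          (AddMonoidAlgebra Λ (M ⧸ B₀))) := by
  classical
  constructor
  · rw [injective_iff_map_eq_zero]
    intro xb hxb
    obtain ⟨x, rfl⟩ := quotMap_surjective Λ M B₀ xb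
    apply quotMap_eq_zero_of_forall_cycQuotMap Λ M B₀ hu x
    intro B hB hcyc
    have h1 := congrFun hxb ⟨B, hB, hcyc⟩
    change LocalizedModule.mkLinearMap (locSubmonoid Λ M B) (AddMonoidAlgebra Λ (M ⧸ B₀))
      (quotMap Λ M B₀ x) = 0 at h1
    rw [IsLocalizedModule.eq_zero_iff (locSubmonoid Λ M B)] at h1
    obtain ⟨s, hs⟩ := h1
    rw [Submonoid.smul_def, quotGroupRing_smul_def, ← map_mul] at hs
    have h2 := quotMap_eq_zero_of_le Λ M B₀ B hB _ hs
    have h3 : cycQuotMap Λ M B ((s : AddMonoidAlgebra Λ M) * x) = 0 := by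
      rw [cycQuotMap, RingHom.comp_apply, h2, map_zero]
    have hs1 : cycQuotMap Λ M B (s : AddMonoidAlgebra Λ M) = 1 := s.2
    rw [map_mul, hs1, one_mul] at h3
    exact h3
  · intro t
    haveI := finite_subgroups_ge M B₀
    set J : Finset (AddSubgroup M) :=
      (Set.Finite.subset (Set.toFinite (Set.range (Subtype.val :
        {B : AddSubgroup M // B₀ ≤ B} → AddSubgroup M)))
        (fun B (hB : B ∈ {B : AddSubgroup M | B₀ ≤ B ∧ IsAddCyclic (M ⧸ B)}) =>
          ⟨⟨B, hB.1⟩, rfl⟩)).toFinset with hJdef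
    have hmemJ : ∀ B : AddSubgroup M, B ∈ J ↔ (B₀ ≤ B ∧ IsAddCyclic (M ⧸ B)) := by
      intro B
      rw [hJdef, Set.Finite.mem_toFinset]
      rfl
    have hJ : ∀ B ∈ J, B.FiniteIndex ∧ IsAddCyclic (M ⧸ B) ∧ B.index ∣ B₀.index := by
      intro B hB
      rw [hmemJ] at hB
      exact ⟨AddSubgroup.finiteIndex_of_le hB.1, hB.2, AddSubgroup.index_dvd_of_le hB.1⟩
    obtain ⟨e, he⟩ := exists_orth Λ M B₀.index hu J hJ
    -- representatives of the components of `t`
    have hr : ∀ B : AddSubgroup M, ∃ (μ s : AddMonoidAlgebra Λ M),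
        cycQuotMap Λ M B s = 1 ∧ ∀ h : B₀ ≤ B ∧ IsAddCyclic (M ⧸ B),
          ∀ hs : s ∈ locSubmonoid Λ M B,
          t ⟨B, h⟩ = LocalizedModule.mk (quotMap Λ M B₀ μ) ⟨s, hs⟩ := by
      intro B
      by_cases h : B₀ ≤ B ∧ IsAddCyclic (M ⧸ B)
      · obtain ⟨m, s, hms⟩ := LocalizedModule.induction_on
          (β := fun x : LocalizedModule (locSubmonoid Λ M B) (AddMonoidAlgebra Λ (M ⧸ B₀)) =>
            ∃ m s, x = LocalizedModule.mk m s) (fun m s => ⟨m, s, rfl⟩) (t ⟨B, h⟩)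
        obtain ⟨μ, rfl⟩ := quotMap_surjective Λ M B₀ m
        exact ⟨μ, s, s.2, fun _ _ => hms⟩
      · exact ⟨0, 1, map_one _, fun h' => absurd h' h⟩
    choose μ s hs1 hts using hr
    refine ⟨quotMap Λ M B₀ (∑ B ∈ J, e B * μ B), ?_⟩
    funext B'
    obtain ⟨B', hB'⟩ := B'
    have hB'J : B' ∈ J := (hmemJ B').mpr hB'
    change LocalizedModule.mkLinearMap (locSubmonoid Λ M B') (AddMonoidAlgebra Λ (M ⧸ B₀))
      (quotMap Λ M B₀ (∑ B ∈ J, e B * μ B)) = t ⟨B', hB'⟩
    rw [hts B' hB' (hs1 B'), LocalizedModule.mkLinearMap_apply, LocalizedModule.mk_eq]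
    refine ⟨⟨e B', (he B' hB'J).1⟩, ?_⟩
    rw [Submonoid.smul_def, Submonoid.smul_def, Submonoid.smul_def, Submonoid.smul_def]
    change e B' • s B' • quotMap Λ M B₀ (∑ B ∈ J, e B * μ B) =
      e B' • (1 : AddMonoidAlgebra Λ M) • quotMap Λ M B₀ (μ B')
    rw [one_smul, quotGroupRing_smul_def, quotGroupRing_smul_def, quotGroupRing_smul_def,
      ← map_mul, ← map_mul, ← map_mul, ← sub_eq_zero, ← map_sub]
    apply quotMap_eq_zero_of_forall_cycQuotMap Λ M B₀ hu
    intro B'' hB'' hcyc''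
    have hB''J : B'' ∈ J := (hmemJ B'').mpr ⟨hB'', hcyc''⟩
    rw [map_sub, map_mul, map_mul, map_mul, map_sum]
    by_cases hBB : B'' = B'
    · subst hBB
      rw [(he B'' hB'J).1, hs1 B'', one_mul, one_mul, one_mul, Finset.sum_eq_single B'']
      · rw [map_mul, (he B'' hB'J).1, one_mul, sub_self]
      · intro B hB hne
        rw [map_mul, (he B hB).2 B'' hB'J hne.symm, zero_mul]
      · intro h; exact absurd hB'J h
    · rw [(he B' hB'J).2 B'' hB''J hBB, zero_mul, zero_mul, sub_self]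

end main2

end Groth.Agent.Lib.Helper87
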