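import Groth.Agent.Lib.Helper87.GrpAlgInj5

set_option autoImplicit false

namespace Groth.Agent.Lib.Helper87

open Polynomial W4c6equivkfinstab

section orth

universe u v

variable (Λ : Type u) [CommRing Λ] (M : Type v) [AddCommGroup M]

/-- separating elements for two distinct subgroups with cyclic quotients. -/
theorem exists_sep (B B' : AddSubgroup M) [B.FiniteIndex] [B'.FiniteIndex]
    [IsAddCyclic (M ⧸ B)] [IsAddCyclic (M ⧸ B')] (hne : B ≠ B') (N : ℕ)
    (hB : B.index ∣ N) (hB' : B'.index ∣ N) (hu : IsUnit ((N : ℕ) : Λ)) :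
    ∃ s : AddMonoidAlgebra Λ M, cycQuotMap Λ M B' s = 1 ∧ cycQuotMap Λ M B s = 0 := by
  by_cases hle : B' ≤ B
  · have hnot : ¬ B ≤ B' := fun h => hne (le_antisymm h hle)
    obtain ⟨b, hbB, hbB'⟩ := SetLike.not_le_iff_exists.mp hnot
    obtain ⟨v, hv⟩ := exists_inv_addOrderOf Λ M B' N hB' hu b
    exact ⟨sepElt Λ M b _ v, cycQuotMap_sepElt_of_notMem Λ M B' b hbB' v hv,
      cycQuotMap_sepElt_of_mem Λ M B b hbB _ v⟩
  · obtain ⟨b', hbB', hbB⟩ := SetLike.not_le_iff_exists.mp hle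
    obtain ⟨v, hv⟩ := exists_inv_addOrderOf Λ M B N hB hu b'
    refine ⟨1 - sepElt Λ M b' (addOrderOf (QuotientAddGroup.mk b' : M ⧸ B)) v, ?_, ?_⟩
    · rw [map_sub, map_one, cycQuotMap_sepElt_of_mem Λ M B' b' hbB', sub_zero]
    · rw [map_sub, map_one, cycQuotMap_sepElt_of_notMem Λ M B b' hbB v hv, sub_self]

/-- for a finite set `J` of subgroups with cyclic quotients and a member `B`, an element mapping
to `1` at `B` and to `0` at the other members. -/
theorem exists_orth_aux (N : ℕ) (hu : IsUnit ((N : ℕ) : Λ)) (J : Finset (AddSubgroup M))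
    (hJ : ∀ B ∈ J, B.FiniteIndex ∧ IsAddCyclic (M ⧸ B) ∧ B.index ∣ N)
    (B : AddSubgroup M) (hB : B ∈ J) (J' : Finset (AddSubgroup M)) (hJ' : J' ⊆ J) :
    ∃ e : AddMonoidAlgebra Λ M, cycQuotMap Λ M B e = 1 ∧
      ∀ B' ∈ J', B' ≠ B → cycQuotMap Λ M B' e = 0 := by
  classical
  induction J' using Finset.induction_on with
  | empty => exact ⟨1, map_one _, fun B' h => absurd h (Finset.notMem_empty _)⟩
  | insert B'' J'' hnot ih =>
    obtain ⟨e, he1, he0⟩ := ih (fun x hx => hJ' (Finset.mem_insert_of_mem hx))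
    by_cases hBB : B'' = B
    · refine ⟨e, he1, ?_⟩
      intro B' hB' hne
      rcases Finset.mem_insert.mp hB' with h | h
      · exact absurd (h.trans hBB) hne
      · exact he0 B' h hne
    · obtain ⟨h1, h2, h3⟩ := hJ B hB
      obtain ⟨h1', h2', h3'⟩ := hJ B'' (hJ' (Finset.mem_insert_self _ _))
      obtain ⟨s, hs1, hs0⟩ := exists_sep Λ M B'' B hBB N h3' h3 hu
      refine ⟨e * s, by rw [map_mul, he1, hs1, one_mul], ?_⟩
      intro B' hB' hne
      rcases Finset.mem_insert.mp hB' with h | h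
      · rw [h, map_mul, hs0, mul_zero]
      · rw [map_mul, he0 B' h hne, zero_mul]

/-- a family of elements of `Λ[M]` orthogonal with respect to a finite set of subgroups with
cyclic quotients. -/
theorem exists_orth (N : ℕ) (hu : IsUnit ((N : ℕ) : Λ)) (J : Finset (AddSubgroup M))
    (hJ : ∀ B ∈ J, B.FiniteIndex ∧ IsAddCyclic (M ⧸ B) ∧ B.index ∣ N) :
    ∃ e : AddSubgroup M → AddMonoidAlgebra Λ M, ∀ B ∈ J, cycQuotMap Λ M B (e B) = 1 ∧
      ∀ B' ∈ J, B' ≠ B → cycQuotMap Λ M B' (e B) = 0 := by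
  classical
  have h : ∀ B : AddSubgroup M, ∃ e : AddMonoidAlgebra Λ M, B ∈ J →
      (cycQuotMap Λ M B e = 1 ∧ ∀ B' ∈ J, B' ≠ B → cycQuotMap Λ M B' e = 0) := by
    intro B
    by_cases hB : B ∈ J
    · obtain ⟨e, he⟩ := exists_orth_aux Λ M N hu J hJ B hB J (Finset.Subset.refl _)
      exact ⟨e, fun _ => he⟩
    · exact ⟨0, fun h => absurd h hB⟩
  choose e he using h
  exact ⟨e, he⟩

theorem quotMap_surjective (B : AddSubgroup M) : Function.Surjective (quotMap Λ M B) := by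
  intro y
  induction y using AddMonoidAlgebra.induction_linear with
  | zero => exact ⟨0, map_zero _⟩
  | add x y hx hy =>
    obtain ⟨x', rfl⟩ := hx
    obtain ⟨y', rfl⟩ := hy
    exact ⟨x' + y', map_add _ _ _⟩
  | single a r =>
    obtain ⟨a', rfl⟩ := QuotientAddGroup.mk'_surjective B a
    exact ⟨AddMonoidAlgebra.single a' r, quotMap_single Λ M B a' r⟩

theorem cycQuotMap_surjective (B : AddSubgroup M) : Function.Surjective (cycQuotMap Λ M B) := by
  intro y
  obtain ⟨y', rfl⟩ := Ideal.Quotient.mk_surjective y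
  obtain ⟨x, rfl⟩ := quotMap_surjective Λ M B y'
  exact ⟨x, rfl⟩

end orth

end Groth.Agent.Lib.Helper87
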