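import Mathlib
import Groth.Prelude.Def_W4c5monodromycubicsHesse

/-!
# The Hesse pencil: Hessian covariance for linear substitutions
-/

set_option autoImplicit false

namespace Groth.Agent.Lib.Helper87

open MvPolynomial

namespace Hesse

/-- The Fermat cubic. -/
noncomputable def Pc : MvPolynomial (Fin 3) ℂ := X 0 ^ 3 + X 1 ^ 3 + X 2 ^ 3

/-- The triangle `xyz`. -/
noncomputable def Qc : MvPolynomial (Fin 3) ℂ := X 0 * X 1 * X 2

/-- The Hessian of the Hesse form with parameter `k`. -/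
noncomputable def Gc (k : ℂ) : MvPolynomial (Fin 3) ℂ :=
  C (-54 * k ^ 2) * Pc + C (216 - 54 * k ^ 3) * Qc

/-- The linear forms given by the rows of a matrix. -/
noncomputable def lin (A : Matrix (Fin 3) (Fin 3) ℂ) (i : Fin 3) : MvPolynomial (Fin 3) ℂ :=
  ∑ j : Fin 3, C (A i j) * X j

theorem form_eq (k : ℂ) : HesseCubic.form k = Pc - C (3 * k) * Qc := by
  simp [HesseCubic.form, Pc, Qc]

theorem lin_eq (A : Matrix (Fin 3) (Fin 3) ℂ) (i : Fin 3) :
    lin A i = C (A i 0) * X 0 + C (A i 1) * X 1 + C (A i 2) * X 2 := by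
  simp [lin, Fin.sum_univ_three]

theorem eval_lin (A : Matrix (Fin 3) (Fin 3) ℂ) (i : Fin 3) (v : Fin 3 → ℂ) :
    eval v (lin A i) = (A.mulVec v) i := by
  simp [lin, Matrix.mulVec, dotProduct]

theorem aeval_Pc (A : Matrix (Fin 3) (Fin 3) ℂ) :
    aeval (lin A) Pc = lin A 0 ^ 3 + lin A 1 ^ 3 + lin A 2 ^ 3 := by
  simp [Pc]

theorem aeval_Qc (A : Matrix (Fin 3) (Fin 3) ℂ) :
    aeval (lin A) Qc = lin A 0 * lin A 1 * lin A 2 := by
  simp [Qc]

/-- The Hessian matrix of the Hesse form at a point. -/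
def Hm (k : ℂ) (y : Fin 3 → ℂ) : Matrix (Fin 3) (Fin 3) ℂ :=
  !![6 * y 0, -3 * k * y 2, -3 * k * y 1;
     -3 * k * y 2, 6 * y 1, -3 * k * y 0;
     -3 * k * y 1, -3 * k * y 0, 6 * y 2]

theorem det_Hm (k : ℂ) (y : Fin 3 → ℂ) :
    (Hm k y).det = eval y (Gc k) := by
  simp [Hm, Matrix.det_fin_three, Gc, Pc, Qc]
  ring

theorem hess_entry (A : Matrix (Fin 3) (Fin 3) ℂ) (k c : ℂ)
    (h : aeval (lin A) (Pc - C (3*k) * Qc) = C c * (Pc - C (3*k) * Qc)) (v : Fin 3 → ℂ) (a b : Fin 3) :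
    (A.transpose * Hm k (A.mulVec v) * A) a b = c * Hm k v a b := by
  have h2 := congrArg (fun p => eval v (pderiv b (pderiv a p))) h
  simp only [map_sub, map_mul, aeval_Pc, aeval_Qc, aeval_C, lin_eq] at h2
  fin_cases a <;> fin_cases b <;>
  · simp [Pc, Qc, pow_three, Derivation.leibniz, pderiv_X] at h2
    simp [Matrix.mul_apply, Fin.sum_univ_three, Hm, Matrix.mulVec, dotProduct]
    linear_combination h2

theorem eval_aeval_lin (A : Matrix (Fin 3) (Fin 3) ℂ) (v : Fin 3 → ℂ) (p : MvPolynomial (Fin 3) ℂ) :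
    eval v (aeval (lin A) p) = eval (A.mulVec v) p := by
  induction p using MvPolynomial.induction_on with
  | C a => simp
  | add p q hp hq => rw [map_add, map_add, hp, hq, map_add]
  | mul_X p i hp => rw [map_mul, map_mul, hp, aeval_X, eval_lin, map_mul, eval_X]

theorem hess_cov_pt (A : Matrix (Fin 3) (Fin 3) ℂ) (k c : ℂ)
    (h : aeval (lin A) (Pc - C (3*k) * Qc) = C c * (Pc - C (3*k) * Qc)) (hdet : A.det = 1)
    (v : Fin 3 → ℂ) : eval (A.mulVec v) (Gc k) = c ^ 3 * eval v (Gc k) := by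
  have hm : A.transpose * Hm k (A.mulVec v) * A = c • Hm k v := by
    ext a b
    simp [hess_entry A k c h v a b]
  have := congrArg Matrix.det hm
  rw [Matrix.det_mul, Matrix.det_mul, Matrix.det_transpose, hdet, Matrix.det_smul, det_Hm,
    det_Hm] at this
  simpa using this

theorem hess_cov (A : Matrix (Fin 3) (Fin 3) ℂ) (k c : ℂ)
    (h : aeval (lin A) (Pc - C (3*k) * Qc) = C c * (Pc - C (3*k) * Qc)) (hdet : A.det = 1) :
    aeval (lin A) (Gc k) = C (c ^ 3) * Gc k := by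
  apply MvPolynomial.funext
  intro v
  rw [eval_aeval_lin, hess_cov_pt A k c h hdet v]
  simp

end Hesse

end Groth.Agent.Lib.Helper87
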