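import Mathlib
import Groth.Agent.Lib.Helper87.Hesse1

/-!
# The Hesse pencil: completely reducible members
-/

set_option autoImplicit false

namespace Groth.Agent.Lib.Helper87

open MvPolynomial

namespace Hesse

/-- Linear forms in three variables. -/
def IsLin (p : MvPolynomial (Fin 3) ℂ) : Prop :=
  ∃ b : Fin 3 → ℂ, p = ∑ j : Fin 3, C (b j) * X j

theorem isLin_X (j : Fin 3) : IsLin (X j) := by
  refine ⟨Pi.single j 1, ?_⟩
  fin_cases j <;> simp [Fin.sum_univ_three]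

theorem isLin_lin (A : Matrix (Fin 3) (Fin 3) ℂ) (i : Fin 3) : IsLin (lin A i) :=
  ⟨A i, rfl⟩

theorem isLin_aeval (A : Matrix (Fin 3) (Fin 3) ℂ) {p : MvPolynomial (Fin 3) ℂ} (hp : IsLin p) :
    IsLin (aeval (lin A) p) := by
  obtain ⟨b, rfl⟩ := hp
  refine ⟨fun j => ∑ i : Fin 3, b i * A i j, ?_⟩
  simp only [Fin.sum_univ_three, map_add, map_mul, aeval_C, aeval_X, lin_eq, algebraMap_eq]
  ring

theorem isLin_smul (r : ℂ) {p : MvPolynomial (Fin 3) ℂ} (hp : IsLin p) : IsLin (C r * p) := by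
  obtain ⟨b, rfl⟩ := hp
  refine ⟨fun j => r * b j, ?_⟩
  simp only [Fin.sum_univ_three, map_mul]
  ring

/-- Products of three linear forms. -/
def Tri (f : MvPolynomial (Fin 3) ℂ) : Prop :=
  ∃ M0 M1 M2 : MvPolynomial (Fin 3) ℂ, IsLin M0 ∧ IsLin M1 ∧ IsLin M2 ∧ f = M0 * M1 * M2

theorem tri_Qc : Tri Qc := ⟨X 0, X 1, X 2, isLin_X 0, isLin_X 1, isLin_X 2, rfl⟩

theorem tri_aeval (A : Matrix (Fin 3) (Fin 3) ℂ) {f : MvPolynomial (Fin 3) ℂ} (h : Tri f) :
    Tri (aeval (lin A) f) := by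
  obtain ⟨M0, M1, M2, h0, h1, h2, rfl⟩ := h
  exact ⟨_, _, _, isLin_aeval A h0, isLin_aeval A h1, isLin_aeval A h2, by simp only [map_mul]⟩

theorem tri_smul (r : ℂ) {f : MvPolynomial (Fin 3) ℂ} (h : Tri f) : Tri (C r * f) := by
  obtain ⟨M0, M1, M2, h0, h1, h2, rfl⟩ := h
  exact ⟨_, _, _, isLin_smul r h0, h1, h2, by ring⟩

theorem exists_common_zero (b0 b1 : Fin 3 → ℂ) :
    ∃ v : Fin 3 → ℂ, v ≠ 0 ∧ ∑ j, b0 j * v j = 0 ∧ ∑ j, b1 j * v j = 0 := by
  let M : Matrix (Fin 3) (Fin 3) ℂ := !![b0 0, b0 1, b0 2; b1 0, b1 1, b1 2; 0, 0, 0]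
  have hdet : M.det = 0 := by
    simp [M, Matrix.det_fin_three]
  obtain ⟨v, hv, hMv⟩ := Matrix.exists_mulVec_eq_zero_iff.mpr hdet
  refine ⟨v, hv, ?_, ?_⟩
  · have := congrFun hMv 0
    simpa [M, Matrix.mulVec, dotProduct, Fin.sum_univ_three] using this
  · have := congrFun hMv 1
    simpa [M, Matrix.mulVec, dotProduct, Fin.sum_univ_three] using this

theorem eval_isLin {p : MvPolynomial (Fin 3) ℂ} {b : Fin 3 → ℂ}
    (hp : p = ∑ j : Fin 3, C (b j) * X j) (v : Fin 3 → ℂ) :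
    eval v p = ∑ j, b j * v j := by
  subst hp
  simp

theorem eval_pderiv_mul3 (M0 M1 M2 : MvPolynomial (Fin 3) ℂ) (v : Fin 3 → ℂ)
    (h0 : eval v M0 = 0) (h1 : eval v M1 = 0) (j : Fin 3) :
    eval v (pderiv j (M0 * M1 * M2)) = 0 := by
  simp [Derivation.leibniz, h0, h1]

theorem tri_pencil (a b : ℂ) (h : Tri (C a * Pc + C b * Qc)) : a = 0 ∨ b ^ 3 = -27 * a ^ 3 := by
  obtain ⟨M0, M1, M2, ⟨b0, h0⟩, ⟨b1, h1⟩, -, hf⟩ := h
  obtain ⟨v, hv, hv0, hv1⟩ := exists_common_zero b0 b1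
  have e : ∀ j, eval v (pderiv j (C a * Pc + C b * Qc)) = 0 := by
    intro j
    rw [hf]
    exact eval_pderiv_mul3 M0 M1 M2 v (by rw [eval_isLin h0, hv0]) (by rw [eval_isLin h1, hv1]) j
  have e0 := e 0
  have e1 := e 1
  have e2 := e 2
  simp [Pc, Qc, pow_three, Derivation.leibniz, pderiv_X] at e0 e1 e2
  by_cases ha : a = 0
  · exact Or.inl ha
  right
  have hw : (27 * a ^ 3 + b ^ 3) * (v 0 * v 1 * v 2) ^ 2 = 0 := by
    linear_combination ((3 * a * v 1 ^ 2) * (3 * a * v 2 ^ 2)) * e0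
      - ((b * v 1 * v 2) * (3 * a * v 2 ^ 2)) * e1 + ((b * v 1 * v 2) * (b * v 0 * v 2)) * e2
  rcases mul_eq_zero.mp hw with hw | hw
  · linear_combination hw
  · exfalso
    have hw' : v 0 * v 1 * v 2 = 0 := by simpa using hw
    have c0 : v 0 ^ 3 = 0 := by
      have : 3 * a * v 0 ^ 3 = 0 := by linear_combination v 0 * e0 - b * hw'
      simpa [ha] using this
    have c1 : v 1 ^ 3 = 0 := by
      have : 3 * a * v 1 ^ 3 = 0 := by linear_combination v 1 * e1 - b * hw'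
      simpa [ha] using this
    have c2 : v 2 ^ 3 = 0 := by
      have : 3 * a * v 2 ^ 3 = 0 := by linear_combination v 2 * e2 - b * hw'
      simpa [ha] using this
    apply hv
    funext j
    fin_cases j
    · simpa using c0
    · simpa using c1
    · simpa using c2

end Hesse

end Groth.Agent.Lib.Helper87
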