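import Mathlib
import Groth.Agent.Lib.Helper87.Hesse2

/-!
# The Hesse pencil: the scalar of a form-preserving unimodular substitution
-/

set_option autoImplicit false

namespace Groth.Agent.Lib.Helper87

open MvPolynomial

namespace Hesse

/-- The Hesse form written with `Pc` and `Qc`. -/
noncomputable def Fk (k : ℂ) : MvPolynomial (Fin 3) ℂ := Pc - C (3 * k) * Qc

/-- The substitution homomorphism attached to a matrix. -/
noncomputable def phi (A : Matrix (Fin 3) (Fin 3) ℂ) :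
    MvPolynomial (Fin 3) ℂ →ₐ[ℂ] MvPolynomial (Fin 3) ℂ := aeval (lin A)

theorem phi_pow_succ (A : Matrix (Fin 3) (Fin 3) ℂ) (i : ℕ) (f : MvPolynomial (Fin 3) ℂ) :
    (phi A ^ (i + 1)) f = (phi A ^ i) (phi A f) := by
  rw [pow_succ]
  rfl

theorem phi_pow_succ' (A : Matrix (Fin 3) (Fin 3) ℂ) (i : ℕ) (f : MvPolynomial (Fin 3) ℂ) :
    (phi A ^ (i + 1)) f = phi A ((phi A ^ i) f) := by
  rw [pow_succ']
  rfl

theorem phi_pow_eigen (A : Matrix (Fin 3) (Fin 3) ℂ) (f : MvPolynomial (Fin 3) ℂ) (c : ℂ)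
    (h : phi A f = C c * f) (i : ℕ) : (phi A ^ i) f = C (c ^ i) * f := by
  induction i with
  | zero => simp
  | succ i ih =>
    rw [phi_pow_succ, h, map_mul, ih, pow_succ, map_mul]
    have : (phi A ^ i) (C c) = C c := by
      rw [← algebraMap_eq, AlgHom.commutes]
    rw [this]
    ring

theorem tri_phi_pow (A : Matrix (Fin 3) (Fin 3) ℂ) {f : MvPolynomial (Fin 3) ℂ} (h : Tri f)
    (i : ℕ) : Tri ((phi A ^ i) f) := by
  induction i with
  | zero => simpa using h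
  | succ i ih =>
    rw [phi_pow_succ']
    exact tri_aeval A ih

theorem key_rel (k : ℂ) : C (216 * (1 - k ^ 3)) * Qc = C (54 * k ^ 2) * Fk k + Gc k := by
  simp only [Fk, Gc, map_mul, map_sub, map_neg, map_pow, map_one, map_ofNat]
  ring

/-- The two coefficients of the image of the triangle. -/
noncomputable def ca (k w : ℂ) : ℂ := 54 * k ^ 2 * (1 - w)

noncomputable def cb (k w : ℂ) : ℂ := w * (216 - 54 * k ^ 3) - 162 * k ^ 3

theorem pencil_rel (A : Matrix (Fin 3) (Fin 3) ℂ) (k c : ℂ)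
    (hF : phi A (Fk k) = C c * Fk k) (hG : phi A (Gc k) = C (c ^ 3) * Gc k) (i : ℕ) :
    C (216 * (1 - k ^ 3)) * (phi A ^ i) Qc =
      C (c ^ i) * (C (ca k ((c ^ 2) ^ i)) * Pc + C (cb k ((c ^ 2) ^ i)) * Qc) := by
  have h1 := phi_pow_eigen A _ _ hF i
  have h2 := phi_pow_eigen A _ _ hG i
  have h3 : (phi A ^ i) (C (216 * (1 - k ^ 3)) * Qc) =
      (phi A ^ i) (C (54 * k ^ 2) * Fk k + Gc k) := congrArg _ (key_rel k)
  rw [map_add (phi A ^ i), map_mul (phi A ^ i), map_mul (phi A ^ i), h1, h2] at h3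
  have e1 : (phi A ^ i) (C (216 * (1 - k ^ 3))) = C (216 * (1 - k ^ 3)) := by
    rw [← algebraMap_eq, AlgHom.commutes]
  have e2 : (phi A ^ i) (C (54 * k ^ 2)) = C (54 * k ^ 2) := by
    rw [← algebraMap_eq, AlgHom.commutes]
  rw [e1, e2] at h3
  rw [h3]
  simp only [Fk, Gc, ca, cb, map_mul, map_sub, map_neg, map_pow, map_one, map_ofNat]
  ring

theorem tri_pencil_pow (A : Matrix (Fin 3) (Fin 3) ℂ) (k c : ℂ) (hc : c ≠ 0) (hk : k ^ 3 ≠ 1)
    (hF : phi A (Fk k) = C c * Fk k) (hG : phi A (Gc k) = C (c ^ 3) * Gc k) (i : ℕ) :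
    ca k ((c ^ 2) ^ i) = 0 ∨ cb k ((c ^ 2) ^ i) ^ 3 = -27 * ca k ((c ^ 2) ^ i) ^ 3 := by
  apply tri_pencil
  have h := pencil_rel A k c hF hG i
  have hci : c ^ i ≠ 0 := pow_ne_zero _ hc
  have : C (ca k ((c ^ 2) ^ i)) * Pc + C (cb k ((c ^ 2) ^ i)) * Qc =
      C ((c ^ i)⁻¹ * (216 * (1 - k ^ 3))) * (phi A ^ i) Qc := by
    rw [map_mul, mul_assoc, h, ← mul_assoc, ← map_mul, inv_mul_cancel₀ hci, map_one, one_mul]
  rw [this]
  exact tri_smul _ (tri_phi_pow A tri_Qc i)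

/-- The quartic whose roots contain all powers of `c ^ 2`. -/
noncomputable def hp (k : ℂ) : Polynomial ℂ :=
  (Polynomial.C (54 * k ^ 2) * (1 - Polynomial.X)) *
    ((Polynomial.C (216 - 54 * k ^ 3) * Polynomial.X - Polynomial.C (162 * k ^ 3)) ^ 3 +
      27 * (Polynomial.C (54 * k ^ 2) * (1 - Polynomial.X)) ^ 3)

theorem eval_hp (k w : ℂ) : (hp k).eval w = ca k w * (cb k w ^ 3 + 27 * ca k w ^ 3) := by
  simp only [hp, ca, cb, Polynomial.eval_mul, Polynomial.eval_add, Polynomial.eval_sub,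
    Polynomial.eval_pow, Polynomial.eval_C, Polynomial.eval_X, Polynomial.eval_one,
    Polynomial.eval_ofNat]
  ring

theorem natDegree_hp (k : ℂ) : (hp k).natDegree ≤ 4 := by
  unfold hp
  compute_degree

theorem hp_ne_zero (k : ℂ) (hk0 : k ≠ 0) (hk : k ^ 3 ≠ 1) : hp k ≠ 0 := by
  intro h
  have h0 : (hp k).eval 0 = 0 := by rw [h]; simp
  rw [eval_hp] at h0
  have : ca k 0 * (cb k 0 ^ 3 + 27 * ca k 0 ^ 3) = 54 ^ 4 * 27 * k ^ 8 * (1 - k ^ 3) := by
    simp only [ca, cb]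
    ring
  rw [this] at h0
  have h1 : (1 : ℂ) - k ^ 3 ≠ 0 := fun h => hk (by linear_combination -h)
  have : (54 : ℂ) ^ 4 * 27 * k ^ 8 * (1 - k ^ 3) ≠ 0 :=
    mul_ne_zero (mul_ne_zero (by norm_num) (pow_ne_zero 8 hk0)) h1
  exact this h0

theorem pow_twelve_eq_one (p : Polynomial ℂ) (hp0 : p ≠ 0) (hdeg : p.natDegree ≤ 4) (u : ℂ)
    (hu : u ≠ 0) (h : ∀ i : ℕ, p.eval (u ^ i) = 0) : u ^ 12 = 1 := by
  by_contra hne
  have key : ∀ i j : ℕ, i < j → j ≤ 4 → u ^ i ≠ u ^ j := by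
    intro i j hij hj heq
    have h1 : u ^ (j - i) = 1 := by
      have : u ^ i * u ^ (j - i) = u ^ i * 1 := by
        rw [← pow_add, mul_one, show i + (j - i) = j by omega, heq]
      exact mul_left_cancel₀ (pow_ne_zero _ hu) this
    apply hne
    have hd : j - i = 1 ∨ j - i = 2 ∨ j - i = 3 ∨ j - i = 4 := by omega
    rcases hd with hd | hd | hd | hd <;> rw [hd] at h1
    · rw [show 12 = 1 * 12 from rfl, pow_mul, h1, one_pow]
    · rw [show 12 = 2 * 6 from rfl, pow_mul, h1, one_pow]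
    · rw [show 12 = 3 * 4 from rfl, pow_mul, h1, one_pow]
    · rw [show 12 = 4 * 3 from rfl, pow_mul, h1, one_pow]
  have hinj : Function.Injective (fun i : Fin 5 => u ^ (i : ℕ)) := by
    intro i j hij
    by_contra hne'
    rcases lt_or_gt_of_ne (fun h => hne' (Fin.ext h)) with hlt | hlt
    · exact key i j hlt (by omega) hij
    · exact key j i hlt (by omega) hij.symm
  apply hp0
  apply Polynomial.eq_zero_of_natDegree_lt_card_of_eval_eq_zero p hinj (fun i => h i)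
  simp only [Fintype.card_fin]
  omega

end Hesse

end Groth.Agent.Lib.Helper87
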