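import Mathlib
import Groth.Agent.Lib.Helper87.Hesse3

/-!
# The Hesse pencil: the exceptional parameters
-/

set_option autoImplicit false

namespace Groth.Agent.Lib.Helper87

open MvPolynomial

namespace Hesse

/-- For a fixed multiplier `u`, the condition on the parameter as a polynomial. -/
noncomputable def qpoly (u : ℂ) : Polynomial ℂ :=
  (Polynomial.C u * (216 - 54 * Polynomial.X ^ 3) - 162 * Polynomial.X ^ 3) ^ 3 +
    27 * (54 * Polynomial.X ^ 2 * (1 - Polynomial.C u)) ^ 3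

theorem eval_qpoly (u k : ℂ) : (qpoly u).eval k = cb k u ^ 3 + 27 * ca k u ^ 3 := by
  simp only [qpoly, ca, cb, Polynomial.eval_mul, Polynomial.eval_add, Polynomial.eval_sub,
    Polynomial.eval_pow, Polynomial.eval_C, Polynomial.eval_X, Polynomial.eval_one,
    Polynomial.eval_ofNat]

theorem qpoly_ne_zero (u : ℂ) (hu : u ≠ 0) : qpoly u ≠ 0 := by
  intro h
  have h0 : (qpoly u).eval 0 = 0 := by rw [h]; simp
  rw [eval_qpoly] at h0
  have : cb 0 u ^ 3 + 27 * ca 0 u ^ 3 = (216 * u) ^ 3 := by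
    simp only [ca, cb]
    ring
  rw [this] at h0
  exact (pow_ne_zero 3 (mul_ne_zero (by norm_num) hu)) h0

/-- The exceptional parameters. -/
def excSet : Set ℂ :=
  ({0} ∪ {k | k ^ 3 = 1}) ∪ ⋃ u ∈ {u : ℂ | u ^ 12 = 1 ∧ u ≠ 1}, {k | (qpoly u).IsRoot k}

theorem excSet_finite : excSet.Finite := by
  unfold excSet
  apply Set.Finite.union
  · apply Set.Finite.union (Set.finite_singleton _)
    have hne : (Polynomial.X ^ 3 - 1 : Polynomial ℂ) ≠ 0 :=
      Polynomial.X_pow_sub_C_ne_zero (by norm_num) (1 : ℂ)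
    refine (Polynomial.finite_setOf_isRoot hne).subset ?_
    intro k hk
    simp only [Set.mem_setOf_eq] at hk
    simp [Polynomial.IsRoot, hk]
  · apply Set.Finite.biUnion
    · have hne : (Polynomial.X ^ 12 - 1 : Polynomial ℂ) ≠ 0 :=
        Polynomial.X_pow_sub_C_ne_zero (by norm_num) (1 : ℂ)
      refine (Polynomial.finite_setOf_isRoot hne).subset ?_
      intro u hu
      simp only [Set.mem_setOf_eq] at hu
      simp [Polynomial.IsRoot, hu.1]
    · intro u hu
      have hu0 : u ≠ 0 := by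
        rintro rfl
        simp at hu
      exact Polynomial.finite_setOf_isRoot (qpoly_ne_zero u hu0)

theorem ne_zero_of_not_exc {k : ℂ} (hk : k ∉ excSet) : k ≠ 0 := by
  rintro rfl
  exact hk (Or.inl (Or.inl rfl))

theorem cube_ne_one_of_not_exc {k : ℂ} (hk : k ∉ excSet) : k ^ 3 ≠ 1 := by
  intro h
  exact hk (Or.inl (Or.inr h))

theorem c_ne_zero (A : Matrix (Fin 3) (Fin 3) ℂ) (k c : ℂ) (hdet : A.det = 1)
    (hF : phi A (Fk k) = C c * Fk k) : c ≠ 0 := by
  rintro rfl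
  have hu : IsUnit A.det := by rw [hdet]; exact isUnit_one
  have h1 := congrArg (eval (A⁻¹.mulVec (Pi.single 0 1))) hF
  rw [phi, eval_aeval_lin, Matrix.mulVec_mulVec, Matrix.mul_nonsing_inv A hu, Matrix.one_mulVec]
    at h1
  simp [Fk, Pc, Qc] at h1

theorem sq_eq_one_of_not_exc (A : Matrix (Fin 3) (Fin 3) ℂ) (k c : ℂ) (hk : k ∉ excSet)
    (hdet : A.det = 1) (hF : phi A (Fk k) = C c * Fk k) : c ^ 2 = 1 := by
  have hk0 := ne_zero_of_not_exc hk
  have hk3 := cube_ne_one_of_not_exc hk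
  have hc := c_ne_zero A k c hdet hF
  have hG : phi A (Gc k) = C (c ^ 3) * Gc k := hess_cov A k c hF hdet
  have hroots : ∀ i : ℕ, (hp k).eval ((c ^ 2) ^ i) = 0 := by
    intro i
    rw [eval_hp]
    rcases tri_pencil_pow A k c hc hk3 hF hG i with h | h
    · rw [h, zero_mul]
    · rw [h]
      ring
  have h12 : (c ^ 2) ^ 12 = 1 :=
    pow_twelve_eq_one (hp k) (hp_ne_zero k hk0 hk3) (natDegree_hp k) (c ^ 2) (pow_ne_zero 2 hc)
      hroots
  by_contra hu1
  apply hk
  refine Or.inr ?_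
  simp only [Set.mem_iUnion, Set.mem_setOf_eq]
  refine ⟨c ^ 2, ⟨h12, hu1⟩, ?_⟩
  rw [Polynomial.IsRoot, eval_qpoly]
  have h1 := tri_pencil_pow A k c hc hk3 hF hG 1
  rw [pow_one] at h1
  rcases h1 with h | h
  · exfalso
    have h1u : (1 : ℂ) - c ^ 2 ≠ 0 := fun h => hu1 (by linear_combination -h)
    have : ca k (c ^ 2) ≠ 0 := by
      unfold ca
      exact mul_ne_zero (mul_ne_zero (by norm_num) (pow_ne_zero 2 hk0)) h1u
    exact this h
  · rw [h]
    ring

theorem phi_Qc_of_not_exc (A : Matrix (Fin 3) (Fin 3) ℂ) (k c : ℂ) (hk : k ∉ excSet)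
    (hdet : A.det = 1) (hF : phi A (Fk k) = C c * Fk k) : phi A Qc = C c * Qc := by
  have hk3 := cube_ne_one_of_not_exc hk
  have hc2 := sq_eq_one_of_not_exc A k c hk hdet hF
  have hG : phi A (Gc k) = C (c ^ 3) * Gc k := hess_cov A k c hF hdet
  have h := pencil_rel A k c hF hG 1
  rw [pow_one, pow_one, pow_one, hc2] at h
  have hr : (216 * (1 - k ^ 3) : ℂ) ≠ 0 := by
    have h1 : (1 : ℂ) - k ^ 3 ≠ 0 := fun h => hk3 (by linear_combination -h)
    exact mul_ne_zero (by norm_num) h1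
  have hCr : (C (216 * (1 - k ^ 3)) : MvPolynomial (Fin 3) ℂ) ≠ 0 := by
    rw [Ne, C_eq_zero]
    exact hr
  apply mul_left_cancel₀ hCr
  rw [h]
  have e1 : ca k 1 = 0 := by simp [ca]
  have e2 : cb k 1 = 216 * (1 - k ^ 3) := by
    simp only [cb]
    ring
  rw [e1, e2]
  simp only [map_zero, zero_mul, zero_add]
  ring

theorem phi_Pc_of_not_exc (A : Matrix (Fin 3) (Fin 3) ℂ) (k c : ℂ) (hk : k ∉ excSet)
    (hdet : A.det = 1) (hF : phi A (Fk k) = C c * Fk k) : phi A Pc = C c * Pc := by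
  have hQ := phi_Qc_of_not_exc A k c hk hdet hF
  have : Pc = Fk k + C (3 * k) * Qc := by
    simp only [Fk]
    ring
  rw [this, map_add, map_mul, hF, hQ]
  have : phi A (C (3 * k)) = C (3 * k) := by
    rw [← algebraMap_eq, AlgHom.commutes]
  rw [this]
  ring

end Hesse

end Groth.Agent.Lib.Helper87
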