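import Mathlib
import Groth.Agent.Lib.Helper87.Hesse4

/-!
# The Hesse pencil: monomial matrices
-/

set_option autoImplicit false

namespace Groth.Agent.Lib.Helper87

open MvPolynomial

namespace Hesse

/-- Generalized permutation matrices. -/
def Mon (σ : Equiv.Perm (Fin 3)) (e : Fin 3 → ℂ) : Matrix (Fin 3) (Fin 3) ℂ :=
  fun i j => if σ i = j then e i else 0

theorem Mon_apply (σ : Equiv.Perm (Fin 3)) (e : Fin 3 → ℂ) (i j : Fin 3) :
    Mon σ e i j = if σ i = j then e i else 0 := rfl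

theorem det_Mon (σ : Equiv.Perm (Fin 3)) (e : Fin 3 → ℂ) :
    (Mon σ e).det = (Equiv.Perm.sign σ : ℂ) * ∏ i, e i := by
  have h : Mon σ e = (Matrix.diagonal (fun a => e (σ.symm a))).submatrix σ id := by
    ext i j
    simp [Mon, Matrix.diagonal_apply]
  rw [h, Matrix.det_permute, Matrix.det_diagonal]
  congr 1
  exact Equiv.prod_comp σ.symm e

theorem lin_Mon (σ : Equiv.Perm (Fin 3)) (e : Fin 3 → ℂ) (i : Fin 3) :
    lin (Mon σ e) i = C (e i) * X (σ i) := by
  unfold lin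
  rw [Finset.sum_eq_single (σ i)]
  · simp [Mon]
  · intro j _ hj
    simp [Mon, Ne.symm hj]
  · intro h
    exact absurd (Finset.mem_univ _) h

theorem Pc_eq_sum : Pc = ∑ j : Fin 3, (X j : MvPolynomial (Fin 3) ℂ) ^ 3 := by
  simp [Pc, Fin.sum_univ_three]

theorem Qc_eq_prod : Qc = ∏ j : Fin 3, (X j : MvPolynomial (Fin 3) ℂ) := by
  simp [Qc, Fin.prod_univ_three]

theorem phi_Pc_Mon (σ : Equiv.Perm (Fin 3)) (e : Fin 3 → ℂ) (ε : ℂ) (he : ∀ i, e i ^ 3 = ε) :
    phi (Mon σ e) Pc = C ε * Pc := by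
  rw [Pc_eq_sum, phi, map_sum, Finset.mul_sum]
  rw [← Equiv.sum_comp σ (fun j => C ε * (X j : MvPolynomial (Fin 3) ℂ) ^ 3)]
  apply Finset.sum_congr rfl
  intro i _
  rw [map_pow, aeval_X, lin_Mon, mul_pow, ← map_pow, he]

theorem phi_Qc_Mon (σ : Equiv.Perm (Fin 3)) (e : Fin 3 → ℂ) (ε : ℂ) (he : ∏ i, e i = ε) :
    phi (Mon σ e) Qc = C ε * Qc := by
  rw [Qc_eq_prod, phi, map_prod]
  rw [← Equiv.prod_comp σ (fun j => (X j : MvPolynomial (Fin 3) ℂ)), ← he, map_prod,
    ← Finset.prod_mul_distrib]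
  apply Finset.prod_congr rfl
  intro i _
  rw [aeval_X, lin_Mon]

theorem phi_Fk_Mon (σ : Equiv.Perm (Fin 3)) (e : Fin 3 → ℂ) (ε k : ℂ) (he : ∀ i, e i ^ 3 = ε)
    (he' : ∏ i, e i = ε) : phi (Mon σ e) (Fk k) = C ε * Fk k := by
  unfold Fk
  rw [map_sub, map_mul, phi_Pc_Mon σ e ε he, phi_Qc_Mon σ e ε he']
  have : phi (Mon σ e) (C (3 * k)) = C (3 * k) := by
    rw [← algebraMap_eq, AlgHom.commutes]
  rw [this]
  ring

/-- Setting one variable to zero. -/
noncomputable def killVar (j : Fin 3) : MvPolynomial (Fin 3) ℂ →ₐ[ℂ] MvPolynomial (Fin 3) ℂ :=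
  aeval (fun m => if m = j then 0 else X m)

theorem killVar_Qc (j : Fin 3) : killVar j Qc = 0 := by
  rw [Qc_eq_prod, killVar, map_prod]
  apply Finset.prod_eq_zero (Finset.mem_univ j)
  simp

theorem killVar_lin (A : Matrix (Fin 3) (Fin 3) ℂ) (i j : Fin 3) :
    killVar j (lin A i) = ∑ m : Fin 3, C (A i m) * (if m = j then 0 else X m) := by
  simp [killVar, lin]

theorem row_support_of_killVar (A : Matrix (Fin 3) (Fin 3) ℂ) (i j : Fin 3)
    (h : killVar j (lin A i) = 0) (m : Fin 3) (hm : m ≠ j) : A i m = 0 := by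
  rw [killVar_lin] at h
  have h1 := congrArg (eval (Pi.single m (1 : ℂ))) h
  rw [map_sum, map_zero] at h1
  rw [Finset.sum_eq_single m] at h1
  · simpa [hm] using h1
  · intro m' _ hm'
    by_cases hj : m' = j
    · simp [hj]
    · simp [hj, hm']
  · intro h
    exact absurd (Finset.mem_univ _) h

theorem exists_row (A : Matrix (Fin 3) (Fin 3) ℂ) (c : ℂ) (hQ : phi A Qc = C c * Qc)
    (j : Fin 3) : ∃ i, ∀ m, m ≠ j → A i m = 0 := by
  have h := congrArg (killVar j) hQ
  rw [map_mul, killVar_Qc, mul_zero, phi, aeval_Qc, map_mul, map_mul] at h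
  rcases mul_eq_zero.mp h with h | h
  · rcases mul_eq_zero.mp h with h | h
    · exact ⟨0, row_support_of_killVar A 0 j h⟩
    · exact ⟨1, row_support_of_killVar A 1 j h⟩
  · exact ⟨2, row_support_of_killVar A 2 j h⟩

theorem exists_perm (A : Matrix (Fin 3) (Fin 3) ℂ) (c : ℂ) (hdet : A.det = 1)
    (hQ : phi A Qc = C c * Qc) :
    ∃ (σ : Equiv.Perm (Fin 3)) (e : Fin 3 → ℂ), A = Mon σ e := by
  choose ρ hρ using exists_row A c hQ
  have hinj : Function.Injective ρ := by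
    intro j j' hjj
    by_contra hne
    have hrow : ∀ m, A (ρ j) m = 0 := by
      intro m
      by_cases hm : m = j
      · subst hm
        rw [hjj]
        exact hρ j' m hne
      · exact hρ j m hm
    have : A.det = 0 := Matrix.det_eq_zero_of_row_eq_zero (ρ j) hrow
    rw [hdet] at this
    exact one_ne_zero this
  have hbij : Function.Bijective ρ := Finite.injective_iff_bijective.mp hinj
  let τ : Equiv.Perm (Fin 3) := Equiv.ofBijective ρ hbij
  refine ⟨τ.symm, fun i => A i (τ.symm i), ?_⟩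
  ext i m
  rw [Mon_apply]
  by_cases hm : τ.symm i = m
  · rw [if_pos hm, hm]
  · rw [if_neg hm]
    have hi : ρ (τ.symm i) = i := τ.apply_symm_apply i
    rw [← hi]
    exact hρ (τ.symm i) m (Ne.symm hm)

end Hesse

end Groth.Agent.Lib.Helper87
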