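import Mathlib
import Groth.Agent.Lib.Helper87.Hesse5

/-!
# The Hesse pencil: counting the form-preserving unimodular substitutions
-/

set_option autoImplicit false

namespace Groth.Agent.Lib.Helper87

open MvPolynomial

namespace Hesse

/-- The sign of a permutation as a complex number. -/
def sg (σ : Equiv.Perm (Fin 3)) : ℂ := ((Equiv.Perm.sign σ : ℤ) : ℂ)

theorem sg_sq (σ : Equiv.Perm (Fin 3)) : sg σ ^ 2 = 1 := by
  unfold sg
  rcases Int.units_eq_one_or (Equiv.Perm.sign σ) with h | h <;> rw [h] <;> simp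

theorem sg_cube (σ : Equiv.Perm (Fin 3)) : sg σ ^ 3 = sg σ := by
  rw [pow_succ, sg_sq, one_mul]

theorem sg_ne_zero (σ : Equiv.Perm (Fin 3)) : sg σ ≠ 0 := by
  intro h
  have := sg_sq σ
  rw [h] at this
  simp at this

theorem det_Mon' (σ : Equiv.Perm (Fin 3)) (e : Fin 3 → ℂ) :
    (Mon σ e).det = sg σ * ∏ i, e i := det_Mon σ e

/-- The explicit description of the matrices in question. -/
def monSet : Set (Matrix (Fin 3) (Fin 3) ℂ) :=
  {A | ∃ (σ : Equiv.Perm (Fin 3)) (e : Fin 3 → ℂ), A = Mon σ e ∧ (∀ i, e i ^ 3 = sg σ) ∧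
    ∏ i, e i = sg σ}

theorem phi_Pc_Mon' (σ : Equiv.Perm (Fin 3)) (e : Fin 3 → ℂ) :
    phi (Mon σ e) Pc = ∑ i : Fin 3, C (e i ^ 3) * X (σ i) ^ 3 := by
  rw [Pc_eq_sum, phi, map_sum]
  apply Finset.sum_congr rfl
  intro i _
  rw [map_pow, aeval_X, lin_Mon, mul_pow, ← map_pow]

theorem cube_eq_of_phi_Pc (σ : Equiv.Perm (Fin 3)) (e : Fin 3 → ℂ) (c : ℂ)
    (hP : phi (Mon σ e) Pc = C c * Pc) (i : Fin 3) : e i ^ 3 = c := by
  rw [phi_Pc_Mon', Pc_eq_sum] at hP
  have h := congrArg (eval (Pi.single (σ i) (1 : ℂ))) hP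
  rw [map_sum, map_mul, map_sum, eval_C] at h
  rw [Finset.sum_eq_single i, Finset.sum_eq_single (σ i)] at h
  · simpa using h
  · intro j _ hj
    simp [hj]
  · intro h
    exact absurd (Finset.mem_univ _) h
  · intro j _ hj
    have : σ j ≠ σ i := fun h => hj (σ.injective h)
    simp [this]
  · intro h
    exact absurd (Finset.mem_univ _) h

theorem prod_eq_of_phi_Qc (σ : Equiv.Perm (Fin 3)) (e : Fin 3 → ℂ) (c : ℂ)
    (hQ : phi (Mon σ e) Qc = C c * Qc) : ∏ i, e i = c := by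
  rw [phi_Qc_Mon σ e _ rfl] at hQ
  have h := congrArg (eval (fun _ => (1 : ℂ))) hQ
  simpa [Qc] using h

theorem mem_monSet_of (k : ℂ) (hk : k ∉ excSet) (A : Matrix (Fin 3) (Fin 3) ℂ)
    (hdet : A.det = 1) (c : ℂ) (hF : phi A (Fk k) = C c * Fk k) : A ∈ monSet := by
  have hQ := phi_Qc_of_not_exc A k c hk hdet hF
  have hP := phi_Pc_of_not_exc A k c hk hdet hF
  obtain ⟨σ, e, rfl⟩ := exists_perm A c hdet hQ
  have h1 := prod_eq_of_phi_Qc σ e c hQ
  have h2 := cube_eq_of_phi_Pc σ e c hP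
  rw [det_Mon', h1] at hdet
  have hc : c = sg σ := by
    have := sg_sq σ
    linear_combination (-c) * this + sg σ * hdet
  refine ⟨σ, e, rfl, ?_, ?_⟩
  · intro i
    rw [h2 i, hc]
  · rw [h1, hc]

theorem of_mem_monSet (k : ℂ) (A : Matrix (Fin 3) (Fin 3) ℂ) (hA : A ∈ monSet) :
    A.det = 1 ∧ ∃ c : ℂ, phi A (Fk k) = C c * Fk k := by
  obtain ⟨σ, e, rfl, h1, h2⟩ := hA
  refine ⟨?_, sg σ, phi_Fk_Mon σ e (sg σ) k h1 h2⟩
  rw [det_Mon', h2, ← pow_two, sg_sq]

/-- The coordinates of a point of the parameter space. -/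
noncomputable def gvec (a b : rootsOfUnity 3 ℂ) : Fin 3 → ℂ :=
  ![((a : ℂˣ) : ℂ), ((b : ℂˣ) : ℂ), (((a : ℂˣ) : ℂ) * ((b : ℂˣ) : ℂ))⁻¹]

/-- The parametrization of `monSet`. -/
noncomputable def gmap (x : Equiv.Perm (Fin 3) × (rootsOfUnity 3 ℂ) × (rootsOfUnity 3 ℂ)) :
    Matrix (Fin 3) (Fin 3) ℂ :=
  Mon x.1 (fun i => sg x.1 * gvec x.2.1 x.2.2 i)

theorem root_cube (a : rootsOfUnity 3 ℂ) : ((a : ℂˣ) : ℂ) ^ 3 = 1 :=
  (mem_rootsOfUnity' 3 (a : ℂˣ)).mp a.2

theorem root_ne_zero (a : rootsOfUnity 3 ℂ) : ((a : ℂˣ) : ℂ) ≠ 0 := (a : ℂˣ).ne_zero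

theorem gvec_cube (a b : rootsOfUnity 3 ℂ) (i : Fin 3) : gvec a b i ^ 3 = 1 := by
  fin_cases i
  · simpa [gvec] using root_cube a
  · simpa [gvec] using root_cube b
  · simp only [gvec, Fin.reduceFinMk, Matrix.cons_val]
    rw [inv_pow, mul_pow, root_cube a, root_cube b, mul_one, inv_one]

theorem gvec_prod (a b : rootsOfUnity 3 ℂ) : ∏ i, gvec a b i = 1 := by
  rw [Fin.prod_univ_three]
  simp only [gvec, Matrix.cons_val_zero, Matrix.cons_val_one, Matrix.cons_val]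
  exact mul_inv_cancel₀ (mul_ne_zero (root_ne_zero a) (root_ne_zero b))

theorem gvec_ne_zero (a b : rootsOfUnity 3 ℂ) (i : Fin 3) : gvec a b i ≠ 0 := by
  intro h
  have := gvec_cube a b i
  rw [h] at this
  simp at this

theorem gmap_mem (x : Equiv.Perm (Fin 3) × (rootsOfUnity 3 ℂ) × (rootsOfUnity 3 ℂ)) :
    gmap x ∈ monSet := by
  refine ⟨x.1, _, rfl, ?_, ?_⟩
  · intro i
    rw [mul_pow, gvec_cube, mul_one, sg_cube]
  · rw [Finset.prod_mul_distrib, gvec_prod, mul_one, Finset.prod_const, Finset.card_univ,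
      Fintype.card_fin, sg_cube]

theorem gmap_surj (A : Matrix (Fin 3) (Fin 3) ℂ) (hA : A ∈ monSet) : ∃ x, gmap x = A := by
  obtain ⟨σ, e, rfl, h1, h2⟩ := hA
  have ht : ∀ i, (sg σ * e i) ^ 3 = 1 := by
    intro i
    rw [mul_pow, h1, sg_cube, ← pow_two, sg_sq]
  have hprod : (sg σ * e 0) * (sg σ * e 1) * (sg σ * e 2) = 1 := by
    rw [Fin.prod_univ_three] at h2
    have := sg_sq σ
    have h3 : sg σ ^ 4 = 1 := by
      rw [show 4 = 2 * 2 from rfl, pow_mul, this, one_pow]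
    linear_combination (sg σ ^ 3) * h2 + h3
  refine ⟨⟨σ, rootsOfUnity.mkOfPowEq _ (ht 0), rootsOfUnity.mkOfPowEq _ (ht 1)⟩, ?_⟩
  unfold gmap
  congr 1
  funext i
  have hs := sg_sq σ
  fin_cases i
  · simp only [gvec, rootsOfUnity.coe_mkOfPowEq, Fin.zero_eta, Matrix.cons_val_zero]
    linear_combination (e 0) * hs
  · simp only [gvec, rootsOfUnity.coe_mkOfPowEq, Fin.mk_one, Matrix.cons_val_one,
      Matrix.cons_val_zero]
    linear_combination (e 1) * hs
  · simp only [gvec, rootsOfUnity.coe_mkOfPowEq, Fin.reduceFinMk, Matrix.cons_val]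
    have hne : sg σ * e 0 * (sg σ * e 1) ≠ 0 := by
      intro h
      rw [h, zero_mul] at hprod
      exact zero_ne_one hprod
    have : (sg σ * e 0 * (sg σ * e 1))⁻¹ = sg σ * e 2 :=
      inv_eq_of_mul_eq_one_right hprod
    rw [this]
    linear_combination (e 2) * hs

theorem Mon_inj (σ σ' : Equiv.Perm (Fin 3)) (e e' : Fin 3 → ℂ) (he : ∀ i, e i ≠ 0)
    (h : Mon σ e = Mon σ' e') : σ = σ' ∧ e = e' := by
  have key : ∀ i, σ' i = σ i ∧ e' i = e i := by
    intro i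
    have h1 := congrFun (congrFun h i) (σ i)
    rw [Mon_apply, Mon_apply, if_pos rfl] at h1
    by_cases hs : σ' i = σ i
    · rw [if_pos hs] at h1
      exact ⟨hs, h1.symm⟩
    · rw [if_neg hs] at h1
      exact absurd h1 (he i)
  constructor
  · ext i
    rw [(key i).1]
  · funext i
    rw [(key i).2]

theorem gmap_injective : Function.Injective gmap := by
  rintro ⟨σ, a, b⟩ ⟨σ', a', b'⟩ h
  unfold gmap at h
  obtain ⟨h1, h2⟩ := Mon_inj _ _ _ _
    (fun i => mul_ne_zero (sg_ne_zero σ) (gvec_ne_zero a b i)) h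
  dsimp only at h1 h2
  subst h1
  have e0 := congrFun h2 0
  have e1 := congrFun h2 1
  simp only [gvec, Matrix.cons_val_zero, Matrix.cons_val_one] at e0 e1
  have ha : a = a' := by
    apply Subtype.ext
    apply Units.ext
    exact mul_left_cancel₀ (sg_ne_zero σ) e0
  have hb : b = b' := by
    apply Subtype.ext
    apply Units.ext
    exact mul_left_cancel₀ (sg_ne_zero σ) e1
  rw [ha, hb]

theorem card_monSet : Nat.card monSet = 54 := by
  have hr : monSet = Set.range gmap := by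
    ext A
    constructor
    · intro hA
      exact gmap_surj A hA
    · rintro ⟨x, rfl⟩
      exact gmap_mem x
  rw [hr, Nat.card_range_of_injective gmap_injective, Nat.card_prod, Nat.card_prod,
    Nat.card_perm, Complex.card_rootsOfUnity, Nat.card_fin]
  rfl

end Hesse

end Groth.Agent.Lib.Helper87
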