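import Mathlib
import Groth.Agent.Lib.Helper87.Hesse6

/-!
# The Hesse pencil: the generic member has 54 unimodular linear symmetries
-/

set_option autoImplicit false

namespace Groth.Agent.Lib.Helper87

open MvPolynomial

namespace Hesse

theorem hesse_main :
    ∃ T : Finset ℂ, ∀ k : ℂ, k ∉ T →
      Nat.card {A : Matrix (Fin 3) (Fin 3) ℂ // A.det = 1 ∧
        ∃ c : ℂ, aeval (fun i : Fin 3 => ∑ j : Fin 3, C (A i j) * X j) (HesseCubic.form k) =
          C c * HesseCubic.form k} = 54 := by
  refine ⟨excSet_finite.toFinset, fun k hk => ?_⟩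
  have hk' : k ∉ excSet := by simpa using hk
  rw [← card_monSet]
  apply Nat.card_congr
  apply Equiv.subtypeEquivRight
  intro A
  rw [form_eq]
  constructor
  · rintro ⟨hdet, c, hc⟩
    exact mem_monSet_of k hk' A hdet c hc
  · intro hA
    exact of_mem_monSet k A hA

end Hesse

end Groth.Agent.Lib.Helper87
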