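import Groth.Agent.Lib.Helper87.HilbAdd1
import Mathlib.RingTheory.GradedAlgebra.Radical
import Mathlib.RingTheory.Noetherian.Basic

/-!
# Homogeneous colon ideals that are prime (helper87)
-/

set_option autoImplicit false
universe u

namespace Groth.Agent.Lib.Helper87

open DirectSum

section ColonPrime

variable {k : Type*} [CommRing k] {S : Type*} [CommRing S] [Algebra k S]
  (𝒜 : ℕ → Submodule k S) [GradedAlgebra 𝒜]

/-- a proper homogeneous ideal of a Noetherian graded ring has a homogeneous element whose colon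
ideal is prime -/
theorem exists_homogeneous_colon_prime [IsNoetherianRing S] (J : Ideal S) (hJ : J.IsHomogeneous 𝒜)
    (hJtop : J ≠ ⊤) :
    ∃ (e : ℕ) (x : S), x ∈ 𝒜 e ∧ x ∉ J ∧ (colonElt J x).IsPrime := by
  classical
  let 𝒞 : Set (Ideal S) := {K | ∃ (e : ℕ) (x : S), x ∈ 𝒜 e ∧ x ∉ J ∧ K = colonElt J x}
  have hne : 𝒞.Nonempty := by
    refine ⟨colonElt J 1, 0, 1, SetLike.GradedOne.one_mem, ?_, rfl⟩
    rwa [← Ideal.eq_top_iff_one]
  obtain ⟨K, ⟨e, x, hxe, hxJ, rfl⟩, hmax⟩ := wellFounded_gt.has_min 𝒞 hne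
  refine ⟨e, x, hxe, hxJ, ?_⟩
  apply Ideal.IsHomogeneous.isPrime_of_homogeneous_mem_or_mem (𝒜 := 𝒜)
    (colonElt_isHomogeneous 𝒜 hJ hxe) (colonElt_ne_top hxJ)
  rintro a b ⟨i, ha⟩ ⟨j, hb⟩ hab
  by_contra hcon
  push Not at hcon
  obtain ⟨haK, hbK⟩ := hcon
  have hbx : b * x ∉ J := hbK
  have hbxdeg : b * x ∈ 𝒜 (j + e) := SetLike.GradedMul.mul_mem hb hxe
  have hK' : colonElt J (b * x) ∈ 𝒞 := ⟨j + e, b * x, hbxdeg, hbx, rfl⟩
  have hle : colonElt J x ≤ colonElt J (b * x) := by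
    intro y hy
    rw [mem_colonElt] at hy ⊢
    have : y * (b * x) = b * (y * x) := by ring
    rw [this]
    exact J.mul_mem_left b hy
  have haK' : a ∈ colonElt J (b * x) := by
    rw [mem_colonElt] at hab ⊢
    have : a * (b * x) = a * b * x := by ring
    rw [this]
    exact hab
  have hlt : colonElt J x < colonElt J (b * x) :=
    lt_of_le_of_ne hle (fun h => haK (h ▸ haK'))
  exact hmax _ hK' hlt

end ColonPrime

end Groth.Agent.Lib.Helper87
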