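import Groth.Agent.Lib.Helper87.HilbAdd1
import Mathlib.RingTheory.Length
import Mathlib.Algebra.Module.LocalizedModule.Exact
import Mathlib.RingTheory.Localization.Module
import Mathlib.RingTheory.Localization.AtPrime.Basic
import Mathlib.RingTheory.SimpleModule.Basic

/-!
# Lengths of localisations of cyclic modules at primes (helper87)
-/

set_option autoImplicit false
universe u

namespace Groth.Agent.Lib.Helper87

section LocLen

variable {S : Type u} [CommRing S] (p : Ideal S) [p.IsPrime]

theorem subsingleton_localizedModule_quotient_of_not_le (q : Ideal S) (h : ¬ q ≤ p) :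
    Subsingleton (LocalizedModule p.primeCompl (S ⧸ q)) := by
  obtain ⟨s, hsq, hsp⟩ := Set.not_subset.mp h
  rw [LocalizedModule.subsingleton_iff]
  intro m
  refine ⟨s, hsp, ?_⟩
  obtain ⟨a, rfl⟩ := Ideal.Quotient.mk_surjective m
  rw [Algebra.smul_def]
  have : algebraMap S (S ⧸ q) s = 0 := Ideal.Quotient.eq_zero_iff_mem.mpr hsq
  rw [this, zero_mul]

theorem length_localizedModule_quotient_of_not_le (q : Ideal S) (h : ¬ q ≤ p) :
    Module.length (Localization.AtPrime p) (LocalizedModule p.primeCompl (S ⧸ q)) = 0 := by
  haveI := subsingleton_localizedModule_quotient_of_not_le p q h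
  exact Module.length_eq_zero

theorem isSimpleModule_localizedModule_quotient_self :
    IsSimpleModule (Localization.AtPrime p) (LocalizedModule p.primeCompl (S ⧸ p)) := by
  rw [isSimpleModule_iff_toSpanSingleton_surjective]
  constructor
  · rw [← not_subsingleton_iff_nontrivial, LocalizedModule.subsingleton_iff]
    intro hcon
    obtain ⟨r, hr, hr0⟩ := hcon (1 : S ⧸ p)
    rw [Algebra.smul_def, mul_one] at hr0
    exact hr (Ideal.Quotient.eq_zero_iff_mem.mp hr0)
  · intro x hx z
    induction x using LocalizedModule.induction_on with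
    | h a' s =>
      induction z using LocalizedModule.induction_on with
      | h b' t =>
        obtain ⟨a, rfl⟩ := Ideal.Quotient.mk_surjective a'
        obtain ⟨b, rfl⟩ := Ideal.Quotient.mk_surjective b'
        have ha : a ∉ p := by
          intro ha
          apply hx
          rw [Ideal.Quotient.eq_zero_iff_mem.mpr ha, LocalizedModule.zero_mk]
        have hat : a * (t : S) ∈ p.primeCompl := fun hmem =>
          (Ideal.IsPrime.mem_or_mem ‹p.IsPrime› hmem).elim ha t.2
        refine ⟨Localization.mk (b * (s : S)) ⟨a * (t : S), hat⟩, ?_⟩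
        rw [LinearMap.toSpanSingleton_apply, LocalizedModule.mk_smul_mk, LocalizedModule.mk_eq]
        refine ⟨1, ?_⟩
        rw [one_smul, one_smul]
        simp only [Submonoid.smul_def, Submonoid.coe_mul, Algebra.smul_def]
        have hmk : ∀ c : S, algebraMap S (S ⧸ p) c = Ideal.Quotient.mk p c := fun _ => rfl
        rw [hmk, hmk, hmk, ← map_mul, ← map_mul, ← map_mul]
        congr 1
        ring

theorem length_localizedModule_quotient_self :
    Module.length (Localization.AtPrime p) (LocalizedModule p.primeCompl (S ⧸ p)) = 1 := by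
  haveI := isSimpleModule_localizedModule_quotient_self p
  exact Module.length_eq_one _ _

/-- additivity of the local length along `0 → S/(J:x) → S/J → S/(J+(x)) → 0` -/
theorem length_localizedModule_quotient_add (J : Ideal S) (x : S) :
    Module.length (Localization.AtPrime p) (LocalizedModule p.primeCompl (S ⧸ J)) =
      Module.length (Localization.AtPrime p) (LocalizedModule p.primeCompl (S ⧸ colonElt J x)) +
      Module.length (Localization.AtPrime p)
        (LocalizedModule p.primeCompl (S ⧸ (J ⊔ Ideal.span {x}))) := by
  let f : (S ⧸ colonElt J x) →ₗ[S] (S ⧸ J) :=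
    Submodule.mapQ (colonElt J x) J (LinearMap.mulLeft S x) (by
      intro y hy
      rw [Submodule.mem_comap, LinearMap.mulLeft_apply, mul_comm]
      exact hy)
  let g : (S ⧸ J) →ₗ[S] (S ⧸ (J ⊔ Ideal.span {x})) :=
    Submodule.mapQ J (J ⊔ Ideal.span {x}) LinearMap.id (by
      intro y hy
      exact Ideal.mem_sup_left hy)
  have hf : Function.Injective f := by
    rw [← LinearMap.ker_eq_bot, LinearMap.ker_eq_bot']
    intro y hy
    obtain ⟨y, rfl⟩ := Submodule.Quotient.mk_surjective _ y
    rw [Submodule.mapQ_apply, Submodule.Quotient.mk_eq_zero, LinearMap.mulLeft_apply] at hy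
    rw [Submodule.Quotient.mk_eq_zero, mem_colonElt, mul_comm]
    exact hy
  have hg : Function.Surjective g := by
    intro z
    obtain ⟨z, rfl⟩ := Submodule.Quotient.mk_surjective _ z
    exact ⟨Submodule.Quotient.mk z, by rw [Submodule.mapQ_apply]; rfl⟩
  have hex : Function.Exact f g := by
    intro y
    obtain ⟨y, rfl⟩ := Submodule.Quotient.mk_surjective _ y
    rw [Submodule.mapQ_apply, LinearMap.id_apply, Submodule.Quotient.mk_eq_zero]
    constructor
    · intro hy
      obtain ⟨j, hj, z, hz, rfl⟩ := Submodule.mem_sup.mp hy
      obtain ⟨c, rfl⟩ := Ideal.mem_span_singleton'.mp hz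
      refine ⟨Submodule.Quotient.mk c, ?_⟩
      rw [Submodule.mapQ_apply, LinearMap.mulLeft_apply, Submodule.Quotient.eq]
      have : x * c - (j + c * x) = -j := by ring
      rw [this]
      exact J.neg_mem hj
    · rintro ⟨c, hc⟩
      obtain ⟨c, rfl⟩ := Submodule.Quotient.mk_surjective _ c
      rw [Submodule.mapQ_apply, LinearMap.mulLeft_apply, Submodule.Quotient.eq] at hc
      have : y = x * c - (x * c - y) := by ring
      rw [this]
      exact Ideal.sub_mem _
        (Ideal.mem_sup_right (Ideal.mul_mem_right _ _ (Ideal.mem_span_singleton_self x)))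
        (Ideal.mem_sup_left hc)
  let F := (IsLocalizedModule.map p.primeCompl
    (LocalizedModule.mkLinearMap p.primeCompl (S ⧸ colonElt J x))
    (LocalizedModule.mkLinearMap p.primeCompl (S ⧸ J)) f).extendScalarsOfIsLocalization
      p.primeCompl (Localization.AtPrime p)
  let G := (IsLocalizedModule.map p.primeCompl
    (LocalizedModule.mkLinearMap p.primeCompl (S ⧸ J))
    (LocalizedModule.mkLinearMap p.primeCompl (S ⧸ (J ⊔ Ideal.span {x}))) g).extendScalarsOfIsLocalization
      p.primeCompl (Localization.AtPrime p)
  have hF : Function.Injective F :=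
    IsLocalizedModule.map_injective p.primeCompl _ _ f hf
  have hG : Function.Surjective G :=
    IsLocalizedModule.map_surjective p.primeCompl _ _ g hg
  have hFG : Function.Exact F G :=
    IsLocalizedModule.map_exact p.primeCompl _ _ _ f g hex
  exact Module.length_eq_add_of_exact F G hF hG hFG

end LocLen

end Groth.Agent.Lib.Helper87
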