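import Groth.Agent.Lib.Helper87.HilbFn1

/-!
# Hilbert functions: polynomial upper bounds from systems of parameters (helper87)
-/

set_option autoImplicit false
universe u

namespace Groth.Agent.Lib.Helper87

open DirectSum Polynomial

section Rec

/-- unrolling the recursion `f m ≤ f (m - D) + g m` -/
theorem rec_bound (f g : ℕ → ℕ) (D : ℕ) (hD : 0 < D)
    (h : ∀ m, D ≤ m → f m ≤ f (m - D) + g m) :
    ∀ m, f m ≤ ∑ i ∈ Finset.range D, f i + ∑ j ∈ Finset.range (m + 1), g j := by
  intro m
  induction m using Nat.strong_induction_on with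
  | _ m ih =>
    by_cases hm : D ≤ m
    · have h1 := h m hm
      have h2 := ih (m - D) (by omega)
      have h3 : ∑ j ∈ Finset.range (m - D + 1), g j + g m ≤ ∑ j ∈ Finset.range (m + 1), g j := by
        rw [Finset.sum_range_succ _ m]
        apply Nat.add_le_add_right
        exact Finset.sum_le_sum_of_subset (Finset.range_mono (by omega))
      omega
    · have : f m ≤ ∑ i ∈ Finset.range D, f i :=
        Finset.single_le_sum (f := f) (fun _ _ => Nat.zero_le _) (Finset.mem_range.mpr (by omega))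
      omega

end Rec

section UB

variable (k : Type u) [Field k] (n : ℕ)

theorem hilbFn_eq_zero_of_le (J : Ideal (MvPolynomial (Fin (n + 1)) k)) (m : ℕ)
    (h : CohB1.polyGrading n k m ≤ Submodule.restrictScalars k J) : hilbFn k n J m = 0 := by
  unfold hilbFn
  rw [inf_eq_right.mpr h]
  exact Nat.sub_self _

theorem exists_notMem_of_hilbFn_ne_zero (J : Ideal (MvPolynomial (Fin (n + 1)) k)) (m : ℕ)
    (h : hilbFn k n J m ≠ 0) : ∃ x, x ∈ CohB1.polyGrading n k m ∧ x ∉ J := by
  by_contra hcon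
  push Not at hcon
  exact h (hilbFn_eq_zero_of_le k n J m (fun x hx => hcon x hx))

/-- if `k[X]/J` is finite over `k` and `J` is homogeneous, the Hilbert function of `J` is eventually zero -/
theorem hilbFn_eventually_zero (J : Ideal (MvPolynomial (Fin (n + 1)) k))
    (hJ : J.IsHomogeneous (CohB1.polyGrading n k))
    [Module.Finite k (MvPolynomial (Fin (n + 1)) k ⧸ J)] :
    ∃ m₀ : ℕ, ∀ m : ℕ, m₀ ≤ m → hilbFn k n J m = 0 := by
  classical
  set S : Set ℕ := {m | hilbFn k n J m ≠ 0} with hS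
  have hfin : S.Finite := by
    by_contra hinf
    obtain ⟨T, hTS, hTcard⟩ := Set.Infinite.exists_subset_card_eq hinf
      (Module.finrank k (MvPolynomial (Fin (n + 1)) k ⧸ J) + 1)
    have hex : ∀ m, hilbFn k n J m ≠ 0 → ∃ x, x ∈ CohB1.polyGrading n k m ∧ x ∉ J :=
      fun m hm => exists_notMem_of_hilbFn_ne_zero k n J m hm
    choose! x hx using hex
    have hxT : ∀ t : T, x t.1 ∈ CohB1.polyGrading n k t.1 ∧ x t.1 ∉ J := fun t => hx t.1 (hTS t.2)
    have hli : LinearIndependent k (fun t : T => Ideal.Quotient.mk J (x t.1)) := by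
      rw [linearIndependent_iff']
      intro s g hsum t₀ _
      have h1 : (∑ t ∈ s, g t • x t.1) ∈ J := by
        rw [← Ideal.Quotient.eq_zero_iff_mem, map_sum, ← hsum]
        refine Finset.sum_congr rfl fun t _ => ?_
        exact map_smul (Ideal.Quotient.mkₐ k J) (g t) (x t.1)
      have h2 := hJ t₀.1 h1
      rw [decompose_sum, DFinsupp.finsetSum_apply, AddSubmonoidClass.coe_finsetSum] at h2
      by_cases ht₀ : t₀ ∈ s
      · rw [Finset.sum_eq_single t₀] at h2
        · rw [decompose_of_mem_same _ (Submodule.smul_mem _ _ (hxT t₀).1)] at h2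
          by_contra hg
          apply (hxT t₀).2
          have h3 : x t₀.1 = (g t₀)⁻¹ • (g t₀ • x t₀.1) := by
            rw [smul_smul, inv_mul_cancel₀ hg, one_smul]
          rw [h3, Algebra.smul_def]
          exact J.mul_mem_left _ h2
        · intro t _ hne
          have hne' : t.1 ≠ t₀.1 := fun h => hne (Subtype.ext h)
          rw [decompose_of_mem_ne _ (Submodule.smul_mem _ _ (hxT t).1) hne']
        · intro h
          exact absurd ht₀ h
      · rename_i hmem
        exact absurd hmem ht₀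
    have hcard := hli.fintype_card_le_finrank
    rw [Fintype.card_coe, hTcard] at hcard
    omega
  obtain ⟨M, hM⟩ := hfin.bddAbove
  refine ⟨M + 1, fun m hm => ?_⟩
  by_contra hne
  have : m ≤ M := hM hne
  omega

/-- the key step: a bound on the summed Hilbert function of `I + (x)` bounds the Hilbert function of `I` -/
theorem hilbFn_le_of_sum_le (I : Ideal (MvPolynomial (Fin (n + 1)) k))
    (hI : I.IsHomogeneous (CohB1.polyGrading n k))
    (x : MvPolynomial (Fin (n + 1)) k) (d : ℕ) (hd : 0 < d) (hx : x ∈ CohB1.polyGrading n k d)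
    (C e : ℕ)
    (hC : ∀ m, ∑ j ∈ Finset.range (m + 1), hilbFn k n (I ⊔ Ideal.span {x}) j ≤ C * (m + 1) ^ e) :
    ∃ C' : ℕ, ∀ m, hilbFn k n I m ≤ C' * (m + 1) ^ e := by
  refine ⟨∑ i ∈ Finset.range d, hilbFn k n I i + C, fun m => ?_⟩
  have h1 := rec_bound (hilbFn k n I) (hilbFn k n (I ⊔ Ideal.span {x})) d hd
    (fun m hm => hilbFn_le_add k n I hI x d hx m hm) m
  have h2 := hC m
  have h3 : 1 ≤ (m + 1) ^ e := Nat.one_le_pow _ _ (by omega)
  calc hilbFn k n I m ≤ ∑ i ∈ Finset.range d, hilbFn k n I i + C * (m + 1) ^ e := by omega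
    _ ≤ (∑ i ∈ Finset.range d, hilbFn k n I i) * (m + 1) ^ e + C * (m + 1) ^ e :=
        Nat.add_le_add_right (Nat.le_mul_of_pos_right _ h3) _
    _ = (∑ i ∈ Finset.range d, hilbFn k n I i + C) * (m + 1) ^ e := by ring

/-- the summed Hilbert function of `I` is `O(m^s)` when `s` forms cut `V(I)` down to dimension zero -/
theorem hilbFn_sum_le (s : Finset (MvPolynomial (Fin (n + 1)) k)) :
    ∀ (I : Ideal (MvPolynomial (Fin (n + 1)) k)), I.IsHomogeneous (CohB1.polyGrading n k) →
      (∀ x ∈ s, ∃ d : ℕ, 0 < d ∧ x ∈ CohB1.polyGrading n k d) →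
      Module.Finite k (MvPolynomial (Fin (n + 1)) k ⧸ (I ⊔ Ideal.span (s : Set (MvPolynomial (Fin (n + 1)) k)))) →
      ∃ C : ℕ, ∀ m, ∑ j ∈ Finset.range (m + 1), hilbFn k n I j ≤ C * (m + 1) ^ s.card := by
  classical
  induction s using Finset.induction_on with
  | empty =>
    intro I hI _ hfin
    rw [Finset.coe_empty, Ideal.span_empty, sup_bot_eq] at hfin
    obtain ⟨m₀, hm₀⟩ := hilbFn_eventually_zero k n I hI
    refine ⟨∑ j ∈ Finset.range m₀, hilbFn k n I j, fun m => ?_⟩
    rw [Finset.card_empty, pow_zero, mul_one]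
    by_cases h : m + 1 ≤ m₀
    · exact Finset.sum_le_sum_of_subset (Finset.range_mono h)
    · push Not at h
      rw [← Finset.sum_range_add_sum_Ico _ h.le]
      rw [Finset.sum_eq_zero (s := Finset.Ico m₀ (m + 1))]
      · rfl
      · intro j hj
        exact hm₀ j (Finset.mem_Ico.mp hj).1
  | insert x s hxs ih =>
    intro I hI hdeg hfin
    obtain ⟨d, hd, hxd⟩ := hdeg x (Finset.mem_insert_self x s)
    have hI' : (I ⊔ Ideal.span {x}).IsHomogeneous (CohB1.polyGrading n k) := by
      refine hI.sup (Ideal.homogeneous_span _ _ ?_)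
      intro z hz
      rw [Set.mem_singleton_iff] at hz
      rw [hz]
      exact ⟨d, hxd⟩
    have hfin' : Module.Finite k (MvPolynomial (Fin (n + 1)) k ⧸
        ((I ⊔ Ideal.span {x}) ⊔ Ideal.span (s : Set (MvPolynomial (Fin (n + 1)) k)))) := by
      have : (I ⊔ Ideal.span {x}) ⊔ Ideal.span (s : Set (MvPolynomial (Fin (n + 1)) k)) =
          I ⊔ Ideal.span ((insert x s : Finset (MvPolynomial (Fin (n + 1)) k)) :
            Set (MvPolynomial (Fin (n + 1)) k)) := by
        rw [Finset.coe_insert, Ideal.span_insert, sup_assoc]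
      rw [this]
      exact hfin
    obtain ⟨C, hC⟩ := ih (I ⊔ Ideal.span {x}) hI'
      (fun z hz => hdeg z (Finset.mem_insert_of_mem hz)) hfin'
    obtain ⟨C', hC'⟩ := hilbFn_le_of_sum_le k n I hI x d hd hxd C s.card hC
    refine ⟨C', fun m => ?_⟩
    rw [Finset.card_insert_of_notMem hxs, pow_succ]
    calc ∑ j ∈ Finset.range (m + 1), hilbFn k n I j
        ≤ ∑ _j ∈ Finset.range (m + 1), C' * (m + 1) ^ s.card := by
          refine Finset.sum_le_sum fun j hj => (hC' j).trans ?_
          have := Finset.mem_range.mp hj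
          exact Nat.mul_le_mul_left _ (Nat.pow_le_pow_left (by omega) _)
      _ = (m + 1) * (C' * (m + 1) ^ s.card) := by
          rw [Finset.sum_const, Finset.card_range, smul_eq_mul]
      _ = C' * ((m + 1) ^ s.card * (m + 1)) := by ring

/-- the Hilbert function of `I` is `O(m^(s-1))` when `s ≥ 1` forms cut `V(I)` down to dimension zero -/
theorem hilbFn_le_pow (I : Ideal (MvPolynomial (Fin (n + 1)) k))
    (hI : I.IsHomogeneous (CohB1.polyGrading n k))
    (s : Finset (MvPolynomial (Fin (n + 1)) k)) (hs : s.Nonempty)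
    (hdeg : ∀ x ∈ s, ∃ d : ℕ, 0 < d ∧ x ∈ CohB1.polyGrading n k d)
    (hfin : Module.Finite k (MvPolynomial (Fin (n + 1)) k ⧸
      (I ⊔ Ideal.span (s : Set (MvPolynomial (Fin (n + 1)) k))))) :
    ∃ C : ℕ, ∀ m, hilbFn k n I m ≤ C * (m + 1) ^ (s.card - 1) := by
  classical
  obtain ⟨x, hx⟩ := hs
  obtain ⟨d, hd, hxd⟩ := hdeg x hx
  have hins : insert x (s.erase x) = s := Finset.insert_erase hx
  have hcard : (s.erase x).card = s.card - 1 := Finset.card_erase_of_mem hx
  have hI' : (I ⊔ Ideal.span {x}).IsHomogeneous (CohB1.polyGrading n k) := by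
    refine hI.sup (Ideal.homogeneous_span _ _ ?_)
    intro z hz
    rw [Set.mem_singleton_iff] at hz
    rw [hz]
    exact ⟨d, hxd⟩
  have hfin' : Module.Finite k (MvPolynomial (Fin (n + 1)) k ⧸
      ((I ⊔ Ideal.span {x}) ⊔ Ideal.span ((s.erase x : Finset (MvPolynomial (Fin (n + 1)) k)) :
        Set (MvPolynomial (Fin (n + 1)) k)))) := by
    have : (I ⊔ Ideal.span {x}) ⊔ Ideal.span ((s.erase x : Finset (MvPolynomial (Fin (n + 1)) k)) :
          Set (MvPolynomial (Fin (n + 1)) k)) =
        I ⊔ Ideal.span (s : Set (MvPolynomial (Fin (n + 1)) k)) := by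
      conv_rhs => rw [← hins]
      rw [Finset.coe_insert, Ideal.span_insert, sup_assoc]
    rw [this]
    exact hfin
  obtain ⟨C, hC⟩ := hilbFn_sum_le k n (s.erase x) (I ⊔ Ideal.span {x}) hI'
    (fun z hz => hdeg z (Finset.mem_of_mem_erase hz)) hfin'
  rw [hcard] at hC
  exact hilbFn_le_of_sum_le k n I hI x d hd hxd C (s.card - 1) hC

end UB

end Groth.Agent.Lib.Helper87
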