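import Groth.Agent.Lib.Helper87.HilbAdd2
import Groth.Agent.Lib.Helper87.HilbAdd3
import Groth.Agent.Lib.Helper87.HilbFn2

/-!
# Homogeneous prime filtrations of `k[X]/I` in ideal form (helper87)
-/

set_option autoImplicit false
universe u

namespace Groth.Agent.Lib.Helper87

open DirectSum Polynomial

section Filt

variable (k : Type u) [Field k] (n : ℕ)

/-- a homogeneous prime filtration of `k[X]/J`, recorded by its prime factors and shifts, together
with the two additive invariants we need -/
structure IsFilt (J : Ideal (MvPolynomial (Fin (n + 1)) k))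
    (L : List (Ideal (MvPolynomial (Fin (n + 1)) k) × ℕ)) : Prop where
  prime : ∀ qe ∈ L, qe.1.IsPrime
  hom : ∀ qe ∈ L, qe.1.IsHomogeneous (CohB1.polyGrading n k)
  le : ∀ qe ∈ L, J ≤ qe.1
  hilb : ∀ m, hilbFn k n J m = (L.map fun qe => shiftFn (hilbFn k n qe.1) qe.2 m).sum
  len : ∀ (p : Ideal (MvPolynomial (Fin (n + 1)) k)) [p.IsPrime],
    Module.length (Localization.AtPrime p)
      (LocalizedModule p.primeCompl (MvPolynomial (Fin (n + 1)) k ⧸ J)) =
    (L.map fun qe => Module.length (Localization.AtPrime p)
      (LocalizedModule p.primeCompl (MvPolynomial (Fin (n + 1)) k ⧸ qe.1))).sum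

theorem exists_filt : ∀ J : Ideal (MvPolynomial (Fin (n + 1)) k),
    J.IsHomogeneous (CohB1.polyGrading n k) → ∃ L, IsFilt k n J L := by
  intro J
  refine WellFounded.induction
    (C := fun J : Ideal (MvPolynomial (Fin (n + 1)) k) =>
      J.IsHomogeneous (CohB1.polyGrading n k) → ∃ L, IsFilt k n J L)
    (wellFounded_gt : WellFounded ((· > ·) :
      Ideal (MvPolynomial (Fin (n + 1)) k) → Ideal (MvPolynomial (Fin (n + 1)) k) → Prop)) J ?_
  intro J ih hJ
  by_cases hJtop : J = ⊤
  · subst hJtop
    refine ⟨[], ?_⟩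
    refine ⟨by simp, by simp, by simp, fun m => ?_, fun p _ => ?_⟩
    · rw [List.map_nil, List.sum_nil]
      exact hilbFn_eq_zero_of_le k n ⊤ m (fun x _ => Submodule.mem_top)
    · rw [List.map_nil, List.sum_nil]
      haveI : Subsingleton (MvPolynomial (Fin (n + 1)) k ⧸ (⊤ : Ideal (MvPolynomial (Fin (n + 1)) k))) :=
        Ideal.Quotient.subsingleton_iff.mpr rfl
      exact Module.length_eq_zero
  · obtain ⟨e, x, hxe, hxJ, hprime⟩ :=
      exists_homogeneous_colon_prime (CohB1.polyGrading n k) J hJ hJtop
    have hx0 : x ≠ 0 := fun h => hxJ (h ▸ J.zero_mem)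
    have hJ' : (J ⊔ Ideal.span {x}).IsHomogeneous (CohB1.polyGrading n k) := by
      refine hJ.sup (Ideal.homogeneous_span _ _ ?_)
      intro z hz
      rw [Set.mem_singleton_iff] at hz
      rw [hz]
      exact ⟨e, hxe⟩
    have hlt : J ⊔ Ideal.span {x} > J := by
      refine lt_of_le_of_ne le_sup_left ?_
      intro h
      apply hxJ
      rw [h]
      exact Ideal.mem_sup_right (Ideal.mem_span_singleton_self x)
    obtain ⟨L', hL'⟩ := ih _ hlt hJ'
    refine ⟨(colonElt J x, e) :: L', ?_⟩
    refine ⟨?_, ?_, ?_, fun m => ?_, fun p _ => ?_⟩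
    · intro qe hqe
      rcases List.mem_cons.mp hqe with rfl | hqe
      · exact hprime
      · exact hL'.prime qe hqe
    · intro qe hqe
      rcases List.mem_cons.mp hqe with rfl | hqe
      · exact colonElt_isHomogeneous (CohB1.polyGrading n k) hJ hxe
      · exact hL'.hom qe hqe
    · intro qe hqe
      rcases List.mem_cons.mp hqe with rfl | hqe
      · exact le_colonElt J x
      · exact le_sup_left.trans (hL'.le qe hqe)
    · rw [List.map_cons, List.sum_cons, ← hL'.hilb m, add_comm]
      exact hilbFn_eq_add_colon k n J hJ x e hxe hx0 m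
    · rw [List.map_cons, List.sum_cons, ← hL'.len p]
      exact length_localizedModule_quotient_add p J x

open scoped Classical in
/-- at a minimal prime, the local length counts the occurrences of that prime in the filtration -/
theorem IsFilt.length_eq_countP {I : Ideal (MvPolynomial (Fin (n + 1)) k)}
    {L : List (Ideal (MvPolynomial (Fin (n + 1)) k) × ℕ)} (hL : IsFilt k n I L)
    (p : Ideal (MvPolynomial (Fin (n + 1)) k)) [hp : p.IsPrime] (hpmin : p ∈ I.minimalPrimes) :
    Module.length (Localization.AtPrime p)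
      (LocalizedModule p.primeCompl (MvPolynomial (Fin (n + 1)) k ⧸ I)) =
    ((L.countP fun qe => qe.1 = p : ℕ) : ℕ∞) := by
  rw [hL.len p]
  have key : ∀ L' : List (Ideal (MvPolynomial (Fin (n + 1)) k) × ℕ),
      (∀ qe ∈ L', qe.1.IsPrime ∧ I ≤ qe.1) →
      (L'.map fun qe => Module.length (Localization.AtPrime p)
        (LocalizedModule p.primeCompl (MvPolynomial (Fin (n + 1)) k ⧸ qe.1))).sum =
      ((L'.countP fun qe => qe.1 = p : ℕ) : ℕ∞) := by
    intro L'
    induction L' with
    | nil => intro _; simp
    | cons qe L' ih =>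
      intro h
      rw [List.map_cons, List.sum_cons, ih (fun qe' hqe' => h qe' (List.mem_cons_of_mem _ hqe')),
        List.countP_cons]
      obtain ⟨hqprime, hIq⟩ := h qe List.mem_cons_self
      by_cases hq : qe.1 = p
      · have h1 : Module.length (Localization.AtPrime p)
            (LocalizedModule p.primeCompl (MvPolynomial (Fin (n + 1)) k ⧸ qe.1)) = 1 := by
          rw [hq]
          exact length_localizedModule_quotient_self p
        rw [h1]
        simp only [hq, decide_true, if_true]
        push_cast
        rw [add_comm]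
      · have hnle : ¬ qe.1 ≤ p := by
          intro hle
          apply hq
          exact le_antisymm hle (hpmin.2 ⟨hqprime, hIq⟩ hle)
        rw [length_localizedModule_quotient_of_not_le p qe.1 hnle]
        simp [hq]
  exact key L (fun qe hqe => ⟨hL.prime qe hqe, hL.le qe hqe⟩)

/-- minimal primes over a homogeneous ideal are homogeneous -/
theorem isHomogeneous_of_mem_minimalPrimes {I : Ideal (MvPolynomial (Fin (n + 1)) k)}
    (hI : I.IsHomogeneous (CohB1.polyGrading n k)) {p : Ideal (MvPolynomial (Fin (n + 1)) k)}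
    (hp : p ∈ I.minimalPrimes) : p.IsHomogeneous (CohB1.polyGrading n k) := by
  have hprime : p.IsPrime := hp.1.1
  have hcore := hprime.homogeneousCore (𝒜 := CohB1.polyGrading n k)
  have hle : (p.homogeneousCore (CohB1.polyGrading n k)).toIdeal ≤ p :=
    Ideal.toIdeal_homogeneousCore_le _ p
  have hIle : I ≤ (p.homogeneousCore (CohB1.polyGrading n k)).toIdeal := by
    have := Ideal.homogeneousCore_mono (CohB1.polyGrading n k) hp.1.2
    rw [← hI.toIdeal_homogeneousCore_eq_self]
    exact this
  have heq : (p.homogeneousCore (CohB1.polyGrading n k)).toIdeal = p :=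
    le_antisymm hle (hp.2 ⟨hcore, hIle⟩ hle)
  rw [← heq]
  exact (p.homogeneousCore (CohB1.polyGrading n k)).isHomogeneous

end Filt

end Groth.Agent.Lib.Helper87
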