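import Groth.Agent.Lib.Helper87.HilbFn1

/-!
# Hilbert functions: lower bounds from algebraically independent forms (helper87)
-/

set_option autoImplicit false
universe u

namespace Groth.Agent.Lib.Helper87

open DirectSum Polynomial

section LB

variable (k : Type u) [Field k] (n : ℕ)

/-- a family in degree `m` that is linearly independent modulo `I` bounds the Hilbert function below -/
theorem card_le_hilbFn (I : Ideal (MvPolynomial (Fin (n + 1)) k)) (m : ℕ)
    {ι : Type*} [Fintype ι] (v : ι → MvPolynomial (Fin (n + 1)) k)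
    (hv : ∀ i, v i ∈ CohB1.polyGrading n k m)
    (hind : ∀ c : ι → k, (∑ i, c i • v i) ∈ I → c = 0) :
    Fintype.card ι ≤ hilbFn k n I m := by
  classical
  have hli : LinearIndependent k v := by
    rw [Fintype.linearIndependent_iff]
    intro c hc i
    have := hind c (by rw [hc]; exact I.zero_mem)
    rw [this]
    rfl
  set W := Submodule.span k (Set.range v) with hW
  have hWle : W ≤ CohB1.polyGrading n k m :=
    Submodule.span_le.mpr (by rintro _ ⟨i, rfl⟩; exact hv i)
  have hWcard : Module.finrank k W = Fintype.card ι := finrank_span_eq_card hli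
  have hdisj : W ⊓ (Submodule.restrictScalars k I ⊓ CohB1.polyGrading n k m) = ⊥ := by
    rw [eq_bot_iff]
    rintro z ⟨hzW, hzI, _⟩
    obtain ⟨c, rfl⟩ := (Submodule.mem_span_range_iff_exists_fun k).mp hzW
    have := hind c hzI
    rw [this]
    simp
  haveI : Module.Finite k ↥(CohB1.polyGrading n k m) := finite_polyGrading k n m
  haveI : Module.Finite k W := Submodule.finiteDimensional_of_le hWle
  haveI : Module.Finite k ↥(Submodule.restrictScalars k I ⊓ CohB1.polyGrading n k m) :=
    Submodule.finiteDimensional_of_le inf_le_right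
  have h := Submodule.finrank_sup_add_finrank_inf_eq W
    (Submodule.restrictScalars k I ⊓ CohB1.polyGrading n k m)
  rw [hdisj, finrank_bot, add_zero] at h
  have hle : Module.finrank k ↥(W ⊔ (Submodule.restrictScalars k I ⊓ CohB1.polyGrading n k m)) ≤
      Module.finrank k ↥(CohB1.polyGrading n k m) :=
    Submodule.finrank_mono (sup_le hWle inf_le_right)
  unfold hilbFn
  omega

/-- the exponent vectors used for the lower bound -/
noncomputable def expVec (r u : ℕ) (β : Fin r → Fin (u + 1)) : Fin (r + 1) →₀ ℕ :=
  Finsupp.equivFunOnFinite.symm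
    (Fin.snoc (α := fun _ => ℕ) (fun i => (β i : ℕ)) (r * u - ∑ i, (β i : ℕ)))

theorem expVec_castSucc (r u : ℕ) (β : Fin r → Fin (u + 1)) (i : Fin r) :
    expVec r u β i.castSucc = (β i : ℕ) := by
  unfold expVec
  simp

theorem expVec_last (r u : ℕ) (β : Fin r → Fin (u + 1)) :
    expVec r u β (Fin.last r) = r * u - ∑ i, (β i : ℕ) := by
  unfold expVec
  simp

theorem expVec_injective (r u : ℕ) : Function.Injective (expVec r u) := by
  intro β β' h
  funext i
  have := congrArg (fun f => f i.castSucc) h
  simp only [expVec_castSucc] at this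
  exact Fin.ext this

theorem sum_expVec (r u : ℕ) (β : Fin r → Fin (u + 1)) :
    ∑ i, expVec r u β i = r * u := by
  rw [Fin.sum_univ_castSucc, expVec_last]
  simp only [expVec_castSucc]
  have h : ∑ i, (β i : ℕ) ≤ r * u := by
    calc ∑ i, (β i : ℕ) ≤ ∑ _i : Fin r, u := Finset.sum_le_sum fun i _ => by
          have := (β i).2
          omega
      _ = r * u := by simp
  omega

/-- lower bound of the Hilbert function from `r + 1` forms of degree `D` algebraically independent mod `I` -/
theorem pow_le_hilbFn (I : Ideal (MvPolynomial (Fin (n + 1)) k)) (r D : ℕ)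
    (y : Fin (r + 1) → MvPolynomial (Fin (n + 1)) k) (hy : ∀ i, y i ∈ CohB1.polyGrading n k D)
    (hind : AlgebraicIndependent k (fun i => Ideal.Quotient.mk I (y i))) (u : ℕ) :
    (u + 1) ^ r ≤ hilbFn k n I (D * (r * u)) := by
  classical
  let v : (Fin r → Fin (u + 1)) → MvPolynomial (Fin (n + 1)) k :=
    fun β => MvPolynomial.aeval y (MvPolynomial.monomial (expVec r u β) (1 : k))
  have hv : ∀ β, v β ∈ CohB1.polyGrading n k (D * (r * u)) := by
    intro β
    change MvPolynomial.aeval y (MvPolynomial.monomial (expVec r u β) (1 : k)) ∈ _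
    rw [MvPolynomial.aeval_monomial, map_one, one_mul, Finsupp.prod_fintype _ _ (fun i => pow_zero _)]
    rw [MvPolynomial.mem_homogeneousSubmodule]
    have h1 := MvPolynomial.IsHomogeneous.prod Finset.univ
      (fun i => y i ^ (expVec r u β i)) (fun i => D * expVec r u β i)
      (fun i _ => ((MvPolynomial.mem_homogeneousSubmodule _ _).mp (hy i)).pow _)
    have h2 : ∑ i, D * expVec r u β i = D * (r * u) := by
      rw [← Finset.mul_sum, sum_expVec]
    rw [h2] at h1
    exact h1
  have hcard := card_le_hilbFn k n I (D * (r * u)) v hv ?_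
  · simpa using hcard
  intro c hc
  have h1 : Ideal.Quotient.mk I (∑ β, c β • v β) = 0 := Ideal.Quotient.eq_zero_iff_mem.mpr hc
  have h2 : Ideal.Quotient.mk I (∑ β, c β • v β) =
      MvPolynomial.aeval (fun i => Ideal.Quotient.mk I (y i))
        (∑ β, c β • MvPolynomial.monomial (expVec r u β) (1 : k)) := by
    have h3 : ∀ p : MvPolynomial (Fin (r + 1)) k,
        Ideal.Quotient.mk I (MvPolynomial.aeval y p) =
          MvPolynomial.aeval (fun i => Ideal.Quotient.mk I (y i)) p := by
      intro p
      have := MvPolynomial.comp_aeval (R := k) y (Ideal.Quotient.mkₐ k I)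
      exact congrArg (fun φ => φ p) this
    rw [← h3]
    congr 1
    rw [map_sum]
    refine Finset.sum_congr rfl fun β _ => ?_
    rw [map_smul]
  rw [h2] at h1
  have h4 : (∑ β, c β • MvPolynomial.monomial (expVec r u β) (1 : k)) = 0 := by
    apply hind
    rw [h1, map_zero]
  funext β₀
  have h5 := congrArg (MvPolynomial.coeff (expVec r u β₀)) h4
  rw [MvPolynomial.coeff_sum, MvPolynomial.coeff_zero] at h5
  rw [Finset.sum_eq_single β₀] at h5
  · rw [MvPolynomial.coeff_smul, MvPolynomial.coeff_monomial, if_pos rfl, smul_eq_mul, mul_one] at h5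
    exact h5
  · intro β _ hne
    rw [MvPolynomial.coeff_smul, MvPolynomial.coeff_monomial,
      if_neg (fun h => hne (expVec_injective r u h)), smul_zero]
  · intro h
    exact absurd (Finset.mem_univ _) h

end LB

end Groth.Agent.Lib.Helper87
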