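import Groth.Agent.Lib.Helper66.GrHilbA
import Groth.Agent.Lib.Helper87.GrNoethRel2
import Groth.Agent.Lib.Helper87.HilbFn2
import Groth.Agent.Lib.Helper87.HilbFn3

/-!
# Krull dimension of `k[X]/I` is one more than the degree of the Hilbert polynomial (helper87)
-/

set_option autoImplicit false
universe u

namespace Groth.Agent.Lib.Helper87

open DirectSum Polynomial

section Bridge

variable (k : Type u) [Field k] (n : ℕ)

/-- the `ℤ`-indexed standard grading agrees with the `ℕ`-indexed one in non-negative degrees -/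
theorem stdGr_natCast (m : ℕ) :
    GrSyz.stdGr k (Fin (n + 1)) (m : ℤ) = CohB1.polyGrading n k m := by
  ext p
  rw [GrSyz.mem_stdGr_iff, MvPolynomial.mem_homogeneousSubmodule]
  constructor
  · intro h d hd
    have h1 := h hd
    rw [Groth.Agent.Lib.Helper66.GrHilb.weight_one_eq_degree] at h1
    have h2 : d.degree = m := by exact_mod_cast h1
    rw [← h2, Finsupp.degree_eq_weight_one]
    rfl
  · intro h d hd
    have h1 := h hd
    rw [Groth.Agent.Lib.Helper66.GrHilb.weight_one_eq_degree]
    have h2 : d.degree = m := by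
      rw [← h1, Finsupp.degree_eq_weight_one]
      rfl
    rw [h2]

theorem stdGr_hpos (z : ℤ) (hz : z < 0) : GrSyz.stdGr k (Fin (n + 1)) z = ⊥ :=
  Groth.Agent.Lib.Helper66.GrHilb.stdGr_eq_bot_of_neg k n z hz

theorem stdGr_h0 : GrSyz.stdGr k (Fin (n + 1)) 0 =
    Submodule.span k {(1 : MvPolynomial (Fin (n + 1)) k)} := by
  classical
  apply le_antisymm
  · intro p hp
    have hp' : p.IsWeightedHomogeneous (fun _ : Fin (n + 1) => (1 : ℤ)) 0 := hp
    have hC : p = MvPolynomial.C (MvPolynomial.coeff 0 p) := by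
      ext m
      rw [MvPolynomial.coeff_C]
      by_cases hm : 0 = m
      · rw [if_pos hm, hm]
      · rw [if_neg hm]
        by_contra hne
        have hw := hp' hne
        exact hm (Groth.Agent.Lib.Helper66.eq_zero_of_weight_one_nonpos (Fin (n + 1)) m (le_of_eq hw)).symm
    rw [hC, Submodule.mem_span_singleton]
    refine ⟨MvPolynomial.coeff 0 p, ?_⟩
    rw [Algebra.smul_def, mul_one]
    rfl
  · rw [Submodule.span_le, Set.singleton_subset_iff]
    exact SetLike.GradedOne.one_mem

/-- an ideal homogeneous for the `ℕ`-grading is homogeneous for the `ℤ`-grading -/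
theorem decompose_stdGr_mem (I : Ideal (MvPolynomial (Fin (n + 1)) k))
    (hIh : I.IsHomogeneous (CohB1.polyGrading n k)) (f : MvPolynomial (Fin (n + 1)) k)
    (hf : f ∈ I) (z : ℤ) :
    (decompose (GrSyz.stdGr k (Fin (n + 1))) f z : MvPolynomial (Fin (n + 1)) k) ∈ I := by
  classical
  have hsum := DirectSum.sum_support_decompose (CohB1.polyGrading n k) f
  have h1 : (decompose (GrSyz.stdGr k (Fin (n + 1))) f z : MvPolynomial (Fin (n + 1)) k) =
      (decompose (GrSyz.stdGr k (Fin (n + 1)))
        (∑ i ∈ (decompose (CohB1.polyGrading n k) f).support,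
          (decompose (CohB1.polyGrading n k) f i : MvPolynomial (Fin (n + 1)) k)) z :
        MvPolynomial (Fin (n + 1)) k) := by
    rw [hsum]
  rw [h1, decompose_sum, DFinsupp.finsetSum_apply, AddSubmonoidClass.coe_finsetSum]
  refine I.sum_mem fun m _ => ?_
  have hm : (decompose (CohB1.polyGrading n k) f m : MvPolynomial (Fin (n + 1)) k) ∈
      GrSyz.stdGr k (Fin (n + 1)) (m : ℤ) := by
    rw [stdGr_natCast]
    exact Subtype.mem _
  by_cases hz : (m : ℤ) = z
  · subst hz
    rw [decompose_of_mem_same _ hm]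
    exact hIh m hf
  · rw [decompose_of_mem_ne _ hm hz]
    exact I.zero_mem

end Bridge

section Analytic

/-- a rational polynomial that is non-negative at all large naturals has non-negative leading coefficient -/
theorem leadingCoeff_nonneg_of_eventually_nonneg (R : ℚ[X])
    (h : ∃ m₀ : ℕ, ∀ m : ℕ, m₀ ≤ m → 0 ≤ R.eval (m : ℚ)) : 0 ≤ R.leadingCoeff := by
  by_contra hneg
  push Not at hneg
  obtain ⟨m₀, hm₀⟩ := h
  by_cases hdeg : 0 < R.degree
  · have ht := Polynomial.tendsto_atBot_of_leadingCoeff_nonpos R hdeg hneg.le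
    have ht' := ht.comp (tendsto_natCast_atTop_atTop (R := ℚ))
    have hev := (ht'.eventually (Filter.eventually_lt_atBot 0)).and (Filter.eventually_ge_atTop m₀)
    obtain ⟨m, hm1, hm2⟩ := hev.exists
    exact absurd (hm₀ m hm2) (not_le.mpr hm1)
  · have hR : R = C (R.coeff 0) := Polynomial.eq_C_of_degree_le_zero (not_lt.mp hdeg)
    have hlc : R.leadingCoeff = R.coeff 0 := by
      conv_lhs => rw [hR]
      rw [leadingCoeff_C]
    have h1 := hm₀ m₀ le_rfl
    rw [hR, eval_C] at h1
    rw [hlc] at hneg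
    linarith

theorem exists_nat_eq_of_le (x : WithBot ℕ∞) (h0 : 0 ≤ x) (N : ℕ) (hN : x ≤ (N : WithBot ℕ∞)) :
    ∃ r : ℕ, x = (r : WithBot ℕ∞) := by
  have hbot : x ≠ ⊥ := by
    rintro rfl
    simp at h0
  lift x to ℕ∞ using hbot
  have htop : x ≠ ⊤ := by
    rintro rfl
    have h1 : ((⊤ : ℕ∞) : WithBot ℕ∞) ≤ ((N : ℕ∞) : WithBot ℕ∞) := hN
    rw [WithBot.coe_le_coe] at h1
    simp at h1
  lift x to ℕ using htop
  exact ⟨x, rfl⟩

end Analytic

end Groth.Agent.Lib.Helper87
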