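import Groth.Agent.Lib.Helper87.HilbAdd4
import Groth.Agent.Lib.Helper87.HilbFn4

/-!
# Degree of a projective scheme as the sum of multiplicity times degree of the top components:
polynomial bookkeeping (helper87)
-/

set_option autoImplicit false
universe u

namespace Groth.Agent.Lib.Helper87

open DirectSum Polynomial

section Poly

theorem natDegree_le_of_eventually_le (Q P : ℚ[X])
    (h0 : ∃ m₀ : ℕ, ∀ m : ℕ, m₀ ≤ m → 0 ≤ Q.eval (m : ℚ))
    (h : ∃ m₀ : ℕ, ∀ m : ℕ, m₀ ≤ m → Q.eval (m : ℚ) ≤ P.eval (m : ℚ)) :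
    Q.natDegree ≤ P.natDegree := by
  by_contra hcon
  push Not at hcon
  have hdeg : P.degree < Q.degree := degree_lt_degree hcon
  have hlc : (P - Q).leadingCoeff = -Q.leadingCoeff := leadingCoeff_sub_of_degree_lt' hdeg
  have h1 : 0 ≤ (P - Q).leadingCoeff := by
    apply leadingCoeff_nonneg_of_eventually_nonneg
    obtain ⟨m₀, hm₀⟩ := h
    exact ⟨m₀, fun m hm => by rw [eval_sub]; linarith [hm₀ m hm]⟩
  have h2 : 0 ≤ Q.leadingCoeff := leadingCoeff_nonneg_of_eventually_nonneg _ h0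
  have h3 : Q.leadingCoeff = 0 := by linarith
  have h4 : Q = 0 := leadingCoeff_eq_zero.mp h3
  rw [h4] at hcon
  simp at hcon

theorem coeff_eq_of_sandwich (P Φ Ρ : ℚ[X]) (t : ℕ) (hP : P.natDegree ≤ t) (hΦ : Φ.natDegree ≤ t)
    (hΡ : Ρ.degree < (t : WithBot ℕ))
    (h : ∃ m₀ : ℕ, ∀ m : ℕ, m₀ ≤ m → Φ.eval (m : ℚ) ≤ P.eval (m : ℚ) ∧
      P.eval (m : ℚ) ≤ Φ.eval (m : ℚ) + Ρ.eval (m : ℚ)) :
    P.coeff t = Φ.coeff t := by
  by_contra hne
  have hΔt : (P - Φ).coeff t ≠ 0 := by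
    rw [coeff_sub]
    exact sub_ne_zero.mpr hne
  have hΔdeg : (P - Φ).natDegree = t :=
    le_antisymm ((natDegree_sub_le _ _).trans (max_le hP hΦ)) (le_natDegree_of_ne_zero hΔt)
  have hΔ0 : P - Φ ≠ 0 := by
    intro h0
    rw [h0] at hΔt
    simp at hΔt
  have hlc : (P - Φ).leadingCoeff = (P - Φ).coeff t := by rw [leadingCoeff, hΔdeg]
  obtain ⟨m₀, hm₀⟩ := h
  have h1 : 0 ≤ (P - Φ).leadingCoeff := by
    apply leadingCoeff_nonneg_of_eventually_nonneg
    exact ⟨m₀, fun m hm => by rw [eval_sub]; linarith [(hm₀ m hm).1]⟩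
  have hdeg : Ρ.degree < (P - Φ).degree := by
    rw [degree_eq_natDegree hΔ0, hΔdeg]
    exact hΡ
  have hlc2 : (Ρ - (P - Φ)).leadingCoeff = -(P - Φ).leadingCoeff :=
    leadingCoeff_sub_of_degree_lt' hdeg
  have h2 : 0 ≤ (Ρ - (P - Φ)).leadingCoeff := by
    apply leadingCoeff_nonneg_of_eventually_nonneg
    exact ⟨m₀, fun m hm => by rw [eval_sub, eval_sub]; linarith [(hm₀ m hm).2]⟩
  have h3 : (P - Φ).leadingCoeff = 0 := by linarith
  exact hΔt (hlc ▸ h3)

theorem eval_taylor_neg_natCast (Q : ℚ[X]) (e m : ℕ) (hm : e ≤ m) :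
    (taylor (-(e : ℚ)) Q).eval (m : ℚ) = Q.eval ((m - e : ℕ) : ℚ) := by
  rw [taylor_eval, Nat.cast_sub hm, sub_eq_add_neg]

end Poly

section Bound

variable (k : Type u) [Field k] (n : ℕ)

/-- `Q` is the Hilbert polynomial of `I` -/
def HP (I : Ideal (MvPolynomial (Fin (n + 1)) k)) (Q : ℚ[X]) : Prop :=
  ∃ m₀ : ℕ, ∀ m : ℕ, m₀ ≤ m → Q.eval (m : ℚ) = (hilbFn k n I m : ℚ)

theorem HP.natDegree_le {I J : Ideal (MvPolynomial (Fin (n + 1)) k)} {P Q : ℚ[X]}
    (hP : HP k n I P) (hQ : HP k n J Q) (hIJ : I ≤ J) : Q.natDegree ≤ P.natDegree := by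
  obtain ⟨m₁, hm₁⟩ := hP
  obtain ⟨m₂, hm₂⟩ := hQ
  apply natDegree_le_of_eventually_le
  · exact ⟨m₂, fun m hm => by rw [hm₂ m hm]; exact Nat.cast_nonneg _⟩
  · refine ⟨max m₁ m₂, fun m hm => ?_⟩
    rw [hm₁ m (le_trans (le_max_left _ _) hm), hm₂ m (le_trans (le_max_right _ _) hm)]
    exact_mod_cast hilbFn_anti k n hIJ m

/-- a homogeneous prime strictly containing a homogeneous prime with Hilbert polynomial of
degree `≤ t` has Hilbert function bounded by a polynomial of degree `< t` -/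
theorem exists_bound_of_lt (pI : Ideal (MvPolynomial (Fin (n + 1)) k)) [hpIprime : pI.IsPrime]
    (hpI : pI.IsHomogeneous (CohB1.polyGrading n k)) (Q : ℚ[X]) (hQ : HP k n pI Q) (t : ℕ)
    (hQt : Q.natDegree ≤ t)
    (q : Ideal (MvPolynomial (Fin (n + 1)) k)) [hqprime : q.IsPrime]
    (hq : q.IsHomogeneous (CohB1.polyGrading n k)) (hlt : pI < q) :
    ∃ R : ℚ[X], R.degree < (t : WithBot ℕ) ∧
      ∃ m₁ : ℕ, ∀ m : ℕ, m₁ ≤ m → (hilbFn k n q m : ℚ) ≤ R.eval (m : ℚ) := by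
  classical
  obtain ⟨z, hzq, hzp⟩ := SetLike.exists_of_lt hlt
  obtain ⟨d, hd⟩ : ∃ d, (decompose (CohB1.polyGrading n k) z d : MvPolynomial (Fin (n + 1)) k) ∉ pI := by
    by_contra hcon
    push Not at hcon
    apply hzp
    rw [← DirectSum.sum_support_decompose (CohB1.polyGrading n k) z]
    exact pI.sum_mem fun d _ => hcon d
  set y : MvPolynomial (Fin (n + 1)) k :=
    ((decompose (CohB1.polyGrading n k) z d : ↥(CohB1.polyGrading n k d)) :
      MvPolynomial (Fin (n + 1)) k) with hy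
  have hyq : y ∈ q := hq d hzq
  have hyd : y ∈ CohB1.polyGrading n k d := Subtype.mem _
  have hd0 : d ≠ 0 := by
    rintro rfl
    have h1 : y ∈ (1 : Submodule k (MvPolynomial (Fin (n + 1)) k)) := by
      rw [← MvPolynomial.homogeneousSubmodule_zero]
      exact hyd
    rw [Submodule.mem_one] at h1
    obtain ⟨c, hc⟩ := h1
    have hc0 : c ≠ 0 := by
      rintro rfl
      rw [map_zero] at hc
      exact hd (hc ▸ pI.zero_mem)
    have hunit : IsUnit y := by
      rw [← hc]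
      exact (isUnit_iff_ne_zero.mpr hc0).map _
    exact hqprime.ne_top (Ideal.eq_top_of_isUnit_mem _ hyq hunit)
  obtain ⟨m₂, hm₂⟩ := hQ
  refine ⟨Q - taylor (-(d : ℚ)) Q, ?_, m₂ + d, fun m hm => ?_⟩
  · by_cases h1 : 1 ≤ Q.natDegree
    · have h2 := (natDegree_sub_taylor Q (d : ℚ) (by exact_mod_cast hd0) h1).1
      have h3 : (Q - taylor (-(d : ℚ)) Q).natDegree < t := by omega
      exact lt_of_le_of_lt degree_le_natDegree (by exact_mod_cast h3)
    · have h2 : Q.natDegree = 0 := by omega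
      rw [eq_C_of_natDegree_eq_zero h2, taylor_C, sub_self, degree_zero]
      exact WithBot.bot_lt_coe _
  · have hdm : d ≤ m := by omega
    have h1 := finrank_sup_span_inf k n pI hpI y d
      ((MvPolynomial.mem_homogeneousSubmodule _ _).mp hyd) hd m hdm
    have h2 := finrank_inf_le k n pI m
    have h3 := finrank_inf_le k n (pI ⊔ Ideal.span {y}) m
    have h4 := finrank_inf_le k n pI (m - d)
    have h5 : hilbFn k n (pI ⊔ Ideal.span {y}) m + hilbFn k n pI (m - d) = hilbFn k n pI m := by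
      unfold hilbFn
      omega
    have hle : pI ⊔ Ideal.span {y} ≤ q :=
      sup_le hlt.le ((Ideal.span_singleton_le_iff_mem q).mpr hyq)
    have h6 := hilbFn_anti k n hle m
    have h7 := hm₂ m (by omega)
    have h8 := hm₂ (m - d) (by omega)
    rw [eval_sub, eval_taylor_neg_natCast Q d m hdm, h7, h8]
    have h9 : (hilbFn k n q m : ℚ) ≤ (hilbFn k n (pI ⊔ Ideal.span {y}) m : ℚ) := by
      exact_mod_cast h6
    have h10 : (hilbFn k n (pI ⊔ Ideal.span {y}) m : ℚ) + (hilbFn k n pI (m - d) : ℚ) =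
        (hilbFn k n pI m : ℚ) := by exact_mod_cast h5
    linarith

end Bound

end Groth.Agent.Lib.Helper87
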