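import Groth.Agent.Lib.Helper87.HilbAdd5

/-!
# Degree of a projective scheme as the sum of multiplicity times degree of the top components (helper87)
-/

set_option autoImplicit false
universe u

namespace Groth.Agent.Lib.Helper87

open DirectSum Polynomial

section Main

variable (k : Type u) [Field k] (n : ℕ)

open scoped Classical in
/-- the weight of a prime factor of the filtration -/
noncomputable def wt {r : ℕ} (p : Fin r → Ideal (MvPolynomial (Fin (n + 1)) k)) (Qp : Fin r → ℚ[X])
    (t : ℕ) (q : Ideal (MvPolynomial (Fin (n + 1)) k)) : ℚ :=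
  ∑ j : Fin r, if (Qp j).natDegree = t ∧ q = p j then (Qp j).leadingCoeff else 0

open scoped Classical in
theorem sum_wt_eq {r : ℕ} (p : Fin r → Ideal (MvPolynomial (Fin (n + 1)) k)) (Qp : Fin r → ℚ[X])
    (t : ℕ) (L : List (Ideal (MvPolynomial (Fin (n + 1)) k) × ℕ)) :
    (L.map fun qe => wt k n p Qp t qe.1).sum =
      ∑ j : Fin r, if (Qp j).natDegree = t then
        ((L.countP fun qe => qe.1 = p j : ℕ) : ℚ) * (Qp j).leadingCoeff else 0 := by
  induction L with
  | nil => simp
  | cons qe L ih =>
    rw [List.map_cons, List.sum_cons, ih]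
    unfold wt
    rw [← Finset.sum_add_distrib]
    refine Finset.sum_congr rfl fun j _ => ?_
    rw [List.countP_cons]
    by_cases hc : (Qp j).natDegree = t
    · by_cases hq : qe.1 = p j
      · simp only [hc, hq, and_self, if_true, decide_true]
        push_cast
        ring
      · simp only [hc, hq, and_false, if_false, if_true, decide_false]
        push_cast
        ring
    · simp [hc]

open scoped Classical in
/-- the main bookkeeping induction over the factors of a filtration -/
theorem exists_sandwich (I : Ideal (MvPolynomial (Fin (n + 1)) k))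
    (hIh : I.IsHomogeneous (CohB1.polyGrading n k)) (P : ℚ[X]) (hP : HP k n I P)
    (r : ℕ) (p : Fin r → Ideal (MvPolynomial (Fin (n + 1)) k)) [hp : ∀ i, (p i).IsPrime]
    (hpinj : Function.Injective p)
    (hpmin : ∀ q : Ideal (MvPolynomial (Fin (n + 1)) k), q ∈ I.minimalPrimes ↔ ∃ i, q = p i)
    (Qp : Fin r → ℚ[X]) (hQp : ∀ i, HP k n (p i) (Qp i))
    (L : List (Ideal (MvPolynomial (Fin (n + 1)) k) × ℕ))
    (hL : ∀ qe ∈ L, qe.1.IsPrime ∧ qe.1.IsHomogeneous (CohB1.polyGrading n k) ∧ I ≤ qe.1) :
    ∃ (Φ Ρ : ℚ[X]) (m₁ : ℕ), Φ.natDegree ≤ P.natDegree ∧ Ρ.degree < (P.natDegree : WithBot ℕ) ∧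
      (∀ m : ℕ, m₁ ≤ m →
        Φ.eval (m : ℚ) ≤ (((L.map fun qe => shiftFn (hilbFn k n qe.1) qe.2 m).sum : ℕ) : ℚ) ∧
        (((L.map fun qe => shiftFn (hilbFn k n qe.1) qe.2 m).sum : ℕ) : ℚ) ≤
          Φ.eval (m : ℚ) + Ρ.eval (m : ℚ)) ∧
      Φ.coeff P.natDegree = (L.map fun qe => wt k n p Qp P.natDegree qe.1).sum := by
  have hple : ∀ i, I ≤ p i := fun i => ((hpmin (p i)).mpr ⟨i, rfl⟩).1.2
  have hphom : ∀ i, (p i).IsHomogeneous (CohB1.polyGrading n k) := fun i =>
    isHomogeneous_of_mem_minimalPrimes k n hIh ((hpmin (p i)).mpr ⟨i, rfl⟩)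
  have hQdeg : ∀ i, (Qp i).natDegree ≤ P.natDegree := fun i =>
    HP.natDegree_le k n hP (hQp i) (hple i)
  induction L with
  | nil =>
    refine ⟨0, 0, 0, by simp, ?_, fun m _ => by simp, by simp⟩
    rw [degree_zero]
    exact WithBot.bot_lt_coe _
  | cons qe L ih =>
    obtain ⟨Φ, Ρ, m₁, hΦdeg, hΡdeg, hsand, hcoeff⟩ :=
      ih (fun qe' hqe' => hL qe' (List.mem_cons_of_mem _ hqe'))
    obtain ⟨hqprime, hqhom, hIq⟩ := hL qe List.mem_cons_self
    obtain ⟨q, e⟩ := qe
    simp only at hqprime hqhom hIq
    by_cases hA : ∃ i, q = p i ∧ (Qp i).natDegree = P.natDegree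
    · -- a top component
      obtain ⟨i, rfl, hdeg⟩ := hA
      obtain ⟨m₂, hm₂⟩ := hQp i
      refine ⟨Φ + taylor (-(e : ℚ)) (Qp i), Ρ, max m₁ (m₂ + e), ?_, hΡdeg, fun m hm => ?_, ?_⟩
      · refine (natDegree_add_le _ _).trans (max_le hΦdeg ?_)
        rw [natDegree_taylor]
        exact hQdeg i
      · have hm1 : m₁ ≤ m := le_trans (le_max_left _ _) hm
        have hm2 : m₂ + e ≤ m := le_trans (le_max_right _ _) hm
        have hem : e ≤ m := by omega
        obtain ⟨h1, h2⟩ := hsand m hm1
        rw [List.map_cons, List.sum_cons, eval_add, eval_taylor_neg_natCast _ e m hem,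
          hm₂ (m - e) (by omega)]
        have h3 : shiftFn (hilbFn k n (p i)) e m = hilbFn k n (p i) (m - e) := by
          unfold shiftFn
          rw [if_pos hem]
        simp only
        rw [h3, Nat.cast_add]
        constructor <;> linarith
      · rw [List.map_cons, List.sum_cons, coeff_add, hcoeff, add_comm]
        congr 1
        rw [← hdeg, coeff_taylor_natDegree]
        unfold wt
        rw [Finset.sum_eq_single i]
        · simp
        · intro j _ hji
          rw [if_neg]
          rintro ⟨_, hpij⟩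
          exact hji (hpinj hpij).symm
        · intro h
          exact absurd (Finset.mem_univ _) h
    · -- a factor that does not contribute to the leading term
      push Not at hA
      have hwt : wt k n p Qp P.natDegree q = 0 := by
        unfold wt
        apply Finset.sum_eq_zero
        intro j _
        rw [if_neg]
        rintro ⟨hdeg, hq⟩
        exact hA j hq hdeg
      have hbound : ∃ R : ℚ[X], R.degree < (P.natDegree : WithBot ℕ) ∧
          ∃ m₂ : ℕ, ∀ m : ℕ, m₂ ≤ m → (hilbFn k n q m : ℚ) ≤ R.eval (m : ℚ) := by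
        by_cases hB : ∃ i, q = p i
        · obtain ⟨i, rfl⟩ := hB
          obtain ⟨m₂, hm₂⟩ := hQp i
          refine ⟨Qp i, ?_, m₂, fun m hm => (hm₂ m hm).ge⟩
          have h1 : (Qp i).natDegree < P.natDegree :=
            lt_of_le_of_ne (hQdeg i) (hA i rfl)
          exact lt_of_le_of_lt degree_le_natDegree (by exact_mod_cast h1)
        · push Not at hB
          obtain ⟨p', hp'min, hp'q⟩ := Ideal.exists_minimalPrimes_le hIq
          obtain ⟨i, rfl⟩ := (hpmin p').mp hp'min
          have hlt : p i < q := lt_of_le_of_ne hp'q (fun h => hB i h.symm)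
          exact exists_bound_of_lt k n (p i) (hphom i) (Qp i) (hQp i) P.natDegree (hQdeg i)
            q hqhom hlt
      obtain ⟨R, hRdeg, m₂, hm₂⟩ := hbound
      refine ⟨Φ, Ρ + taylor (-(e : ℚ)) R, max m₁ (m₂ + e), hΦdeg, ?_, fun m hm => ?_, ?_⟩
      · refine lt_of_le_of_lt (degree_add_le _ _) (max_lt hΡdeg ?_)
        rw [degree_taylor]
        exact hRdeg
      · have hm1 : m₁ ≤ m := le_trans (le_max_left _ _) hm
        have hm2 : m₂ + e ≤ m := le_trans (le_max_right _ _) hm
        have hem : e ≤ m := by omega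
        obtain ⟨h1, h2⟩ := hsand m hm1
        rw [List.map_cons, List.sum_cons, eval_add, eval_taylor_neg_natCast _ e m hem]
        have h3 : shiftFn (hilbFn k n q) e m = hilbFn k n q (m - e) := by
          unfold shiftFn
          rw [if_pos hem]
        simp only
        rw [h3]
        have h4 := hm₂ (m - e) (by omega)
        have h5 : (0 : ℚ) ≤ (hilbFn k n q (m - e) : ℚ) := Nat.cast_nonneg _
        rw [Nat.cast_add]
        constructor <;> linarith
      · rw [List.map_cons, List.sum_cons, hcoeff]
        simp only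
        rw [hwt, zero_add]

end Main

end Groth.Agent.Lib.Helper87
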