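import Groth.Agent.Lib.Helper87.HilbAdd6

/-!
# Degree of a projective scheme as the sum of multiplicity times degree of the top components:
the theorem (helper87)
-/

set_option autoImplicit false
universe u

namespace Groth.Agent.Lib.Helper87

open DirectSum Polynomial

section Thm

variable (k : Type u) [Field k] (n : ℕ)

theorem HP_of_statement (I : Ideal (MvPolynomial (Fin (n + 1)) k)) (P : ℚ[X])
    (hP : ∃ m₀ : ℕ, ∀ m : ℕ, m₀ ≤ m → P.eval (m : ℚ) =
      (Module.finrank k ↥(CohB1.polyGrading n k m) : ℚ) -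
        Module.finrank k ↥(Submodule.restrictScalars k I ⊓ CohB1.polyGrading n k m)) :
    HP k n I P := by
  obtain ⟨m₀, hm₀⟩ := hP
  exact ⟨m₀, fun m hm => by rw [hm₀ m hm, hilbFn_cast]⟩

theorem degree_eq_sum_mult_degree
    (I : Ideal (MvPolynomial (Fin (n + 1)) k)) (hIh : I.IsHomogeneous (CohB1.polyGrading n k))
    (P : ℚ[X])
    (hP : ∃ m₀ : ℕ, ∀ m : ℕ, m₀ ≤ m → P.eval (m : ℚ) =
      (Module.finrank k ↥(CohB1.polyGrading n k m) : ℚ) -
        Module.finrank k ↥(Submodule.restrictScalars k I ⊓ CohB1.polyGrading n k m))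
    (r : ℕ) (p : Fin r → Ideal (MvPolynomial (Fin (n + 1)) k)) [hp : ∀ i, (p i).IsPrime]
    (hpinj : Function.Injective p)
    (hpmin : ∀ q : Ideal (MvPolynomial (Fin (n + 1)) k), q ∈ I.minimalPrimes ↔ ∃ i, q = p i)
    (Qp : Fin r → ℚ[X])
    (hQp : ∀ i, ∃ m₀ : ℕ, ∀ m : ℕ, m₀ ≤ m → (Qp i).eval (m : ℚ) =
      (Module.finrank k ↥(CohB1.polyGrading n k m) : ℚ) -
        Module.finrank k ↥(Submodule.restrictScalars k (p i) ⊓ CohB1.polyGrading n k m)) :
    (P.natDegree.factorial : ℚ) * P.leadingCoeff =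
      ∑ i : Fin r, if (Qp i).natDegree = P.natDegree then
        ((Qp i).natDegree.factorial : ℚ) * (Qp i).leadingCoeff *
          (Module.length (Localization.AtPrime (p i))
            (LocalizedModule (p i).primeCompl (MvPolynomial (Fin (n + 1)) k ⧸ I))).toNat
      else 0 := by
  classical
  have hP' : HP k n I P := HP_of_statement k n I P hP
  have hQp' : ∀ i, HP k n (p i) (Qp i) := fun i => HP_of_statement k n (p i) (Qp i) (hQp i)
  obtain ⟨L, hL⟩ := exists_filt k n I hIh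
  obtain ⟨Φ, Ρ, m₁, hΦdeg, hΡdeg, hsand, hcoeff⟩ :=
    exists_sandwich k n I hIh P hP' r p hpinj hpmin Qp hQp' L
      (fun qe hqe => ⟨hL.prime qe hqe, hL.hom qe hqe, hL.le qe hqe⟩)
  obtain ⟨m₀, hm₀⟩ := hP'
  have hkey : P.coeff P.natDegree = Φ.coeff P.natDegree := by
    apply coeff_eq_of_sandwich P Φ Ρ P.natDegree le_rfl hΦdeg hΡdeg
    refine ⟨max m₀ m₁, fun m hm => ?_⟩
    have h := hsand m (le_trans (le_max_right _ _) hm)
    rw [← hL.hilb m, ← hm₀ m (le_trans (le_max_left _ _) hm)] at h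
    exact h
  rw [hcoeff, sum_wt_eq] at hkey
  have hlen : ∀ i, (Module.length (Localization.AtPrime (p i))
      (LocalizedModule (p i).primeCompl (MvPolynomial (Fin (n + 1)) k ⧸ I))).toNat =
      L.countP (fun qe => qe.1 = p i) := by
    intro i
    rw [IsFilt.length_eq_countP k n hL (p i) ((hpmin (p i)).mpr ⟨i, rfl⟩), ENat.toNat_coe]
  change (P.natDegree.factorial : ℚ) * P.coeff P.natDegree = _
  rw [hkey, Finset.mul_sum]
  refine Finset.sum_congr rfl fun i _ => ?_
  by_cases hc : (Qp i).natDegree = P.natDegree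
  · rw [if_pos hc, if_pos hc, hlen i, hc]
    ring
  · rw [if_neg hc, if_neg hc, mul_zero]

end Thm

end Groth.Agent.Lib.Helper87
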