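import Mathlib

set_option autoImplicit false

namespace Groth.Agent.Lib.Helper87

open scoped TensorProduct

section hombc

universe u v w w' u'

variable {K : Type u} [Field K] {D : Type v} [Ring D] [Algebra K D]
  {E : Type w} [AddCommGroup E] [Module K E] [Module D E] [IsScalarTower K D E]
  {F : Type w'} [AddCommGroup F] [Module K F] [Module D F] [IsScalarTower K D F]
  {P : Type u'} [CommRing P] [Algebra K P]
  {ι : Type*} (b : Module.Basis ι K P)

/-- the `i`-th coordinate of an element of `P ⊗ M` with respect to a basis of `P`. -/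
noncomputable def coordMap (M : Type*) [AddCommGroup M] [Module K M] (i : ι) :
    P ⊗[K] M →ₗ[K] M :=
  (TensorProduct.lid K M).toLinearMap ∘ₗ (b.coord i).rTensor M

theorem coordMap_tmul {M : Type*} [AddCommGroup M] [Module K M] (i : ι) (p : P) (m : M) :
    coordMap b M i (p ⊗ₜ m) = b.repr p i • m := by
  simp [coordMap]

theorem coordMap_eq {M : Type*} [AddCommGroup M] [Module K M] [DecidableEq ι] (i : ι)
    (y : P ⊗[K] M) :
    coordMap b M i y = TensorProduct.equivFinsuppOfBasisLeft b y i :=
  (TensorProduct.equivFinsuppOfBasisLeft_apply b y i).symm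

theorem eq_zero_of_coordMap {M : Type*} [AddCommGroup M] [Module K M] (y : P ⊗[K] M)
    (h : ∀ i, coordMap b M i y = 0) : y = 0 := by
  classical
  apply (TensorProduct.equivFinsuppOfBasisLeft b).injective
  ext i
  rw [← coordMap_eq, h, map_zero, Finsupp.zero_apply]

theorem eq_of_coordMap {M : Type*} [AddCommGroup M] [Module K M] (y z : P ⊗[K] M)
    (h : ∀ i, coordMap b M i y = coordMap b M i z) : y = z := by
  rw [← sub_eq_zero]
  apply eq_zero_of_coordMap b
  intro i
  rw [map_sub, h, sub_self]

theorem coordMap_baseChange (d : D) (i : ι) (y : P ⊗[K] F) :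
    coordMap b F i ((DistribSMul.toLinearMap K F d).baseChange P y) = d • coordMap b F i y := by
  induction y using TensorProduct.induction_on with
  | zero => simp
  | tmul p f =>
    rw [LinearMap.baseChange_tmul, coordMap_tmul, coordMap_tmul]
    simp only [DistribSMul.toLinearMap_apply]
    rw [smul_comm]
  | add x y hx hy => simp only [map_add, hx, hy, smul_add]

theorem coordMap_phi
    (Φ : P ⊗[K] (E →ₗ[D] F) →ₗ[P] (P ⊗[K] E →ₗ[P] P ⊗[K] F))
    (hΦ : ∀ (p : P) (f : E →ₗ[D] F), Φ (p ⊗ₜ[K] f) = p • (f.restrictScalars K).baseChange P)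
    (x : P ⊗[K] (E →ₗ[D] F)) (i : ι) (e : E) :
    (coordMap b (E →ₗ[D] F) i x) e = coordMap b F i (Φ x (1 ⊗ₜ e)) := by
  induction x using TensorProduct.induction_on with
  | zero => simp
  | tmul p f =>
    rw [coordMap_tmul, hΦ, LinearMap.smul_apply, LinearMap.smul_apply,
      LinearMap.baseChange_tmul,
      TensorProduct.smul_tmul', smul_eq_mul, mul_one, coordMap_tmul]
    rfl
  | add x y hx hy =>
    simp only [map_add, LinearMap.add_apply, hx, hy]

end hombc

end Groth.Agent.Lib.Helper87
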