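import Groth.Agent.Lib.Helper87.HomBC

set_option autoImplicit false

namespace Groth.Agent.Lib.Helper87

open scoped TensorProduct

section hombc

universe u v w w' u'

variable {K : Type u} [Field K] {D : Type v} [Ring D] [Algebra K D]
  {E : Type w} [AddCommGroup E] [Module K E] [Module D E] [IsScalarTower K D E]
  {F : Type w'} [AddCommGroup F] [Module K F] [Module D F] [IsScalarTower K D F]
  {P : Type u'} [CommRing P] [Algebra K P]

theorem phi_injective
    (Φ : P ⊗[K] (E →ₗ[D] F) →ₗ[P] (P ⊗[K] E →ₗ[P] P ⊗[K] F))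
    (hΦ : ∀ (p : P) (f : E →ₗ[D] F), Φ (p ⊗ₜ[K] f) = p • (f.restrictScalars K).baseChange P) :
    Function.Injective Φ := by
  rw [injective_iff_map_eq_zero]
  intro x hx
  let b := Module.Free.chooseBasis K P
  apply eq_zero_of_coordMap b
  intro i
  ext e
  rw [coordMap_phi b Φ hΦ, hx]
  simp

theorem phi_comm
    (Φ : P ⊗[K] (E →ₗ[D] F) →ₗ[P] (P ⊗[K] E →ₗ[P] P ⊗[K] F))
    (hΦ : ∀ (p : P) (f : E →ₗ[D] F), Φ (p ⊗ₜ[K] f) = p • (f.restrictScalars K).baseChange P)
    (x : P ⊗[K] (E →ₗ[D] F)) (d : D) :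
    Φ x ∘ₗ (DistribSMul.toLinearMap K E d).baseChange P =
      (DistribSMul.toLinearMap K F d).baseChange P ∘ₗ Φ x := by
  induction x using TensorProduct.induction_on with
  | zero => simp
  | tmul p f =>
    rw [hΦ]
    apply TensorProduct.AlgebraTensorModule.ext
    intro q e
    simp only [LinearMap.comp_apply, LinearMap.baseChange_tmul, LinearMap.smul_apply,
      DistribSMul.toLinearMap_apply, LinearMap.coe_restrictScalars, map_smul]
  | add x y hx hy =>
    rw [map_add, LinearMap.add_comp, LinearMap.comp_add, hx, hy]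

theorem phi_range [Module.Finite D E]
    (Φ : P ⊗[K] (E →ₗ[D] F) →ₗ[P] (P ⊗[K] E →ₗ[P] P ⊗[K] F))
    (hΦ : ∀ (p : P) (f : E →ₗ[D] F), Φ (p ⊗ₜ[K] f) = p • (f.restrictScalars K).baseChange P)
    (g : P ⊗[K] E →ₗ[P] P ⊗[K] F)
    (hg : ∀ d : D, g ∘ₗ (DistribSMul.toLinearMap K E d).baseChange P =
            (DistribSMul.toLinearMap K F d).baseChange P ∘ₗ g) :
    g ∈ LinearMap.range Φ := by
  classical
  let b := Module.Free.chooseBasis K P
  -- the coordinates of g
  let gi : Module.Free.ChooseBasisIndex K P → (E →ₗ[D] F) := fun i =>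
    { toFun := fun e => coordMap b F i (g (1 ⊗ₜ e))
      map_add' := fun x y => by rw [TensorProduct.tmul_add, map_add, map_add]
      map_smul' := fun d e => by
        have h1 : (1 : P) ⊗ₜ[K] (d • e) =
            (DistribSMul.toLinearMap K E d).baseChange P (1 ⊗ₜ e) := by
          rw [LinearMap.baseChange_tmul]; rfl
        have h2 := congr($(hg d) (1 ⊗ₜ e))
        simp only [LinearMap.comp_apply] at h2
        rw [h1, h2, coordMap_baseChange]
        rfl }
  have hgi : ∀ i e, gi i e = coordMap b F i (g (1 ⊗ₜ e)) := fun i e => rfl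
  obtain ⟨S, hS⟩ := (Module.Finite.fg_top : (⊤ : Submodule D E).FG)
  let J : Finset (Module.Free.ChooseBasisIndex K P) :=
    S.biUnion (fun e => (TensorProduct.equivFinsuppOfBasisLeft b (g (1 ⊗ₜ e))).support)
  have hJ : ∀ i, i ∉ J → gi i = 0 := by
    intro i hi
    apply LinearMap.ext_on hS
    intro e he
    rw [hgi, coordMap_eq, LinearMap.zero_apply]
    by_contra hne
    apply hi
    rw [Finset.mem_biUnion]
    exact ⟨e, he, Finsupp.mem_support_iff.mpr hne⟩
  refine ⟨∑ j ∈ J, b j ⊗ₜ[K] gi j, ?_⟩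
  apply TensorProduct.AlgebraTensorModule.ext
  intro q e
  have hq : q ⊗ₜ[K] e = q • ((1 : P) ⊗ₜ[K] e) := by
    rw [TensorProduct.smul_tmul', smul_eq_mul, mul_one]
  rw [hq, map_smul, map_smul]
  congr 1
  apply eq_of_coordMap b
  intro i
  rw [← coordMap_phi b Φ hΦ, ← hgi, map_sum, LinearMap.sum_apply]
  simp only [coordMap_tmul, Module.Basis.repr_self, LinearMap.smul_apply]
  rw [Finset.sum_eq_single i]
  · simp
  · intro j _ hji
    rw [Finsupp.single_eq_of_ne (Ne.symm hji), zero_smul]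
  · intro hi
    rw [hJ i hi]
    simp

theorem hom_baseChange [Module.Finite D E]
    (Φ : P ⊗[K] (E →ₗ[D] F) →ₗ[P] (P ⊗[K] E →ₗ[P] P ⊗[K] F))
    (hΦ : ∀ (p : P) (f : E →ₗ[D] F), Φ (p ⊗ₜ[K] f) = p • (f.restrictScalars K).baseChange P) :
    Function.Injective Φ ∧
      ∀ g : P ⊗[K] E →ₗ[P] P ⊗[K] F,
        g ∈ LinearMap.range Φ ↔
          ∀ d : D, g ∘ₗ (DistribSMul.toLinearMap K E d).baseChange P =
            (DistribSMul.toLinearMap K F d).baseChange P ∘ₗ g := by
  refine ⟨phi_injective Φ hΦ, fun g => ⟨?_, phi_range Φ hΦ g⟩⟩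
  rintro ⟨x, rfl⟩ d
  exact phi_comm Φ hΦ x d

end hombc

end Groth.Agent.Lib.Helper87
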