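import Groth.Agent.Lib.Helper87.HopfConn3
import Mathlib

set_option autoImplicit false

namespace Groth.Agent.Lib.Helper87

universe u

theorem hopf_connected_iInf_pow (k : Type u) [Field k] [IsAlgClosed k]
    (A : Type u) [CommRing A] [HopfAlgebra k A] [Algebra.FiniteType k A]
    (hconn : ∀ e : A, IsIdempotentElem e → e = 0 ∨ e = 1) :
    (⨅ n : ℕ, RingHom.ker (Bialgebra.counitAlgHom k A) ^ n) = ⊥ := by
  haveI : IsNoetherianRing A := Algebra.FiniteType.isNoetherianRing k A
  haveI : IsJacobsonRing A := isJacobsonRing_of_finiteType (A := k) (B := A)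
  haveI : Nontrivial A := (Bialgebra.counitAlgHom k A).toRingHom.domain_nontrivial
  set I := RingHom.ker (Bialgebra.counitAlgHom k A) with hI
  have hhom : ∀ (m m' : Ideal A), m.IsMaximal → m'.IsMaximal →
      ∃ ψ : A ≃+* A, m'.comap (ψ : A →+* A) = m := by
    intro m m' hm hm'
    haveI := hm
    haveI := hm'
    exact exists_ringEquiv_comap_eq k m m'
  rw [eq_bot_iff]
  intro x hx
  have hx' : x ∈ (⨅ i : ℕ, I ^ i • ⊤ : Submodule A A) := by
    rw [Submodule.mem_iInf]
    intro i
    rw [smul_eq_mul, Ideal.mul_top]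
    exact (Ideal.mem_iInf.mp hx) i
  obtain ⟨⟨r, hr⟩, hrx⟩ := (I.mem_iInf_smul_pow_eq_bot_iff x).mp hx'
  by_contra hx0
  have hx0' : x ≠ 0 := fun h => hx0 (by rw [h]; exact Submodule.zero_mem _)
  have h1 : (1 - r) * x = 0 := by
    have : r * x = x := hrx
    rw [sub_mul, one_mul, this, sub_self]
  have hnil := isNilpotent_of_mul_eq_zero hconn hhom hx0' h1
  have h2 : IsNilpotent ((Bialgebra.counitAlgHom k A) (1 - r)) := hnil.map _
  rw [map_sub, map_one, (RingHom.mem_ker).mp hr, sub_zero] at h2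
  exact one_ne_zero h2.eq_zero

end Groth.Agent.Lib.Helper87
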