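import Mathlib

set_option autoImplicit false

namespace Groth.Agent.Lib.Helper87

open scoped TensorProduct

section lift

universe u v

variable {k : Type u} [CommRing k] {A : Type v} [CommRing A] [Algebra k A]
  {Q : Type*} [AddCommGroup Q] [Module k Q]

/-- the `k`-linear map on `A →₀ A` attached to a bilinear map (`single b a` stands for `a db`). -/
noncomputable def kLiftPsi (β : A →ₗ[k] A →ₗ[k] Q) : (A →₀ A) →ₗ[k] Q :=
  Finsupp.lsum k (fun b => β.flip b)

theorem kLiftPsi_single (β : A →ₗ[k] A →ₗ[k] Q) (a b : A) :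
    kLiftPsi β (Finsupp.single b a) = β a b := by
  simp [kLiftPsi]

theorem kLiftPsi_kerTotal (β : A →ₗ[k] A →ₗ[k] Q)
    (hβ : ∀ a x y, β a (x * y) = β (a * x) y + β (a * y) x) (f : A →₀ A)
    (hf : f ∈ KaehlerDifferential.kerTotal k A) : ∀ c : A, kLiftPsi β (c • f) = 0 := by
  have h1 : ∀ c, β c 1 = 0 := by
    intro c
    have := hβ c 1 1
    simp only [mul_one] at this
    exact left_eq_add.mp this
  unfold KaehlerDifferential.kerTotal at hf
  induction hf using Submodule.span_induction with
  | mem f hf =>
    intro c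
    rcases hf with ((⟨⟨x, y⟩, rfl⟩ | ⟨⟨x, y⟩, rfl⟩) | ⟨r, rfl⟩)
    · simp only [smul_add, smul_sub, Finsupp.smul_single, smul_eq_mul, mul_one, map_add, map_sub,
        kLiftPsi_single]
      simp
    · simp only [smul_add, smul_sub, Finsupp.smul_single, smul_eq_mul, mul_one, map_add, map_sub,
        kLiftPsi_single]
      rw [hβ, add_comm, sub_self]
    · simp only [Finsupp.smul_single, smul_eq_mul, mul_one, kLiftPsi_single]
      rw [Algebra.algebraMap_eq_smul_one, map_smul, h1, smul_zero]
  | zero => intro c; simp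
  | add f g _ _ hf hg => intro c; rw [smul_add, map_add, hf, hg, add_zero]
  | smul a f _ hf => intro c; rw [smul_smul]; exact hf _

/-- Universal property of Kähler differentials for `k`-bilinear maps satisfying the Leibniz rule
(the Hochschild description). -/
theorem exists_kaehler_lift (β : A →ₗ[k] A →ₗ[k] Q)
    (hβ : ∀ a x y, β a (x * y) = β (a * x) y + β (a * y) x) :
    ∃ φ : Ω[A⁄k] →ₗ[k] Q, ∀ a b : A, φ (a • KaehlerDifferential.D k A b) = β a b := by
  have hle : (KaehlerDifferential.kerTotal k A).restrictScalars k ≤ LinearMap.ker (kLiftPsi β) := by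
    intro f hf
    have := kLiftPsi_kerTotal β hβ f hf 1
    rwa [one_smul] at this
  let φ₀ : ((A →₀ A) ⧸ (KaehlerDifferential.kerTotal k A).restrictScalars k) →ₗ[k] Q :=
    ((KaehlerDifferential.kerTotal k A).restrictScalars k).liftQ (kLiftPsi β) hle
  let e₁ := Submodule.Quotient.restrictScalarsEquiv k (KaehlerDifferential.kerTotal k A)
  let e₂ := (KaehlerDifferential.quotKerTotalEquiv k A).restrictScalars k
  refine ⟨φ₀ ∘ₗ e₁.symm.toLinearMap ∘ₗ e₂.symm.toLinearMap, ?_⟩
  intro a b
  have h2 : e₂.symm (a • KaehlerDifferential.D k A b) =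
      Submodule.Quotient.mk (Finsupp.single b a) := by
    rw [LinearEquiv.symm_apply_eq]
    change _ = (KaehlerDifferential.kerTotal k A).liftQ
      (Finsupp.linearCombination A (KaehlerDifferential.D k A))
      (KaehlerDifferential.kerTotal_eq k A).ge
      (Submodule.Quotient.mk (Finsupp.single b a))
    rw [Submodule.liftQ_apply, Finsupp.linearCombination_single]
  simp only [LinearMap.comp_apply, LinearEquiv.coe_coe]
  rw [h2]
  have h3 : e₁.symm (Submodule.Quotient.mk (Finsupp.single b a)) =
      Submodule.Quotient.mk (Finsupp.single b a) := by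
    rw [LinearEquiv.symm_apply_eq]
    rfl
  rw [h3]
  simp only [φ₀, Submodule.liftQ_apply, kLiftPsi_single]

end lift

end Groth.Agent.Lib.Helper87
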