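import Mathlib

set_option autoImplicit false

namespace Groth.Agent.Lib.Helper87

open IntermediateField Polynomial

section kummer

universe u

variable {K L : Type u} [Field K] [Field L] [Algebra K L] [FiniteDimensional K L]

/-- If `K⟮a⟯ = ⊤`, then `a` also generates `L` over any intermediate field. -/
lemma finrank_eq_natDegree_minpoly_of_adjoin_eq_top (a : L) (ha : K⟮a⟯ = ⊤)
    (F : IntermediateField K L) :
    Module.finrank F L = (minpoly F a).natDegree := by
  have h1 : (IntermediateField.adjoin F {a} : IntermediateField F L) = ⊤ := by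
    rw [← restrictScalars_eq_top_iff (K := K), eq_top_iff, ← ha, adjoin_simple_le_iff,
      mem_restrictScalars]
    exact mem_adjoin_simple_self F a
  exact ((Field.primitive_element_iff_minpoly_natDegree_eq F a).mp h1).symm

lemma multiset_prod_eq_of_forall (a : L) (s : Multiset L)
    (hs : ∀ r ∈ s, ∃ ζ : K, ζ ≠ 0 ∧ r = algebraMap K L ζ * a) :
    ∃ ζ : K, ζ ≠ 0 ∧ s.prod = algebraMap K L ζ * a ^ (Multiset.card s) := by
  induction s using Multiset.induction_on with
  | empty => exact ⟨1, one_ne_zero, by simp⟩
  | cons r s ih =>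
    obtain ⟨ζ₁, h₁, hr⟩ := hs r (Multiset.mem_cons_self r s)
    obtain ⟨ζ₂, h₂, hs'⟩ := ih (fun x hx => hs x (Multiset.mem_cons_of_mem hx))
    refine ⟨ζ₁ * ζ₂, mul_ne_zero h₁ h₂, ?_⟩
    rw [Multiset.prod_cons, Multiset.card_cons, hr, hs', map_mul, pow_succ]
    ring

theorem kummer_intermediate (a : L) (ha : K⟮a⟯ = ⊤)
    (hpow : a ^ Module.finrank K L ∈ Set.range (algebraMap K L))
    (hroots : (X ^ Module.finrank K L - 1 : K[X]).Splits) (L' : IntermediateField K L) :
    ∃ d : ℕ, d ∣ Module.finrank K L ∧ L' = K⟮a ^ d⟯ := by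
  set n := Module.finrank K L with hn
  have hnpos : 0 < n := Module.finrank_pos
  obtain ⟨c, hc⟩ := hpow
  have hint : IsIntegral L' a := IsIntegral.of_finite L' a
  set g := minpoly L' a with hg
  set m := g.natDegree with hm
  have hmpos : 0 < m := minpoly.natDegree_pos hint
  have hfr : Module.finrank L' L = m := finrank_eq_natDegree_minpoly_of_adjoin_eq_top a ha L'
  have htower : Module.finrank K L' * m = n := by
    rw [← hfr]
    exact Module.finrank_mul_finrank K L' L
  -- key: a ^ m ∈ L'
  have hkey : a ^ m ∈ L' := by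
    by_cases ha0 : a = 0
    · rw [ha0, zero_pow hmpos.ne']
      exact L'.zero_mem
    · -- the polynomial X^n - a^n splits over L
      set P : L[X] := X ^ n - C (a ^ n) with hP
      have hPeq : P = C (a ^ n) *
          (((X ^ n - 1 : K[X]).map (algebraMap K L)).comp (C a⁻¹ * X)) := by
        simp only [Polynomial.map_sub, Polynomial.map_pow, map_X, Polynomial.map_one, sub_comp,
          pow_comp, X_comp, one_comp, mul_pow, ← C_pow]
        rw [mul_sub, ← mul_assoc, ← C_mul, ← mul_pow, mul_inv_cancel₀ ha0, one_pow, C_1, one_mul,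
          mul_one]
      have hPsplits : P.Splits := by
        rw [hPeq]
        refine Splits.C_mul ?_ _
        refine Splits.comp_of_natDegree_le_one (hroots.map _) ?_
        exact (natDegree_C_mul_le _ _).trans natDegree_X_le
      have hPmonic : P.Monic := monic_X_pow_sub_C _ hnpos.ne'
      have hP0 : P ≠ 0 := hPmonic.ne_zero
      -- g divides
      have hdvd : g ∣ (X ^ n - C (algebraMap K L' c) : L'[X]) := by
        apply minpoly.dvd
        rw [map_sub, map_pow, aeval_X, aeval_C, ← IsScalarTower.algebraMap_apply, hc, sub_self]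
      have hdvdL : g.map (algebraMap L' L) ∣ P := by
        have := Polynomial.map_dvd (algebraMap L' L) hdvd
        rwa [Polynomial.map_sub, Polynomial.map_pow, map_X, map_C,
          ← IsScalarTower.algebraMap_apply, hc] at this
      set gL := g.map (algebraMap L' L) with hgL
      have hgLsplits : gL.Splits := hPsplits.of_dvd hP0 hdvdL
      have hgLmonic : gL.Monic := (minpoly.monic hint).map _
      have hgLdeg : gL.natDegree = m := natDegree_map _
      have hcoeff := hgLsplits.coeff_zero_eq_prod_roots_of_monic hgLmonic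
      rw [hgLdeg, hgL, coeff_map] at hcoeff
      have hrootsform : ∀ r ∈ gL.roots, ∃ ζ : K, ζ ≠ 0 ∧ r = algebraMap K L ζ * a := by
        intro r hr
        have hr1 : gL.IsRoot r := isRoot_of_mem_roots hr
        have hr2 : P.IsRoot r := by
          obtain ⟨q, hq⟩ := hdvdL
          rw [IsRoot, hq, eval_mul, hr1.eq_zero, zero_mul]
        have hr3 : r ^ n = a ^ n := by
          have : eval r P = 0 := hr2
          rw [hP, eval_sub, eval_pow, eval_X, eval_C, sub_eq_zero] at this
          exact this
        have hr4 : ((X ^ n - 1 : K[X]).map (algebraMap K L)).IsRoot (r / a) := by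
          rw [IsRoot, Polynomial.map_sub, Polynomial.map_pow, map_X, Polynomial.map_one, eval_sub,
            eval_pow, eval_X, eval_one, div_pow, hr3, div_self (pow_ne_zero _ ha0), sub_self]
        have hX0 : (X ^ n - 1 : K[X]) ≠ 0 := (monic_X_pow_sub_C (1 : K) hnpos.ne').ne_zero
        obtain ⟨ζ, hζ⟩ := hroots.mem_range_of_isRoot hX0 hr4
        have hζ' : algebraMap K L ζ = r / a := hζ
        refine ⟨ζ, ?_, ?_⟩
        · intro h0
          rw [h0, map_zero] at hζ'
          have hr0 : r = 0 := by
            rcases div_eq_zero_iff.mp hζ'.symm with h | h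
            · exact h
            · exact absurd h ha0
          rw [hr0, zero_pow hnpos.ne'] at hr3
          exact pow_ne_zero _ ha0 hr3.symm
        · rw [hζ', div_mul_cancel₀ _ ha0]
      obtain ⟨ζ, hζ0, hprod⟩ := multiset_prod_eq_of_forall a gL.roots hrootsform
      rw [← hgLsplits.natDegree_eq_card_roots, hgLdeg] at hprod
      rw [hprod] at hcoeff
      have hζL : algebraMap K L ζ ≠ 0 := by
        rw [Ne, map_eq_zero_iff _ (algebraMap K L).injective]
        exact hζ0
      have h1 : a ^ m = algebraMap K L ζ⁻¹ * ((-1) ^ m * algebraMap L' L (g.coeff 0)) := by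
        rw [hcoeff, map_inv₀]
        have hsq : ((-1 : L) ^ m) * ((-1) ^ m) = 1 := by
          rw [← mul_pow]; simp
        calc a ^ m = ((algebraMap K L ζ)⁻¹ * algebraMap K L ζ) * (((-1 : L) ^ m) * ((-1) ^ m)) *
              a ^ m := by rw [inv_mul_cancel₀ hζL, hsq, one_mul, one_mul]
          _ = _ := by ring
      rw [h1]
      refine L'.mul_mem (L'.algebraMap_mem _) (L'.mul_mem ?_ (g.coeff 0).2)
      exact pow_mem (L'.neg_mem L'.one_mem) m
  refine ⟨m, Dvd.intro_left _ htower, ?_⟩
  set M : IntermediateField K L := K⟮a ^ m⟯ with hM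
  have hML' : M ≤ L' := adjoin_simple_le_iff.mpr hkey
  have hfrM : Module.finrank M L ≤ m := by
    rw [finrank_eq_natDegree_minpoly_of_adjoin_eq_top a ha M]
    have hamM : a ^ m ∈ M := mem_adjoin_simple_self K (a ^ m)
    have hmon : (X ^ m - C (⟨a ^ m, hamM⟩ : M) : M[X]).Monic := monic_X_pow_sub_C _ hmpos.ne'
    have h1 := minpoly.min M a hmon (by
      rw [map_sub, map_pow, aeval_X, aeval_C]
      show a ^ m - a ^ m = 0
      exact sub_self _)
    have h2 := natDegree_le_natDegree h1
    rwa [natDegree_X_pow_sub_C] at h2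
  symm
  apply IntermediateField.eq_of_le_of_finrank_le' hML'
  rw [hfr]
  exact hfrM

end kummer

end Groth.Agent.Lib.Helper87
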