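import Groth.Agent.Lib.Helper39.GrTop
import Groth.Agent.Lib.Helper39.GrVer5
import Groth.Agent.Lib.Helper39.GrKoszul2

/-!
# Graded equivalences and consequences of the long exact sequence (helper87)

`GrEquiv R 𝓐 ℬ`: a linear equivalence matching the pieces.  Consequences of helper39's `exists_les`
packaged as graded equivalences.
-/

set_option autoImplicit false
universe u

namespace Groth.Agent.Lib.Helper87.Kun

open DirectSum GrLC Groth.Agent.Lib.Helper39 Groth.Agent.Lib.Helper39.GrLes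
  Groth.Agent.Lib.Helper39.Ver Groth.Agent.Lib.Helper39.GrTop

section GrEquiv
variable {ι : Type} (R : Type u) [CommRing R]
  {A B C : Type u} [AddCommGroup A] [Module R A] [AddCommGroup B] [Module R B]
  [AddCommGroup C] [Module R C]

/-- a linear equivalence matching the pieces of two families of subgroups -/
structure GrEquiv (𝓐 : ι → AddSubgroup A) (ℬ : ι → AddSubgroup B) where
  e : A ≃ₗ[R] B
  mem_iff : ∀ (g : ι) (x : A), x ∈ 𝓐 g ↔ e x ∈ ℬ g

variable {R}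
variable {𝓐 : ι → AddSubgroup A} {ℬ : ι → AddSubgroup B} {𝓒 : ι → AddSubgroup C}

/-- identity -/
def GrEquiv.refl (𝓐 : ι → AddSubgroup A) : GrEquiv R 𝓐 𝓐 :=
  ⟨LinearEquiv.refl R A, fun _ _ => Iff.rfl⟩

/-- inverse -/
def GrEquiv.symm (f : GrEquiv R 𝓐 ℬ) : GrEquiv R ℬ 𝓐 :=
  ⟨f.e.symm, fun g x => by rw [f.mem_iff g (f.e.symm x), LinearEquiv.apply_symm_apply]⟩

/-- composition -/
def GrEquiv.trans (f : GrEquiv R 𝓐 ℬ) (f' : GrEquiv R ℬ 𝓒) : GrEquiv R 𝓐 𝓒 :=
  ⟨f.e.trans f'.e, fun g x => by rw [f.mem_iff g x, f'.mem_iff g (f.e x)]; rfl⟩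

theorem GrEquiv.isGrHom (f : GrEquiv R 𝓐 ℬ) : IsGrHom 𝓐 ℬ f.e.toLinearMap :=
  fun g x hx => (f.mem_iff g x).mp hx

/-- a bijective homogeneous map between internally graded modules is a graded equivalence -/
noncomputable def GrEquiv.ofBijective [DecidableEq ι] (f : A →ₗ[R] B) (hf : IsGrHom 𝓐 ℬ f)
    (hb : Function.Bijective f) (hA : DirectSum.IsInternal 𝓐) (hB : DirectSum.IsInternal ℬ) :
    GrEquiv R 𝓐 ℬ :=
  ⟨LinearEquiv.ofBijective f hb, fun g x =>
    ⟨fun hx => hf g x hx, fun hx => mem_of_map_mem_of_injective hA hB f hf hb.1 hx⟩⟩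

theorem GrEquiv.subsingleton_of (f : GrEquiv R 𝓐 ℬ) [Subsingleton B] : Subsingleton A :=
  f.e.injective.subsingleton

end GrEquiv

section LES
variable {ι : Type} [AddCommGroup ι] [DecidableEq ι] {R : Type u} [CommRing R]
  {𝒜 : ι → AddSubgroup R} [GradedRing 𝒜]
  {M' : Type u} [AddCommGroup M'] [Module R M'] {ℳ' : ι → AddSubgroup M'} [DirectSum.Decomposition ℳ']
  [SetLike.GradedSMul 𝒜 ℳ']
  {M : Type u} [AddCommGroup M] [Module R M] {ℳ : ι → AddSubgroup M} [DirectSum.Decomposition ℳ]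
  [SetLike.GradedSMul 𝒜 ℳ]
  {M'' : Type u} [AddCommGroup M''] [Module R M''] {ℳ'' : ι → AddSubgroup M''}
  [DirectSum.Decomposition ℳ''] [SetLike.GradedSMul 𝒜 ℳ'']
  {i : M' →ₗ[R] M} {p : M →ₗ[R] M''}

/-- the connecting map is a graded equivalence when the middle terms vanish -/
theorem nonempty_grEquiv_delta (S : GrSES ℳ' ℳ ℳ'' i p) (E' : StarInjRes 𝒜 ℳ')
    (E : StarInjRes 𝒜 ℳ) (E'' : StarInjRes 𝒜 ℳ'') (a : HomogeneousIdeal 𝒜) (k : ℕ)
    (h1 : Subsingleton (E.H a k)) (h2 : Subsingleton (E.H a (k + 1))) :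
    Nonempty (GrEquiv R (E''.Hgr a k) (E'.Hgr a (k + 1))) := by
  obtain ⟨δ, hδ, -, ex2, ex3⟩ := exists_les S E' E E'' a
  refine ⟨GrEquiv.ofBijective (δ k) (hδ k) ⟨?_, ?_⟩ (Hgr_isInternal E'' a k)
    (Hgr_isInternal E' a (k + 1))⟩
  · rw [injective_iff_map_eq_zero]
    intro y hy
    obtain ⟨x, rfl⟩ := (ex2 k y).mp hy
    rw [Subsingleton.elim x 0, map_zero]
  · intro z
    exact (ex3 k z).mp (Subsingleton.elim _ _)

/-- the map induced by the inclusion is a graded equivalence when the cohomology of the quotient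
vanishes in two consecutive degrees -/
theorem nonempty_grEquiv_incl (S : GrSES ℳ' ℳ ℳ'' i p) (E' : StarInjRes 𝒜 ℳ')
    (E : StarInjRes 𝒜 ℳ) (E'' : StarInjRes 𝒜 ℳ'') (a : HomogeneousIdeal 𝒜) (k : ℕ)
    (h1 : Subsingleton (E''.H a k)) (h2 : Subsingleton (E''.H a (k + 1))) :
    Nonempty (GrEquiv R (E'.Hgr a (k + 1)) (E.Hgr a (k + 1))) := by
  obtain ⟨δ, -, ex1, -, ex3⟩ := exists_les S E' E E'' a
  refine ⟨GrEquiv.ofBijective (Hmap₀ E' E a i S.i_grHom (k + 1))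
    (Hmap₀_isGrHom E' E a i S.i_grHom (k + 1)) ⟨?_, ?_⟩ (Hgr_isInternal E' a (k + 1))
    (Hgr_isInternal E a (k + 1))⟩
  · rw [injective_iff_map_eq_zero]
    intro y hy
    obtain ⟨x, rfl⟩ := (ex3 k y).mp hy
    rw [Subsingleton.elim x 0, map_zero]
  · intro z
    exact (ex1 (k + 1) z).mp (Subsingleton.elim _ _)

/-- vanishing of the cohomology of the sub from that of the middle and the quotient one degree
below -/
theorem H_subsingleton_sub (S : GrSES ℳ' ℳ ℳ'' i p) (E' : StarInjRes 𝒜 ℳ')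
    (E : StarInjRes 𝒜 ℳ) (E'' : StarInjRes 𝒜 ℳ'') (a : HomogeneousIdeal 𝒜) (k : ℕ)
    (h1 : Subsingleton (E''.H a k)) (h2 : Subsingleton (E.H a (k + 1))) :
    Subsingleton (E'.H a (k + 1)) := by
  obtain ⟨δ, -, -, -, ex3⟩ := exists_les S E' E E'' a
  refine ⟨fun y z => ?_⟩
  have key : ∀ y : E'.H a (k + 1), y = 0 := by
    intro y
    obtain ⟨x, rfl⟩ := (ex3 k y).mp (Subsingleton.elim _ _)
    rw [Subsingleton.elim x 0, map_zero]
  rw [key y, key z]

end LES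

section Zero
variable {ι : Type} [AddCommGroup ι] [DecidableEq ι] {R : Type u} [CommRing R]
  {𝒜 : ι → AddSubgroup R} [GradedRing 𝒜]
  {M : Type u} [AddCommGroup M] [Module R M] {ℳ : ι → AddSubgroup M} [DirectSum.Decomposition ℳ]
  [SetLike.GradedSMul 𝒜 ℳ]

theorem H_zero_subsingleton_iff (E : StarInjRes 𝒜 ℳ) (a : HomogeneousIdeal 𝒜) :
    Subsingleton (E.H a 0) ↔ gam a.toIdeal M = ⊥ := by
  constructor
  · intro h
    rw [eq_bot_iff]
    intro x hx
    have : (⟨x, hx⟩ : gam a.toIdeal M) = 0 :=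
      h0_injective E a (Subsingleton.elim _ _)
    rw [Submodule.mem_bot]
    exact congrArg Subtype.val this
  · intro h
    refine ⟨fun y z => ?_⟩
    obtain ⟨y', rfl⟩ := h0_surjective E a y
    obtain ⟨z', rfl⟩ := h0_surjective E a z
    have hy : y' = 0 := Subtype.ext ((Submodule.mem_bot R).mp (h ▸ y'.2))
    have hz : z' = 0 := Subtype.ext ((Submodule.mem_bot R).mp (h ▸ z'.2))
    rw [hy, hz]

/-- `H^0` of a torsion module is the module itself -/
theorem nonempty_grEquiv_h0_of_torsion (E : StarInjRes 𝒜 ℳ) (a : HomogeneousIdeal 𝒜)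
    (htor : ∀ x : M, ∃ k : ℕ, ∀ r ∈ a.toIdeal ^ k, r • x = 0) :
    Nonempty (GrEquiv R ℳ (E.Hgr a 0)) := by
  have hmem : ∀ x : M, x ∈ gam a.toIdeal M := fun x => htor x
  let f : M →ₗ[R] E.H a 0 :=
    h0 E a ∘ₗ LinearMap.codRestrict (gam a.toIdeal M) LinearMap.id hmem
  have hf : IsGrHom ℳ (E.Hgr a 0) f := fun g x hx => h0_mem_Hgr E a (x := ⟨x, hmem x⟩) hx
  have hbij : Function.Bijective f := by
    constructor
    · intro x y hxy
      have := h0_injective E a hxy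
      exact congrArg Subtype.val this
    · intro y
      obtain ⟨x, rfl⟩ := h0_surjective E a y
      exact ⟨x, by show h0 E a _ = _; congr 1⟩
  exact ⟨GrEquiv.ofBijective f hf hbij (Decomposition.isInternal ℳ) (Hgr_isInternal E a 0)⟩

end Zero

section Iso
variable {ι : Type} [AddCommGroup ι] [DecidableEq ι] {R : Type u} [CommRing R]
  {𝒜 : ι → AddSubgroup R} [GradedRing 𝒜]
  {M : Type u} [AddCommGroup M] [Module R M] {ℳ : ι → AddSubgroup M} [DirectSum.Decomposition ℳ]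
  [SetLike.GradedSMul 𝒜 ℳ]
  {N : Type u} [AddCommGroup N] [Module R N] {𝒩 : ι → AddSubgroup N} [DirectSum.Decomposition 𝒩]
  [SetLike.GradedSMul 𝒜 𝒩]

/-- graded local cohomology is invariant under graded isomorphisms of modules -/
theorem nonempty_grEquiv_of_grEquiv (f : GrEquiv R ℳ 𝒩) (E : StarInjRes 𝒜 ℳ) (F : StarInjRes 𝒜 𝒩)
    (a : HomogeneousIdeal 𝒜) (k : ℕ) : Nonempty (GrEquiv R (E.Hgr a k) (F.Hgr a k)) := by
  have hf : IsGrHom ℳ 𝒩 f.e.toLinearMap := f.isGrHom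
  have hg : IsGrHom 𝒩 ℳ f.e.symm.toLinearMap := f.symm.isGrHom
  have h1 : Hmap₀ F E a f.e.symm.toLinearMap hg k ∘ₗ Hmap₀ E F a f.e.toLinearMap hf k =
      LinearMap.id := by
    rw [← Hmap₀_comp E F E a _ hf _ hg k, ← Hmap₀_id E a k]
    exact Hmap₀_congr E E a _ _ (by ext x; simp) k
  have h2 : Hmap₀ E F a f.e.toLinearMap hf k ∘ₗ Hmap₀ F E a f.e.symm.toLinearMap hg k =
      LinearMap.id := by
    rw [← Hmap₀_comp F E F a _ hg _ hf k, ← Hmap₀_id F a k]
    exact Hmap₀_congr F F a _ _ (by ext x; simp) k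
  refine ⟨GrEquiv.ofBijective (Hmap₀ E F a f.e.toLinearMap hf k)
    (Hmap₀_isGrHom E F a _ hf k) ⟨?_, ?_⟩ (Hgr_isInternal E a k) (Hgr_isInternal F a k)⟩
  · intro x y hxy
    have := congrArg (Hmap₀ F E a f.e.symm.toLinearMap hg k) hxy
    rw [← LinearMap.comp_apply, ← LinearMap.comp_apply, h1] at this
    exact this
  · intro y
    refine ⟨Hmap₀ F E a f.e.symm.toLinearMap hg k y, ?_⟩
    rw [← LinearMap.comp_apply, h2]
    rfl

end Iso

end Groth.Agent.Lib.Helper87.Kun
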