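import Groth.Agent.Lib.Helper87.Kun9

/-!
# Segre products of modules without local cohomology, II (helper87)

`seg_lc_subsingleton`: if `H^p_{R_+}(X ⊗_k V) = 0` and `H^p_{S_+}(Y ⊗_k V) = 0` for all `p` and all
vector spaces `V`, then `H^p_{T_+}(X # Y) = 0` for all `p`.
-/

set_option autoImplicit false
universe u

namespace Groth.Agent.Lib.Helper87.Kun

open DirectSum TensorProduct
open Groth.Agent.Lib.Helper99 Groth.Agent.Lib.Helper87.SegOne Groth.Agent.Lib.Helper60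

section Seg

variable {k : Type u} [Field k] {R S T : Type u} [CommRing R] [CommRing S] [CommRing T]
  [Algebra k R] [Algebra k S] [Algebra k T]
  (𝒜 : ℤ → Submodule k R) [GradedAlgebra 𝒜] (ℬ : ℤ → Submodule k S) [GradedAlgebra ℬ]
  (𝒯 : ℤ → Submodule k T) [GradedAlgebra 𝒯]
  (ψ : T →ₐ[k] R ⊗[k] S) (hT : GrSeg.IsSegreRing 𝒜 ℬ 𝒯 ψ)
  (X Y : Type u) [AddCommGroup X] [Module R X] [Module k X] [IsScalarTower k R X]
  [AddCommGroup Y] [Module S Y] [Module k Y] [IsScalarTower k S Y]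

/-- `X ⊗ Y` is, over `R`, a direct sum of copies of `X` -/
theorem exists_equiv_left : ∃ (B : Type u) (e : Amb ψ X Y ≃+ (B →₀ X)),
    ∀ (r : R) (z : Amb ψ X Y), e (inclL (k := k) (S := S) r • z) = r • e z := by
  classical
  let b := Module.Free.chooseBasis k Y
  let e₀ : X ⊗[k] Y ≃ₗ[k] (Module.Free.ChooseBasisIndex k Y →₀ X) :=
    (TensorProduct.congr (LinearEquiv.refl k X) b.repr) ≪≫ₗ
      TensorProduct.finsuppScalarRight k k X (Module.Free.ChooseBasisIndex k Y)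
  have he₀ : ∀ (x : X) (y : Y) (i : Module.Free.ChooseBasisIndex k Y),
      e₀ (x ⊗ₜ[k] y) i = b.repr y i • x := fun x y i => by
    show TensorProduct.finsuppScalarRight k k X _
      ((TensorProduct.congr (LinearEquiv.refl k X) b.repr) (x ⊗ₜ[k] y)) i = _
    rw [TensorProduct.congr_tmul, TensorProduct.finsuppScalarRight_apply_tmul_apply]
    rfl
  refine ⟨Module.Free.ChooseBasisIndex k Y, e₀.toAddEquiv, fun r z => ?_⟩
  show e₀ (GrSeg.act k R S X Y (r ⊗ₜ[k] (1 : S)) z) = r • e₀ z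
  induction z using TensorProduct.induction_on with
  | zero => simp
  | tmul x y =>
    rw [GrSeg.act_tmul, one_smul]
    ext i
    rw [he₀, Finsupp.smul_apply, he₀, smul_comm]
  | add z z' hz hz' => rw [map_add, map_add, hz, hz', map_add, smul_add]

/-- `X ⊗ Y` is, over `S`, a direct sum of copies of `Y` -/
theorem exists_equiv_right : ∃ (B : Type u) (e : Amb ψ X Y ≃+ (B →₀ Y)),
    ∀ (s : S) (z : Amb ψ X Y), e (inclR (k := k) (R := R) s • z) = s • e z := by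
  classical
  let b := Module.Free.chooseBasis k X
  let e₀ : X ⊗[k] Y ≃ₗ[k] (Module.Free.ChooseBasisIndex k X →₀ Y) :=
    (TensorProduct.comm k X Y) ≪≫ₗ (TensorProduct.congr (LinearEquiv.refl k Y) b.repr) ≪≫ₗ
      TensorProduct.finsuppScalarRight k k Y (Module.Free.ChooseBasisIndex k X)
  have he₀ : ∀ (x : X) (y : Y) (i : Module.Free.ChooseBasisIndex k X),
      e₀ (x ⊗ₜ[k] y) i = b.repr x i • y := fun x y i => by
    show TensorProduct.finsuppScalarRight k k Y _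
      ((TensorProduct.congr (LinearEquiv.refl k Y) b.repr)
        (TensorProduct.comm k X Y (x ⊗ₜ[k] y))) i = _
    rw [TensorProduct.comm_tmul, TensorProduct.congr_tmul,
      TensorProduct.finsuppScalarRight_apply_tmul_apply]
    rfl
  refine ⟨Module.Free.ChooseBasisIndex k X, e₀.toAddEquiv, fun s z => ?_⟩
  show e₀ (GrSeg.act k R S X Y ((1 : R) ⊗ₜ[k] s) z) = s • e₀ z
  induction z using TensorProduct.induction_on with
  | zero => simp
  | tmul x y =>
    rw [GrSeg.act_tmul, one_smul]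
    ext i
    rw [he₀, Finsupp.smul_apply, he₀, smul_comm]
  | add z z' hz hz' => rw [map_add, map_add, hz, hz', map_add, smul_add]

variable {X Y}
  (𝒳 : ℤ → AddSubgroup X) [DirectSum.Decomposition 𝒳] [SetLike.GradedSMul 𝒜 𝒳]
  (𝒴 : ℤ → AddSubgroup Y) [DirectSum.Decomposition 𝒴] [SetLike.GradedSMul ℬ 𝒴]

/-- Segre products of modules without local cohomology have no local cohomology -/
theorem seg_lc_subsingleton [IsNoetherianRing R] [IsNoetherianRing S] [IsNoetherianRing T]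
    [IsNoetherianRing (R ⊗[k] S)]
    (hX : ∀ (B : Type u) (p : ℕ), Subsingleton (LocCoh.H (irr 𝒜) p (B →₀ X)))
    (hY : ∀ (B : Type u) (p : ℕ), Subsingleton (LocCoh.H (irr ℬ) p (B →₀ Y))) (p : ℕ) :
    Subsingleton (LocCoh.H (irr 𝒯) p (segSub 𝒜 ℬ 𝒯 ψ hT 𝒳 𝒴)) := by
  have hI : ∀ q, Subsingleton
      (LocCoh.H ((irr 𝒜).map (inclL (k := k) (S := S))) q (Amb ψ X Y)) := fun q => by
    rw [lc_subsingleton_map_iff (inclL (k := k) (S := S)) (irr 𝒜) q (Amb ψ X Y)]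
    obtain ⟨B, e, he⟩ := exists_equiv_left (R := R) (S := S) ψ X Y
    letI : Module R (Amb ψ X Y) := Module.compHom (Amb ψ X Y) (inclL (k := k) (S := S))
    exact lc_subsingleton_of_linearEquiv (irr 𝒜) q
      ({ e with map_smul' := he } : Amb ψ X Y ≃ₗ[R] (B →₀ X)) (hX B q)
  have hJ : ∀ q, Subsingleton
      (LocCoh.H ((irr ℬ).map (inclR (k := k) (R := R))) q (Amb ψ X Y)) := fun q => by
    rw [lc_subsingleton_map_iff (inclR (k := k) (R := R)) (irr ℬ) q (Amb ψ X Y)]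
    obtain ⟨B, e, he⟩ := exists_equiv_right (R := R) (S := S) ψ X Y
    letI : Module S (Amb ψ X Y) := Module.compHom (Amb ψ X Y) (inclR (k := k) (R := R))
    exact lc_subsingleton_of_linearEquiv (irr ℬ) q
      ({ e with map_smul' := he } : Amb ψ X Y ≃ₗ[S] (B →₀ Y)) (hY B q)
  have hK : Subsingleton (LocCoh.H ((irr 𝒯).map (ψ : T →+* R ⊗[k] S)) p (Amb ψ X Y)) :=
    lc_subsingleton_of_radical _ _ (map_irr_le_inf 𝒜 ℬ 𝒯 ψ hT) (inf_le_radical 𝒜 ℬ 𝒯 ψ hT) p _
      (lc_inf_subsingleton _ _ _ hI hJ p)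
  have hT' : Subsingleton (LocCoh.H (irr 𝒯) p (Amb ψ X Y)) :=
    (lc_subsingleton_map_iff (ψ : T →+* R ⊗[k] S) (irr 𝒯) p (Amb ψ X Y)).mp hK
  exact lc_subsingleton_of_retract (irr 𝒯) p (segSub 𝒜 ℬ 𝒯 ψ hT 𝒳 𝒴).subtype
    (segRetr 𝒜 ℬ 𝒯 ψ hT 𝒳 𝒴) (segRetr_subtype 𝒜 ℬ 𝒯 ψ hT 𝒳 𝒴) hT'

end Seg

end Groth.Agent.Lib.Helper87.Kun
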