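import Groth.Agent.Lib.Helper87.Kun4

/-!
# Hodge data on tensor products and dimension counts (helper87)

* `SignOp`: a sign operator for a projector grading, with its commutation rules.
* `Hodge`: ungraded Hodge data; `Hodge.tensor`: Hodge data for `D ⊗ 1 + σ ⊗ D'` on `V ⊗ W`.
* `Hodge.finrank_eq`: the cohomology of `D` on a subspace is computed by the harmonic part.
* `finrank_range_map`, `finrank_range_sum`: dimension counts for ranges of projectors.
-/

set_option autoImplicit false
universe u v w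

namespace Groth.Agent.Lib.Helper87.Kun

open TensorProduct

section Sign

variable {k : Type u} [Field k] {V : Type v} [AddCommGroup V] [Module k V] {Λ : Type w}
  (G : ProjGr k V Λ)

/-- a sign operator for a grading and a degree shift -/
structure SignOp (θ : Λ → Λ) where
  σ : V →ₗ[k] V
  sgn : Λ → k
  σP : ∀ l x, σ (G.P l x) = sgn l • G.P l x
  sgn_sq : ∀ l, sgn l * sgn l = 1
  sgn_θ : ∀ l, sgn (θ l) = - sgn l

variable {G} {θ : Λ → Λ} (S : SignOp G θ)

namespace SignOp

theorem σ_hom {l : Λ} {x : V} (hx : G.P l x = x) : S.σ x = S.sgn l • x := by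
  conv_lhs => rw [← hx]
  rw [S.σP, hx]

theorem σσ (x : V) : S.σ (S.σ x) = x := by
  refine G.induction (motive := fun x => S.σ (S.σ x) = x) (by rw [map_zero, map_zero])
    (fun x y hx hy => by rw [map_add, map_add, hx, hy]) (fun l x hx => ?_) x
  rw [S.σ_hom hx, map_smul, S.σ_hom hx, smul_smul, S.sgn_sq, one_smul]

theorem Dσ {D : V →ₗ[k] V} (hD : ∀ l x, D (G.P l x) = G.P (θ l) (D x)) (x : V) :
    D (S.σ x) = - S.σ (D x) := by
  refine G.induction (motive := fun x => D (S.σ x) = - S.σ (D x)) (by simp)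
    (fun x y hx hy => by rw [map_add, map_add, hx, hy, map_add, map_add, neg_add]) (fun l x hx => ?_) x
  have h1 : G.P (θ l) (D x) = D x := by rw [← hD, hx]
  rw [S.σ_hom hx, map_smul, S.σ_hom h1, S.sgn_θ, neg_smul, neg_neg]

theorem πσ {D : V →ₗ[k] V} (H : GHodge G θ D) (x : V) : H.π (S.σ x) = S.σ (H.π x) := by
  refine G.induction (motive := fun x => H.π (S.σ x) = S.σ (H.π x)) (by simp)
    (fun x y hx hy => by rw [map_add, map_add, hx, hy, map_add, map_add]) (fun l x hx => ?_) x
  have h1 : G.P l (H.π x) = H.π x := by rw [← H.πP, hx]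
  rw [S.σ_hom hx, map_smul, S.σ_hom h1]

theorem sσ {D : V →ₗ[k] V} (H : GHodge G θ D) (x : V) : H.s (S.σ x) = - S.σ (H.s x) := by
  classical
  refine G.induction (motive := fun x => H.s (S.σ x) = - S.σ (H.s x)) (by simp)
    (fun x y hx hy => by rw [map_add, map_add, hx, hy, map_add, map_add, neg_add]) (fun m x hx => ?_) x
  by_cases hm : m ∈ Set.range θ
  · obtain ⟨l, rfl⟩ := hm
    have h1 : G.P l (H.s x) = H.s x := by rw [← H.sP, hx]
    rw [S.σ_hom hx, map_smul, S.σ_hom h1, S.sgn_θ, neg_smul]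
  · have h0 : H.s x = 0 := by rw [← hx, H.sP0 m hm]
    rw [S.σ_hom hx, map_smul, h0, smul_zero, map_zero, neg_zero]

end SignOp

end Sign

section Hodge

variable {k : Type u} [Field k] {V : Type v} [AddCommGroup V] [Module k V]
  {W : Type w} [AddCommGroup W] [Module k W]

/-- ungraded Hodge data -/
structure Hodge (D : V →ₗ[k] V) where
  π : V →ₗ[k] V
  s : V →ₗ[k] V
  ds_sd : ∀ x, D (s x) + s (D x) = x - π x
  πD : ∀ x, π (D x) = 0
  Dπ : ∀ x, D (π x) = 0
  ππ : ∀ x, π (π x) = π x

/-- forget the grading -/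
def GHodge.toHodge {Λ : Type*} {G : ProjGr k V Λ} {θ : Λ → Λ} {D : V →ₗ[k] V} (H : GHodge G θ D) :
    Hodge D :=
  { π := H.π, s := H.s, ds_sd := H.ds_sd, πD := H.πD, Dπ := H.Dπ, ππ := H.ππ }

theorem Hodge.decomp {D : V →ₗ[k] V} (H : Hodge D) {z : V} (hz : D z = 0) :
    z = H.π z + D (H.s z) := by
  have h := H.ds_sd z
  rw [hz, map_zero, add_zero] at h
  rw [h]
  abel

/-- the total differential on a tensor product -/
noncomputable def totD (D σ : V →ₗ[k] V) (D' : W →ₗ[k] W) : V ⊗[k] W →ₗ[k] V ⊗[k] W :=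
  TensorProduct.map D LinearMap.id + TensorProduct.map σ D'

theorem totD_tmul (D σ : V →ₗ[k] V) (D' : W →ₗ[k] W) (v : V) (w : W) :
    totD D σ D' (v ⊗ₜ w) = D v ⊗ₜ w + σ v ⊗ₜ D' w := by
  simp [totD]

theorem totD_totD {D σ : V →ₗ[k] V} {D' : W →ₗ[k] W} (hDD : ∀ x, D (D x) = 0)
    (hDD' : ∀ x, D' (D' x) = 0) (hDσ : ∀ x, D (σ x) = - σ (D x)) (u : V ⊗[k] W) :
    totD D σ D' (totD D σ D' u) = 0 := by
  induction u using TensorProduct.induction_on with
  | zero => simp
  | tmul v w =>
    rw [totD_tmul, map_add, totD_tmul, totD_tmul, hDD, hDD', hDσ]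
    simp [TensorProduct.neg_tmul]
  | add x y hx hy => rw [map_add, map_add, hx, hy, add_zero]

/-- Hodge data on a tensor product -/
noncomputable def Hodge.tensor {D σ : V →ₗ[k] V} {D' : W →ₗ[k] W} (H : Hodge D) (H' : Hodge D')
    (hσσ : ∀ x, σ (σ x) = x)
    (hπσ : ∀ x, H.π (σ x) = σ (H.π x)) (hsσ : ∀ x, H.s (σ x) = - σ (H.s x)) :
    Hodge (totD D σ D') where
  π := TensorProduct.map H.π H'.π
  s := TensorProduct.map H.s LinearMap.id + TensorProduct.map (H.π ∘ₗ σ) H'.s
  ds_sd u := by
    induction u using TensorProduct.induction_on with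
    | zero => simp
    | tmul v w =>
      simp only [LinearMap.add_apply, TensorProduct.map_tmul, LinearMap.id_apply, map_add,
        totD_tmul, LinearMap.comp_apply]
      rw [H.Dπ, hπσ (D v), H.πD, hsσ, hπσ v, hσσ, hσσ]
      have e1 := H.ds_sd v
      have e2 := H'.ds_sd w
      have e3 : D (H.s v) ⊗ₜ[k] w + H.s (D v) ⊗ₜ[k] w = (v - H.π v) ⊗ₜ[k] w := by
        rw [← TensorProduct.add_tmul, e1]
      have e4 : H.π v ⊗ₜ[k] D' (H'.s w) + H.π v ⊗ₜ[k] H'.s (D' w) =
          H.π v ⊗ₜ[k] (w - H'.π w) := by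
        rw [← TensorProduct.tmul_add, e2]
      simp only [map_neg, TensorProduct.neg_tmul, TensorProduct.zero_tmul, map_zero, neg_zero,
        add_zero, zero_add]
      rw [TensorProduct.sub_tmul] at e3
      rw [TensorProduct.tmul_sub] at e4
      have e5 : D (H.s v) ⊗ₜ[k] w = v ⊗ₜ[k] w - H.π v ⊗ₜ[k] w - H.s (D v) ⊗ₜ[k] w := by
        rw [← e3]; abel
      have e6 : H.π v ⊗ₜ[k] D' (H'.s w) =
          H.π v ⊗ₜ[k] w - H.π v ⊗ₜ[k] H'.π w - H.π v ⊗ₜ[k] H'.s (D' w) := by
        rw [← e4]; abel
      rw [e5, e6]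
      abel
    | add x y hx hy =>
      rw [map_add, map_add, map_add, map_add, map_add]
      rw [show ∀ a b c d : V ⊗[k] W, a + b + (c + d) = (a + c) + (b + d) from fun a b c d => by abel,
        hx, hy]
      abel
  πD u := by
    induction u using TensorProduct.induction_on with
    | zero => simp
    | tmul v w =>
      rw [totD_tmul, map_add, TensorProduct.map_tmul, TensorProduct.map_tmul, H.πD, H'.πD]
      simp
    | add x y hx hy => rw [map_add, map_add, hx, hy, add_zero]
  Dπ u := by
    induction u using TensorProduct.induction_on with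
    | zero => simp
    | tmul v w =>
      rw [TensorProduct.map_tmul, totD_tmul, H.Dπ, H'.Dπ]
      simp
    | add x y hx hy => rw [map_add, map_add, hx, hy, add_zero]
  ππ u := by
    induction u using TensorProduct.induction_on with
    | zero => simp
    | tmul v w => rw [TensorProduct.map_tmul, TensorProduct.map_tmul, H.ππ, H'.ππ]
    | add x y hx hy => rw [map_add, map_add, hx, hy]

/-- the cohomology of `D` on a subspace is computed by the harmonic part -/
theorem Hodge.finrank_eq {D : V →ₗ[k] V} (H : Hodge D) (L L' : Submodule k V)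
    (hπL : ∀ x ∈ L, H.π x ∈ L) (hsL : ∀ x ∈ L, H.s x ∈ L') (hDL' : ∀ x ∈ L', D x ∈ L)
    {Zc : Type*} [AddCommGroup Zc] [Module k Zc] (j : Zc →ₗ[k] V)
    (hrange : ∀ v, v ∈ LinearMap.range j ↔ D v = 0 ∧ v ∈ L)
    {Q : Type*} [AddCommGroup Q] [Module k Q] (cl : Zc →ₗ[k] Q) (hsurj : Function.Surjective cl)
    (hker : ∀ z, cl z = 0 ↔ j z ∈ L'.map D) :
    Module.finrank k Q = Module.finrank k (L.map H.π) := by
  have hjL : ∀ z, j z ∈ L := fun z => ((hrange _).mp ⟨z, rfl⟩).2
  have hjD : ∀ z, D (j z) = 0 := fun z => ((hrange _).mp ⟨z, rfl⟩).1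
  let f : Zc →ₗ[k] ↥(L.map H.π) :=
    LinearMap.codRestrict _ (H.π ∘ₗ j) (fun z => Submodule.mem_map_of_mem (hjL z))
  have hf : Function.Surjective f := by
    rintro ⟨_, x, hx, rfl⟩
    obtain ⟨z, hz⟩ := (hrange (H.π x)).mpr ⟨H.Dπ x, hπL x hx⟩
    refine ⟨z, Subtype.ext ?_⟩
    show H.π (j z) = H.π x
    rw [hz, H.ππ]
  have hk : LinearMap.ker f = LinearMap.ker cl := by
    ext z
    rw [LinearMap.mem_ker, LinearMap.mem_ker, hker]
    constructor
    · intro h
      have h1 : H.π (j z) = 0 := congrArg Subtype.val h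
      have h2 := H.decomp (hjD z)
      rw [h1, zero_add] at h2
      exact ⟨H.s (j z), hsL _ (hjL z), h2.symm⟩
    · rintro ⟨x, -, hx⟩
      apply Subtype.ext
      show H.π (j z) = 0
      rw [← hx, H.πD]
  have e1 := LinearMap.quotKerEquivOfSurjective f hf
  have e2 := LinearMap.quotKerEquivOfSurjective cl hsurj
  have e3 := Submodule.quotEquivOfEq _ _ hk
  exact (e2.symm.trans (e3.symm.trans e1)).finrank_eq

end Hodge

section Count

variable {k : Type u} [Field k] {V : Type v} [AddCommGroup V] [Module k V]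
  {W : Type w} [AddCommGroup W] [Module k W]

theorem finrank_range_map (p : V →ₗ[k] V) (p' : W →ₗ[k] W) :
    Module.finrank k (LinearMap.range (TensorProduct.map p p')) =
      Module.finrank k (LinearMap.range p) * Module.finrank k (LinearMap.range p') := by
  have h1 : TensorProduct.map p p' =
      TensorProduct.map (LinearMap.range p).subtype (LinearMap.range p').subtype ∘ₗ
        TensorProduct.map p.rangeRestrict p'.rangeRestrict := by
    rw [← TensorProduct.map_comp]
    rfl
  have h2 : Function.Surjective (TensorProduct.map p.rangeRestrict p'.rangeRestrict) :=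
    TensorProduct.map_surjective (LinearMap.surjective_rangeRestrict p)
      (LinearMap.surjective_rangeRestrict p')
  have h3 : Function.Injective
      (TensorProduct.map (LinearMap.range p).subtype (LinearMap.range p').subtype) :=
    TensorProduct.map_injective_of_flat_flat _ _ (Submodule.injective_subtype _)
      (Submodule.injective_subtype _)
  have h4 : LinearMap.range (TensorProduct.map p p') =
      LinearMap.range (TensorProduct.map (LinearMap.range p).subtype (LinearMap.range p').subtype) := by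
    rw [h1, LinearMap.range_comp, LinearMap.range_eq_top.mpr h2, Submodule.map_top]
  rw [h4, ← (LinearEquiv.ofInjective _ h3).finrank_eq, Module.finrank_tensorProduct]

theorem finrank_aux (N : Submodule k V) (h : N = ⊥) :
    FiniteDimensional k N ∧ Module.finrank k N = 0 := by
  subst h
  exact ⟨inferInstance, finrank_bot k V⟩

theorem finrank_range_sum {ι : Type*} [DecidableEq ι] (s : Finset ι) (q : ι → V →ₗ[k] V)
    (hqq : ∀ a ∈ s, ∀ x, q a (q a x) = q a x)
    (horth : ∀ a ∈ s, ∀ b ∈ s, a ≠ b → ∀ x, q a (q b x) = 0)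
    (hfin : ∀ a ∈ s, FiniteDimensional k (LinearMap.range (q a))) :
    FiniteDimensional k (LinearMap.range (∑ a ∈ s, q a)) ∧
    Module.finrank k (LinearMap.range (∑ a ∈ s, q a)) =
      ∑ a ∈ s, Module.finrank k (LinearMap.range (q a)) := by
  induction s using Finset.induction_on with
  | empty =>
    rw [Finset.sum_empty]
    exact finrank_aux _ (by simp)
  | insert a s ha ih =>
    have ih' := ih (fun b hb => hqq b (Finset.mem_insert_of_mem hb))
      (fun b hb c hc => horth b (Finset.mem_insert_of_mem hb) c (Finset.mem_insert_of_mem hc))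
      (fun b hb => hfin b (Finset.mem_insert_of_mem hb))
    obtain ⟨hfd, hrk⟩ := ih'
    set Q : V →ₗ[k] V := ∑ b ∈ s, q b with hQ
    have hane : ∀ b ∈ s, a ≠ b := fun b hb h => ha (h ▸ hb)
    have hQx : ∀ x, Q x = ∑ b ∈ s, q b x := fun x => by rw [hQ, LinearMap.sum_apply]
    have haQ : ∀ x, q a (Q x) = 0 := fun x => by
      rw [hQx, map_sum]
      exact Finset.sum_eq_zero fun b hb =>
        horth a (Finset.mem_insert_self a s) b (Finset.mem_insert_of_mem hb) (hane b hb) _
    have hQa : ∀ x, Q (q a x) = 0 := fun x => by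
      rw [hQx]
      exact Finset.sum_eq_zero fun b hb =>
        horth b (Finset.mem_insert_of_mem hb) a (Finset.mem_insert_self a s) (hane b hb).symm _
    have hQQ : ∀ x, Q (Q x) = Q x := fun x => by
      rw [hQx (Q x), hQx x]
      refine Finset.sum_congr rfl fun b hb => ?_
      rw [map_sum, Finset.sum_eq_single b, hqq b (Finset.mem_insert_of_mem hb)]
      · intro c hc hcb
        exact horth b (Finset.mem_insert_of_mem hb) c (Finset.mem_insert_of_mem hc) (Ne.symm hcb) _
      · intro hb'
        exact absurd hb hb'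
    have haa := hqq a (Finset.mem_insert_self a s)
    have hfa := hfin a (Finset.mem_insert_self a s)
    have hsup : LinearMap.range (q a + Q) = LinearMap.range (q a) ⊔ LinearMap.range Q := by
      apply le_antisymm
      · rintro _ ⟨x, rfl⟩
        exact Submodule.add_mem_sup ⟨x, rfl⟩ ⟨x, rfl⟩
      · refine sup_le ?_ ?_
        · rintro _ ⟨x, rfl⟩
          exact ⟨q a x, by rw [LinearMap.add_apply, haa, hQa, add_zero]⟩
        · rintro _ ⟨x, rfl⟩
          exact ⟨Q x, by rw [LinearMap.add_apply, haQ, hQQ, zero_add]⟩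
    have hinf : LinearMap.range (q a) ⊓ LinearMap.range Q = ⊥ := by
      rw [eq_bot_iff]
      rintro _ ⟨⟨x, rfl⟩, ⟨y, hy⟩⟩
      rw [Submodule.mem_bot, ← haa, ← hy, haQ]
    rw [Finset.sum_insert ha, Finset.sum_insert ha, hsup]
    refine ⟨inferInstance, ?_⟩
    have := Submodule.finrank_sup_add_finrank_inf_eq (LinearMap.range (q a)) (LinearMap.range Q)
    rw [hinf, finrank_bot, add_zero] at this
    rw [this, hrk]

end Count

end Groth.Agent.Lib.Helper87.Kun
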