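import Groth.Agent.Lib.Helper87.Kun9
import Groth.Agent.Lib.Helper87.Kun5

/-!
# Projector gradings: selections and tensor products (helper87)
-/

set_option autoImplicit false
universe u v w v' w'

namespace Groth.Agent.Lib.Helper87.Kun

open TensorProduct

section Sel

variable {k : Type u} [Field k] {V : Type v} [AddCommGroup V] [Module k V] {Λ : Type w}
  {W : Type v'} [AddCommGroup W] [Module k W] {Λ' : Type w'}
  (G : ProjGr k V Λ) (G' : ProjGr k W Λ')

open Classical in
/-- a map compatible with the gradings commutes with selections -/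
theorem ProjGr.sel_comm' (D : Set Λ) (D' : Set Λ') (f : V →ₗ[k] W)
    (hf : ∀ l, (∀ x, f (G.P l x) = 0) ∨
      ∃ l', (∀ x, f (G.P l x) = G'.P l' (f x)) ∧ (l' ∈ D' ↔ l ∈ D)) (x : V) :
    G'.sel D' (f x) = f (G.sel D x) := by
  refine G.induction (motive := fun x => G'.sel D' (f x) = f (G.sel D x)) (by simp)
    (fun x y hx hy => by rw [map_add, map_add, hx, hy, map_add, map_add]) (fun l x hx => ?_) x
  rcases hf l with h0 | ⟨l', h1, h2⟩
  · have hfx : f x = 0 := by rw [← hx, h0]
    rw [hfx, map_zero, G.sel_hom D hx]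
    split_ifs
    · exact hfx.symm
    · exact (map_zero f).symm
  · have h3 : G'.P l' (f x) = f x := by rw [← h1, hx]
    rw [G'.sel_hom D' h3, G.sel_hom D hx]
    by_cases hl : l ∈ D
    · rw [if_pos hl, if_pos (h2.mpr hl)]
    · rw [if_neg hl, if_neg (fun h => hl (h2.mp h)), map_zero]

open Classical in
theorem ProjGr.sel_sel (D D' : Set Λ) (x : V) : G.sel D (G.sel D' x) = G.sel (D ∩ D') x := by
  refine G.induction (motive := fun x => G.sel D (G.sel D' x) = G.sel (D ∩ D') x) (by simp)
    (fun x y hx hy => by rw [map_add, map_add, hx, hy, map_add]) (fun l x hx => ?_) x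
  rw [G.sel_hom D' hx, G.sel_hom (D ∩ D') hx]
  by_cases h' : l ∈ D'
  · rw [if_pos h', G.sel_hom D hx]
    by_cases h : l ∈ D
    · rw [if_pos h, if_pos ⟨h, h'⟩]
    · rw [if_neg h, if_neg (fun hh => h hh.1)]
  · rw [if_neg h', map_zero, if_neg (fun hh => h' hh.2)]

/-- the part of `V` of degrees in `D` -/
noncomputable def ProjGr.part (D : Set Λ) : Submodule k V := LinearMap.range (G.sel D)

theorem ProjGr.mem_part_iff (D : Set Λ) (x : V) : x ∈ G.part D ↔ G.sel D x = x := by
  constructor
  · rintro ⟨y, rfl⟩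
    rw [G.sel_sel, Set.inter_self]
  · intro h
    exact ⟨x, h⟩

theorem ProjGr.sel_mem_part (D : Set Λ) (x : V) : G.sel D x ∈ G.part D := ⟨x, rfl⟩

theorem ProjGr.part_mono {D D' : Set Λ} (h : D ⊆ D') : G.part D ≤ G.part D' := by
  intro x hx
  rw [G.mem_part_iff] at hx ⊢
  rw [← hx, G.sel_sel, Set.inter_eq_self_of_subset_right h]

theorem ProjGr.hom_mem_part {D : Set Λ} {l : Λ} (hl : l ∈ D) {x : V} (hx : G.P l x = x) :
    x ∈ G.part D := by
  classical
  rw [G.mem_part_iff, G.sel_hom D hx, if_pos hl]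

/-- maps compatible with the gradings preserve parts -/
theorem ProjGr.map_mem_part (D : Set Λ) (D' : Set Λ') (f : V →ₗ[k] W)
    (hf : ∀ l, (∀ x, f (G.P l x) = 0) ∨
      ∃ l', (∀ x, f (G.P l x) = G'.P l' (f x)) ∧ (l' ∈ D' ↔ l ∈ D)) {x : V} (hx : x ∈ G.part D) :
    f x ∈ G'.part D' := by
  rw [G.mem_part_iff] at hx
  rw [G'.mem_part_iff, G.sel_comm' G' D D' f hf, hx]

end Sel

section Tensor

variable {k : Type u} [Field k] {V : Type v} [AddCommGroup V] [Module k V] {Λ : Type w}
  {W : Type v'} [AddCommGroup W] [Module k W] {Λ' : Type w'}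
  (G : ProjGr k V Λ) (G' : ProjGr k W Λ')

/-- the tensor product of two gradings -/
noncomputable def ProjGr.tensor : ProjGr k (V ⊗[k] W) (Λ × Λ') where
  P q := TensorProduct.map (G.P q.1) (G'.P q.2)
  same q u := by
    induction u using TensorProduct.induction_on with
    | zero => simp
    | tmul x y => rw [TensorProduct.map_tmul, TensorProduct.map_tmul, G.same, G'.same]
    | add a b ha hb => rw [map_add, map_add, ha, hb]
  orth q r hqr u := by
    induction u using TensorProduct.induction_on with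
    | zero => simp
    | tmul x y =>
      rw [TensorProduct.map_tmul, TensorProduct.map_tmul]
      by_cases h1 : q.1 = r.1
      · have h2 : q.2 ≠ r.2 := fun h2 => hqr (Prod.ext h1 h2)
        rw [G'.orth q.2 r.2 h2, TensorProduct.tmul_zero]
      · rw [G.orth q.1 r.1 h1, TensorProduct.zero_tmul]
    | add a b ha hb => rw [map_add, map_add, ha, hb, add_zero]
  span u := by
    induction u using TensorProduct.induction_on with
    | zero => exact Submodule.zero_mem _
    | tmul x y =>
      obtain ⟨s, -, hs⟩ := G.exists_finset x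
      obtain ⟨t, -, ht⟩ := G'.exists_finset y
      rw [hs, ht, TensorProduct.sum_tmul]
      refine Submodule.sum_mem _ fun l _ => ?_
      rw [TensorProduct.tmul_sum]
      refine Submodule.sum_mem _ fun m _ => ?_
      exact Submodule.mem_iSup_of_mem (l, m) ⟨x ⊗ₜ[k] y, rfl⟩
    | add a b ha hb => exact Submodule.add_mem _ ha hb

theorem ProjGr.tensor_P (q : Λ × Λ') :
    (G.tensor G').P q = TensorProduct.map (G.P q.1) (G'.P q.2) := rfl

variable {V₂ : Type*} [AddCommGroup V₂] [Module k V₂] {Λ₂ : Type*} {W₂ : Type*} [AddCommGroup W₂]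
  [Module k W₂] {Λ₂' : Type*} (G₂ : ProjGr k V₂ Λ₂) (G₂' : ProjGr k W₂ Λ₂')

theorem ProjGr.map_tensor_P (f : V →ₗ[k] V₂) (g : W →ₗ[k] W₂) {l : Λ} {l₂ : Λ₂} {m : Λ'} {m₂ : Λ₂'}
    (hf : ∀ x, f (G.P l x) = G₂.P l₂ (f x)) (hg : ∀ y, g (G'.P m y) = G₂'.P m₂ (g y))
    (u : V ⊗[k] W) :
    TensorProduct.map f g ((G.tensor G').P (l, m) u) =
      (G₂.tensor G₂').P (l₂, m₂) (TensorProduct.map f g u) := by
  induction u using TensorProduct.induction_on with
  | zero => simp
  | tmul x y =>
    rw [ProjGr.tensor_P, ProjGr.tensor_P, TensorProduct.map_tmul, TensorProduct.map_tmul,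
      TensorProduct.map_tmul, TensorProduct.map_tmul, hf, hg]
  | add a b ha hb => rw [map_add, map_add, ha, hb, map_add, map_add]

theorem ProjGr.map_tensor_P_left_zero (f : V →ₗ[k] V₂) (g : W →ₗ[k] W₂) {l : Λ} (m : Λ')
    (hf : ∀ x, f (G.P l x) = 0) (u : V ⊗[k] W) :
    TensorProduct.map f g ((G.tensor G').P (l, m) u) = 0 := by
  induction u using TensorProduct.induction_on with
  | zero => simp
  | tmul x y =>
    rw [ProjGr.tensor_P, TensorProduct.map_tmul, TensorProduct.map_tmul, hf,
      TensorProduct.zero_tmul]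
  | add a b ha hb => rw [map_add, map_add, ha, hb, add_zero]

theorem ProjGr.map_tensor_P_right_zero (f : V →ₗ[k] V₂) (g : W →ₗ[k] W₂) (l : Λ) {m : Λ'}
    (hg : ∀ y, g (G'.P m y) = 0) (u : V ⊗[k] W) :
    TensorProduct.map f g ((G.tensor G').P (l, m) u) = 0 := by
  induction u using TensorProduct.induction_on with
  | zero => simp
  | tmul x y =>
    rw [ProjGr.tensor_P, TensorProduct.map_tmul, TensorProduct.map_tmul, hg,
      TensorProduct.tmul_zero]
  | add a b ha hb => rw [map_add, map_add, ha, hb, add_zero]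

end Tensor

end Groth.Agent.Lib.Helper87.Kun
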