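import Groth.Agent.Lib.Helper87.Kun6
import Groth.Agent.Lib.Helper60.ExtFG
import Groth.Agent.Lib.Helper60.LocalCohAdditive
import Groth.Agent.Lib.Helper60.GrothVanishing
import Groth.Agent.S13217

/-!
# The torsion-free quotient of a `*`injective resolution (helper87)

For a `*`injective resolution `E` of `M` and a homogeneous ideal `a`, the complex
`Ē^i = E^i / Γ_a(E^i)` (`ebarCx`).  Its terms have no local cohomology at all, its cohomology in
positive degrees is `a`-torsion, and if `H^0_a(M) = H^1_a(M) = 0` then `M = ker (Ē^0 → Ē^1)`.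
Hence `H^{n+2}_a(M) ≅ H^{n+1}(Ē)` (`ebar_main`).
-/

set_option autoImplicit false
universe u

namespace Groth.Agent.Lib.Helper87.Kun

open DirectSum GrLC Groth.Agent.Lib.Helper39 Groth.Agent.Lib.Helper39.GrLes
  Groth.Agent.Lib.Helper39.Ver Groth.Agent.Lib.Helper39.GrTop Groth.Agent.Lib.Helper39.GrKoszul
  Groth.Agent.Lib.Helper60 CategoryTheory

section Ungraded

variable {R : Type u} [CommRing R] [IsNoetherianRing R]

/-- local cohomology vanishes on "direct sums" of modules on which it vanishes -/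
theorem lc_subsingleton_of_family (J : Ideal R) (p : ℕ) {Z : Type u} [AddCommGroup Z] [Module R Z]
    {𝔄 : Type*} (Xf : 𝔄 → Type u) [∀ α, AddCommGroup (Xf α)] [∀ α, Module R (Xf α)]
    (uu : ∀ α, Z →ₗ[R] Xf α) (vv : ∀ α, Xf α →ₗ[R] Z)
    (hfin : ∀ z : Z, ∃ s : Finset 𝔄, (∀ α, α ∉ s → uu α z = 0) ∧ z = ∑ α ∈ s, vv α (uu α z))
    (hX : ∀ α, Subsingleton (LocCoh.H J p (Xf α))) : Subsingleton (LocCoh.H J p Z) := by
  classical
  refine ⟨fun a b => ?_⟩
  suffices H : ∀ y : LocCoh.H J p Z, y = 0 by rw [H a, H b]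
  intro y
  obtain ⟨M₀, hfg, y₀, rfl⟩ := lc_exists_fg J p (ModuleCat.of R Z) y
  obtain ⟨G, hG⟩ := hfg
  choose s hs0 hs using hfin
  let S : Finset 𝔄 := G.biUnion s
  have key : ∀ m ∈ M₀, m = ∑ α ∈ S, vv α (uu α m) := by
    intro m hm
    rw [← hG] at hm
    induction hm using Submodule.span_induction with
    | mem g hg =>
      have hsub : s g ⊆ S := Finset.subset_biUnion_of_mem s hg
      rw [← Finset.sum_subset hsub (fun α _ hα => by rw [hs0 g α hα, map_zero])]
      exact hs g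
    | zero => simp
    | add x y _ _ hx hy =>
      conv_lhs => rw [hx, hy]
      rw [← Finset.sum_add_distrib]
      refine Finset.sum_congr rfl fun α _ => ?_
      rw [map_add, map_add]
    | smul r x _ hx =>
      conv_lhs => rw [hx]
      rw [Finset.smul_sum]
      refine Finset.sum_congr rfl fun α _ => ?_
      rw [map_smul, map_smul]
  have hid : ModuleCat.ofHom M₀.subtype =
      ∑ α ∈ S, (ModuleCat.ofHom (uu α ∘ₗ M₀.subtype) ≫ ModuleCat.ofHom (vv α)) := by
    apply ModuleCat.hom_ext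
    rw [ModuleCat.hom_sum]
    apply LinearMap.ext
    intro m
    rw [LinearMap.sum_apply]
    exact key m m.2
  rw [hid, lcMap_sum]
  refine Finset.sum_eq_zero fun α _ => ?_
  rw [lcMap_comp_apply]
  haveI := hX α
  rw [Subsingleton.elim (((localCohomology J p).map (ModuleCat.ofHom (uu α ∘ₗ M₀.subtype))).hom y₀) 0,
    map_zero]

/-- the quotient by the torsion of a module without higher local cohomology has no local
cohomology at all -/
theorem lc_subsingleton_quot_torsion (J : Ideal R) (Z : Type u) [AddCommGroup Z] [Module R Z]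
    (hZ : ∀ p : ℕ, 1 ≤ p → Subsingleton (LocCoh.H J p Z)) (p : ℕ) :
    Subsingleton (LocCoh.H J p (Z ⧸ gam J Z)) := by
  rcases Nat.eq_zero_or_pos p with rfl | hp
  · have h1 : DRing.torsionSub J (Z ⧸ DRing.torsionSub J Z) = ⊥ := torsionSub_quotient_eq_bot J Z
    refine ⟨fun a b => ?_⟩
    apply (lcH0Equiv J (ModuleCat.of R (Z ⧸ DRing.torsionSub J Z))).injective
    have hs : Subsingleton (DRing.torsionSub J (Z ⧸ DRing.torsionSub J Z)) := by
      rw [h1]
      infer_instance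
    exact Subsingleton.elim _ _
  · haveI := hZ p hp
    exact (lcMap_mkQ_torsionSub_bijective J Z p hp).2.subsingleton

end Ungraded

section Ebar

variable {ι : Type} [AddCommGroup ι] [DecidableEq ι]
  {R : Type u} [CommRing R] {𝒜 : ι → AddSubgroup R} [GradedRing 𝒜]
  {M : Type u} [AddCommGroup M] [Module R M] {ℳ : ι → AddSubgroup M} [DirectSum.Decomposition ℳ]
  [SetLike.GradedSMul 𝒜 ℳ] (E : StarInjRes 𝒜 ℳ) (a : HomogeneousIdeal 𝒜)

/-- the terms `E^i / Γ_a(E^i)` -/
noncomputable def ebarX (i : ℕ) : GMod.{u} 𝒜 :=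
  gquot (E.X i) (gam a.toIdeal (E.X i).carrier) (gam_isHomogeneous 𝒜 (E.X i).gr a)

/-- the quotient maps -/
noncomputable def ebarQ (i : ℕ) : (E.X i).carrier →ₗ[R] (ebarX E a i).carrier :=
  (gam a.toIdeal (E.X i).carrier).mkQ

theorem ebarQ_surjective (i : ℕ) : Function.Surjective (ebarQ E a i) :=
  Submodule.mkQ_surjective _

theorem ebarQ_eq_zero_iff (i : ℕ) (z : (E.X i).carrier) :
    ebarQ E a i z = 0 ↔ z ∈ gam a.toIdeal (E.X i).carrier := by
  show (gam a.toIdeal (E.X i).carrier).mkQ z = 0 ↔ _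
  rw [Submodule.mkQ_apply, Submodule.Quotient.mk_eq_zero]

theorem ebarQ_grHom (i : ℕ) : IsGrHom (E.X i).gr (ebarX E a i).gr (ebarQ E a i) :=
  isGrHom_mkQ (E.X i).gr _

theorem exists_of_mem_ebarX_gr {i : ℕ} {e : ι} {z : (ebarX E a i).carrier}
    (hz : z ∈ (ebarX E a i).gr e) : ∃ w ∈ (E.X i).gr e, ebarQ E a i w = z := hz

/-- the differentials -/
noncomputable def ebarD (i : ℕ) : (ebarX E a i).carrier →ₗ[R] (ebarX E a (i + 1)).carrier :=
  Submodule.mapQ _ _ (E.d i) (fun _ hx => gam_map a.toIdeal (E.d i) hx)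

theorem ebarD_ebarQ (i : ℕ) (z : (E.X i).carrier) :
    ebarD E a i (ebarQ E a i z) = ebarQ E a (i + 1) (E.d i z) := rfl

theorem res_d_d (i : ℕ) (z : (E.X i).carrier) : E.d (i + 1) (E.d i z) = 0 := by
  have h : E.d i z ∈ LinearMap.range (E.d i) := ⟨z, rfl⟩
  rw [← E.exact_succ i] at h
  exact h

/-- the complex `Ē` -/
noncomputable def ebarCx : CoCx 𝒜 where
  K := ebarX E a
  d := ebarD E a
  d_gr := by
    intro i e z hz
    obtain ⟨w, hw, rfl⟩ := exists_of_mem_ebarX_gr E a hz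
    rw [ebarD_ebarQ]
    exact ebarQ_grHom E a (i + 1) e _ (E.d_grHom i e w hw)
  d_d := by
    intro i z
    obtain ⟨w, rfl⟩ := ebarQ_surjective E a i z
    rw [ebarD_ebarQ, ebarD_ebarQ, res_d_d, map_zero]

/-- the augmentation -/
noncomputable def ebarε : M →ₗ[R] ((ebarCx E a).K 0).carrier := ebarQ E a 0 ∘ₗ E.ε

theorem ebarε_grHom : IsGrHom ℳ ((ebarCx E a).K 0).gr (ebarε E a) :=
  fun e x hx => ebarQ_grHom E a 0 e _ (E.ε_grHom e x hx)

theorem ebarε_injective (h0 : gam a.toIdeal M = ⊥) : Function.Injective (ebarε E a) := by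
  rw [injective_iff_map_eq_zero]
  intro x hx
  have h1 : E.ε x ∈ gam a.toIdeal (E.X 0).carrier := (ebarQ_eq_zero_iff E a 0 _).mp hx
  have h2 := mem_gam_of_ε_mem E a h1
  rw [h0, Submodule.mem_bot] at h2
  exact h2

theorem range_ebarε (h1 : Subsingleton (E.H a 1)) :
    LinearMap.range (ebarε E a) = LinearMap.ker ((ebarCx E a).d 0) := by
  apply le_antisymm
  · rintro _ ⟨x, rfl⟩
    rw [LinearMap.mem_ker]
    show ebarD E a 0 (ebarQ E a 0 (E.ε x)) = 0
    rw [ebarD_ebarQ, d_ε, map_zero]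
  · intro z hz
    rw [LinearMap.mem_ker] at hz
    obtain ⟨w, rfl⟩ := ebarQ_surjective E a 0 z
    have h2 : ebarQ E a 1 (E.d 0 w) = 0 := hz
    rw [ebarQ_eq_zero_iff] at h2
    have h3 : E.d 0 w ∈ E.cocyc a 1 := ⟨h2, LinearMap.mem_ker.mpr (res_d_d E 0 w)⟩
    have h4 : E.toH a 1 ⟨E.d 0 w, h3⟩ = 0 := Subsingleton.elim _ _
    rw [toH_eq_zero_iff] at h4
    obtain ⟨g, hg, hgw⟩ := h4
    have h5 : w - g ∈ LinearMap.ker (E.d 0) := by
      rw [LinearMap.mem_ker, map_sub, hgw]
      exact sub_self _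
    rw [E.exact_zero] at h5
    obtain ⟨x, hx⟩ := h5
    refine ⟨x, ?_⟩
    show ebarQ E a 0 (E.ε x) = ebarQ E a 0 w
    rw [hx, map_sub, (ebarQ_eq_zero_iff E a 0 g).mpr hg, sub_zero]

theorem ebar_torCoh : (ebarCx E a).TorCoh a := by
  intro n z hz
  obtain ⟨w, rfl⟩ := ebarQ_surjective E a (n + 1) z
  have h2 : ebarQ E a (n + 2) (E.d (n + 1) w) = 0 := hz
  rw [ebarQ_eq_zero_iff] at h2
  obtain ⟨k, hk⟩ := h2
  refine ⟨k, fun r hr => ?_⟩
  have h3 : r • w ∈ LinearMap.ker (E.d (n + 1)) := by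
    rw [LinearMap.mem_ker, map_smul, hk r hr]
  rw [E.exact_succ n] at h3
  obtain ⟨v, hv⟩ := h3
  refine ⟨ebarQ E a n v, ?_⟩
  show ebarD E a n (ebarQ E a n v) = r • ebarQ E a (n + 1) w
  rw [ebarD_ebarQ, hv, map_smul]

end Ebar

section EbarAcyc

variable {ι : Type} [AddCommGroup ι] [DecidableEq ι] [Module.Free ℤ ι] [Module.Finite ℤ ι]
  {R : Type u} [CommRing R] [IsNoetherianRing R] {𝒜 : ι → AddSubgroup R} [GradedRing 𝒜]
  {M : Type u} [AddCommGroup M] [Module R M] {ℳ : ι → AddSubgroup M} [DirectSum.Decomposition ℳ]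
  [SetLike.GradedSMul 𝒜 ℳ] (E : StarInjRes 𝒜 ℳ) (a : HomogeneousIdeal 𝒜)

theorem ebarX_lc_subsingleton (i p : ℕ) :
    Subsingleton (LocCoh.H a.toIdeal p (ebarX E a i).carrier) :=
  lc_subsingleton_quot_torsion a.toIdeal (E.X i).carrier
    (fun q hq => Groth.Agent.S13217.result R 𝒜 a (E.X i).carrier (E.X i).gr (E.starInj i) q hq) p

theorem ebar_totAcyc : (ebarCx E a).TotAcyc a := fun n p => ebarX_lc_subsingleton E a n p

/-- `H^{n+2}_a(M) ≅ H^{n+1}(Ē)` when `H^0_a(M) = H^1_a(M) = 0` -/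
theorem ebar_main (h0 : Subsingleton (E.H a 0)) (h1 : Subsingleton (E.H a 1)) (n : ℕ) :
    Nonempty (GrEquiv R (E.Hgr a (n + 2)) ((ebarCx E a).Hq n).gr) :=
  ((ebarCx E a).main (ebar_totAcyc E a) (ebar_torCoh E a) (ebarε E a) (ebarε_grHom E a)
    (ebarε_injective E a ((H_zero_subsingleton_iff E a).mp h0)) (range_ebarε E a h1) E).2.2 n

/-- the direct sum of the `Ē^i`, tensored with any vector space, has no local cohomology -/
theorem big_ebar_lc_subsingleton (B : Type u) (p : ℕ) :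
    Subsingleton (LocCoh.H a.toIdeal p (B →₀ (bigG (ebarX E a)).carrier)) := by
  classical
  refine lc_subsingleton_of_family a.toIdeal p (𝔄 := B × ℕ)
    (fun α => (ebarX E a α.2).carrier)
    (fun α => compG (ebarX E a) α.2 ∘ₗ Finsupp.lapply α.1)
    (fun α => Finsupp.lsingle α.1 ∘ₗ lofG (ebarX E a) α.2) ?_
    (fun α => ebarX_lc_subsingleton E a α.2 p)
  intro z
  induction z using Finsupp.induction_linear with
  | zero => exact ⟨∅, fun _ _ => map_zero _, by simp⟩
  | add x y hx hy =>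
    obtain ⟨s, hs0, hs⟩ := hx
    obtain ⟨t, ht0, ht⟩ := hy
    refine ⟨s ∪ t, fun α hα => ?_, ?_⟩
    · rw [Finset.mem_union, not_or] at hα
      rw [map_add, hs0 α hα.1, ht0 α hα.2, add_zero]
    · have e1 : ∑ α ∈ s ∪ t, (Finsupp.lsingle α.1 ∘ₗ lofG (ebarX E a) α.2)
          ((compG (ebarX E a) α.2 ∘ₗ Finsupp.lapply α.1) x) = x := by
        rw [← Finset.sum_subset Finset.subset_union_left
          (fun α _ hα => by rw [hs0 α hα, map_zero])]
        exact hs.symm
      have e2 : ∑ α ∈ s ∪ t, (Finsupp.lsingle α.1 ∘ₗ lofG (ebarX E a) α.2)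
          ((compG (ebarX E a) α.2 ∘ₗ Finsupp.lapply α.1) y) = y := by
        rw [← Finset.sum_subset Finset.subset_union_right
          (fun α _ hα => by rw [ht0 α hα, map_zero])]
        exact ht.symm
      simp only [map_add, Finset.sum_add_distrib]
      rw [e1, e2]
  | single b w =>
    refine big_induction (ebarX E a) (motive := fun w => ∃ s : Finset (B × ℕ),
      (∀ α, α ∉ s → (compG (ebarX E a) α.2 ∘ₗ Finsupp.lapply α.1) (Finsupp.single b w) = 0) ∧
        Finsupp.single b w = ∑ α ∈ s, (Finsupp.lsingle α.1 ∘ₗ lofG (ebarX E a) α.2)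
          ((compG (ebarX E a) α.2 ∘ₗ Finsupp.lapply α.1) (Finsupp.single b w))) ?_ ?_ ?_ w
    · exact ⟨∅, fun _ _ => by simp, by simp⟩
    · intro i x
      refine ⟨{(b, i)}, fun α hα => ?_, ?_⟩
      · rw [Finset.mem_singleton] at hα
        show compG (ebarX E a) α.2 ((Finsupp.single b (lofG (ebarX E a) i x)) α.1) = 0
        by_cases hb : b = α.1
        · have hi : i ≠ α.2 := fun hi => hα (Prod.ext hb.symm hi.symm)
          rw [hb, Finsupp.single_eq_same, compG_lofG_ne _ hi]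
        · rw [Finsupp.single_eq_of_ne (Ne.symm hb), map_zero]
      · rw [Finset.sum_singleton]
        show Finsupp.single b (lofG (ebarX E a) i x) = Finsupp.single b (lofG (ebarX E a) i
          (compG (ebarX E a) i ((Finsupp.single b (lofG (ebarX E a) i x)) b)))
        rw [Finsupp.single_eq_same, compG_lofG]
    · rintro x y ⟨s, hs0, hs⟩ ⟨t, ht0, ht⟩
      refine ⟨s ∪ t, fun α hα => ?_, ?_⟩
      · rw [Finset.mem_union, not_or] at hα
        rw [Finsupp.single_add, map_add, hs0 α hα.1, ht0 α hα.2, add_zero]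
      · have e1 : ∑ α ∈ s ∪ t, (Finsupp.lsingle α.1 ∘ₗ lofG (ebarX E a) α.2)
            ((compG (ebarX E a) α.2 ∘ₗ Finsupp.lapply α.1) (Finsupp.single b x)) =
            Finsupp.single b x := by
          rw [← Finset.sum_subset Finset.subset_union_left
            (fun α _ hα => by rw [hs0 α hα, map_zero])]
          exact hs.symm
        have e2 : ∑ α ∈ s ∪ t, (Finsupp.lsingle α.1 ∘ₗ lofG (ebarX E a) α.2)
            ((compG (ebarX E a) α.2 ∘ₗ Finsupp.lapply α.1) (Finsupp.single b y)) =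
            Finsupp.single b y := by
          rw [← Finset.sum_subset Finset.subset_union_right
            (fun α _ hα => by rw [ht0 α hα, map_zero])]
          exact ht.symm
        rw [Finsupp.single_add]
        simp only [map_add, Finset.sum_add_distrib]
        rw [e1, e2]

end EbarAcyc

end Groth.Agent.Lib.Helper87.Kun
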