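import Groth.Agent.Lib.Helper87.Kun11
import Groth.Agent.Lib.Helper87.Kun7
import Groth.Agent.Lib.Helper39.GrBridge

/-!
# Cochain complexes packaged as a single graded module with operators (helper87)

`CxData 𝒜 𝒳`: a graded module `X` with a differential `D`, a sign operator `σ` and the projectors
`c i` onto the cohomological degrees.  It carries a bigrading `CxData.gr` (a `ProjGr` indexed by
`ℕ × ℤ`), graded Hodge data and a sign operator.  The direct sum of the terms of a `CoCx` is an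
example (`bigCxData`).
-/

set_option autoImplicit false
universe u

namespace Groth.Agent.Lib.Helper87.Kun

open DirectSum TensorProduct GrLC
open Groth.Agent.Lib.Helper99 Groth.Agent.Lib.Helper39

section CxData

variable {k : Type u} [Field k] {R : Type u} [CommRing R] [Algebra k R]
  (𝒜 : ℤ → Submodule k R) [GradedAlgebra 𝒜]
  {X : Type u} [AddCommGroup X] [Module R X] [Module k X] [IsScalarTower k R X]
  (𝒳 : ℤ → AddSubgroup X) [DirectSum.Decomposition 𝒳] [SetLike.GradedSMul 𝒜 𝒳]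

/-- a cochain complex packaged as a single graded module with operators -/
structure CxData (𝒜 : ℤ → Submodule k R) [GradedAlgebra 𝒜]
    {X : Type u} [AddCommGroup X] [Module R X] (𝒳 : ℤ → AddSubgroup X) where
  D : X →ₗ[R] X
  σ : X →ₗ[R] X
  c : ℕ → X →ₗ[R] X
  D_gr : IsGrHom 𝒳 𝒳 D
  σ_gr : IsGrHom 𝒳 𝒳 σ
  c_gr : ∀ i, IsGrHom 𝒳 𝒳 (c i)
  DD : ∀ x, D (D x) = 0
  cc : ∀ i x, c i (c i x) = c i x
  c_orth : ∀ i j, i ≠ j → ∀ x, c i (c j x) = 0
  c_span : ∀ x, x ∈ ⨆ i, LinearMap.range (c i)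
  cD : ∀ i x, D (c i x) = c (i + 1) (D x)
  c0D : ∀ x, c 0 (D x) = 0
  σc : ∀ i x, σ (c i x) = (-1 : R) ^ i • c i x

variable {𝒜 𝒳}

theorem prK_comm {Y : Type u} [AddCommGroup Y] [Module R Y] [Module k Y] [IsScalarTower k R Y]
    {𝒴 : ℤ → AddSubgroup Y} [DirectSum.Decomposition 𝒴] [SetLike.GradedSMul 𝒜 𝒴]
    {f : X →ₗ[R] Y} (hf : IsGrHom 𝒳 𝒴 f) (e : ℤ) (x : X) :
    prK 𝒜 𝒴 e (f x) = f (prK 𝒜 𝒳 e x) := by
  rw [prK_apply, prK_apply, IsGrHom.decompose_apply 𝒳 𝒴 hf]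

theorem prK_prK (e : ℤ) (x : X) : prK 𝒜 𝒳 e (prK 𝒜 𝒳 e x) = prK 𝒜 𝒳 e x := by
  rw [prK_apply, prK_apply, DirectSum.decompose_of_mem_same 𝒳 (SetLike.coe_mem _)]

theorem prK_prK_ne {e f : ℤ} (h : e ≠ f) (x : X) : prK 𝒜 𝒳 e (prK 𝒜 𝒳 f x) = 0 := by
  rw [prK_apply, prK_apply, DirectSum.decompose_of_mem_ne 𝒳 (SetLike.coe_mem _) h.symm]

theorem prK_of_mem {e : ℤ} {x : X} (hx : x ∈ 𝒳 e) : prK 𝒜 𝒳 e x = x := by
  rw [prK_apply, DirectSum.decompose_of_mem_same 𝒳 hx]

theorem prK_mem (e : ℤ) (x : X) : prK 𝒜 𝒳 e x ∈ 𝒳 e := by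
  rw [prK_apply]
  exact SetLike.coe_mem _

namespace CxData

variable (C : CxData 𝒜 𝒳)

/-- the bigrading -/
noncomputable def gr : ProjGr k X (ℕ × ℤ) where
  P l := (C.c l.1).restrictScalars k ∘ₗ prK 𝒜 𝒳 l.2
  same l x := by
    show C.c l.1 (prK 𝒜 𝒳 l.2 (C.c l.1 (prK 𝒜 𝒳 l.2 x))) = C.c l.1 (prK 𝒜 𝒳 l.2 x)
    rw [prK_comm (C.c_gr l.1), prK_prK, C.cc]
  orth l m hlm x := by
    show C.c l.1 (prK 𝒜 𝒳 l.2 (C.c m.1 (prK 𝒜 𝒳 m.2 x))) = 0
    rw [prK_comm (C.c_gr m.1)]
    by_cases h1 : l.1 = m.1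
    · have h2 : l.2 ≠ m.2 := fun h2 => hlm (Prod.ext h1 h2)
      rw [prK_prK_ne h2, map_zero, map_zero]
    · exact C.c_orth l.1 m.1 h1 _
  span x := by
    classical
    have key : ∀ (e : ℤ) (y : X), y ∈ ⨆ i, LinearMap.range (C.c i) →
        prK 𝒜 𝒳 e y ∈ ⨆ l : ℕ × ℤ, LinearMap.range
          ((C.c l.1).restrictScalars k ∘ₗ prK 𝒜 𝒳 l.2) := by
      intro e y hy
      induction hy using Submodule.iSup_induction' with
      | mem i y hy =>
        obtain ⟨z, rfl⟩ := hy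
        rw [prK_comm (C.c_gr i)]
        exact Submodule.mem_iSup_of_mem (i, e) ⟨z, rfl⟩
      | zero =>
        rw [map_zero]
        exact Submodule.zero_mem _
      | add y y' _ _ hy hy' =>
        rw [map_add]
        exact Submodule.add_mem _ hy hy'
    have hx : x = ∑ e ∈ (DirectSum.decompose 𝒳 x).support, prK 𝒜 𝒳 e x :=
      (DirectSum.sum_support_decompose 𝒳 x).symm
    rw [hx]
    exact Submodule.sum_mem _ fun e _ => key e x (C.c_span x)

theorem gr_P (l : ℕ × ℤ) (x : X) : C.gr.P l x = C.c l.1 (prK 𝒜 𝒳 l.2 x) := rfl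

/-- the degree shift of the differential -/
def θ (l : ℕ × ℤ) : ℕ × ℤ := (l.1 + 1, l.2)

/-- the differential as a `k`-linear map -/
noncomputable def Dk : X →ₗ[k] X := C.D.restrictScalars k

theorem Dk_apply (x : X) : C.Dk x = C.D x := rfl

theorem Dk_Dk (x : X) : C.Dk (C.Dk x) = 0 := C.DD x

theorem Dk_P (l : ℕ × ℤ) (x : X) : C.Dk (C.gr.P l x) = C.gr.P (θ l) (C.Dk x) := by
  show C.D (C.c l.1 (prK 𝒜 𝒳 l.2 x)) = C.c (l.1 + 1) (prK 𝒜 𝒳 l.2 (C.D x))
  rw [C.cD, prK_comm C.D_gr]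

theorem P_Dk_zero (m : ℕ × ℤ) (hm : m ∉ Set.range θ) (x : X) : C.gr.P m (C.Dk x) = 0 := by
  have h0 : m.1 = 0 := by
    by_contra h
    apply hm
    obtain ⟨j, hj⟩ := Nat.exists_eq_succ_of_ne_zero h
    exact ⟨(j, m.2), Prod.ext hj.symm rfl⟩
  show C.c m.1 (prK 𝒜 𝒳 m.2 (C.D x)) = 0
  rw [h0, prK_comm C.D_gr, C.c0D]

/-- graded Hodge data -/
noncomputable def hodge : GHodge C.gr θ C.Dk :=
  Classical.choice (exists_gHodge C.gr θ C.Dk C.Dk_Dk C.Dk_P C.P_Dk_zero)

/-- the sign operator -/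
noncomputable def sign : SignOp C.gr θ where
  σ := C.σ.restrictScalars k
  sgn l := (-1 : k) ^ l.1
  σP l x := by
    show C.σ (C.c l.1 (prK 𝒜 𝒳 l.2 x)) = (-1 : k) ^ l.1 • C.c l.1 (prK 𝒜 𝒳 l.2 x)
    rw [C.σc, ← algebraMap_smul R ((-1 : k) ^ l.1), map_pow, map_neg, map_one]
  sgn_sq l := by rw [← mul_pow, neg_mul_neg, one_mul, one_pow]
  sgn_θ l := by
    show (-1 : k) ^ (l.1 + 1) = - (-1 : k) ^ l.1
    rw [pow_succ, mul_neg_one]

theorem sign_σ (x : X) : C.sign.σ x = C.σ x := rfl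

end CxData

end CxData

section Big

variable {R : Type u} [CommRing R] {𝒜' : ℤ → AddSubgroup R} [GradedRing 𝒜']

/-- the direct sum of the terms of a complex, with a phantom field of scalars -/
def BigK (k : Type u) (C : CoCx 𝒜') : Type u := (bigG C.K).carrier

variable (k : Type u) [Field k] [Algebra k R] (C : CoCx 𝒜')

noncomputable instance : AddCommGroup (BigK k C) := inferInstanceAs (AddCommGroup (bigG C.K).carrier)

noncomputable instance : Module R (BigK k C) := inferInstanceAs (Module R (bigG C.K).carrier)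

noncomputable instance : Module k (BigK k C) := Module.compHom (BigK k C) (algebraMap k R)

instance : IsScalarTower k R (BigK k C) :=
  ⟨fun c r x => by
    show (c • r) • x = algebraMap k R c • (r • x)
    rw [Algebra.smul_def, mul_smul]⟩

/-- the grading of `BigK` -/
noncomputable def bigKGr : ℤ → AddSubgroup (BigK k C) := (bigG C.K).gr

noncomputable instance : DirectSum.Decomposition (bigKGr k C) :=
  inferInstanceAs (DirectSum.Decomposition (bigG C.K).gr)

instance : SetLike.GradedSMul 𝒜' (bigKGr k C) :=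
  inferInstanceAs (SetLike.GradedSMul 𝒜' (bigG C.K).gr)

/-- the inclusion of a term -/
noncomputable def lofK (i : ℕ) : (C.K i).carrier →ₗ[R] BigK k C := lofG C.K i

/-- the projection onto a term -/
noncomputable def compK (i : ℕ) : BigK k C →ₗ[R] (C.K i).carrier := compG C.K i

/-- the differential -/
noncomputable def bigD : BigK k C →ₗ[R] BigK k C := bigMap (fun i => i + 1) C.d

/-- the sign -/
noncomputable def bigσ : BigK k C →ₗ[R] BigK k C :=
  bigMap (fun i => i) (fun i => (-1 : R) ^ i • LinearMap.id)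

/-- the projectors onto the terms -/
noncomputable def bigc (i : ℕ) : BigK k C →ₗ[R] BigK k C := lofK k C i ∘ₗ compK k C i

theorem compK_lofK (i : ℕ) (x : (C.K i).carrier) : compK k C i (lofK k C i x) = x :=
  compG_lofG C.K i x

theorem compK_lofK_ne {i j : ℕ} (h : i ≠ j) (x : (C.K i).carrier) :
    compK k C j (lofK k C i x) = 0 := compG_lofG_ne C.K h x

theorem bigD_lofK (i : ℕ) (x : (C.K i).carrier) :
    bigD k C (lofK k C i x) = lofK k C (i + 1) (C.d i x) := bigMap_lofG _ _ i x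

theorem bigσ_lofK (i : ℕ) (x : (C.K i).carrier) :
    bigσ k C (lofK k C i x) = (-1 : R) ^ i • lofK k C i x := by
  show bigMap (fun i => i) (fun i => (-1 : R) ^ i • LinearMap.id) (lofG C.K i x) = _
  rw [bigMap_lofG]
  show lofG C.K i ((-1 : R) ^ i • x) = _
  rw [map_smul]
  rfl

theorem bigc_lofK (i : ℕ) (x : (C.K i).carrier) : bigc k C i (lofK k C i x) = lofK k C i x := by
  show lofK k C i (compK k C i (lofK k C i x)) = _
  rw [compK_lofK]

theorem bigc_lofK_ne {i j : ℕ} (h : i ≠ j) (x : (C.K i).carrier) :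
    bigc k C j (lofK k C i x) = 0 := by
  show lofK k C j (compK k C j (lofK k C i x)) = _
  rw [compK_lofK_ne k C h, map_zero]

theorem bigK_induction {motive : BigK k C → Prop} (h0 : motive 0)
    (hof : ∀ i x, motive (lofK k C i x)) (hadd : ∀ x y, motive x → motive y → motive (x + y))
    (x : BigK k C) : motive x :=
  big_induction C.K h0 hof hadd x

end Big

end Groth.Agent.Lib.Helper87.Kun
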