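import Groth.Agent.Lib.Helper87.Kun12

/-!
# The direct sum of the terms of a complex as a `CxData` (helper87)
-/

set_option autoImplicit false
universe u

namespace Groth.Agent.Lib.Helper87.Kun

open DirectSum TensorProduct GrLC
open Groth.Agent.Lib.Helper99 Groth.Agent.Lib.Helper39 Groth.Agent.Lib.Helper39.GrBridge

section BigCx

variable {k : Type u} [Field k] {R : Type u} [CommRing R] [Algebra k R]
  (𝒜 : ℤ → Submodule k R) [GradedAlgebra 𝒜]

attribute [local instance] toSubGradedRing toSubDecomposition toSubGradedSMul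

variable (C : CoCx (toSub 𝒜))

instance bigKGradedSMul : SetLike.GradedSMul 𝒜 (bigKGr k C) := gsmul_of_toSub 𝒜 (bigKGr k C)

theorem neg_one_pow_smul_mem {M : Type u} [AddCommGroup M] [Module R M] (N : AddSubgroup M) (i : ℕ)
    {x : M} (hx : x ∈ N) : (-1 : R) ^ i • x ∈ N := by
  rcases neg_one_pow_eq_or R i with h | h
  · rw [h, one_smul]
    exact hx
  · rw [h, neg_smul, one_smul]
    exact neg_mem hx

/-- the direct sum of the terms of a complex, with its operators -/
noncomputable def bigCxData : CxData 𝒜 (bigKGr k C) where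
  D := bigD k C
  σ := bigσ k C
  c := bigc k C
  D_gr := bigMap_grHom _ _ C.d_gr
  σ_gr := bigMap_grHom _ _ (fun i e x hx => neg_one_pow_smul_mem _ i hx)
  c_gr i := fun e x hx => lofG_grHom C.K i e _ (compG_grHom C.K i e x hx)
  DD x := by
    refine bigK_induction k C (motive := fun x => bigD k C (bigD k C x) = 0) (by simp) ?_ ?_ x
    · intro i y
      rw [bigD_lofK, bigD_lofK, C.d_d, map_zero]
    · intro x y hx hy
      rw [map_add, map_add, hx, hy, add_zero]
  cc i x := by
    show lofK k C i (compK k C i (lofK k C i (compK k C i x))) = lofK k C i (compK k C i x)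
    rw [compK_lofK]
  c_orth i j hij x := by
    show lofK k C i (compK k C i (lofK k C j (compK k C j x))) = 0
    rw [compK_lofK_ne k C hij.symm, map_zero]
  c_span x := by
    refine bigK_induction k C (motive := fun x => x ∈ ⨆ i, LinearMap.range (bigc k C i))
      (Submodule.zero_mem _) ?_ (fun x y hx hy => Submodule.add_mem _ hx hy) x
    intro i y
    exact Submodule.mem_iSup_of_mem i ⟨lofK k C i y, bigc_lofK k C i y⟩
  cD i x := by
    refine bigK_induction k C
      (motive := fun x => bigD k C (bigc k C i x) = bigc k C (i + 1) (bigD k C x)) (by simp) ?_ ?_ x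
    · intro j y
      by_cases hji : j = i
      · subst hji
        rw [bigc_lofK, bigD_lofK, bigc_lofK]
      · rw [bigc_lofK_ne k C hji, map_zero, bigD_lofK,
          bigc_lofK_ne k C (fun h => hji (Nat.succ_injective h))]
    · intro x y hx hy
      rw [map_add, map_add, hx, hy, map_add, map_add]
  c0D x := by
    refine bigK_induction k C (motive := fun x => bigc k C 0 (bigD k C x) = 0) (by simp) ?_ ?_ x
    · intro j y
      rw [bigD_lofK, bigc_lofK_ne k C (Nat.succ_ne_zero j)]
    · intro x y hx hy
      rw [map_add, map_add, hx, hy, add_zero]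
  σc i x := by
    refine bigK_induction k C
      (motive := fun x => bigσ k C (bigc k C i x) = (-1 : R) ^ i • bigc k C i x) (by simp) ?_ ?_ x
    · intro j y
      by_cases hji : j = i
      · subst hji
        rw [bigc_lofK, bigσ_lofK]
      · rw [bigc_lofK_ne k C hji, map_zero, smul_zero]
    · intro x y hx hy
      rw [map_add, map_add, hx, hy, smul_add]

theorem bigCxData_D (x : BigK k C) : (bigCxData 𝒜 C).D x = bigD k C x := rfl

theorem bigCxData_c (i : ℕ) (x : BigK k C) : (bigCxData (k := k) 𝒜 C).c i x = bigc k C i x := rfl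

theorem lofK_injective (i : ℕ) : Function.Injective (lofK k C i) := by
  intro x y h
  have := congrArg (compK k C i) h
  rwa [compK_lofK, compK_lofK] at this

theorem eq_lofK_of_bigc {i : ℕ} {x : BigK k C} (hx : bigc k C i x = x) :
    x = lofK k C i (compK k C i x) := hx.symm

/-- torsion cohomology passes to the direct sum -/
theorem bigCxData_tor (a : HomogeneousIdeal (toSub 𝒜)) (ht : C.TorCoh a) (i : ℕ) (x : BigK k C)
    (hx : (bigCxData (k := k) 𝒜 C).c (i + 1) x = x) (hD : (bigCxData (k := k) 𝒜 C).D x = 0) :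
    ∃ n : ℕ, ∀ r ∈ a.toIdeal ^ n, r • x ∈ LinearMap.range (bigCxData (k := k) 𝒜 C).D := by
  have h1 : x = lofK k C (i + 1) (compK k C (i + 1) x) := eq_lofK_of_bigc 𝒜 C hx
  have h2 : C.d (i + 1) (compK k C (i + 1) x) = 0 := by
    apply lofK_injective 𝒜 C (i + 1 + 1)
    rw [← bigD_lofK, ← h1, map_zero]
    exact hD
  obtain ⟨n, hn⟩ := ht i _ h2
  refine ⟨n, fun r hr => ?_⟩
  obtain ⟨w, hw⟩ := hn r hr
  refine ⟨lofK k C i w, ?_⟩
  show bigD k C (lofK k C i w) = r • x
  rw [bigD_lofK, hw, map_smul, ← h1]

end BigCx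

end Groth.Agent.Lib.Helper87.Kun
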