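import Groth.Agent.Lib.Helper87.Kun13

/-!
# The total complex of `X ⊗ Y`: operators, gradings, torsion cohomology (helper87)
-/

set_option autoImplicit false
universe u v w

namespace Groth.Agent.Lib.Helper87.Kun

open DirectSum TensorProduct GrLC
open Groth.Agent.Lib.Helper99 Groth.Agent.Lib.Helper39

section SignP

variable {k : Type u} [Field k] {V : Type v} [AddCommGroup V] [Module k V] {Λ : Type w}
  {G : ProjGr k V Λ} {θ : Λ → Λ} (S : SignOp G θ)

theorem SignOp.Pσ (l : Λ) (x : V) : S.σ (G.P l x) = G.P l (S.σ x) := by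
  classical
  refine G.induction (motive := fun x => S.σ (G.P l x) = G.P l (S.σ x)) (by simp)
    (fun x y hx hy => by rw [map_add, map_add, hx, hy, map_add, map_add]) (fun m x hx => ?_) x
  rw [S.σ_hom hx, map_smul]
  by_cases hlm : l = m
  · subst hlm
    rw [hx, S.σ_hom hx]
  · have h0 : G.P l x = 0 := by rw [← hx, G.orth l m hlm]
    rw [h0, map_zero, smul_zero]

end SignP

section Act

variable {k : Type u} [Field k] {R S : Type u} [CommRing R] [CommRing S] [Algebra k R]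
  [Algebra k S]
  {X Y X' Y' : Type u} [AddCommGroup X] [Module R X] [Module k X] [IsScalarTower k R X]
  [AddCommGroup Y] [Module S Y] [Module k Y] [IsScalarTower k S Y]
  [AddCommGroup X'] [Module R X'] [Module k X'] [IsScalarTower k R X']
  [AddCommGroup Y'] [Module S Y'] [Module k Y'] [IsScalarTower k S Y']

/-- tensor products of linear maps commute with the action of `R ⊗ S` -/
theorem map_act (f : X →ₗ[R] X') (g : Y →ₗ[S] Y') (v : R ⊗[k] S) (u : X ⊗[k] Y) :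
    TensorProduct.map (f.restrictScalars k) (g.restrictScalars k) (GrSeg.act k R S X Y v u) =
      GrSeg.act k R S X' Y' v (TensorProduct.map (f.restrictScalars k) (g.restrictScalars k) u) := by
  induction v using TensorProduct.induction_on with
  | zero => simp
  | tmul a b =>
    induction u using TensorProduct.induction_on with
    | zero => simp
    | tmul x y =>
      rw [GrSeg.act_tmul, TensorProduct.map_tmul, TensorProduct.map_tmul, GrSeg.act_tmul]
      simp only [LinearMap.coe_restrictScalars, map_smul]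
    | add u u' hu hu' => rw [map_add, map_add, hu, hu', map_add, map_add]
  | add v v' hv hv' =>
    rw [map_add, LinearMap.add_apply, map_add, hv, hv', map_add, LinearMap.add_apply]

end Act

section Tot

variable {k : Type u} [Field k] {R S : Type u} [CommRing R] [CommRing S] [Algebra k R]
  [Algebra k S]
  {𝒜 : ℤ → Submodule k R} [GradedAlgebra 𝒜] {ℬ : ℤ → Submodule k S} [GradedAlgebra ℬ]
  {X Y : Type u} [AddCommGroup X] [Module R X] [Module k X] [IsScalarTower k R X]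
  [AddCommGroup Y] [Module S Y] [Module k Y] [IsScalarTower k S Y]
  {𝒳 : ℤ → AddSubgroup X} [DirectSum.Decomposition 𝒳] [SetLike.GradedSMul 𝒜 𝒳]
  {𝒴 : ℤ → AddSubgroup Y} [DirectSum.Decomposition 𝒴] [SetLike.GradedSMul ℬ 𝒴]
  (CX : CxData 𝒜 𝒳) (CY : CxData ℬ 𝒴)

/-- the index set of the fine grading of `X ⊗ Y` -/
abbrev Idx : Type := (ℕ × ℤ) × (ℕ × ℤ)

/-- the fine grading of `X ⊗ Y` -/
noncomputable def totGr : ProjGr k (X ⊗[k] Y) Idx := CX.gr.tensor CY.gr

/-- the total differential -/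
noncomputable def totDel : X ⊗[k] Y →ₗ[k] X ⊗[k] Y := totD CX.Dk CX.sign.σ CY.Dk

/-- Hodge data for the total differential -/
noncomputable def totHodge : Hodge (totDel CX CY) :=
  Hodge.tensor CX.hodge.toHodge CY.hodge.toHodge CX.sign.σσ (CX.sign.πσ CX.hodge)
    (CX.sign.sσ CX.hodge)

theorem totDel_totDel (u : X ⊗[k] Y) : totDel CX CY (totDel CX CY u) = 0 :=
  totD_totD CX.Dk_Dk CY.Dk_Dk (CX.sign.Dσ CX.Dk_P) u

theorem totDel_apply (u : X ⊗[k] Y) :
    totDel CX CY u = TensorProduct.map CX.Dk LinearMap.id u +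
      TensorProduct.map CX.sign.σ CY.Dk u := rfl

theorem totHodge_π_apply (u : X ⊗[k] Y) :
    (totHodge CX CY).π u = TensorProduct.map CX.hodge.π CY.hodge.π u := rfl

theorem totHodge_s_apply (u : X ⊗[k] Y) :
    (totHodge CX CY).s u = TensorProduct.map CX.hodge.s LinearMap.id u +
      TensorProduct.map (CX.hodge.π ∘ₗ CX.sign.σ) CY.hodge.s u := rfl

/-- total cohomological degree `n`, internal degrees related by `ρ` -/
def Dρ (ρ : ℤ → ℤ → Prop) (n : ℕ) : Set Idx := {q | q.1.1 + q.2.1 = n ∧ ρ q.1.2 q.2.2}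

theorem mem_Dρ {ρ : ℤ → ℤ → Prop} {n : ℕ} {q : Idx} :
    q ∈ Dρ ρ n ↔ q.1.1 + q.2.1 = n ∧ ρ q.1.2 q.2.2 := Iff.rfl

theorem sel_totDel (ρ : ℤ → ℤ → Prop) (n : ℕ) (u : X ⊗[k] Y) :
    (totGr CX CY).sel (Dρ ρ (n + 1)) (totDel CX CY u) =
      totDel CX CY ((totGr CX CY).sel (Dρ ρ n) u) := by
  rw [totDel_apply, totDel_apply, map_add]
  congr 1
  · refine (totGr CX CY).sel_comm' (totGr CX CY) _ _ _ (fun q => Or.inr ?_) u
    obtain ⟨l, m⟩ := q
    refine ⟨(CxData.θ l, m), fun u => ?_, ?_⟩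
    · exact ProjGr.map_tensor_P CX.gr CY.gr CX.gr CY.gr CX.Dk LinearMap.id (CX.Dk_P l)
        (fun y => rfl) u
    · show (l.1 + 1 + m.1 = n + 1 ∧ ρ l.2 m.2) ↔ (l.1 + m.1 = n ∧ ρ l.2 m.2)
      constructor <;> rintro ⟨h1, h2⟩ <;> exact ⟨by omega, h2⟩
  · refine (totGr CX CY).sel_comm' (totGr CX CY) _ _ _ (fun q => Or.inr ?_) u
    obtain ⟨l, m⟩ := q
    refine ⟨(l, CxData.θ m), fun u => ?_, ?_⟩
    · exact ProjGr.map_tensor_P CX.gr CY.gr CX.gr CY.gr CX.sign.σ CY.Dk (CX.sign.Pσ l)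
        (CY.Dk_P m) u
    · show (l.1 + (m.1 + 1) = n + 1 ∧ ρ l.2 m.2) ↔ (l.1 + m.1 = n ∧ ρ l.2 m.2)
      constructor <;> rintro ⟨h1, h2⟩ <;> exact ⟨by omega, h2⟩

theorem sel_totπ (D : Set Idx) (u : X ⊗[k] Y) :
    (totGr CX CY).sel D ((totHodge CX CY).π u) = (totHodge CX CY).π ((totGr CX CY).sel D u) := by
  refine (totGr CX CY).sel_comm' (totGr CX CY) _ _ _ (fun q => Or.inr ?_) u
  obtain ⟨l, m⟩ := q
  refine ⟨(l, m), fun u => ?_, Iff.rfl⟩
  exact ProjGr.map_tensor_P CX.gr CY.gr CX.gr CY.gr CX.hodge.π CY.hodge.π (CX.hodge.πP l)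
    (CY.hodge.πP m) u

theorem sel_tots (ρ : ℤ → ℤ → Prop) (n : ℕ) (u : X ⊗[k] Y) :
    (totGr CX CY).sel (Dρ ρ n) ((totHodge CX CY).s u) =
      (totHodge CX CY).s ((totGr CX CY).sel (Dρ ρ (n + 1)) u) := by
  classical
  rw [totHodge_s_apply, totHodge_s_apply, map_add]
  congr 1
  · refine (totGr CX CY).sel_comm' (totGr CX CY) _ _ _ (fun q => ?_) u
    obtain ⟨l, m⟩ := q
    by_cases hl : l ∈ Set.range CxData.θ
    · obtain ⟨l₀, rfl⟩ := hl
      refine Or.inr ⟨(l₀, m), fun u => ?_, ?_⟩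
      · exact ProjGr.map_tensor_P CX.gr CY.gr CX.gr CY.gr CX.hodge.s LinearMap.id
          (CX.hodge.sP l₀) (fun y => rfl) u
      · show (l₀.1 + m.1 = n ∧ ρ l₀.2 m.2) ↔ (l₀.1 + 1 + m.1 = n + 1 ∧ ρ l₀.2 m.2)
        constructor <;> rintro ⟨h1, h2⟩ <;> exact ⟨by omega, h2⟩
    · exact Or.inl fun u => ProjGr.map_tensor_P_left_zero CX.gr CY.gr _ _ m
        (CX.hodge.sP0 l hl) u
  · refine (totGr CX CY).sel_comm' (totGr CX CY) _ _ _ (fun q => ?_) u
    obtain ⟨l, m⟩ := q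
    by_cases hm : m ∈ Set.range CxData.θ
    · obtain ⟨m₀, rfl⟩ := hm
      refine Or.inr ⟨(l, m₀), fun u => ?_, ?_⟩
      · refine ProjGr.map_tensor_P CX.gr CY.gr CX.gr CY.gr (CX.hodge.π ∘ₗ CX.sign.σ) CY.hodge.s
          (fun x => ?_) (CY.hodge.sP m₀) u
        show CX.hodge.π (CX.sign.σ (CX.gr.P l x)) = CX.gr.P l (CX.hodge.π (CX.sign.σ x))
        rw [CX.sign.Pσ, CX.hodge.πP]
      · show (l.1 + m₀.1 = n ∧ ρ l.2 m₀.2) ↔ (l.1 + (m₀.1 + 1) = n + 1 ∧ ρ l.2 m₀.2)
        constructor <;> rintro ⟨h1, h2⟩ <;> exact ⟨by omega, h2⟩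
    · exact Or.inl fun u => ProjGr.map_tensor_P_right_zero CX.gr CY.gr _ _ l
        (CY.hodge.sP0 m hm) u

/-- the total differential is linear over `R ⊗ S` -/
theorem totDel_act (v : R ⊗[k] S) (u : X ⊗[k] Y) :
    totDel CX CY (GrSeg.act k R S X Y v u) = GrSeg.act k R S X Y v (totDel CX CY u) := by
  rw [totDel_apply, totDel_apply, map_add]
  congr 1
  · exact map_act CX.D (LinearMap.id : Y →ₗ[S] Y) v u
  · exact map_act CX.σ CY.D v u

end Tot

end Groth.Agent.Lib.Helper87.Kun
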