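import Groth.Agent.Lib.Helper87.Kun14
import Groth.Agent.Lib.Helper87.Kun10

/-!
# The total complex of `X ⊗ Y`: the action of `R ⊗ S`, torsion cohomology (helper87)
-/

set_option autoImplicit false
universe u

namespace Groth.Agent.Lib.Helper87.Kun

open DirectSum TensorProduct GrLC
open Groth.Agent.Lib.Helper99 Groth.Agent.Lib.Helper39 Groth.Agent.Lib.Helper87.SegOne

section Tot

variable {k : Type u} [Field k] {R S : Type u} [CommRing R] [CommRing S] [Algebra k R]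
  [Algebra k S]
  {𝒜 : ℤ → Submodule k R} [GradedAlgebra 𝒜] {ℬ : ℤ → Submodule k S} [GradedAlgebra ℬ]
  {X Y : Type u} [AddCommGroup X] [Module R X] [Module k X] [IsScalarTower k R X]
  [AddCommGroup Y] [Module S Y] [Module k Y] [IsScalarTower k S Y]
  {𝒳 : ℤ → AddSubgroup X} [DirectSum.Decomposition 𝒳] [SetLike.GradedSMul 𝒜 𝒳]
  {𝒴 : ℤ → AddSubgroup Y} [DirectSum.Decomposition 𝒴] [SetLike.GradedSMul ℬ 𝒴]

theorem CxData.P_smul (CX : CxData 𝒜 𝒳) {e : ℤ} {a : R} (ha : a ∈ 𝒜 e) (l : ℕ × ℤ) (x : X) :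
    CX.gr.P (l.1, l.2 + e) (a • x) = a • CX.gr.P l x := by
  show CX.c l.1 (prK 𝒜 𝒳 (l.2 + e) (a • x)) = a • CX.c l.1 (prK 𝒜 𝒳 l.2 x)
  rw [prK_apply, prK_apply, coe_decompose_smul_of_left_mem 𝒜 𝒳 ha x, add_sub_cancel_right,
    map_smul]

theorem CxData.P_mem (CX : CxData 𝒜 𝒳) (l : ℕ × ℤ) (x : X) : CX.gr.P l x ∈ 𝒳 l.2 :=
  CX.c_gr l.1 l.2 _ (prK_mem l.2 x)

theorem CxData.c_P (CX : CxData 𝒜 𝒳) (l : ℕ × ℤ) (x : X) : CX.c l.1 (CX.gr.P l x) = CX.gr.P l x :=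
  CX.cc l.1 _

variable (CX : CxData 𝒜 𝒳) (CY : CxData ℬ 𝒴)

/-- equal internal degrees -/
abbrev Deq (n : ℕ) : Set Idx := Dρ (fun a b => a = b) n

/-- internal degrees both equal to `e` -/
abbrev Dne (n : ℕ) (e : ℤ) : Set Idx := Dρ (fun a b => a = e ∧ b = e) n

/-- no condition on the internal degrees -/
abbrev Dall (n : ℕ) : Set Idx := Dρ (fun _ _ => True) n

theorem totGr_P_act {e f : ℤ} {a : R} (ha : a ∈ 𝒜 e) {b : S} (hb : b ∈ ℬ f) (l m : ℕ × ℤ)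
    (u : X ⊗[k] Y) :
    GrSeg.act k R S X Y (a ⊗ₜ[k] b) ((totGr CX CY).P (l, m) u) =
      (totGr CX CY).P ((l.1, l.2 + e), (m.1, m.2 + f)) (GrSeg.act k R S X Y (a ⊗ₜ[k] b) u) := by
  induction u using TensorProduct.induction_on with
  | zero => simp
  | tmul x y =>
    show GrSeg.act k R S X Y (a ⊗ₜ[k] b)
        (TensorProduct.map (CX.gr.P l) (CY.gr.P m) (x ⊗ₜ[k] y)) =
      TensorProduct.map (CX.gr.P (l.1, l.2 + e)) (CY.gr.P (m.1, m.2 + f))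
        (GrSeg.act k R S X Y (a ⊗ₜ[k] b) (x ⊗ₜ[k] y))
    rw [TensorProduct.map_tmul, GrSeg.act_tmul, GrSeg.act_tmul, TensorProduct.map_tmul,
      CX.P_smul ha, CY.P_smul hb]
  | add u u' hu hu' => rw [map_add, map_add, hu, hu', map_add, map_add]

theorem sel_act_tmul (ρ ρ' : ℤ → ℤ → Prop) {e f : ℤ}
    (hρ : ∀ d d', ρ' (d + e) (d' + f) ↔ ρ d d') {a : R} (ha : a ∈ 𝒜 e) {b : S} (hb : b ∈ ℬ f)
    (n : ℕ) (u : X ⊗[k] Y) :
    (totGr CX CY).sel (Dρ ρ' n) (GrSeg.act k R S X Y (a ⊗ₜ[k] b) u) =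
      GrSeg.act k R S X Y (a ⊗ₜ[k] b) ((totGr CX CY).sel (Dρ ρ n) u) := by
  refine (totGr CX CY).sel_comm' (totGr CX CY) _ _ (GrSeg.act k R S X Y (a ⊗ₜ[k] b))
    (fun q => Or.inr ?_) u
  obtain ⟨l, m⟩ := q
  refine ⟨((l.1, l.2 + e), (m.1, m.2 + f)), fun u => totGr_P_act CX CY ha hb l m u, ?_⟩
  show (l.1 + m.1 = n ∧ ρ' (l.2 + e) (m.2 + f)) ↔ (l.1 + m.1 = n ∧ ρ l.2 m.2)
  rw [hρ]

theorem sel_act_seg {e : ℤ} {v : R ⊗[k] S} (hv : v ∈ GrSeg.segrePiece k 𝒜 ℬ e) (n : ℕ)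
    (u : X ⊗[k] Y) :
    (totGr CX CY).sel (Deq n) (GrSeg.act k R S X Y v u) =
      GrSeg.act k R S X Y v ((totGr CX CY).sel (Deq n) u) := by
  induction hv using Submodule.span_induction with
  | mem v hv =>
    obtain ⟨a, ha, b, hb, rfl⟩ := hv
    exact sel_act_tmul CX CY _ _ (fun d d' => add_left_inj e) ha hb n u
  | zero => simp
  | add v v' _ _ hv hv' =>
    rw [map_add, LinearMap.add_apply, map_add, hv, hv', LinearMap.add_apply]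
  | smul c v _ hv => rw [map_smul, LinearMap.smul_apply, map_smul, hv, LinearMap.smul_apply]

theorem prMN_eq_sel (e e' : ℤ) (u : X ⊗[k] Y) :
    prMN 𝒜 ℬ 𝒳 𝒴 e e' u = (totGr CX CY).sel {q : Idx | q.1.2 = e ∧ q.2.2 = e'} u := by
  classical
  refine (totGr CX CY).induction
    (motive := fun u => prMN 𝒜 ℬ 𝒳 𝒴 e e' u =
      (totGr CX CY).sel {q : Idx | q.1.2 = e ∧ q.2.2 = e'} u) (by simp)
    (fun x y hx hy => by rw [map_add, map_add, hx, hy]) (fun q u hu => ?_) u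
  obtain ⟨l, m⟩ := q
  rw [(totGr CX CY).sel_hom _ hu]
  have h1 : u ∈ piece2 (k := k) 𝒳 𝒴 l.2 m.2 := by
    rw [← hu]
    generalize u = w
    induction w using TensorProduct.induction_on with
    | zero => rw [map_zero]; exact Submodule.zero_mem _
    | tmul x y =>
      exact Submodule.subset_span ⟨_, CX.P_mem l x, _, CY.P_mem m y, rfl⟩
    | add w w' hw hw' => rw [map_add]; exact Submodule.add_mem _ hw hw'
  by_cases h : l.2 = e ∧ m.2 = e'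
  · rw [if_pos (show ((l, m) : Idx) ∈ {q : Idx | q.1.2 = e ∧ q.2.2 = e'} from h)]
    obtain ⟨h2, h3⟩ := h
    subst h2 h3
    exact prMN_of_mem 𝒜 ℬ 𝒳 𝒴 h1
  · rw [if_neg (show ((l, m) : Idx) ∉ {q : Idx | q.1.2 = e ∧ q.2.2 = e'} from h)]
    refine prMN_of_mem_ne 𝒜 ℬ 𝒳 𝒴 ?_ h1
    by_contra h'
    push Not at h'
    exact h ⟨h'.1, h'.2⟩

theorem totGr_P_mem_piece2 (l m : ℕ × ℤ) (u : X ⊗[k] Y) :
    (totGr CX CY).P (l, m) u ∈ piece2 (k := k) 𝒳 𝒴 l.2 m.2 := by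
  induction u using TensorProduct.induction_on with
  | zero => rw [map_zero]; exact Submodule.zero_mem _
  | tmul x y =>
    exact Submodule.subset_span ⟨_, CX.P_mem l x, _, CY.P_mem m y, rfl⟩
  | add w w' hw hw' => rw [map_add]; exact Submodule.add_mem _ hw hw'

theorem sel_Deq_mem (n : ℕ) (u : X ⊗[k] Y) :
    (totGr CX CY).sel (Deq n) u ∈ segAll (k := k) 𝒳 𝒴 := by
  refine (totGr CX CY).sel_mem _ _ (fun q hq x => ?_) u
  obtain ⟨l, m⟩ := q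
  have h1 : l.2 = m.2 := hq.2
  have h2 := totGr_P_mem_piece2 CX CY l m x
  rw [← h1] at h2
  exact Submodule.mem_iSup_of_mem l.2 h2

theorem sel_Dne_mem (n : ℕ) (e : ℤ) (u : X ⊗[k] Y) :
    (totGr CX CY).sel (Dne n e) u ∈ GrSeg.segrePiece k 𝒳 𝒴 e := by
  refine (totGr CX CY).sel_mem _ _ (fun q hq x => ?_) u
  obtain ⟨l, m⟩ := q
  have h1 : l.2 = e := hq.2.1
  have h3 : m.2 = e := hq.2.2
  have h2 := totGr_P_mem_piece2 CX CY l m x
  rw [h1, h3] at h2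
  exact h2

theorem sel_Dne_eq (n : ℕ) (e : ℤ) (u : X ⊗[k] Y) :
    (totGr CX CY).sel (Dne n e) u = prMN 𝒜 ℬ 𝒳 𝒴 e e ((totGr CX CY).sel (Deq n) u) := by
  have hset : ({q : Idx | q.1.2 = e ∧ q.2.2 = e} ∩ Deq n) = Dne n e := by
    ext q
    constructor
    · rintro ⟨⟨h2, h3⟩, h1, -⟩
      exact ⟨h1, h2, h3⟩
    · rintro ⟨h1, h2, h3⟩
      exact ⟨⟨h2, h3⟩, h1, h2.trans h3.symm⟩
  rw [prMN_eq_sel CX CY, (totGr CX CY).sel_sel, hset]

/-! ### torsion -/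

variable (I : Ideal R) (J : Ideal S)

/-- the elements carried into the boundaries by `I^N ⊗ J^N` for some `N` -/
def goodSub : Submodule k (X ⊗[k] Y) where
  carrier := {u | ∃ N : ℕ, ∀ r₁ ∈ I ^ N, ∀ r₂ ∈ J ^ N,
    GrSeg.act k R S X Y (r₁ ⊗ₜ[k] r₂) u ∈ LinearMap.range (totDel CX CY)}
  zero_mem' := ⟨0, fun r₁ _ r₂ _ => by rw [map_zero]; exact zero_mem _⟩
  add_mem' := by
    rintro u u' ⟨N, hN⟩ ⟨N', hN'⟩
    refine ⟨max N N', fun r₁ h₁ r₂ h₂ => ?_⟩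
    rw [map_add]
    exact add_mem
      (hN r₁ (Ideal.pow_le_pow_right (le_max_left N N') h₁) r₂
        (Ideal.pow_le_pow_right (le_max_left N N') h₂))
      (hN' r₁ (Ideal.pow_le_pow_right (le_max_right N N') h₁) r₂
        (Ideal.pow_le_pow_right (le_max_right N N') h₂))
  smul_mem' := by
    rintro c u ⟨N, hN⟩
    exact ⟨N, fun r₁ h₁ r₂ h₂ => by
      rw [map_smul]
      exact Submodule.smul_mem _ c (hN r₁ h₁ r₂ h₂)⟩

theorem mem_goodSub {u : X ⊗[k] Y} : u ∈ goodSub CX CY I J ↔ ∃ N : ℕ, ∀ r₁ ∈ I ^ N, ∀ r₂ ∈ J ^ N,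
    GrSeg.act k R S X Y (r₁ ⊗ₜ[k] r₂) u ∈ LinearMap.range (totDel CX CY) := Iff.rfl

theorem range_le_goodSub : LinearMap.range (totDel CX CY) ≤ goodSub CX CY I J := by
  rintro _ ⟨w, rfl⟩
  exact ⟨0, fun r₁ _ r₂ _ => ⟨GrSeg.act k R S X Y (r₁ ⊗ₜ[k] r₂) w, totDel_act CX CY _ w⟩⟩

variable (hTX : ∀ (i : ℕ) (x : X), CX.c (i + 1) x = x → CX.D x = 0 →
    ∃ n : ℕ, ∀ r ∈ I ^ n, r • x ∈ LinearMap.range CX.D)
  (hTY : ∀ (i : ℕ) (y : Y), CY.c (i + 1) y = y → CY.D y = 0 →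
    ∃ n : ℕ, ∀ r ∈ J ^ n, r • y ∈ LinearMap.range CY.D)

include hTX hTY in
theorem tmul_mem_goodSub {i j : ℕ} (hij : 0 < i + j) {a : X} (ha : CX.c i a = a)
    (hDa : CX.D a = 0) {b : Y} (hb : CY.c j b = b) (hDb : CY.D b = 0) :
    a ⊗ₜ[k] b ∈ goodSub CX CY I J := by
  rcases Nat.eq_zero_or_pos i with hi | hi
  · subst hi
    obtain ⟨j', rfl⟩ : ∃ j', j = j' + 1 := ⟨j - 1, by omega⟩
    obtain ⟨N, hN⟩ := hTY j' b hb hDb
    refine ⟨N, fun r₁ _ r₂ h₂ => ?_⟩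
    obtain ⟨b'', hb''⟩ := hN r₂ h₂
    refine ⟨CX.sign.σ (r₁ • a) ⊗ₜ[k] b'', ?_⟩
    show totD CX.Dk CX.sign.σ CY.Dk (CX.sign.σ (r₁ • a) ⊗ₜ[k] b'') = _
    rw [totD_tmul, CX.sign.Dσ CX.Dk_P, CX.sign.σσ, GrSeg.act_tmul]
    have h1 : CX.Dk (r₁ • a) = 0 := by
      show CX.D (r₁ • a) = 0
      rw [map_smul, hDa, smul_zero]
    have h2 : CY.Dk b'' = r₂ • b := hb''
    rw [h1, map_zero, neg_zero, TensorProduct.zero_tmul, zero_add, h2]
  · obtain ⟨i', rfl⟩ : ∃ i', i = i' + 1 := ⟨i - 1, by omega⟩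
    obtain ⟨N, hN⟩ := hTX i' a ha hDa
    refine ⟨N, fun r₁ h₁ r₂ _ => ?_⟩
    obtain ⟨a'', ha''⟩ := hN r₁ h₁
    refine ⟨a'' ⊗ₜ[k] (r₂ • b), ?_⟩
    show totD CX.Dk CX.sign.σ CY.Dk (a'' ⊗ₜ[k] (r₂ • b)) = _
    rw [totD_tmul, GrSeg.act_tmul]
    have h1 : CY.Dk (r₂ • b) = 0 := by
      show CY.D (r₂ • b) = 0
      rw [map_smul, hDb, smul_zero]
    have h2 : CX.Dk a'' = r₁ • a := ha''
    rw [h1, TensorProduct.tmul_zero, add_zero, h2]

include hTX hTY in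
/-- cocycles of positive degree are torsion modulo boundaries -/
theorem mem_goodSub_of_cocycle (n : ℕ) {u : X ⊗[k] Y}
    (hu : u ∈ (totGr CX CY).part (Dall (n + 1))) (hd : totDel CX CY u = 0) :
    u ∈ goodSub CX CY I J := by
  have h1 := (totHodge CX CY).decomp hd
  rw [h1]
  refine Submodule.add_mem _ ?_ (range_le_goodSub CX CY I J ⟨_, rfl⟩)
  rw [(totGr CX CY).mem_part_iff] at hu
  rw [← hu]
  have key : (totGr CX CY).sel (Dall (n + 1)) u ∈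
      (goodSub CX CY I J).comap (totHodge CX CY).π := by
    refine (totGr CX CY).sel_mem _ _ (fun q hq w => ?_) u
    obtain ⟨l, m⟩ := q
    have hlm : l.1 + m.1 = n + 1 := hq.1
    rw [Submodule.mem_comap]
    induction w using TensorProduct.induction_on with
    | zero => rw [map_zero, map_zero]; exact Submodule.zero_mem _
    | tmul x y =>
      show TensorProduct.map CX.hodge.π CY.hodge.π
        (TensorProduct.map (CX.gr.P l) (CY.gr.P m) (x ⊗ₜ[k] y)) ∈ _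
      rw [TensorProduct.map_tmul, TensorProduct.map_tmul]
      refine tmul_mem_goodSub CX CY I J hTX hTY (i := l.1) (j := m.1) (by omega) ?_ ?_ ?_ ?_
      · rw [CX.hodge.πP, CX.c_P]
      · exact CX.hodge.Dπ _
      · rw [CY.hodge.πP, CY.c_P]
      · exact CY.hodge.Dπ _
    | add w w' hw hw' => rw [map_add, map_add]; exact Submodule.add_mem _ hw hw'
  exact key

end Tot

section Ideals

variable {k : Type u} [Field k] {R S T : Type u} [CommRing R] [CommRing S] [CommRing T]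
  [Algebra k R] [Algebra k S] [Algebra k T]
  (𝒜 : ℤ → Submodule k R) [GradedAlgebra 𝒜] (ℬ : ℤ → Submodule k S) [GradedAlgebra ℬ]
  (𝒯 : ℤ → Submodule k T) [GradedAlgebra 𝒯]
  (ψ : T →ₐ[k] R ⊗[k] S) (hT : GrSeg.IsSegreRing 𝒜 ℬ 𝒯 ψ)

include hT in
theorem map_irr_le_mul : (irr 𝒯).map (ψ : T →+* R ⊗[k] S) ≤
    (irr 𝒜).map (inclL (k := k) (S := S)) * (irr ℬ).map (inclR (k := k) (R := R)) := by
  rw [Ideal.map_le_iff_le_comap, irr, Ideal.span_le]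
  intro t ht
  obtain ⟨n, hn, htn⟩ := Set.mem_iUnion₂.mp ht
  have h1 := psi_mem 𝒜 ℬ 𝒯 ψ hT htn
  suffices H : ∀ u ∈ GrSeg.segrePiece k 𝒜 ℬ n, u ∈ (irr 𝒜).map (inclL (k := k) (S := S)) *
      (irr ℬ).map (inclR (k := k) (R := R)) from H _ h1
  intro u hu
  induction hu using Submodule.span_induction with
  | mem u hu =>
    obtain ⟨a, ha, b, hb, rfl⟩ := hu
    have h : a ⊗ₜ[k] b = inclL (k := k) (S := S) a * inclR (k := k) (R := R) b := by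
      rw [inclL_apply, inclR_apply, Algebra.TensorProduct.tmul_mul_tmul, mul_one, one_mul]
    rw [h]
    exact Ideal.mul_mem_mul (Ideal.mem_map_of_mem _ (mem_irr_of_mem 𝒜 hn ha))
      (Ideal.mem_map_of_mem _ (mem_irr_of_mem ℬ hn hb))
  | zero => exact Submodule.zero_mem _
  | add u v _ _ hu hv => exact Submodule.add_mem _ hu hv
  | smul c u _ hu => exact Submodule.smul_of_tower_mem _ c hu

include hT in
theorem psi_mem_pow_mul_pow (N : ℕ) {t : T} (ht : t ∈ irr 𝒯 ^ N) :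
    ψ t ∈ ((irr 𝒜) ^ N).map (inclL (k := k) (S := S)) *
      ((irr ℬ) ^ N).map (inclR (k := k) (R := R)) := by
  have h1 : ψ t ∈ ((irr 𝒯) ^ N).map (ψ : T →+* R ⊗[k] S) := Ideal.mem_map_of_mem _ ht
  rw [Ideal.map_pow] at h1
  have h2 := Ideal.pow_right_mono (map_irr_le_mul 𝒜 ℬ 𝒯 ψ hT) N h1
  rwa [mul_pow, ← Ideal.map_pow, ← Ideal.map_pow] at h2

end Ideals

end Groth.Agent.Lib.Helper87.Kun
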