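import Groth.Agent.Lib.Helper87.Kun15

/-!
# The Segre total complex `Seg(X^• ⊗ Y^•)` as a complex of graded `T`-modules (helper87)
-/

set_option autoImplicit false
universe u

namespace Groth.Agent.Lib.Helper87.Kun

open DirectSum TensorProduct GrLC
open Groth.Agent.Lib.Helper99 Groth.Agent.Lib.Helper39 Groth.Agent.Lib.Helper39.GrBridge
  Groth.Agent.Lib.Helper39.GrKoszul Groth.Agent.Lib.Helper87.SegOne Groth.Agent.Lib.Helper60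

section SegCx

variable {k : Type u} [Field k] {R S T : Type u} [CommRing R] [CommRing S] [CommRing T]
  [Algebra k R] [Algebra k S] [Algebra k T]
  {𝒜 : ℤ → Submodule k R} [GradedAlgebra 𝒜] {ℬ : ℤ → Submodule k S} [GradedAlgebra ℬ]
  (𝒯 : ℤ → Submodule k T) [GradedAlgebra 𝒯]
  (ψ : T →ₐ[k] R ⊗[k] S) (hT : GrSeg.IsSegreRing 𝒜 ℬ 𝒯 ψ)
  {X Y : Type u} [AddCommGroup X] [Module R X] [Module k X] [IsScalarTower k R X]
  [AddCommGroup Y] [Module S Y] [Module k Y] [IsScalarTower k S Y]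
  {𝒳 : ℤ → AddSubgroup X} [DirectSum.Decomposition 𝒳] [SetLike.GradedSMul 𝒜 𝒳]
  {𝒴 : ℤ → AddSubgroup Y} [DirectSum.Decomposition 𝒴] [SetLike.GradedSMul ℬ 𝒴]
  (CX : CxData 𝒜 𝒳) (CY : CxData ℬ 𝒴)

attribute [local instance] toSubGradedRing toSubDecomposition toSubGradedSMul

/-- the ideal of the elements of `R ⊗ S` carrying `u` into the boundaries -/
def colonIdeal (u : X ⊗[k] Y) : Ideal (R ⊗[k] S) where
  carrier := {v | GrSeg.act k R S X Y v u ∈ LinearMap.range (totDel CX CY)}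
  add_mem' := by
    intro v v' hv hv'
    show GrSeg.act k R S X Y (v + v') u ∈ LinearMap.range (totDel CX CY)
    rw [map_add, LinearMap.add_apply]
    exact add_mem hv hv'
  zero_mem' := by
    show GrSeg.act k R S X Y 0 u ∈ LinearMap.range (totDel CX CY)
    rw [map_zero, LinearMap.zero_apply]
    exact zero_mem _
  smul_mem' := by
    rintro w v ⟨x, hx⟩
    refine ⟨GrSeg.act k R S X Y w x, ?_⟩
    rw [totDel_act, hx, smul_eq_mul, act_mul]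

include hT in
theorem sel_act_psi (t : T) (n : ℕ) (u : X ⊗[k] Y) :
    (totGr CX CY).sel (Deq n) (GrSeg.act k R S X Y (ψ t) u) =
      GrSeg.act k R S X Y (ψ t) ((totGr CX CY).sel (Deq n) u) := by
  classical
  induction t using DirectSum.Decomposition.inductionOn 𝒯 with
  | zero => simp
  | @homogeneous e t => exact sel_act_seg CX CY (psi_mem 𝒜 ℬ 𝒯 ψ hT t.2) n u
  | add t t' ht ht' =>
    rw [map_add, map_add, LinearMap.add_apply, map_add, ht, ht', LinearMap.add_apply]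

theorem totDel_mem_part (ρ : ℤ → ℤ → Prop) (n : ℕ) {u : X ⊗[k] Y}
    (hu : u ∈ (totGr CX CY).part (Dρ ρ n)) :
    totDel CX CY u ∈ (totGr CX CY).part (Dρ ρ (n + 1)) := by
  rw [(totGr CX CY).mem_part_iff] at hu
  rw [← hu, ← sel_totDel]
  exact (totGr CX CY).sel_mem_part _ _

theorem part_Deq_le (n : ℕ) : (totGr CX CY).part (Deq n) ≤ segAll (k := k) 𝒳 𝒴 := by
  intro u hu
  rw [(totGr CX CY).mem_part_iff] at hu
  rw [← hu]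
  exact sel_Deq_mem CX CY n u

theorem Dne_subset_Deq (n : ℕ) (e : ℤ) : Dne n e ⊆ Deq n := fun _ hq =>
  ⟨hq.1, hq.2.1.trans hq.2.2.symm⟩

theorem mem_part_Dne_iff (n : ℕ) (e : ℤ) (u : X ⊗[k] Y) :
    u ∈ (totGr CX CY).part (Dne n e) ↔
      u ∈ (totGr CX CY).part (Deq n) ∧ u ∈ GrSeg.segrePiece k 𝒳 𝒴 e := by
  constructor
  · intro hu
    refine ⟨(totGr CX CY).part_mono (Dne_subset_Deq n e) hu, ?_⟩
    rw [(totGr CX CY).mem_part_iff] at hu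
    rw [← hu]
    exact sel_Dne_mem CX CY n e u
  · rintro ⟨h1, h2⟩
    rw [(totGr CX CY).mem_part_iff] at h1 ⊢
    rw [sel_Dne_eq, h1]
    exact prMN_of_mem 𝒜 ℬ 𝒳 𝒴 h2

theorem prMN_mem_part (n : ℕ) (e e' : ℤ) {u : X ⊗[k] Y}
    (hu : u ∈ (totGr CX CY).part (Deq n)) :
    prMN 𝒜 ℬ 𝒳 𝒴 e e' u ∈ (totGr CX CY).part (Deq n) := by
  rw [(totGr CX CY).mem_part_iff] at hu
  rw [← hu, prMN_eq_sel CX CY, (totGr CX CY).sel_sel]
  exact (totGr CX CY).part_mono Set.inter_subset_right ((totGr CX CY).sel_mem_part _ _)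

variable (hTX : ∀ (i : ℕ) (x : X), CX.c (i + 1) x = x → CX.D x = 0 →
    ∃ n : ℕ, ∀ r ∈ irr 𝒜 ^ n, r • x ∈ LinearMap.range CX.D)
  (hTY : ∀ (i : ℕ) (y : Y), CY.c (i + 1) y = y → CY.D y = 0 →
    ∃ n : ℕ, ∀ r ∈ irr ℬ ^ n, r • y ∈ LinearMap.range CY.D)

include hT hTX hTY in
/-- cocycles of positive degree of the Segre total complex are torsion modulo boundaries -/
theorem exists_pow_act_psi (n : ℕ) {u : X ⊗[k] Y} (hu : u ∈ (totGr CX CY).part (Deq (n + 1)))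
    (hd : totDel CX CY u = 0) :
    ∃ N : ℕ, ∀ t ∈ irr 𝒯 ^ N, ∃ w ∈ (totGr CX CY).part (Deq n),
      totDel CX CY w = GrSeg.act k R S X Y (ψ t) u := by
  have hu' : u ∈ (totGr CX CY).part (Dall (n + 1)) :=
    (totGr CX CY).part_mono
      (fun q (hq : q ∈ Deq (n + 1)) => (⟨hq.1, trivial⟩ : q ∈ Dall (n + 1))) hu
  obtain ⟨N, hN⟩ := mem_goodSub_of_cocycle CX CY (irr 𝒜) (irr ℬ) hTX hTY n hu' hd
  refine ⟨N, fun t ht => ?_⟩
  have h1 := psi_mem_pow_mul_pow 𝒜 ℬ 𝒯 ψ hT N ht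
  have h2 : ((irr 𝒜) ^ N).map (inclL (k := k) (S := S)) *
      ((irr ℬ) ^ N).map (inclR (k := k) (R := R)) ≤ colonIdeal CX CY u := by
    rw [Ideal.map, Ideal.map, Ideal.span_mul_span', Ideal.span_le]
    rintro _ ⟨_, ⟨r₁, h₁, rfl⟩, _, ⟨r₂, h₂, rfl⟩, rfl⟩
    show inclL (k := k) (S := S) r₁ * inclR (k := k) (R := R) r₂ ∈ colonIdeal CX CY u
    show GrSeg.act k R S X Y (inclL (k := k) (S := S) r₁ * inclR (k := k) (R := R) r₂) u ∈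
      LinearMap.range (totDel CX CY)
    rw [inclL_apply, inclR_apply, Algebra.TensorProduct.tmul_mul_tmul, mul_one, one_mul]
    exact hN r₁ h₁ r₂ h₂
  obtain ⟨w', hw'⟩ := h2 h1
  refine ⟨(totGr CX CY).sel (Deq n) w', (totGr CX CY).sel_mem_part _ _, ?_⟩
  rw [← sel_totDel, hw', sel_act_psi 𝒯 ψ hT, ((totGr CX CY).mem_part_iff _ _).mp hu]

/-! ### the complex -/

variable (𝒳 𝒴) in
/-- the Segre product `X # Y` as a graded module over `toSub 𝒯` -/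
noncomputable def segGM : GMod.{u} (toSub 𝒯) := convGMod (segG 𝒜 ℬ 𝒯 ψ hT 𝒳 𝒴)

/-- the `n`-th term of the Segre total complex inside `X # Y` -/
def knSub (n : ℕ) : Submodule T (segGM 𝒯 ψ hT 𝒳 𝒴).carrier where
  carrier := {z | segVal 𝒜 ℬ 𝒯 ψ hT 𝒳 𝒴 z ∈ (totGr CX CY).part (Deq n)}
  add_mem' := by
    intro z z' hz hz'
    show segVal 𝒜 ℬ 𝒯 ψ hT 𝒳 𝒴 z + segVal 𝒜 ℬ 𝒯 ψ hT 𝒳 𝒴 z' ∈ (totGr CX CY).part (Deq n)
    exact Submodule.add_mem _ hz hz'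
  zero_mem' := by
    show (0 : X ⊗[k] Y) ∈ (totGr CX CY).part (Deq n)
    exact Submodule.zero_mem _
  smul_mem' := by
    intro t z hz
    have hz' : segVal 𝒜 ℬ 𝒯 ψ hT 𝒳 𝒴 z ∈ (totGr CX CY).part (Deq n) := hz
    show GrSeg.act k R S X Y (ψ t) (segVal 𝒜 ℬ 𝒯 ψ hT 𝒳 𝒴 z) ∈ (totGr CX CY).part (Deq n)
    rw [(totGr CX CY).mem_part_iff] at hz' ⊢
    rw [sel_act_psi 𝒯 ψ hT, hz']

theorem mem_knSub (n : ℕ) (z : (segGM 𝒯 ψ hT 𝒳 𝒴).carrier) :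
    z ∈ knSub 𝒯 ψ hT CX CY n ↔
      segVal 𝒜 ℬ 𝒯 ψ hT 𝒳 𝒴 z ∈ (totGr CX CY).part (Deq n) := Iff.rfl

theorem knSub_hom (n : ℕ) :
    (knSub 𝒯 ψ hT CX CY n).IsHomogeneous (segGM 𝒯 ψ hT 𝒳 𝒴).gr := by
  intro e z hz
  rw [mem_knSub] at hz ⊢
  have h1 := segVal_coeAddMonoidHom 𝒜 ℬ 𝒯 ψ hT 𝒳 𝒴
    (decompose (segGM 𝒯 ψ hT 𝒳 𝒴).gr z) e
  have h2 : DirectSum.coeAddMonoidHom (segGr 𝒜 ℬ 𝒯 ψ hT 𝒳 𝒴)
      (decompose (segGM 𝒯 ψ hT 𝒳 𝒴).gr z) = z :=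
    (decompose (segGM 𝒯 ψ hT 𝒳 𝒴).gr).left_inv z
  rw [h2] at h1
  exact (congrArg (· ∈ (totGr CX CY).part (Deq n)) h1).mp (prMN_mem_part CX CY n e e hz)

/-- the `n`-th term of the Segre total complex -/
noncomputable def segK (n : ℕ) : GMod.{u} (toSub 𝒯) :=
  gsub (segGM 𝒯 ψ hT 𝒳 𝒴) (knSub 𝒯 ψ hT CX CY n) (knSub_hom 𝒯 ψ hT CX CY n)

/-- the underlying tensor of an element of the `n`-th term -/
noncomputable def kV (n : ℕ) (z : (segK 𝒯 ψ hT CX CY n).carrier) : X ⊗[k] Y :=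
  segVal 𝒜 ℬ 𝒯 ψ hT 𝒳 𝒴 z.1

theorem kV_mem (n : ℕ) (z : (segK 𝒯 ψ hT CX CY n).carrier) :
    kV 𝒯 ψ hT CX CY n z ∈ (totGr CX CY).part (Deq n) := z.2

theorem kV_injective (n : ℕ) : Function.Injective (kV 𝒯 ψ hT CX CY n) :=
  fun _ _ h => Subtype.ext (Subtype.ext h)

theorem kV_add (n : ℕ) (z z' : (segK 𝒯 ψ hT CX CY n).carrier) :
    kV 𝒯 ψ hT CX CY n (z + z') = kV 𝒯 ψ hT CX CY n z + kV 𝒯 ψ hT CX CY n z' := rfl

theorem kV_zero (n : ℕ) : kV 𝒯 ψ hT CX CY n 0 = 0 := rfl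

theorem kV_smul (n : ℕ) (t : T) (z : (segK 𝒯 ψ hT CX CY n).carrier) :
    kV 𝒯 ψ hT CX CY n (t • z) = GrSeg.act k R S X Y (ψ t) (kV 𝒯 ψ hT CX CY n z) := rfl

theorem mem_segK_gr (n : ℕ) (e : ℤ) (z : (segK 𝒯 ψ hT CX CY n).carrier) :
    z ∈ (segK 𝒯 ψ hT CX CY n).gr e ↔ kV 𝒯 ψ hT CX CY n z ∈ GrSeg.segrePiece k 𝒳 𝒴 e := Iff.rfl

/-- constructor -/
noncomputable def kMk (n : ℕ) (u : X ⊗[k] Y) (hu : u ∈ (totGr CX CY).part (Deq n)) :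
    (segK 𝒯 ψ hT CX CY n).carrier :=
  ⟨⟨u, part_Deq_le CX CY n hu⟩, hu⟩

theorem kV_kMk (n : ℕ) (u : X ⊗[k] Y) (hu : u ∈ (totGr CX CY).part (Deq n)) :
    kV 𝒯 ψ hT CX CY n (kMk 𝒯 ψ hT CX CY n u hu) = u := rfl

/-- the differential -/
noncomputable def segDiff (n : ℕ) :
    (segK 𝒯 ψ hT CX CY n).carrier →ₗ[T] (segK 𝒯 ψ hT CX CY (n + 1)).carrier where
  toFun z := kMk 𝒯 ψ hT CX CY (n + 1) (totDel CX CY (kV 𝒯 ψ hT CX CY n z))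
    (totDel_mem_part CX CY _ n (kV_mem 𝒯 ψ hT CX CY n z))
  map_add' z z' := by
    apply kV_injective
    rw [kV_kMk, kV_add, kV_add, kV_kMk, kV_kMk, map_add]
  map_smul' t z := by
    apply kV_injective
    rw [kV_kMk, RingHom.id_apply, kV_smul, kV_smul, kV_kMk, totDel_act]

theorem kV_segDiff (n : ℕ) (z : (segK 𝒯 ψ hT CX CY n).carrier) :
    kV 𝒯 ψ hT CX CY (n + 1) (segDiff 𝒯 ψ hT CX CY n z) =
      totDel CX CY (kV 𝒯 ψ hT CX CY n z) := rfl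

/-- the Segre total complex -/
noncomputable def segCx : CoCx (toSub 𝒯) where
  K := segK 𝒯 ψ hT CX CY
  d := segDiff 𝒯 ψ hT CX CY
  d_gr := by
    intro n e z hz
    rw [mem_segK_gr] at hz ⊢
    rw [kV_segDiff]
    have h1 : kV 𝒯 ψ hT CX CY n z ∈ (totGr CX CY).part (Dne n e) :=
      (mem_part_Dne_iff CX CY n e _).mpr ⟨kV_mem 𝒯 ψ hT CX CY n z, hz⟩
    exact ((mem_part_Dne_iff CX CY (n + 1) e _).mp (totDel_mem_part CX CY _ n h1)).2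
  d_d := by
    intro n z
    apply kV_injective
    rw [kV_segDiff, kV_segDiff, totDel_totDel, kV_zero]

/-- the retraction of `X # Y` onto the `n`-th term -/
noncomputable def segKRetr (n : ℕ) :
    (segGM 𝒯 ψ hT 𝒳 𝒴).carrier →ₗ[T] (segK 𝒯 ψ hT CX CY n).carrier where
  toFun z := kMk 𝒯 ψ hT CX CY n ((totGr CX CY).sel (Deq n) (segVal 𝒜 ℬ 𝒯 ψ hT 𝒳 𝒴 z))
    ((totGr CX CY).sel_mem_part _ _)
  map_add' z z' := by
    apply kV_injective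
    rw [kV_kMk, kV_add, kV_kMk, kV_kMk, ← map_add]
    rfl
  map_smul' t z := by
    apply kV_injective
    rw [kV_kMk, RingHom.id_apply, kV_smul, kV_kMk, ← sel_act_psi 𝒯 ψ hT]
    rfl

theorem segKRetr_subtype (n : ℕ) (z : (segK 𝒯 ψ hT CX CY n).carrier) :
    segKRetr 𝒯 ψ hT CX CY n ((knSub 𝒯 ψ hT CX CY n).subtype z) = z := by
  apply kV_injective
  show (totGr CX CY).sel (Deq n) (kV 𝒯 ψ hT CX CY n z) = kV 𝒯 ψ hT CX CY n z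
  exact ((totGr CX CY).mem_part_iff _ _).mp (kV_mem 𝒯 ψ hT CX CY n z)

theorem segCx_totAcyc [IsNoetherianRing R] [IsNoetherianRing S] [IsNoetherianRing T]
    [IsNoetherianRing (R ⊗[k] S)] (a : HomogeneousIdeal (toSub 𝒯)) (ha : a.toIdeal = irr 𝒯)
    (hX : ∀ (B : Type u) (p : ℕ), Subsingleton (LocCoh.H (irr 𝒜) p (B →₀ X)))
    (hY : ∀ (B : Type u) (p : ℕ), Subsingleton (LocCoh.H (irr ℬ) p (B →₀ Y))) :
    (segCx 𝒯 ψ hT CX CY).TotAcyc a := by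
  intro n p
  rw [ha]
  exact lc_subsingleton_of_retract (irr 𝒯) p (knSub 𝒯 ψ hT CX CY n).subtype
    (segKRetr 𝒯 ψ hT CX CY n) (segKRetr_subtype 𝒯 ψ hT CX CY n)
    (seg_lc_subsingleton 𝒜 ℬ 𝒯 ψ hT 𝒳 𝒴 hX hY p)

include hTX hTY in
theorem segCx_torCoh (a : HomogeneousIdeal (toSub 𝒯)) (ha : a.toIdeal = irr 𝒯) :
    (segCx 𝒯 ψ hT CX CY).TorCoh a := by
  intro n z hz
  have hd : totDel CX CY (kV 𝒯 ψ hT CX CY (n + 1) z) = 0 := by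
    rw [← kV_segDiff]
    exact congrArg (kV 𝒯 ψ hT CX CY (n + 1 + 1)) hz
  obtain ⟨N, hN⟩ := exists_pow_act_psi 𝒯 ψ hT CX CY hTX hTY n (kV_mem 𝒯 ψ hT CX CY (n + 1) z) hd
  refine ⟨N, fun t ht => ?_⟩
  rw [ha] at ht
  obtain ⟨w, hw, hwe⟩ := hN t ht
  exact ⟨kMk 𝒯 ψ hT CX CY n w hw, kV_injective 𝒯 ψ hT CX CY (n + 1) hwe⟩

end SegCx

end Groth.Agent.Lib.Helper87.Kun
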