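import Groth.Agent.Lib.Helper87.Kun16

/-!
# The augmentation of the Segre total complex (helper87)
-/

set_option autoImplicit false
universe u

namespace Groth.Agent.Lib.Helper87.Kun

open DirectSum TensorProduct GrLC
open Groth.Agent.Lib.Helper99 Groth.Agent.Lib.Helper39 Groth.Agent.Lib.Helper39.GrBridge
  Groth.Agent.Lib.Helper39.GrKoszul Groth.Agent.Lib.Helper87.SegOne Groth.Agent.Lib.Helper60

section AugData

variable {k : Type u} [Field k] {R : Type u} [CommRing R] [Algebra k R]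
  {𝒜 : ℤ → Submodule k R} [GradedAlgebra 𝒜]
  {X : Type u} [AddCommGroup X] [Module R X] [Module k X] [IsScalarTower k R X]
  {𝒳 : ℤ → AddSubgroup X} [DirectSum.Decomposition 𝒳] [SetLike.GradedSMul 𝒜 𝒳]

/-- an augmentation of a packaged complex: `M ≅ ker (D : X^0 → X^1)` -/
structure AugData (CX : CxData 𝒜 𝒳) {M : Type u} [AddCommGroup M] [Module R M]
    (ℳ : ℤ → AddSubgroup M) where
  ε : M →ₗ[R] X
  ε_gr : IsGrHom ℳ 𝒳 ε
  ε_inj : Function.Injective ε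
  c0 : ∀ x, CX.c 0 (ε x) = ε x
  D0 : ∀ x, CX.D (ε x) = 0
  exact : ∀ x, CX.c 0 x = x → CX.D x = 0 → x ∈ LinearMap.range ε

end AugData

section Aug

variable {k : Type u} [Field k] {R S T : Type u} [CommRing R] [CommRing S] [CommRing T]
  [Algebra k R] [Algebra k S] [Algebra k T]
  {𝒜 : ℤ → Submodule k R} [GradedAlgebra 𝒜] {ℬ : ℤ → Submodule k S} [GradedAlgebra ℬ]
  (𝒯 : ℤ → Submodule k T) [GradedAlgebra 𝒯]
  (ψ : T →ₐ[k] R ⊗[k] S) (hT : GrSeg.IsSegreRing 𝒜 ℬ 𝒯 ψ)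
  {X Y : Type u} [AddCommGroup X] [Module R X] [Module k X] [IsScalarTower k R X]
  [AddCommGroup Y] [Module S Y] [Module k Y] [IsScalarTower k S Y]
  {𝒳 : ℤ → AddSubgroup X} [DirectSum.Decomposition 𝒳] [SetLike.GradedSMul 𝒜 𝒳]
  {𝒴 : ℤ → AddSubgroup Y} [DirectSum.Decomposition 𝒴] [SetLike.GradedSMul ℬ 𝒴]
  {CX : CxData 𝒜 𝒳} {CY : CxData ℬ 𝒴}
  {M N P : Type u} [AddCommGroup M] [Module R M] [Module k M] [IsScalarTower k R M]
  [AddCommGroup N] [Module S N] [Module k N] [IsScalarTower k S N]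
  [AddCommGroup P] [Module T P] [Module k P] [IsScalarTower k T P]
  {ℳ : ℤ → AddSubgroup M} [DirectSum.Decomposition ℳ] [SetLike.GradedSMul 𝒜 ℳ]
  {𝒩 : ℤ → AddSubgroup N} [DirectSum.Decomposition 𝒩] [SetLike.GradedSMul ℬ 𝒩]
  {𝒬 : ℤ → AddSubgroup P} [DirectSum.Decomposition 𝒬] [SetLike.GradedSMul 𝒯 𝒬]
  (AX : AugData CX ℳ) (AY : AugData CY 𝒩)

attribute [local instance] toSubGradedRing toSubDecomposition toSubGradedSMul

/-- the tensor product of the augmentations -/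
noncomputable def augE : M ⊗[k] N →ₗ[k] X ⊗[k] Y :=
  TensorProduct.map (AX.ε.restrictScalars k) (AY.ε.restrictScalars k)

theorem augE_tmul (m : M) (n : N) : augE AX AY (m ⊗ₜ[k] n) = AX.ε m ⊗ₜ[k] AY.ε n := rfl

theorem augE_injective : Function.Injective (augE AX AY) :=
  TensorProduct.map_injective_of_flat_flat _ _ AX.ε_inj AY.ε_inj

theorem augE_act (v : R ⊗[k] S) (z : M ⊗[k] N) :
    augE AX AY (GrSeg.act k R S M N v z) = GrSeg.act k R S X Y v (augE AX AY z) :=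
  map_act AX.ε AY.ε v z

theorem AugData.P_ε {d : ℤ} {m : M} (hm : m ∈ ℳ d) : CX.gr.P (0, d) (AX.ε m) = AX.ε m := by
  show CX.c 0 (prK 𝒜 𝒳 d (AX.ε m)) = AX.ε m
  rw [prK_of_mem (AX.ε_gr d m hm), AX.c0]

theorem augE_mem_Dne {d : ℤ} {z : M ⊗[k] N} (hz : z ∈ GrSeg.segrePiece k ℳ 𝒩 d) :
    augE AX AY z ∈ (totGr CX CY).part (Dne 0 d) := by
  induction hz using Submodule.span_induction with
  | mem z hz =>
    obtain ⟨m, hm, n, hn, rfl⟩ := hz
    refine (totGr CX CY).hom_mem_part (l := ((0, d), (0, d)))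
      (show (((0, d), (0, d)) : Idx) ∈ Dne 0 d from ⟨rfl, rfl, rfl⟩) ?_
    show TensorProduct.map (CX.gr.P (0, d)) (CY.gr.P (0, d)) (AX.ε m ⊗ₜ[k] AY.ε n) = _
    rw [TensorProduct.map_tmul, AX.P_ε hm, AY.P_ε hn]
    rfl
  | zero => rw [map_zero]; exact Submodule.zero_mem _
  | add u v _ _ hu hv => rw [map_add]; exact Submodule.add_mem _ hu hv
  | smul c u _ hu => rw [map_smul]; exact Submodule.smul_mem _ c hu

theorem augE_mem_Deq {z : M ⊗[k] N} (hz : z ∈ segAll (k := k) ℳ 𝒩) :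
    augE AX AY z ∈ (totGr CX CY).part (Deq 0) := by
  induction hz using Submodule.iSup_induction' with
  | mem d z hz =>
    exact (totGr CX CY).part_mono (Dne_subset_Deq 0 d) (augE_mem_Dne AX AY hz)
  | zero => rw [map_zero]; exact Submodule.zero_mem _
  | add z z' _ _ hz hz' => rw [map_add]; exact Submodule.add_mem _ hz hz'

theorem totDel_augE (z : M ⊗[k] N) : totDel CX CY (augE AX AY z) = 0 := by
  induction z using TensorProduct.induction_on with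
  | zero => simp
  | tmul m n =>
    show totD CX.Dk CX.sign.σ CY.Dk (AX.ε m ⊗ₜ[k] AY.ε n) = 0
    rw [totD_tmul]
    have h1 : CX.Dk (AX.ε m) = 0 := AX.D0 m
    have h2 : CY.Dk (AY.ε n) = 0 := AY.D0 n
    rw [h1, h2, TensorProduct.zero_tmul, TensorProduct.tmul_zero, add_zero]
  | add z z' hz hz' => rw [map_add, map_add, hz, hz', add_zero]

theorem CxData.not_mem_range_θ (d : ℤ) : ((0, d) : ℕ × ℤ) ∉ Set.range CxData.θ := by
  rintro ⟨l, hl⟩
  have : l.1 + 1 = 0 := congrArg Prod.fst hl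
  omega

theorem tots_eq_zero {u : X ⊗[k] Y} (hu : u ∈ (totGr CX CY).part (Dall 0)) :
    (totHodge CX CY).s u = 0 := by
  rw [(totGr CX CY).mem_part_iff] at hu
  rw [← hu]
  have key : (totGr CX CY).sel (Dall 0) u ∈ LinearMap.ker (totHodge CX CY).s := by
    refine (totGr CX CY).sel_mem _ _ (fun q hq w => ?_) u
    obtain ⟨⟨i, d⟩, ⟨j, d'⟩⟩ := q
    have hij : i + j = 0 := hq.1
    obtain rfl : i = 0 := by omega
    obtain rfl : j = 0 := by omega
    rw [LinearMap.mem_ker, totHodge_s_apply]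
    have e1 : TensorProduct.map CX.hodge.s LinearMap.id
        ((totGr CX CY).P ((0, d), (0, d')) w) = 0 :=
      ProjGr.map_tensor_P_left_zero CX.gr CY.gr _ _ (0, d')
        (CX.hodge.sP0 (0, d) (CxData.not_mem_range_θ d)) w
    have e2 : TensorProduct.map (CX.hodge.π ∘ₗ CX.sign.σ) CY.hodge.s
        ((totGr CX CY).P ((0, d), (0, d')) w) = 0 :=
      ProjGr.map_tensor_P_right_zero CX.gr CY.gr _ _ (0, d)
        (CY.hodge.sP0 (0, d') (CxData.not_mem_range_θ d')) w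
    rw [e1, e2, add_zero]
  exact key

theorem harmonic_mem {q : Idx} (hq : q ∈ Deq 0) (w : X ⊗[k] Y) :
    (totHodge CX CY).π ((totGr CX CY).P q w) ∈ (segAll (k := k) ℳ 𝒩).map (augE AX AY) := by
  obtain ⟨⟨i, d⟩, ⟨j, d'⟩⟩ := q
  have hij : i + j = 0 := hq.1
  have hdd : d = d' := hq.2
  obtain rfl : i = 0 := by omega
  obtain rfl : j = 0 := by omega
  subst hdd
  induction w using TensorProduct.induction_on with
  | zero => rw [map_zero, map_zero]; exact Submodule.zero_mem _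
  | tmul x y =>
    show TensorProduct.map CX.hodge.π CY.hodge.π
      (TensorProduct.map (CX.gr.P (0, d)) (CY.gr.P (0, d)) (x ⊗ₜ[k] y)) ∈ _
    rw [TensorProduct.map_tmul, TensorProduct.map_tmul]
    have ha1 : CX.c 0 (CX.hodge.π (CX.gr.P (0, d) x)) = CX.hodge.π (CX.gr.P (0, d) x) := by
      rw [CX.hodge.πP]
      exact CX.c_P (0, d) _
    have hb1 : CY.c 0 (CY.hodge.π (CY.gr.P (0, d) y)) = CY.hodge.π (CY.gr.P (0, d) y) := by
      rw [CY.hodge.πP]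
      exact CY.c_P (0, d) _
    obtain ⟨m, hm⟩ := AX.exact _ ha1 (CX.hodge.Dπ _)
    obtain ⟨n, hn⟩ := AY.exact _ hb1 (CY.hodge.Dπ _)
    have hmd : m ∈ ℳ d := by
      apply IsGrHom.mem_of_injective ℳ 𝒳 AX.ε_gr AX.ε_inj
      rw [hm, CX.hodge.πP]
      exact CX.P_mem (0, d) _
    have hnd : n ∈ 𝒩 d := by
      apply IsGrHom.mem_of_injective 𝒩 𝒴 AY.ε_gr AY.ε_inj
      rw [hn, CY.hodge.πP]
      exact CY.P_mem (0, d) _
    refine ⟨m ⊗ₜ[k] n, Submodule.mem_iSup_of_mem d (Submodule.subset_span ⟨m, hmd, n, hnd, rfl⟩), ?_⟩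
    rw [augE_tmul, hm, hn]
  | add w w' hw hw' => rw [map_add, map_add]; exact Submodule.add_mem _ hw hw'

/-- exactness of the augmented total complex in degree `0` -/
theorem exact_aug {u : X ⊗[k] Y} (hu : u ∈ (totGr CX CY).part (Deq 0))
    (hd : totDel CX CY u = 0) : u ∈ (segAll (k := k) ℳ 𝒩).map (augE AX AY) := by
  have h1 := (totHodge CX CY).decomp hd
  have h2 : (totHodge CX CY).s u = 0 :=
    tots_eq_zero ((totGr CX CY).part_mono
      (fun q (hq : q ∈ Deq 0) => (⟨hq.1, trivial⟩ : q ∈ Dall 0)) hu)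
  rw [h2, map_zero, add_zero] at h1
  rw [h1]
  rw [(totGr CX CY).mem_part_iff] at hu
  rw [← hu]
  have key : (totGr CX CY).sel (Deq 0) u ∈
      ((segAll (k := k) ℳ 𝒩).map (augE AX AY)).comap (totHodge CX CY).π :=
    (totGr CX CY).sel_mem _ _ (fun q hq w => harmonic_mem AX AY hq w) u
  exact key

variable (φ : P →ₗ[k] M ⊗[k] N) (hP : GrSeg.IsSegreMod ψ ℳ 𝒩 𝒬 φ)

include hP in
theorem phi_mem_segAll (p : P) : φ p ∈ segAll (k := k) ℳ 𝒩 := by
  classical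
  induction p using DirectSum.Decomposition.inductionOn 𝒬 with
  | zero => rw [map_zero]; exact Submodule.zero_mem _
  | @homogeneous d p =>
    exact Submodule.mem_iSup_of_mem d (phi_mem ℳ 𝒩 𝒬 ψ φ hP p.2)
  | add p p' hp hp' => rw [map_add]; exact Submodule.add_mem _ hp hp'

include hP in
theorem exists_phi_eq_of_mem_segAll {z : M ⊗[k] N} (hz : z ∈ segAll (k := k) ℳ 𝒩) :
    ∃ p : P, φ p = z := by
  induction hz using Submodule.iSup_induction' with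
  | mem d z hz =>
    obtain ⟨p, -, hp⟩ := exists_phi_eq ℳ 𝒩 𝒬 ψ φ hP hz
    exact ⟨p, hp⟩
  | zero => exact ⟨0, map_zero _⟩
  | add z z' _ _ hz hz' =>
    obtain ⟨p, hp⟩ := hz
    obtain ⟨p', hp'⟩ := hz'
    exact ⟨p + p', by rw [map_add, hp, hp']⟩

/-- the augmentation of the Segre total complex -/
noncomputable def segAug : P →ₗ[T] (segK 𝒯 ψ hT CX CY 0).carrier where
  toFun p := kMk 𝒯 ψ hT CX CY 0 (augE AX AY (φ p))
    (augE_mem_Deq AX AY (phi_mem_segAll ψ φ hP p))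
  map_add' p p' := by
    apply kV_injective
    rw [kV_kMk, kV_add, kV_kMk, kV_kMk, map_add, map_add]
  map_smul' t p := by
    apply kV_injective
    rw [kV_kMk, RingHom.id_apply, kV_smul, kV_kMk, hP.map_smul, augE_act]

theorem kV_segAug (p : P) :
    kV 𝒯 ψ hT CX CY 0 (segAug 𝒯 ψ hT AX AY φ hP p) = augE AX AY (φ p) := rfl

theorem segAug_grHom :
    IsGrHom (toSub 𝒬) (segK 𝒯 ψ hT CX CY 0).gr (segAug 𝒯 ψ hT AX AY φ hP) := by
  intro d p hp
  show kV 𝒯 ψ hT CX CY 0 (segAug 𝒯 ψ hT AX AY φ hP p) ∈ GrSeg.segrePiece k 𝒳 𝒴 d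
  rw [kV_segAug]
  exact ((mem_part_Dne_iff CX CY 0 d _).mp (augE_mem_Dne AX AY (phi_mem ℳ 𝒩 𝒬 ψ φ hP hp))).2

theorem segAug_injective : Function.Injective (segAug 𝒯 ψ hT AX AY φ hP) := by
  intro p p' h
  have h1 := congrArg (kV 𝒯 ψ hT CX CY 0) h
  rw [kV_segAug, kV_segAug] at h1
  exact hP.injective (augE_injective AX AY h1)

theorem range_segAug : LinearMap.range (segAug 𝒯 ψ hT AX AY φ hP) =
    LinearMap.ker (segDiff 𝒯 ψ hT CX CY 0) := by
  apply le_antisymm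
  · rintro _ ⟨p, rfl⟩
    rw [LinearMap.mem_ker]
    apply kV_injective 𝒯 ψ hT CX CY (0 + 1)
    show totDel CX CY (kV 𝒯 ψ hT CX CY 0 (segAug 𝒯 ψ hT AX AY φ hP p)) = 0
    rw [kV_segAug, totDel_augE]
  · intro z hz
    rw [LinearMap.mem_ker] at hz
    have hd : totDel CX CY (kV 𝒯 ψ hT CX CY 0 z) = 0 :=
      congrArg (kV 𝒯 ψ hT CX CY (0 + 1)) hz
    obtain ⟨w, hw, hwe⟩ := exact_aug AX AY (kV_mem 𝒯 ψ hT CX CY 0 z) hd
    obtain ⟨p, rfl⟩ := exists_phi_eq_of_mem_segAll ψ φ hP hw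
    exact ⟨p, kV_injective 𝒯 ψ hT CX CY 0 hwe⟩

variable (hTX : ∀ (i : ℕ) (x : X), CX.c (i + 1) x = x → CX.D x = 0 →
    ∃ n : ℕ, ∀ r ∈ irr 𝒜 ^ n, r • x ∈ LinearMap.range CX.D)
  (hTY : ∀ (i : ℕ) (y : Y), CY.c (i + 1) y = y → CY.D y = 0 →
    ∃ n : ℕ, ∀ r ∈ irr ℬ ^ n, r • y ∈ LinearMap.range CY.D)

include hTX hTY AX AY hP in
/-- **Künneth for Segre products**, module form -/
theorem seg_main [IsNoetherianRing R] [IsNoetherianRing S] [IsNoetherianRing T]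
    [IsNoetherianRing (R ⊗[k] S)] (a : HomogeneousIdeal (toSub 𝒯)) (ha : a.toIdeal = irr 𝒯)
    (hX : ∀ (B : Type u) (p : ℕ), Subsingleton (LocCoh.H (irr 𝒜) p (B →₀ X)))
    (hY : ∀ (B : Type u) (p : ℕ), Subsingleton (LocCoh.H (irr ℬ) p (B →₀ Y)))
    (EP : StarInjRes (toSub 𝒯) (toSub 𝒬)) :
    Subsingleton (EP.H a 0) ∧ Subsingleton (EP.H a 1) ∧
      ∀ n : ℕ, Nonempty (GrEquiv T (EP.Hgr a (n + 2)) ((segCx 𝒯 ψ hT CX CY).Hq n).gr) :=
  (segCx 𝒯 ψ hT CX CY).main (segCx_totAcyc 𝒯 ψ hT CX CY a ha hX hY)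
    (segCx_torCoh 𝒯 ψ hT CX CY hTX hTY a ha) (segAug 𝒯 ψ hT AX AY φ hP)
    (segAug_grHom 𝒯 ψ hT AX AY φ hP) (segAug_injective 𝒯 ψ hT AX AY φ hP)
    (range_segAug 𝒯 ψ hT AX AY φ hP) EP

end Aug

end Groth.Agent.Lib.Helper87.Kun
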