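import Groth.Agent.Lib.Helper87.Kun1

/-!
# Complexes of totally acyclic graded modules with torsion cohomology (helper87)

Let `C` be a cochain complex of graded modules over a Noetherian graded ring, `a` a homogeneous
ideal.  If all local cohomology modules `H^p_a(C^n)` vanish (`p ≥ 0`) and the cohomology modules
`H^{n+1}(C)` are `a`-torsion, then for `P = ker d^0` one has `H^0_a(P) = H^1_a(P) = 0` and
`H^{n+2}_a(P) ≅ H^{n+1}(C)` as graded modules (`CoCx.main`).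
-/

set_option autoImplicit false
universe u

namespace Groth.Agent.Lib.Helper87.Kun

open DirectSum GrLC Groth.Agent.Lib.Helper39 Groth.Agent.Lib.Helper39.GrLes
  Groth.Agent.Lib.Helper39.Ver Groth.Agent.Lib.Helper39.GrTop Groth.Agent.Lib.Helper39.GrKoszul

section
variable {ι : Type} [AddCommGroup ι] [DecidableEq ι]
  {R : Type u} [CommRing R] {𝒜 : ι → AddSubgroup R} [GradedRing 𝒜]

/-- a cochain complex of graded modules -/
structure CoCx (𝒜 : ι → AddSubgroup R) [GradedRing 𝒜] where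
  K : ℕ → GMod.{u} 𝒜
  d : ∀ n, (K n).carrier →ₗ[R] (K (n + 1)).carrier
  d_gr : ∀ n, IsGrHom (K n).gr (K (n + 1)).gr (d n)
  d_d : ∀ n z, d (n + 1) (d n z) = 0

namespace CoCx
variable (C : CoCx 𝒜)

theorem ker_hom (n : ℕ) : (LinearMap.ker (C.d n)).IsHomogeneous (C.K n).gr :=
  IsGrHom.ker_isHomogeneous (C.K n).gr (C.K (n + 1)).gr (C.d_gr n)

theorem range_hom (n : ℕ) : (LinearMap.range (C.d n)).IsHomogeneous (C.K (n + 1)).gr :=
  IsGrHom.range_isHomogeneous (C.K n).gr (C.K (n + 1)).gr (C.d_gr n)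

/-- cocycles -/
noncomputable def Z (n : ℕ) : GMod.{u} 𝒜 := gsub (C.K n) (LinearMap.ker (C.d n)) (C.ker_hom n)

/-- coboundaries (in degree `n + 1`) -/
noncomputable def B (n : ℕ) : GMod.{u} 𝒜 :=
  gsub (C.K (n + 1)) (LinearMap.range (C.d n)) (C.range_hom n)

/-- inclusion of the cocycles -/
noncomputable def zIncl (n : ℕ) : (C.Z n).carrier →ₗ[R] (C.K n).carrier := (LinearMap.ker (C.d n)).subtype

/-- inclusion of the coboundaries -/
noncomputable def bIncl (n : ℕ) : (C.B n).carrier →ₗ[R] (C.K (n + 1)).carrier :=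
  (LinearMap.range (C.d n)).subtype

/-- the differential as a map onto the coboundaries -/
noncomputable def dB (n : ℕ) : (C.K n).carrier →ₗ[R] (C.B n).carrier := (C.d n).rangeRestrict

theorem range_le_ker (n : ℕ) : LinearMap.range (C.d n) ≤ LinearMap.ker (C.d (n + 1)) := by
  rintro _ ⟨z, rfl⟩
  exact C.d_d n z

theorem zIncl_grHom (n : ℕ) : IsGrHom (C.Z n).gr (C.K n).gr (C.zIncl n) :=
  isGrHom_subtype (C.K n).gr (LinearMap.ker (C.d n))

/-- coboundaries inside the cocycles -/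
noncomputable def BZ (n : ℕ) : Submodule R (C.Z (n + 1)).carrier :=
  (LinearMap.range (C.d n)).comap (C.zIncl (n + 1))

theorem BZ_hom (n : ℕ) : (C.BZ n).IsHomogeneous (C.Z (n + 1)).gr := by
  intro g z hz
  show C.zIncl (n + 1) (decompose (C.Z (n + 1)).gr z g : (C.Z (n + 1)).carrier) ∈
    LinearMap.range (C.d n)
  have h1 := IsGrHom.decompose_apply (C.Z (n + 1)).gr (C.K (n + 1)).gr (C.zIncl_grHom (n + 1)) z g
  rw [← h1]
  exact C.range_hom n g hz

/-- the cohomology module `H^{n+1}(C)` as a graded module -/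
noncomputable def Hq (n : ℕ) : GMod.{u} 𝒜 := gquot (C.Z (n + 1)) (C.BZ n) (C.BZ_hom n)

/-- the class map -/
noncomputable def toHq (n : ℕ) : (C.Z (n + 1)).carrier →ₗ[R] (C.Hq n).carrier := (C.BZ n).mkQ

/-- coboundaries are cocycles -/
noncomputable def bz (n : ℕ) : (C.B n).carrier →ₗ[R] (C.Z (n + 1)).carrier :=
  Submodule.inclusion (C.range_le_ker n)

/-- `0 → Z^n → C^n → B^{n+1} → 0` -/
theorem ses1 (n : ℕ) : GrSES (C.Z n).gr (C.K n).gr (C.B n).gr (C.zIncl n) (C.dB n) :=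
  { i_grHom := C.zIncl_grHom n
    p_grHom := fun g x hx => C.d_gr n g x hx
    i_inj := Subtype.val_injective
    p_surj := LinearMap.surjective_rangeRestrict _
    exact := by
      show LinearMap.ker (C.d n).rangeRestrict = LinearMap.range (LinearMap.ker (C.d n)).subtype
      rw [LinearMap.ker_rangeRestrict, Submodule.range_subtype] }

/-- `0 → B^{n+1} → Z^{n+1} → H^{n+1} → 0` -/
theorem ses2 (n : ℕ) : GrSES (C.B n).gr (C.Z (n + 1)).gr (C.Hq n).gr (C.bz n) (C.toHq n) :=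
  { i_grHom := fun _ _ hx => hx
    p_grHom := isGrHom_mkQ (C.Z (n + 1)).gr (C.BZ n)
    i_inj := Submodule.inclusion_injective _
    p_surj := Submodule.mkQ_surjective _
    exact := by
      show LinearMap.ker (C.BZ n).mkQ = LinearMap.range (Submodule.inclusion (C.range_le_ker n))
      rw [Submodule.ker_mkQ, Submodule.range_inclusion]
      rfl }

end CoCx
end

section Main
variable {ι : Type} [AddCommGroup ι] [DecidableEq ι] [Module.Free ℤ ι] [Module.Finite ℤ ι]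
  {R : Type u} [CommRing R] [IsNoetherianRing R] {𝒜 : ι → AddSubgroup R} [GradedRing 𝒜]

/-- some *injective resolution -/
noncomputable def someRes (X : GMod.{u} 𝒜) : StarInjRes 𝒜 X.gr :=
  Classical.choice (Groth.Agent.S13215.result R 𝒜 X.carrier X.gr)

theorem H_subsingleton_of_lc (a : HomogeneousIdeal 𝒜) {M : Type u} [AddCommGroup M] [Module R M]
    {ℳ : ι → AddSubgroup M} [DirectSum.Decomposition ℳ] [SetLike.GradedSMul 𝒜 ℳ]
    (E : StarInjRes 𝒜 ℳ) (p : ℕ) (h : Subsingleton (LocCoh.H a.toIdeal p M)) :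
    Subsingleton (E.H a p) := by
  obtain ⟨e⟩ := Groth.Agent.S13224.result R 𝒜 a M ℳ E p
  exact e.injective.subsingleton

namespace CoCx
variable (C : CoCx 𝒜) (a : HomogeneousIdeal 𝒜)

/-- all local cohomology modules of all terms vanish -/
def TotAcyc : Prop := ∀ n p : ℕ, Subsingleton (LocCoh.H a.toIdeal p (C.K n).carrier)

/-- the cohomology in positive degrees is torsion -/
def TorCoh : Prop := ∀ (n : ℕ) (z : (C.K (n + 1)).carrier), C.d (n + 1) z = 0 →
  ∃ k : ℕ, ∀ r ∈ a.toIdeal ^ k, r • z ∈ LinearMap.range (C.d n)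

variable {C a}

theorem gam_K_eq_bot (hv : C.TotAcyc a) (n : ℕ) : gam a.toIdeal (C.K n).carrier = ⊥ :=
  (H_zero_subsingleton_iff (someRes (C.K n)) a).mp (H_subsingleton_of_lc a _ 0 (hv n 0))

theorem Z_H0 (hv : C.TotAcyc a) (n : ℕ) (EZ : StarInjRes 𝒜 (C.Z n).gr) :
    Subsingleton (EZ.H a 0) := by
  rw [H_zero_subsingleton_iff, eq_bot_iff]
  intro x hx
  have h1 : C.zIncl n x ∈ gam a.toIdeal (C.K n).carrier :=
    gam_map a.toIdeal (C.zIncl n) hx
  rw [gam_K_eq_bot hv n, Submodule.mem_bot] at h1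
  rw [Submodule.mem_bot]
  exact Subtype.ext h1

theorem B_H0 (hv : C.TotAcyc a) (n : ℕ) (EB : StarInjRes 𝒜 (C.B n).gr) :
    Subsingleton (EB.H a 0) := by
  rw [H_zero_subsingleton_iff, eq_bot_iff]
  intro x hx
  have h1 : C.bIncl n x ∈ gam a.toIdeal (C.K (n + 1)).carrier :=
    gam_map a.toIdeal (C.bIncl n) hx
  rw [gam_K_eq_bot hv (n + 1), Submodule.mem_bot] at h1
  rw [Submodule.mem_bot]
  exact Subtype.ext h1

theorem B_Z_succ (hv : C.TotAcyc a) (n p : ℕ) (EB : StarInjRes 𝒜 (C.B n).gr)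
    (EZ : StarInjRes 𝒜 (C.Z n).gr) :
    Nonempty (GrEquiv R (EB.Hgr a p) (EZ.Hgr a (p + 1))) :=
  nonempty_grEquiv_delta (C.ses1 n) EZ (someRes (C.K n)) EB a p
    (H_subsingleton_of_lc a _ p (hv n p)) (H_subsingleton_of_lc a _ (p + 1) (hv n (p + 1)))

theorem Z_H1 (hv : C.TotAcyc a) (n : ℕ) (EZ : StarInjRes 𝒜 (C.Z n).gr) :
    Subsingleton (EZ.H a 1) := by
  obtain ⟨f⟩ := B_Z_succ hv n 0 (someRes (C.B n)) EZ
  haveI := B_H0 hv n (someRes (C.B n))
  exact f.symm.subsingleton_of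

theorem Hq_torsion (ht : C.TorCoh a) (n : ℕ) (x : (C.Hq n).carrier) :
    ∃ k : ℕ, ∀ r ∈ a.toIdeal ^ k, r • x = 0 := by
  obtain ⟨z, rfl⟩ : ∃ z, C.toHq n z = x := Submodule.mkQ_surjective (C.BZ n) x
  obtain ⟨k, hk⟩ := ht n (C.zIncl (n + 1) z) z.2
  refine ⟨k, fun r hr => ?_⟩
  rw [← map_smul]
  show (C.BZ n).mkQ (r • z) = 0
  rw [Submodule.mkQ_apply, Submodule.Quotient.mk_eq_zero]
  show C.zIncl (n + 1) (r • z) ∈ LinearMap.range (C.d n)
  rw [map_smul]
  exact hk r hr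

theorem Hq_H (ht : C.TorCoh a) (n p : ℕ) (hp : 1 ≤ p) (EH : StarInjRes 𝒜 (C.Hq n).gr) :
    Subsingleton (EH.H a p) :=
  H_subsingleton_of_torsion a EH (Hq_torsion ht n) p hp

theorem Hq_B_one (hv : C.TotAcyc a) (ht : C.TorCoh a) (n : ℕ) (EB : StarInjRes 𝒜 (C.B n).gr) :
    Nonempty (GrEquiv R (C.Hq n).gr (EB.Hgr a 1)) := by
  obtain ⟨f⟩ := nonempty_grEquiv_h0_of_torsion (someRes (C.Hq n)) a (Hq_torsion ht n)
  obtain ⟨g⟩ := nonempty_grEquiv_delta (C.ses2 n) EB (someRes (C.Z (n + 1))) (someRes (C.Hq n)) a 0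
    (Z_H0 hv (n + 1) _) (Z_H1 hv (n + 1) _)
  exact ⟨f.trans g⟩

theorem B_Z_incl (ht : C.TorCoh a) (n p : ℕ) (EB : StarInjRes 𝒜 (C.B n).gr)
    (EZ : StarInjRes 𝒜 (C.Z (n + 1)).gr) :
    Nonempty (GrEquiv R (EB.Hgr a (p + 2)) (EZ.Hgr a (p + 2))) :=
  nonempty_grEquiv_incl (C.ses2 n) EB EZ (someRes (C.Hq n)) a (p + 1)
    (Hq_H ht n (p + 1) (by omega) _) (Hq_H ht n (p + 2) (by omega) _)

theorem main_Z (hv : C.TotAcyc a) (ht : C.TorCoh a) : ∀ (p m n : ℕ), n = m + p →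
    ∀ EZ : StarInjRes 𝒜 (C.Z m).gr, Nonempty (GrEquiv R (EZ.Hgr a (p + 2)) (C.Hq n).gr) := by
  intro p
  induction p with
  | zero =>
    intro m n hn EZ
    obtain rfl : n = m := by omega
    obtain ⟨f⟩ := B_Z_succ hv n 1 (someRes (C.B n)) EZ
    obtain ⟨g⟩ := Hq_B_one hv ht n (someRes (C.B n))
    exact ⟨f.symm.trans g.symm⟩
  | succ p ih =>
    intro m n hn EZ
    obtain ⟨f⟩ := B_Z_succ hv m (p + 2) (someRes (C.B m)) EZ
    obtain ⟨g⟩ := B_Z_incl ht m p (someRes (C.B m)) (someRes (C.Z (m + 1)))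
    obtain ⟨h⟩ := ih (m + 1) n (by omega) (someRes (C.Z (m + 1)))
    exact ⟨f.symm.trans (g.trans h)⟩

variable {P : Type u} [AddCommGroup P] [Module R P] {𝓟 : ι → AddSubgroup P}
  [DirectSum.Decomposition 𝓟] [SetLike.GradedSMul 𝒜 𝓟]

/-- an augmentation identifies `P` with the `0`-cocycles -/
theorem nonempty_grEquiv_aug (ε : P →ₗ[R] (C.K 0).carrier) (hε : IsGrHom 𝓟 (C.K 0).gr ε)
    (hinj : Function.Injective ε) (hex : LinearMap.range ε = LinearMap.ker (C.d 0)) :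
    Nonempty (GrEquiv R 𝓟 (C.Z 0).gr) := by
  let f : P →ₗ[R] (C.Z 0).carrier := LinearMap.codRestrict (LinearMap.ker (C.d 0)) ε
    (fun x => hex ▸ LinearMap.mem_range_self ε x)
  have hf : ∀ x, C.zIncl 0 (f x) = ε x := fun x => rfl
  have hb : Function.Bijective f := by
    constructor
    · intro x y hxy
      apply hinj
      rw [← hf x, ← hf y, hxy]
    · intro z
      have hz : C.zIncl 0 z ∈ LinearMap.range ε := by
        rw [hex]
        exact z.2
      obtain ⟨x, hx⟩ := hz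
      exact ⟨x, Subtype.ext hx⟩
  exact ⟨⟨LinearEquiv.ofBijective f hb, fun g x =>
    ⟨fun hx => hε g x hx, fun hx => IsGrHom.mem_of_injective 𝓟 (C.K 0).gr hε hinj hx⟩⟩⟩

/-- **Main theorem.** -/
theorem main (hv : C.TotAcyc a) (ht : C.TorCoh a) (ε : P →ₗ[R] (C.K 0).carrier)
    (hε : IsGrHom 𝓟 (C.K 0).gr ε) (hinj : Function.Injective ε)
    (hex : LinearMap.range ε = LinearMap.ker (C.d 0)) (E : StarInjRes 𝒜 𝓟) :
    Subsingleton (E.H a 0) ∧ Subsingleton (E.H a 1) ∧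
      ∀ n : ℕ, Nonempty (GrEquiv R (E.Hgr a (n + 2)) (C.Hq n).gr) := by
  obtain ⟨f⟩ := nonempty_grEquiv_aug ε hε hinj hex
  refine ⟨?_, ?_, fun n => ?_⟩
  · obtain ⟨g⟩ := nonempty_grEquiv_of_grEquiv f E (someRes (C.Z 0)) a 0
    haveI := Z_H0 hv 0 (someRes (C.Z 0))
    exact g.subsingleton_of
  · obtain ⟨g⟩ := nonempty_grEquiv_of_grEquiv f E (someRes (C.Z 0)) a 1
    haveI := Z_H1 hv 0 (someRes (C.Z 0))
    exact g.subsingleton_of
  · obtain ⟨g⟩ := nonempty_grEquiv_of_grEquiv f E (someRes (C.Z 0)) a (n + 2)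
    obtain ⟨h⟩ := main_Z hv ht n 0 n (by omega) (someRes (C.Z 0))
    exact ⟨g.trans h⟩

end CoCx

end Main

end Groth.Agent.Lib.Helper87.Kun
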