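import Groth.Agent.Lib.Helper87.Kun5
import Groth.Agent.Lib.Helper87.Kun2

/-!
# Counting the pieces of the cohomology of a complex by Hodge data (helper87)
-/

set_option autoImplicit false
universe u

namespace Groth.Agent.Lib.Helper87.Kun

open DirectSum GrLC Groth.Agent.Lib.Helper39

section PieceEquiv

variable {R : Type u} [CommRing R] (D₀ : Subring R)
  {M N : Type u} [AddCommGroup M] [Module R M] [AddCommGroup N] [Module R N]

/-- a linear equivalence matching two `R_0`-submodules restricts to an equivalence between them -/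
noncomputable def pieceEquiv (f : M ≃ₗ[R] N) (P : Submodule D₀ M) (Q : Submodule D₀ N)
    (h : ∀ x, x ∈ P ↔ f x ∈ Q) : P ≃ₗ[D₀] Q :=
  LinearEquiv.ofBijective
    ({ toFun := fun x => ⟨f (x : M), (h x).mp x.2⟩
       map_add' := fun x y => Subtype.ext (map_add f (x : M) (y : M))
       map_smul' := fun r x => Subtype.ext (by
        show f ((r : R) • (x : M)) = (r : R) • f (x : M)
        exact map_smul f _ _) } : P →ₗ[D₀] Q)
    ⟨fun x y hxy => Subtype.ext (f.injective (congrArg Subtype.val hxy)),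
      fun y => ⟨⟨f.symm y, (h _).mpr (by rw [f.apply_symm_apply]; exact y.2)⟩,
        Subtype.ext (f.apply_symm_apply y)⟩⟩

end PieceEquiv

section CompHom

theorem finrank_compHom {A B : Type*} [Ring A] [Ring B] (i : A →+* B)
    (hi : Function.Bijective i) (P : Type*) [AddCommGroup P] [Module B P] :
    @Module.finrank A P _ _ (Module.compHom P i) = Module.finrank B P := by
  letI := Module.compHom P i
  have h := rank_eq_of_equiv_equiv (R := A) (R' := B) (M := P) (M₁ := P) i (AddEquiv.refl P) hi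
    (fun r m => rfl)
  unfold Module.finrank
  rw [h]

theorem finite_compHom {A B : Type*} [Ring A] [Ring B] (i : A →+* B)
    (hi : Function.Surjective i) (P : Type*) [AddCommGroup P] [Module B P] [hP : Module.Finite B P] :
    @Module.Finite A P _ _ (Module.compHom P i) := by
  letI := Module.compHom P i
  obtain ⟨s, hs⟩ := hP.fg_top
  refine ⟨⟨s, ?_⟩⟩
  rw [eq_top_iff]
  rintro x -
  have hx : x ∈ Submodule.span B (s : Set P) := hs ▸ Submodule.mem_top
  induction hx using Submodule.span_induction with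
  | mem x hx => exact Submodule.subset_span hx
  | zero => exact zero_mem _
  | add x y _ _ hx hy => exact add_mem hx hy
  | smul b x _ hx =>
    obtain ⟨a, rfl⟩ := hi b
    exact Submodule.smul_mem _ a hx

end CompHom

section HodgeEquiv

variable {k : Type u} [Field k] {V : Type*} [AddCommGroup V] [Module k V]

/-- the cohomology of `D` on a subspace is the harmonic part -/
theorem Hodge.nonempty_equiv {D : V →ₗ[k] V} (H : Hodge D) (L L' : Submodule k V)
    (hπL : ∀ x ∈ L, H.π x ∈ L) (hsL : ∀ x ∈ L, H.s x ∈ L')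
    {Zc : Type*} [AddCommGroup Zc] [Module k Zc] (j : Zc →ₗ[k] V)
    (hrange : ∀ v, v ∈ LinearMap.range j ↔ D v = 0 ∧ v ∈ L)
    {Q : Type*} [AddCommGroup Q] [Module k Q] (cl : Zc →ₗ[k] Q) (hsurj : Function.Surjective cl)
    (hker : ∀ z, cl z = 0 ↔ j z ∈ L'.map D) :
    Nonempty (Q ≃ₗ[k] L.map H.π) := by
  have hjL : ∀ z, j z ∈ L := fun z => ((hrange _).mp ⟨z, rfl⟩).2
  have hjD : ∀ z, D (j z) = 0 := fun z => ((hrange _).mp ⟨z, rfl⟩).1
  let f : Zc →ₗ[k] ↥(L.map H.π) :=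
    LinearMap.codRestrict _ (H.π ∘ₗ j) (fun z => Submodule.mem_map_of_mem (hjL z))
  have hf : Function.Surjective f := by
    rintro ⟨_, x, hx, rfl⟩
    obtain ⟨z, hz⟩ := (hrange (H.π x)).mpr ⟨H.Dπ x, hπL x hx⟩
    refine ⟨z, Subtype.ext ?_⟩
    show H.π (j z) = H.π x
    rw [hz, H.ππ]
  have hk : LinearMap.ker f = LinearMap.ker cl := by
    ext z
    rw [LinearMap.mem_ker, LinearMap.mem_ker, hker]
    constructor
    · intro h
      have h1 : H.π (j z) = 0 := congrArg Subtype.val h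
      have h2 := H.decomp (hjD z)
      rw [h1, zero_add] at h2
      exact ⟨H.s (j z), hsL _ (hjL z), h2.symm⟩
    · rintro ⟨x, -, hx⟩
      apply Subtype.ext
      show H.π (j z) = 0
      rw [← hx, H.πD]
  have e1 := LinearMap.quotKerEquivOfSurjective f hf
  have e2 := LinearMap.quotKerEquivOfSurjective cl hsurj
  have e3 := Submodule.quotEquivOfEq _ _ hk
  exact ⟨e2.symm.trans (e3.symm.trans e1)⟩

end HodgeEquiv

section Kappa

variable {k : Type u} [Field k] {T : Type u} [CommRing T] [Algebra k T]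
  {𝒯' : ℤ → AddSubgroup T} [GradedRing 𝒯']

/-- the field of scalars inside the degree-zero subring -/
def kappa (hκ : ∀ c : k, algebraMap k T c ∈ 𝒯' 0) : k →+* deg0 𝒯' :=
  (algebraMap k T).codRestrict (deg0 𝒯') hκ

theorem coe_kappa (hκ : ∀ c : k, algebraMap k T c ∈ 𝒯' 0) (c : k) :
    ((kappa hκ c : deg0 𝒯') : T) = algebraMap k T c := rfl

theorem kappa_bijective [Nontrivial T] (hκ : ∀ c : k, algebraMap k T c ∈ 𝒯' 0)
    (hκs : ∀ r ∈ 𝒯' 0, ∃ c : k, algebraMap k T c = r) : Function.Bijective (kappa hκ) := by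
  constructor
  · intro c c' h
    exact (algebraMap k T).injective (congrArg Subtype.val h)
  · rintro ⟨r, hr⟩
    obtain ⟨c, hc⟩ := hκs r hr
    exact ⟨c, Subtype.ext hc⟩

end Kappa

section Count

variable {k : Type u} [Field k] {T : Type u} [CommRing T] [Algebra k T]
  {𝒯' : ℤ → AddSubgroup T} [GradedRing 𝒯']
  (hκ : ∀ c : k, algebraMap k T c ∈ 𝒯' 0) (hκb : Function.Bijective (kappa (𝒯' := 𝒯') hκ))
  (C : CoCx 𝒯') (n : ℕ) (e : ℤ)
  {V : Type u} [AddCommGroup V] [Module k V] {Dv : V →ₗ[k] V} (H : Hodge Dv)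

include hκb in
/-- the pieces of `H^{n+1}(C)` are counted by the harmonic part -/
theorem count_Hq
    (ι₀ : (C.K n).carrier →+ V) (ι₁ : (C.K (n + 1)).carrier →+ V)
    (ι₂ : (C.K (n + 1 + 1)).carrier →+ V)
    (hι₁ : Function.Injective ι₁) (hι₂ : Function.Injective ι₂)
    (h01 : ∀ z, ι₁ (C.d n z) = Dv (ι₀ z)) (h12 : ∀ z, ι₂ (C.d (n + 1) z) = Dv (ι₁ z))
    (hk₁ : ∀ (c : k) z, ι₁ (algebraMap k T c • z) = c • ι₁ z)
    (L₀ L₁ : Submodule k V)
    (hL₀ : ∀ v, v ∈ L₀ ↔ ∃ z ∈ (C.K n).gr e, ι₀ z = v)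
    (hL₁ : ∀ v, v ∈ L₁ ↔ ∃ z ∈ (C.K (n + 1)).gr e, ι₁ z = v)
    (hπ : ∀ v ∈ L₁, H.π v ∈ L₁) (hs : ∀ v ∈ L₁, H.s v ∈ L₀) :
    Module.finrank (deg0 𝒯') (comp 𝒯' (C.Hq n).gr e) = Module.finrank k (L₁.map H.π) ∧
      (Module.Finite (deg0 𝒯') (comp 𝒯' (C.Hq n).gr e) → Module.Finite k (L₁.map H.π)) := by
  classical
  letI kZ : Module k (comp 𝒯' (C.Z (n + 1)).gr e) := Module.compHom _ (kappa (𝒯' := 𝒯') hκ)
  letI kQ : Module k (comp 𝒯' (C.Hq n).gr e) := Module.compHom _ (kappa (𝒯' := 𝒯') hκ)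
  let j : comp 𝒯' (C.Z (n + 1)).gr e →ₗ[k] V :=
    { toFun := fun z => ι₁ (C.zIncl (n + 1) z.1)
      map_add' := fun z z' => by
        show ι₁ (C.zIncl (n + 1) (z.1 + z'.1)) = _
        rw [map_add, map_add]
      map_smul' := fun c z => by
        show ι₁ (C.zIncl (n + 1) (algebraMap k T c • z.1)) = c • ι₁ (C.zIncl (n + 1) z.1)
        rw [map_smul, hk₁] }
  let cl : comp 𝒯' (C.Z (n + 1)).gr e →ₗ[k] comp 𝒯' (C.Hq n).gr e :=
    { toFun := fun z => ⟨C.toHq n z.1, (C.ses2 n).p_grHom e z.1 z.2⟩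
      map_add' := fun z z' => Subtype.ext (map_add (C.toHq n) z.1 z'.1)
      map_smul' := fun c z => Subtype.ext (map_smul (C.toHq n) (algebraMap k T c) z.1) }
  have hrange : ∀ v, v ∈ LinearMap.range j ↔ Dv v = 0 ∧ v ∈ L₁ := by
    intro v
    constructor
    · rintro ⟨z, rfl⟩
      refine ⟨?_, (hL₁ _).mpr ⟨C.zIncl (n + 1) z.1, z.2, rfl⟩⟩
      show Dv (ι₁ (C.zIncl (n + 1) z.1)) = 0
      rw [← h12]
      have : C.d (n + 1) (C.zIncl (n + 1) z.1) = 0 := z.1.2
      rw [this, map_zero]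
    · rintro ⟨hd, hv⟩
      obtain ⟨w, hw, rfl⟩ := (hL₁ v).mp hv
      have hw0 : C.d (n + 1) w = 0 := by
        apply hι₂
        rw [h12, hd, map_zero]
      exact ⟨⟨⟨w, hw0⟩, hw⟩, rfl⟩
  have hsurj : Function.Surjective cl := by
    rintro ⟨q, hq⟩
    obtain ⟨z, hz, rfl⟩ : ∃ z ∈ (C.Z (n + 1)).gr e, C.toHq n z = q := hq
    exact ⟨⟨z, hz⟩, rfl⟩
  have hker : ∀ z, cl z = 0 ↔ j z ∈ L₀.map Dv := by
    intro z
    have h1 : cl z = 0 ↔ C.zIncl (n + 1) z.1 ∈ LinearMap.range (C.d n) := by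
      constructor
      · intro h
        have h2 : C.toHq n z.1 = 0 := congrArg Subtype.val h
        have h3 : (C.BZ n).mkQ z.1 = 0 := h2
        rw [Submodule.mkQ_apply, Submodule.Quotient.mk_eq_zero] at h3
        exact h3
      · intro h
        apply Subtype.ext
        show (C.BZ n).mkQ z.1 = 0
        rw [Submodule.mkQ_apply, Submodule.Quotient.mk_eq_zero]
        exact h
    rw [h1]
    constructor
    · rintro ⟨w, hw⟩
      have hze : C.zIncl (n + 1) z.1 ∈ (C.K (n + 1)).gr e := z.2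
      refine ⟨ι₀ (decompose (C.K n).gr w e : (C.K n).carrier),
        (hL₀ _).mpr ⟨_, SetLike.coe_mem _, rfl⟩, ?_⟩
      rw [← h01, ← IsGrHom.decompose_apply (C.K n).gr (C.K (n + 1)).gr (C.d_gr n), hw,
        decompose_of_mem_same _ hze]
      rfl
    · rintro ⟨v, hv, hvz⟩
      obtain ⟨w, -, rfl⟩ := (hL₀ v).mp hv
      refine ⟨w, hι₁ ?_⟩
      rw [h01]
      exact hvz
  obtain ⟨φ⟩ := H.nonempty_equiv L₁ L₀ hπ hs j hrange cl hsurj hker
  refine ⟨?_, fun hfin => ?_⟩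
  · rw [← φ.finrank_eq]
    exact (finrank_compHom (kappa (𝒯' := 𝒯') hκ) hκb _).symm
  · haveI : Module.Finite k (comp 𝒯' (C.Hq n).gr e) :=
      finite_compHom (kappa (𝒯' := 𝒯') hκ) hκb.2 _
    exact Module.Finite.equiv φ

include hκb in
/-- the pieces of `ker d^0` are counted by the harmonic part -/
theorem count_H0 {M : Type u} [AddCommGroup M] [Module T M] {ℳ : ℤ → AddSubgroup M}
    [DirectSum.Decomposition ℳ] [SetLike.GradedSMul 𝒯' ℳ]
    (ε : M →ₗ[T] (C.K 0).carrier) (hε : IsGrHom ℳ (C.K 0).gr ε) (hinj : Function.Injective ε)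
    (hex : LinearMap.range ε = LinearMap.ker (C.d 0))
    (ι₀ : (C.K 0).carrier →+ V) (ι₁ : (C.K (0 + 1)).carrier →+ V)
    (hι₀ : Function.Injective ι₀) (hι₁ : Function.Injective ι₁)
    (h01 : ∀ z, ι₁ (C.d 0 z) = Dv (ι₀ z))
    (hk₀ : ∀ (c : k) z, ι₀ (algebraMap k T c • z) = c • ι₀ z)
    (L₀ : Submodule k V)
    (hL₀ : ∀ v, v ∈ L₀ ↔ ∃ z ∈ (C.K 0).gr e, ι₀ z = v)
    (hπ : ∀ v ∈ L₀, H.π v ∈ L₀) (hs : ∀ v ∈ L₀, H.s v = 0) :
    Module.finrank (deg0 𝒯') (comp 𝒯' ℳ e) = Module.finrank k (L₀.map H.π) ∧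
      (Module.Finite (deg0 𝒯') (comp 𝒯' ℳ e) → Module.Finite k (L₀.map H.π)) := by
  classical
  letI kZ : Module k (comp 𝒯' ℳ e) := Module.compHom _ (kappa (𝒯' := 𝒯') hκ)
  let j : comp 𝒯' ℳ e →ₗ[k] V :=
    { toFun := fun z => ι₀ (ε z.1)
      map_add' := fun z z' => by
        show ι₀ (ε (z.1 + z'.1)) = _
        rw [map_add, map_add]
      map_smul' := fun c z => by
        show ι₀ (ε (algebraMap k T c • z.1)) = c • ι₀ (ε z.1)
        rw [map_smul, hk₀] }
  have hrange : ∀ v, v ∈ LinearMap.range j ↔ Dv v = 0 ∧ v ∈ L₀ := by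
    intro v
    constructor
    · rintro ⟨z, rfl⟩
      refine ⟨?_, (hL₀ _).mpr ⟨ε z.1, hε e z.1 z.2, rfl⟩⟩
      show Dv (ι₀ (ε z.1)) = 0
      rw [← h01]
      have : C.d 0 (ε z.1) = 0 := by
        have h1 : ε z.1 ∈ LinearMap.range ε := ⟨z.1, rfl⟩
        rw [hex] at h1
        exact h1
      rw [this, map_zero]
    · rintro ⟨hd, hv⟩
      obtain ⟨w, hw, rfl⟩ := (hL₀ v).mp hv
      have hw0 : w ∈ LinearMap.ker (C.d 0) := by
        rw [LinearMap.mem_ker]
        apply hι₁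
        rw [h01, hd, map_zero]
      rw [← hex] at hw0
      obtain ⟨m, rfl⟩ := hw0
      exact ⟨⟨m, IsGrHom.mem_of_injective ℳ (C.K 0).gr hε hinj hw⟩, rfl⟩
  have hker : ∀ z, (LinearMap.id : comp 𝒯' ℳ e →ₗ[k] comp 𝒯' ℳ e) z = 0 ↔
      j z ∈ (⊥ : Submodule k V).map Dv := by
    intro z
    rw [Submodule.map_bot, Submodule.mem_bot]
    constructor
    · intro h
      have h' : z = 0 := h
      rw [h', map_zero]
    · intro h
      have h1 : ι₀ (ε z.1) = ι₀ (ε 0) := by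
        rw [map_zero, map_zero]
        exact h
      exact Subtype.ext (hinj (hι₀ h1))
  have hsL : ∀ x ∈ L₀, H.s x ∈ (⊥ : Submodule k V) := fun x hx => by
    rw [Submodule.mem_bot]
    exact hs x hx
  obtain ⟨φ⟩ := H.nonempty_equiv L₀ ⊥ hπ hsL j hrange LinearMap.id
    (fun z => ⟨z, rfl⟩) hker
  refine ⟨?_, fun hfin => ?_⟩
  · rw [← φ.finrank_eq]
    exact (finrank_compHom (kappa (𝒯' := 𝒯') hκ) hκb _).symm
  · haveI : Module.Finite k (comp 𝒯' ℳ e) := finite_compHom (kappa (𝒯' := 𝒯') hκ) hκb.2 _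
    exact Module.Finite.equiv φ

end Count

end Groth.Agent.Lib.Helper87.Kun
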