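import Groth.Agent.Lib.Helper87.Kun17
import Groth.Agent.Lib.Helper87.Kun18

/-!
# The complex `Ē` of a module as packaged complex data; counting its cohomology (helper87)
-/

set_option autoImplicit false
universe u

namespace Groth.Agent.Lib.Helper87.Kun

open DirectSum TensorProduct GrLC
open Groth.Agent.Lib.Helper99 Groth.Agent.Lib.Helper39 Groth.Agent.Lib.Helper39.GrBridge
  Groth.Agent.Lib.Helper39.GrKoszul Groth.Agent.Lib.Helper60

section XSide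

variable {k : Type u} [Field k] {R : Type u} [CommRing R] [Algebra k R]
  (𝒜 : ℤ → Submodule k R) [GradedAlgebra 𝒜]
  {M : Type u} [AddCommGroup M] [Module R M]
  {ℳ : ℤ → AddSubgroup M} [DirectSum.Decomposition ℳ] [SetLike.GradedSMul 𝒜 ℳ]
  (EM : StarInjRes 𝒜 ℳ) (mR : HomogeneousIdeal 𝒜)

attribute [local instance] toSubGradedRing toSubDecomposition toSubGradedSMul

/-- the complex `Ē` of the module -/
noncomputable def xCx : CoCx (toSub 𝒜) := ebarCx (convRes EM) (convIdeal mR)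

/-- the complex `Ē`, packaged -/
noncomputable def xData : CxData 𝒜 (bigKGr k (xCx 𝒜 EM mR)) :=
  bigCxData (k := k) 𝒜 (xCx 𝒜 EM mR)

theorem kappa_mem (c : k) : algebraMap k R c ∈ toSub 𝒜 0 :=
  SetLike.algebraMap_mem_graded 𝒜 c

theorem kappa_bij [Nontrivial R] (h0R : 𝒜 0 = Submodule.span k {(1 : R)}) :
    Function.Bijective (kappa (𝒯' := toSub 𝒜) (kappa_mem 𝒜)) := by
  refine kappa_bijective (kappa_mem 𝒜) (fun r hr => ?_)
  have hr' : r ∈ 𝒜 0 := hr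
  rw [h0R, Submodule.mem_span_singleton] at hr'
  obtain ⟨c, rfl⟩ := hr'
  exact ⟨c, Algebra.algebraMap_eq_smul_one c⟩

variable (h0 : Subsingleton (EM.H mR 0)) (h1 : Subsingleton (EM.H mR 1))

/-- the augmentation of `Ē` -/
noncomputable def xAug : AugData (xData (k := k) 𝒜 EM mR) ℳ where
  ε := lofK k (xCx 𝒜 EM mR) 0 ∘ₗ ebarε (convRes EM) (convIdeal mR)
  ε_gr := fun g m hm =>
    lofG_grHom (xCx 𝒜 EM mR).K 0 g _ (ebarε_grHom (convRes EM) (convIdeal mR) g m hm)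
  ε_inj := (lofK_injective 𝒜 (xCx 𝒜 EM mR) 0).comp
    (ebarε_injective (convRes EM) (convIdeal mR)
      ((H_zero_subsingleton_iff (convRes EM) (convIdeal mR)).mp h0))
  c0 := fun x => bigc_lofK k (xCx 𝒜 EM mR) 0 _
  D0 := fun x => by
    show bigD k (xCx 𝒜 EM mR) (lofK k (xCx 𝒜 EM mR) 0
      (ebarε (convRes EM) (convIdeal mR) x)) = 0
    rw [bigD_lofK]
    have h2 : ebarε (convRes EM) (convIdeal mR) x ∈
        LinearMap.range (ebarε (convRes EM) (convIdeal mR)) := ⟨x, rfl⟩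
    rw [range_ebarε (convRes EM) (convIdeal mR) h1] at h2
    have h3 : (xCx 𝒜 EM mR).d 0 (ebarε (convRes EM) (convIdeal mR) x) = 0 := h2
    rw [h3, map_zero]
  exact := fun x hx hD => by
    have h2 : x = lofK k (xCx 𝒜 EM mR) 0 (compK k (xCx 𝒜 EM mR) 0 x) :=
      eq_lofK_of_bigc 𝒜 (xCx 𝒜 EM mR) hx
    have h3 : (xCx 𝒜 EM mR).d 0 (compK k (xCx 𝒜 EM mR) 0 x) = 0 := by
      apply lofK_injective 𝒜 (xCx 𝒜 EM mR) (0 + 1)
      rw [← bigD_lofK, ← h2, map_zero]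
      exact hD
    have h4 : compK k (xCx 𝒜 EM mR) 0 x ∈
        LinearMap.range (ebarε (convRes EM) (convIdeal mR)) := by
      rw [range_ebarε (convRes EM) (convIdeal mR) h1]
      exact h3
    obtain ⟨m, hm⟩ := h4
    refine ⟨m, ?_⟩
    show lofK k (xCx 𝒜 EM mR) 0 (ebarε (convRes EM) (convIdeal mR) m) = x
    rw [hm, ← h2]

theorem xData_lc [IsNoetherianRing R] (hmR : mR.toIdeal = irr 𝒜) (B : Type u) (p : ℕ) :
    Subsingleton (LocCoh.H (irr 𝒜) p (B →₀ BigK k (xCx 𝒜 EM mR))) := by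
  rw [← hmR]
  exact big_ebar_lc_subsingleton (convRes EM) (convIdeal mR) B p

theorem xData_tor (hmR : mR.toIdeal = irr 𝒜) (i : ℕ) (x : BigK k (xCx 𝒜 EM mR))
    (hx : (xData (k := k) 𝒜 EM mR).c (i + 1) x = x) (hD : (xData (k := k) 𝒜 EM mR).D x = 0) :
    ∃ n : ℕ, ∀ r ∈ irr 𝒜 ^ n, r • x ∈ LinearMap.range (xData (k := k) 𝒜 EM mR).D := by
  rw [← hmR]
  exact bigCxData_tor 𝒜 (xCx 𝒜 EM mR) (convIdeal mR)
    (ebar_torCoh (convRes EM) (convIdeal mR)) i x hx hD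

/-- the inclusion of a term as an additive map -/
noncomputable def xι (m : ℕ) : ((xCx 𝒜 EM mR).K m).carrier →+ BigK k (xCx 𝒜 EM mR) :=
  (lofK k (xCx 𝒜 EM mR) m).toAddMonoidHom

theorem xι_apply (m : ℕ) (z : ((xCx 𝒜 EM mR).K m).carrier) :
    xι (k := k) 𝒜 EM mR m z = lofK k (xCx 𝒜 EM mR) m z := rfl

theorem mem_range_P_iff (m : ℕ) (e : ℤ) (v : BigK k (xCx 𝒜 EM mR)) :
    v ∈ LinearMap.range ((xData (k := k) 𝒜 EM mR).gr.P (m, e)) ↔
      ∃ z ∈ ((xCx 𝒜 EM mR).K m).gr e, xι (k := k) 𝒜 EM mR m z = v := by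
  constructor
  · rintro ⟨w, rfl⟩
    refine ⟨compK k (xCx 𝒜 EM mR) m (prK 𝒜 (bigKGr k (xCx 𝒜 EM mR)) e w),
      compG_grHom (xCx 𝒜 EM mR).K m e _
        (prK_mem (𝒜 := 𝒜) (𝒳 := bigKGr k (xCx 𝒜 EM mR)) e w), rfl⟩
  · rintro ⟨z, hz, rfl⟩
    refine ⟨lofK k (xCx 𝒜 EM mR) m z, ?_⟩
    show bigc k (xCx 𝒜 EM mR) m (prK 𝒜 (bigKGr k (xCx 𝒜 EM mR)) e
      (lofK k (xCx 𝒜 EM mR) m z)) = lofK k (xCx 𝒜 EM mR) m z
    have hmem : lofK k (xCx 𝒜 EM mR) m z ∈ bigKGr k (xCx 𝒜 EM mR) e :=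
      lofG_grHom (xCx 𝒜 EM mR).K m e z hz
    rw [prK_of_mem hmem, bigc_lofK]

include h0 h1 in
/-- the harmonic part in positive degrees counts the local cohomology -/
theorem x_count_succ [Nontrivial R] [IsNoetherianRing R]
    (h0R : 𝒜 0 = Submodule.span k {(1 : R)}) (i : ℕ) (e : ℤ) :
    Module.finrank (deg0 𝒜) (EM.Hcomp mR (i + 2) e) =
        Module.finrank k (LinearMap.range ((xData (k := k) 𝒜 EM mR).hodge.π ∘ₗ
          (xData (k := k) 𝒜 EM mR).gr.P (i + 1, e))) ∧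
      (Module.Finite (deg0 𝒜) (EM.Hcomp mR (i + 2) e) →
        Module.Finite k (LinearMap.range ((xData (k := k) 𝒜 EM mR).hodge.π ∘ₗ
          (xData (k := k) 𝒜 EM mR).gr.P (i + 1, e)))) := by
  obtain ⟨g⟩ := ebar_main (convRes EM) (convIdeal mR) h0 h1 i
  have hc := count_Hq (kappa_mem 𝒜) (kappa_bij 𝒜 h0R) (xCx 𝒜 EM mR) i e
    (xData (k := k) 𝒜 EM mR).hodge.toHodge
    (xι 𝒜 EM mR i) (xι 𝒜 EM mR (i + 1)) (xι 𝒜 EM mR (i + 1 + 1))
    (lofK_injective 𝒜 (xCx 𝒜 EM mR) (i + 1)) (lofK_injective 𝒜 (xCx 𝒜 EM mR) (i + 1 + 1))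
    (fun z => (bigD_lofK k (xCx 𝒜 EM mR) i z).symm)
    (fun z => (bigD_lofK k (xCx 𝒜 EM mR) (i + 1) z).symm)
    (fun c z => by
      rw [xι_apply, xι_apply, map_smul, algebraMap_smul])
    (LinearMap.range ((xData (k := k) 𝒜 EM mR).gr.P (i, e)))
    (LinearMap.range ((xData (k := k) 𝒜 EM mR).gr.P (i + 1, e)))
    (mem_range_P_iff 𝒜 EM mR i e) (mem_range_P_iff 𝒜 EM mR (i + 1) e)
    (by
      rintro _ ⟨w, rfl⟩
      exact ⟨_, ((xData (k := k) 𝒜 EM mR).hodge.πP (i + 1, e) w).symm⟩)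
    (by
      rintro _ ⟨w, rfl⟩
      exact ⟨_, ((xData (k := k) 𝒜 EM mR).hodge.sP (i, e) w).symm⟩)
  rw [LinearMap.range_comp]
  let φ := pieceEquiv (deg0 (toSub 𝒜)) g.e ((convRes EM).Hcomp (convIdeal mR) (i + 2) e)
    (comp (toSub 𝒜) ((ebarCx (convRes EM) (convIdeal mR)).Hq i).gr e) (fun x => g.mem_iff e x)
  refine ⟨?_, fun hfin => ?_⟩
  · exact φ.finrank_eq.trans hc.1
  · refine hc.2 ?_
    haveI : Module.Finite (deg0 (toSub 𝒜)) ((convRes EM).Hcomp (convIdeal mR) (i + 2) e) := hfin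
    exact Module.Finite.equiv φ

include h0 h1 in
/-- the harmonic part in degree zero counts the module itself -/
theorem x_count_zero [Nontrivial R] [IsNoetherianRing R]
    (h0R : 𝒜 0 = Submodule.span k {(1 : R)}) (e : ℤ) :
    Module.finrank (deg0 𝒜) (comp 𝒜 ℳ e) =
        Module.finrank k (LinearMap.range ((xData (k := k) 𝒜 EM mR).hodge.π ∘ₗ
          (xData (k := k) 𝒜 EM mR).gr.P (0, e))) ∧
      (Module.Finite (deg0 𝒜) (comp 𝒜 ℳ e) →
        Module.Finite k (LinearMap.range ((xData (k := k) 𝒜 EM mR).hodge.π ∘ₗ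
          (xData (k := k) 𝒜 EM mR).gr.P (0, e)))) := by
  have hc := count_H0 (ℳ := toSub ℳ) (kappa_mem 𝒜) (kappa_bij 𝒜 h0R) (xCx 𝒜 EM mR) e
    (xData (k := k) 𝒜 EM mR).hodge.toHodge
    (ebarε (convRes EM) (convIdeal mR)) (ebarε_grHom (convRes EM) (convIdeal mR))
    (ebarε_injective (convRes EM) (convIdeal mR)
      ((H_zero_subsingleton_iff (convRes EM) (convIdeal mR)).mp h0))
    (range_ebarε (convRes EM) (convIdeal mR) h1)
    (xι 𝒜 EM mR 0) (xι 𝒜 EM mR (0 + 1))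
    (lofK_injective 𝒜 (xCx 𝒜 EM mR) 0) (lofK_injective 𝒜 (xCx 𝒜 EM mR) (0 + 1))
    (fun z => (bigD_lofK k (xCx 𝒜 EM mR) 0 z).symm)
    (fun c z => by
      rw [xι_apply, xι_apply, map_smul, algebraMap_smul])
    (LinearMap.range ((xData (k := k) 𝒜 EM mR).gr.P (0, e)))
    (mem_range_P_iff 𝒜 EM mR 0 e)
    (by
      rintro _ ⟨w, rfl⟩
      exact ⟨_, ((xData (k := k) 𝒜 EM mR).hodge.πP (0, e) w).symm⟩)
    (by
      rintro _ ⟨w, rfl⟩
      exact (xData (k := k) 𝒜 EM mR).hodge.sP0 (0, e) (CxData.not_mem_range_θ e) w)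
  rw [LinearMap.range_comp]
  exact hc

end XSide

end Groth.Agent.Lib.Helper87.Kun
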