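import Groth.Agent.Lib.Helper87.Kun17
import Groth.Agent.Lib.Helper87.Kun18

/-!
# Counting the cohomology of the Segre total complex (helper87)
-/

set_option autoImplicit false
universe u v w

namespace Groth.Agent.Lib.Helper87.Kun

open DirectSum TensorProduct GrLC
open Groth.Agent.Lib.Helper99 Groth.Agent.Lib.Helper39 Groth.Agent.Lib.Helper39.GrBridge
  Groth.Agent.Lib.Helper39.GrKoszul Groth.Agent.Lib.Helper87.SegOne Groth.Agent.Lib.Helper60

section SelFinset

variable {k : Type u} [Field k] {V : Type v} [AddCommGroup V] [Module k V] {Λ : Type w}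
  (G : ProjGr k V Λ)

theorem ProjGr.sel_finset [DecidableEq Λ] (s : Finset Λ) (x : V) :
    G.sel (↑s) x = ∑ l ∈ s, G.P l x := by
  classical
  refine G.induction (motive := fun x => G.sel (↑s) x = ∑ l ∈ s, G.P l x) (by simp)
    (fun x y hx hy => by rw [map_add, hx, hy, ← Finset.sum_add_distrib]; simp only [map_add])
    (fun l x hx => ?_) x
  rw [G.sel_hom _ hx]
  have h1 : ∀ l' ∈ s, G.P l' x = if l' = l then x else 0 := fun l' _ => by
    by_cases h : l' = l
    · subst h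
      rw [if_pos rfl, hx]
    · rw [if_neg h, ← hx, G.orth l' l h]
  rw [Finset.sum_congr rfl h1, Finset.sum_ite_eq' s l]
  by_cases hl : l ∈ s
  · rw [if_pos hl, if_pos (Finset.mem_coe.mpr hl)]
  · rw [if_neg hl, if_neg (fun h => hl (Finset.mem_coe.mp h))]

end SelFinset

section Count

variable {k : Type u} [Field k] {V : Type u} [AddCommGroup V] [Module k V]
  {W : Type u} [AddCommGroup W] [Module k W]

theorem finite_range_map (p : V →ₗ[k] V) (p' : W →ₗ[k] W)
    [Module.Finite k (LinearMap.range p)] [Module.Finite k (LinearMap.range p')] :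
    Module.Finite k (LinearMap.range (TensorProduct.map p p')) := by
  have h1 : TensorProduct.map p p' =
      TensorProduct.map (LinearMap.range p).subtype (LinearMap.range p').subtype ∘ₗ
        TensorProduct.map p.rangeRestrict p'.rangeRestrict := by
    rw [← TensorProduct.map_comp]
    rfl
  have h2 : Function.Surjective (TensorProduct.map p.rangeRestrict p'.rangeRestrict) :=
    TensorProduct.map_surjective (LinearMap.surjective_rangeRestrict p)
      (LinearMap.surjective_rangeRestrict p')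
  have h4 : LinearMap.range (TensorProduct.map p p') =
      LinearMap.range (TensorProduct.map (LinearMap.range p).subtype (LinearMap.range p').subtype) := by
    rw [h1, LinearMap.range_comp, LinearMap.range_eq_top.mpr h2, Submodule.map_top]
  rw [h4]
  exact Module.Finite.range _

end Count

section TCount

variable {k : Type u} [Field k] {R S T : Type u} [CommRing R] [CommRing S] [CommRing T]
  [Algebra k R] [Algebra k S] [Algebra k T]
  {𝒜 : ℤ → Submodule k R} [GradedAlgebra 𝒜] {ℬ : ℤ → Submodule k S} [GradedAlgebra ℬ]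
  (𝒯 : ℤ → Submodule k T) [GradedAlgebra 𝒯]
  (ψ : T →ₐ[k] R ⊗[k] S) (hT : GrSeg.IsSegreRing 𝒜 ℬ 𝒯 ψ)
  {X Y : Type u} [AddCommGroup X] [Module R X] [Module k X] [IsScalarTower k R X]
  [AddCommGroup Y] [Module S Y] [Module k Y] [IsScalarTower k S Y]
  {𝒳 : ℤ → AddSubgroup X} [DirectSum.Decomposition 𝒳] [SetLike.GradedSMul 𝒜 𝒳]
  {𝒴 : ℤ → AddSubgroup Y} [DirectSum.Decomposition 𝒴] [SetLike.GradedSMul ℬ 𝒴]
  (CX : CxData 𝒜 𝒳) (CY : CxData ℬ 𝒴)

attribute [local instance] toSubGradedRing toSubDecomposition toSubGradedSMul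

/-- the underlying tensor as an additive map -/
noncomputable def kVHom (m : ℕ) : (segK 𝒯 ψ hT CX CY m).carrier →+ X ⊗[k] Y where
  toFun := kV 𝒯 ψ hT CX CY m
  map_zero' := kV_zero 𝒯 ψ hT CX CY m
  map_add' := kV_add 𝒯 ψ hT CX CY m

theorem kVHom_apply (m : ℕ) (z : (segK 𝒯 ψ hT CX CY m).carrier) :
    kVHom 𝒯 ψ hT CX CY m z = kV 𝒯 ψ hT CX CY m z := rfl

theorem act_algebraMap (c : k) (u : X ⊗[k] Y) :
    GrSeg.act k R S X Y (algebraMap k (R ⊗[k] S) c) u = c • u := by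
  rw [Algebra.algebraMap_eq_smul_one, map_smul, LinearMap.smul_apply, act_one]

theorem kV_algebraMap_smul (m : ℕ) (c : k) (z : (segK 𝒯 ψ hT CX CY m).carrier) :
    kV 𝒯 ψ hT CX CY m (algebraMap k T c • z) = c • kV 𝒯 ψ hT CX CY m z := by
  rw [kV_smul, AlgHom.commutes, act_algebraMap]

theorem mem_part_Dne_iff_exists (m : ℕ) (e : ℤ) (v : X ⊗[k] Y) :
    v ∈ (totGr CX CY).part (Dne m e) ↔
      ∃ z ∈ (segK 𝒯 ψ hT CX CY m).gr e, kVHom 𝒯 ψ hT CX CY m z = v := by
  constructor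
  · intro hv
    obtain ⟨h1, h2⟩ := (mem_part_Dne_iff CX CY m e v).mp hv
    exact ⟨kMk 𝒯 ψ hT CX CY m v h1, h2, rfl⟩
  · rintro ⟨z, hz, rfl⟩
    exact (mem_part_Dne_iff CX CY m e _).mpr ⟨kV_mem 𝒯 ψ hT CX CY m z, hz⟩

theorem kappaT_mem (c : k) : algebraMap k T c ∈ toSub 𝒯 0 :=
  SetLike.algebraMap_mem_graded 𝒯 c

theorem kappaT_bij [Nontrivial T] (h0T : 𝒯 0 = Submodule.span k {(1 : T)}) :
    Function.Bijective (kappa (𝒯' := toSub 𝒯) (kappaT_mem 𝒯)) := by
  refine kappa_bijective (kappaT_mem 𝒯) (fun r hr => ?_)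
  have hr' : r ∈ 𝒯 0 := hr
  rw [h0T, Submodule.mem_span_singleton] at hr'
  obtain ⟨c, rfl⟩ := hr'
  exact ⟨c, Algebra.algebraMap_eq_smul_one c⟩

/-- the pieces of the cohomology of the Segre total complex are counted by the harmonic part -/
theorem t_count [Nontrivial T] (h0T : 𝒯 0 = Submodule.span k {(1 : T)}) (n : ℕ) (e : ℤ)
    {P : Type u} [AddCommGroup P] [Module T P] {𝓟 : ℤ → AddSubgroup P}
    [DirectSum.Decomposition 𝓟] [SetLike.GradedSMul (toSub 𝒯) 𝓟]
    (EP : StarInjRes (toSub 𝒯) 𝓟) (a : HomogeneousIdeal (toSub 𝒯))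
    (g : GrEquiv T (EP.Hgr a (n + 2)) ((segCx 𝒯 ψ hT CX CY).Hq n).gr) :
    Module.finrank (deg0 (toSub 𝒯)) (EP.Hcomp a (n + 2) e) =
      Module.finrank k (((totGr CX CY).part (Dne (n + 1) e)).map (totHodge CX CY).π) := by
  have hc := count_Hq (kappaT_mem 𝒯) (kappaT_bij 𝒯 h0T) (segCx 𝒯 ψ hT CX CY) n e
    (totHodge CX CY)
    (kVHom 𝒯 ψ hT CX CY n) (kVHom 𝒯 ψ hT CX CY (n + 1)) (kVHom 𝒯 ψ hT CX CY (n + 1 + 1))
    (kV_injective 𝒯 ψ hT CX CY (n + 1)) (kV_injective 𝒯 ψ hT CX CY (n + 1 + 1))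
    (fun z => kV_segDiff 𝒯 ψ hT CX CY n z) (fun z => kV_segDiff 𝒯 ψ hT CX CY (n + 1) z)
    (fun c z => kV_algebraMap_smul 𝒯 ψ hT CX CY (n + 1) c z)
    ((totGr CX CY).part (Dne n e)) ((totGr CX CY).part (Dne (n + 1) e))
    (mem_part_Dne_iff_exists 𝒯 ψ hT CX CY n e) (mem_part_Dne_iff_exists 𝒯 ψ hT CX CY (n + 1) e)
    (fun v hv => by
      rw [(totGr CX CY).mem_part_iff] at hv ⊢
      rw [sel_totπ, hv])
    (fun v hv => by
      rw [(totGr CX CY).mem_part_iff] at hv ⊢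
      rw [sel_tots, hv])
  let φ := pieceEquiv (deg0 (toSub 𝒯)) g.e (EP.Hcomp a (n + 2) e)
    (comp (toSub 𝒯) ((segCx 𝒯 ψ hT CX CY).Hq n).gr e) (fun x => g.mem_iff e x)
  exact φ.finrank_eq.trans hc.1

/-! ### the harmonic part of the total complex -/

/-- the harmonic projector of bidegree `((i, e), (j, e))` -/
noncomputable def harmQ (e : ℤ) (i j : ℕ) : X ⊗[k] Y →ₗ[k] X ⊗[k] Y :=
  TensorProduct.map (CX.hodge.π ∘ₗ CX.gr.P (i, e)) (CY.hodge.π ∘ₗ CY.gr.P (j, e))

theorem harmQ_apply (e : ℤ) (i j : ℕ) (u : X ⊗[k] Y) :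
    harmQ CX CY e i j u = (totHodge CX CY).π ((totGr CX CY).P ((i, e), (j, e)) u) := by
  show TensorProduct.map (CX.hodge.π ∘ₗ CX.gr.P (i, e)) (CY.hodge.π ∘ₗ CY.gr.P (j, e)) u =
    TensorProduct.map CX.hodge.π CY.hodge.π
      (TensorProduct.map (CX.gr.P (i, e)) (CY.gr.P (j, e)) u)
  rw [TensorProduct.map_comp]
  rfl

theorem CxData.πP_πP (C : CxData 𝒜 𝒳) (l l' : ℕ × ℤ) (x : X) :
    C.hodge.π (C.gr.P l (C.hodge.π (C.gr.P l' x))) =
      if l = l' then C.hodge.π (C.gr.P l' x) else 0 := by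
  rw [C.hodge.πP l, C.hodge.ππ, ← C.hodge.πP l]
  by_cases h : l = l'
  · subst h
    rw [if_pos rfl, C.gr.same]
  · rw [if_neg h, C.gr.orth l l' h, map_zero]

theorem harmQ_harmQ (e : ℤ) (i j i' j' : ℕ) (u : X ⊗[k] Y) :
    harmQ CX CY e i j (harmQ CX CY e i' j' u) =
      if i = i' ∧ j = j' then harmQ CX CY e i' j' u else 0 := by
  induction u using TensorProduct.induction_on with
  | zero => simp
  | tmul x y =>
    show TensorProduct.map (CX.hodge.π ∘ₗ CX.gr.P (i, e)) (CY.hodge.π ∘ₗ CY.gr.P (j, e))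
      (TensorProduct.map (CX.hodge.π ∘ₗ CX.gr.P (i', e)) (CY.hodge.π ∘ₗ CY.gr.P (j', e))
        (x ⊗ₜ[k] y)) = if i = i' ∧ j = j' then
      TensorProduct.map (CX.hodge.π ∘ₗ CX.gr.P (i', e)) (CY.hodge.π ∘ₗ CY.gr.P (j', e))
        (x ⊗ₜ[k] y) else 0
    rw [TensorProduct.map_tmul, TensorProduct.map_tmul]
    simp only [LinearMap.comp_apply]
    rw [CX.πP_πP, CY.πP_πP]
    simp only [Prod.mk.injEq, and_true]
    by_cases hi : i = i' <;> by_cases hj : j = j' <;> simp [hi, hj]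
  | add u u' hu hu' =>
    rw [map_add, map_add, hu, hu']
    split_ifs <;> simp

theorem Dne_eq_image (m : ℕ) (e : ℤ) :
    Dne m e = ↑((Finset.range (m + 1)).image (fun i => (((i, e), (m - i, e)) : Idx))) := by
  ext q
  rw [Finset.mem_coe, Finset.mem_image]
  constructor
  · rintro ⟨h1, h2, h3⟩
    refine ⟨q.1.1, Finset.mem_range.mpr (by omega), ?_⟩
    obtain ⟨⟨i, d⟩, ⟨j, d'⟩⟩ := q
    simp only at h1 h2 h3
    subst h2 h3
    have : m - i = j := by omega
    rw [this]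
  · rintro ⟨i, hi, rfl⟩
    have := Finset.mem_range.mp hi
    exact ⟨by show i + (m - i) = m; omega, rfl, rfl⟩

theorem sel_Dne_eq_sum (m : ℕ) (e : ℤ) (u : X ⊗[k] Y) :
    (totHodge CX CY).π ((totGr CX CY).sel (Dne m e) u) =
      ∑ i ∈ Finset.range (m + 1), harmQ CX CY e i (m - i) u := by
  classical
  rw [Dne_eq_image, (totGr CX CY).sel_finset, Finset.sum_image, map_sum]
  · exact Finset.sum_congr rfl fun i _ => (harmQ_apply CX CY e i (m - i) u).symm
  · intro i _ i' _ h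
    have := congrArg (fun q : Idx => q.1.1) h
    exact this

/-- the dimension of the harmonic part of total degree `m` and internal degree `e` -/
theorem finrank_harmonic (m : ℕ) (e : ℤ)
    (hfX : ∀ i, Module.Finite k (LinearMap.range (CX.hodge.π ∘ₗ CX.gr.P (i, e))))
    (hfY : ∀ j, Module.Finite k (LinearMap.range (CY.hodge.π ∘ₗ CY.gr.P (j, e)))) :
    Module.finrank k (((totGr CX CY).part (Dne m e)).map (totHodge CX CY).π) =
      ∑ i ∈ Finset.range (m + 1),
        Module.finrank k (LinearMap.range (CX.hodge.π ∘ₗ CX.gr.P (i, e))) *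
          Module.finrank k (LinearMap.range (CY.hodge.π ∘ₗ CY.gr.P (m - i, e))) := by
  classical
  have h1 : ((totGr CX CY).part (Dne m e)).map (totHodge CX CY).π =
      LinearMap.range (∑ i ∈ Finset.range (m + 1), harmQ CX CY e i (m - i)) := by
    ext v
    constructor
    · rintro ⟨_, ⟨u, rfl⟩, rfl⟩
      refine ⟨u, ?_⟩
      rw [LinearMap.sum_apply]
      exact (sel_Dne_eq_sum CX CY m e u).symm
    · rintro ⟨u, rfl⟩
      refine ⟨(totGr CX CY).sel (Dne m e) u, (totGr CX CY).sel_mem_part _ _, ?_⟩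
      rw [LinearMap.sum_apply]
      exact sel_Dne_eq_sum CX CY m e u
  rw [h1]
  have h2 := finrank_range_sum (Finset.range (m + 1)) (fun i => harmQ CX CY e i (m - i))
    (fun i _ x => by rw [harmQ_harmQ, if_pos ⟨rfl, rfl⟩])
    (fun i _ i' _ hii' x => by rw [harmQ_harmQ, if_neg (fun h => hii' h.1)])
    (fun i _ => by
      haveI := hfX i
      haveI := hfY (m - i)
      exact finite_range_map _ _)
  rw [h2.2]
  exact Finset.sum_congr rfl fun i _ => finrank_range_map _ _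

end TCount

end Groth.Agent.Lib.Helper87.Kun
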