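import Groth.Agent.Lib.Helper87.SegreCM1
import Mathlib.RingTheory.FiniteType

/-!
# A Noetherian nonnegatively graded algebra with `T_0 = k` is of finite type (helper87)
-/

set_option autoImplicit false
universe u

namespace Groth.Agent.Lib.Helper87.SegOne

open DirectSum

section FT

variable {k : Type u} [Field k] {T : Type u} [CommRing T] [Algebra k T]
  (𝒯 : ℤ → Submodule k T) [GradedAlgebra 𝒯]

/-- a Noetherian nonnegatively graded `k`-algebra with degree zero part `k` is of finite type -/
theorem finiteType_of_isNoetherianRing (hpos : ∀ n : ℤ, n < 0 → 𝒯 n = ⊥)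
    (h0 : 𝒯 0 = Submodule.span k {(1 : T)}) [IsNoetherianRing T] : Algebra.FiniteType k T := by
  classical
  obtain ⟨G, hG⟩ := (isNoetherianRing_iff_ideal_fg T).mp inferInstance (irr 𝒯)
  set G' : Finset T := G.biUnion fun g =>
    (DFinsupp.support (decompose 𝒯 g)).image fun i => (decompose 𝒯 g i : T) with hG'
  set A : Subalgebra k T := Algebra.adjoin k (G' : Set T) with hA
  have hcomp : ∀ g ∈ G, ∀ i : ℤ, (decompose 𝒯 g i : T) ∈ A := by
    intro g hg i
    by_cases hi : i ∈ DFinsupp.support (decompose 𝒯 g)
    · apply Algebra.subset_adjoin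
      exact Finset.mem_coe.mpr
        (Finset.mem_biUnion.mpr ⟨g, hg, Finset.mem_image.mpr ⟨i, hi, rfl⟩⟩)
    · have h1 : decompose 𝒯 g i = 0 := DFinsupp.notMem_support_iff.mp hi
      rw [h1]
      exact A.zero_mem
  have hneg : ∀ d : ℤ, d < 0 → ∀ x ∈ 𝒯 d, x = 0 := by
    intro d hd x hx
    have : x ∈ (⊥ : Submodule k T) := by rw [← hpos d hd]; exact hx
    exact (Submodule.mem_bot k).mp this
  have key : ∀ n : ℕ, ∀ d : ℤ, d ≤ n → ∀ x ∈ 𝒯 d, x ∈ A := by
    intro n
    induction n with
    | zero =>
      intro d hd x hx
      rcases lt_or_eq_of_le hd with h | h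
      · rw [hneg d (by exact_mod_cast h) x hx]
        exact A.zero_mem
      · have h' : d = 0 := by exact_mod_cast h
        subst h'
        rw [h0, Submodule.mem_span_singleton] at hx
        obtain ⟨c, rfl⟩ := hx
        exact A.smul_mem A.one_mem c
    | succ n ih =>
      intro d hd x hx
      by_cases hdn : d ≤ n
      · exact ih d hdn x hx
      · have hd' : d = (n : ℤ) + 1 := by push_cast at hd; omega
        have hxirr : x ∈ Ideal.span (G : Set T) := by
          rw [hG]
          exact mem_irr_of_pos 𝒯 (by omega) hx
        obtain ⟨c, -, hc⟩ := Submodule.mem_span_finset.mp hxirr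
        have hx1 : x = ∑ g ∈ G, ((decompose 𝒯 (c g * g)) d : T) := by
          have h1 : ((decompose 𝒯 x) d : T) = x := decompose_of_mem_same 𝒯 hx
          rw [← h1, ← hc, decompose_sum, DFinsupp.finset_sum_apply,
            AddSubmonoidClass.coe_finset_sum]
          rfl
        rw [hx1]
        refine A.sum_mem fun g hg => ?_
        have h2 : ∀ b : T, ((decompose 𝒯 (b * g)) d : T) =
            ∑ j ∈ DFinsupp.support (decompose 𝒯 g),
              ((decompose 𝒯 b) (d - j) : T) * (decompose 𝒯 g j : T) := by
          intro b
          have hg' : b * g = ∑ j ∈ DFinsupp.support (decompose 𝒯 g),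
              b * (decompose 𝒯 g j : T) := by
            rw [← Finset.mul_sum, DirectSum.sum_support_decompose]
          rw [hg', decompose_sum, DFinsupp.finset_sum_apply, AddSubmonoidClass.coe_finset_sum]
          refine Finset.sum_congr rfl fun j _ => ?_
          have h3 := DirectSum.coe_decompose_mul_add_of_right_mem 𝒯 (i := d - j) (a := b)
            (SetLike.coe_mem (decompose 𝒯 g j))
          rw [sub_add_cancel] at h3
          exact h3
        rw [h2 (c g)]
        refine A.sum_mem fun j hj => ?_
        have hgirr : g ∈ irr 𝒯 := by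
          rw [← hG]
          exact Ideal.subset_span hg
        have hj0 : 0 < j := by
          by_contra hneg'
          push Not at hneg'
          have h4 : (decompose 𝒯 g j : T) = 0 := by
            rcases lt_or_eq_of_le hneg' with h | h
            · exact hneg j h _ (SetLike.coe_mem _)
            · rw [h]
              exact decompose_zero_of_mem_irr 𝒯 hpos hgirr
          exact (DFinsupp.mem_support_iff.mp hj) (Subtype.ext h4)
        exact A.mul_mem (ih (d - j) (by omega) _ (SetLike.coe_mem _)) (hcomp g hg j)
  refine ⟨⟨G', ?_⟩⟩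
  rw [eq_top_iff]
  intro x _
  rw [← DirectSum.sum_support_decompose 𝒯 x]
  exact A.sum_mem fun i _ => key i.toNat i (Int.self_le_toNat i) _ (SetLike.coe_mem _)

end FT

end Groth.Agent.Lib.Helper87.SegOne
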