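import Groth.Agent.Lib.Helper87.SegOne2

/-!
# Segre products of modules: the abstract presentation `φ : P → M ⊗ N` (helper87)
-/

set_option autoImplicit false
universe u

namespace Groth.Agent.Lib.Helper87.SegOne

open DirectSum TensorProduct
open Groth.Agent.Lib.Helper99

section Seg

variable {k : Type u} [Field k] {R S T : Type u} [CommRing R] [CommRing S] [CommRing T]
  [Algebra k R] [Algebra k S] [Algebra k T]
  (𝒜 : ℤ → Submodule k R) [GradedAlgebra 𝒜] (ℬ : ℤ → Submodule k S) [GradedAlgebra ℬ]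
  (𝒯 : ℤ → Submodule k T) [GradedAlgebra 𝒯]
  {M N P : Type u} [AddCommGroup M] [Module R M] [Module k M] [IsScalarTower k R M]
  [AddCommGroup N] [Module S N] [Module k N] [IsScalarTower k S N]
  [AddCommGroup P] [Module T P] [Module k P] [IsScalarTower k T P]
  (ℳ : ℤ → AddSubgroup M) [DirectSum.Decomposition ℳ] [SetLike.GradedSMul 𝒜 ℳ]
  (𝒩 : ℤ → AddSubgroup N) [DirectSum.Decomposition 𝒩] [SetLike.GradedSMul ℬ 𝒩]
  (𝒬 : ℤ → AddSubgroup P) [DirectSum.Decomposition 𝒬]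
  (ψ : T →ₐ[k] R ⊗[k] S) (hT : GrSeg.IsSegreRing 𝒜 ℬ 𝒯 ψ)
  (φ : P →ₗ[k] M ⊗[k] N) (hP : GrSeg.IsSegreMod ψ ℳ 𝒩 𝒬 φ)

include hP in
omit [DirectSum.Decomposition ℳ] [DirectSum.Decomposition 𝒩] in
theorem phi_mem {d : ℤ} {p : P} (hp : p ∈ 𝒬 d) : φ p ∈ GrSeg.segrePiece k ℳ 𝒩 d := by
  have : φ p ∈ (GrSeg.segrePiece k ℳ 𝒩 d : Set (M ⊗[k] N)) := by
    rw [← hP.image_piece d]
    exact ⟨p, hp, rfl⟩
  exact this

include hP in
omit [DirectSum.Decomposition ℳ] [DirectSum.Decomposition 𝒩] in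
theorem exists_phi_eq {d : ℤ} {x : M ⊗[k] N} (hx : x ∈ GrSeg.segrePiece k ℳ 𝒩 d) :
    ∃ p ∈ 𝒬 d, φ p = x := by
  have : x ∈ (GrSeg.segrePiece k ℳ 𝒩 d : Set (M ⊗[k] N)) := hx
  rw [← hP.image_piece d] at this
  obtain ⟨p, hp, hpx⟩ := this
  exact ⟨p, hp, hpx⟩

omit [DirectSum.Decomposition ℳ] [DirectSum.Decomposition 𝒩] in
theorem act_mem {c d : ℤ} {u : R ⊗[k] S} (hu : u ∈ GrSeg.segrePiece k 𝒜 ℬ c) {z : M ⊗[k] N}
    (hz : z ∈ GrSeg.segrePiece k ℳ 𝒩 d) :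
    GrSeg.act k R S M N u z ∈ GrSeg.segrePiece k ℳ 𝒩 (c + d) := by
  induction hu using Submodule.span_induction with
  | mem u hu =>
    obtain ⟨r, hr, s, hs, rfl⟩ := hu
    induction hz using Submodule.span_induction with
    | mem z hz =>
      obtain ⟨m, hm, n, hn, rfl⟩ := hz
      rw [GrSeg.act_tmul]
      exact Submodule.subset_span ⟨_, SetLike.GradedSMul.smul_mem hr hm, _,
        SetLike.GradedSMul.smul_mem hs hn, rfl⟩
    | zero => rw [map_zero]; exact Submodule.zero_mem _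
    | add z z' _ _ hz hz' => rw [map_add]; exact Submodule.add_mem _ hz hz'
    | smul a z _ hz => rw [map_smul]; exact Submodule.smul_mem _ a hz
  | zero => rw [map_zero, LinearMap.zero_apply]; exact Submodule.zero_mem _
  | add u u' _ _ hu hu' =>
    rw [map_add, LinearMap.add_apply]; exact Submodule.add_mem _ hu hu'
  | smul a u _ hu => rw [map_smul, LinearMap.smul_apply]; exact Submodule.smul_mem _ a hu

include hT hP in
omit [DirectSum.Decomposition ℳ] [DirectSum.Decomposition 𝒩] in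
/-- the grading of a Segre module is compatible with the grading of the Segre ring -/
theorem gradedSMul : SetLike.GradedSMul 𝒯 𝒬 where
  smul_mem := by
    intro c d t p ht hp
    have h1 : ψ t ∈ GrSeg.segrePiece k 𝒜 ℬ c := by
      rw [← hT.2 c]
      exact ⟨t, ht, rfl⟩
    have h2 := act_mem 𝒜 ℬ ℳ 𝒩 h1 (phi_mem ℳ 𝒩 𝒬 ψ φ hP hp)
    obtain ⟨p', hp', hpp'⟩ := exists_phi_eq ℳ 𝒩 𝒬 ψ φ hP h2
    rw [← hP.map_smul] at hpp'
    rw [← hP.injective hpp']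
    exact hp'

include hT in
theorem exists_t {E : ℤ} {a : R} (ha : a ∈ 𝒜 E) {y : S} (hy : y ∈ ℬ E) :
    ∃ t ∈ 𝒯 E, ψ t = a ⊗ₜ[k] y := by
  have h1 : a ⊗ₜ[k] y ∈ GrSeg.segrePiece k 𝒜 ℬ E := Submodule.subset_span ⟨a, ha, y, hy, rfl⟩
  rw [← hT.2 E] at h1
  obtain ⟨t, ht, htt⟩ := h1
  exact ⟨t, ht, htt⟩

include hP in
omit [DirectSum.Decomposition ℳ] [DirectSum.Decomposition 𝒩] in
theorem phi_smul {t : T} {a : R} {y : S} (ht : ψ t = a ⊗ₜ[k] y) (p : P) :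
    φ (t • p) = lM k N a (lN k M y (φ p)) := by
  rw [hP.map_smul, ht, act_tmul_eq]

include hP in
omit [DirectSum.Decomposition ℳ] [DirectSum.Decomposition 𝒩] in
theorem isSMulRegular_t {t : T} {a : R} {y : S} (ht : ψ t = a ⊗ₜ[k] y)
    (ha : IsSMulRegular M a) (hy : IsSMulRegular N y) : IsSMulRegular P t := by
  intro p p' hpp'
  apply hP.injective
  apply lN_injective (k := k) (M := M) hy
  apply lM_injective (k := k) (N := N) ha
  rw [← phi_smul ℳ 𝒩 𝒬 ψ φ hP ht, ← phi_smul ℳ 𝒩 𝒬 ψ φ hP ht]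
  exact congrArg φ hpp'

include hP in
theorem phi_decompose (w : P) (d : ℤ) :
    φ (decompose 𝒬 w d : P) = prMN 𝒜 ℬ ℳ 𝒩 d d (φ w) := by
  classical
  conv_rhs => rw [← DirectSum.sum_support_decompose 𝒬 w, map_sum, map_sum]
  have hterm : ∀ i : ℤ, prMN 𝒜 ℬ ℳ 𝒩 d d (φ (decompose 𝒬 w i : P)) =
      if i = d then φ (decompose 𝒬 w d : P) else 0 := by
    intro i
    have hi := phi_mem ℳ 𝒩 𝒬 ψ φ hP (decompose 𝒬 w i).2
    split_ifs with h
    · subst h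
      exact prMN_of_mem 𝒜 ℬ ℳ 𝒩 hi
    · exact prMN_of_mem_ne 𝒜 ℬ ℳ 𝒩 (Or.inl h) hi
  simp only [hterm]
  rw [Finset.sum_ite_eq']
  split_ifs with h
  · rfl
  · have : (decompose 𝒬 w d : P) = 0 := by
      by_contra hne
      exact h (DFinsupp.mem_support_iff.mpr (fun h0 => hne (by rw [h0]; rfl)))
    rw [this, map_zero]

end Seg

end Groth.Agent.Lib.Helper87.SegOne
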