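import Groth.Agent.Lib.Helper87.SegreCM4

/-!
# Non-zero homogeneous elements of graded Cohen–Macaulay modules are torsion-free over homogeneous
systems of parameters (helper87)
-/

set_option autoImplicit false
universe u

namespace Groth.Agent.Lib.Helper87

open DirectSum MvPolynomial

section CM

variable {k : Type u} [Field k] {R : Type u} [CommRing R] [Algebra k R]
  (𝒜 : ℤ → Submodule k R) [GradedAlgebra 𝒜]
  {M : Type u} [AddCommGroup M] [Module R M] [Module k M] [IsScalarTower k R M]
  (ℳ : ℤ → AddSubgroup M) [DirectSum.Decomposition ℳ] [SetLike.GradedSMul 𝒜 ℳ]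

theorem nonTors_of_cm (hpos : ∀ n : ℤ, n < 0 → 𝒜 n = ⊥)
    (h0 : 𝒜 0 = Submodule.span k {(1 : R)}) [Algebra.FiniteType k R] [Module.Finite R M]
    (hMcm : ∀ (q : Ideal R) [q.IsPrime], Subsingleton (LocalizedModule q.primeCompl M) ∨
      LocCoh.IsCohenMacaulayModule (Localization.AtPrime q) (LocalizedModule q.primeCompl M))
    {r : ℕ} (D : ℤ) (x : Fin r → R) (hx : ∀ i, x i ∈ 𝒜 D)
    (hind : AlgebraicIndependent k
      (fun i => Ideal.Quotient.mk (Module.annihilator R M) (x i)))
    (hint : (MvPolynomial.aeval (fun i => Ideal.Quotient.mk (Module.annihilator R M) (x i)) :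
      MvPolynomial (Fin r) k →ₐ[k] R ⧸ Module.annihilator R M).toRingHom.IsIntegral)
    {p : ℤ} {m : M} (hm : m ∈ ℳ p) (hm0 : m ≠ 0) : NonTors (k := k) x m := by
  classical
  intro f hf
  by_contra hf0
  set I : Ideal R := Module.annihilator R M with hI
  have hIhom : ∀ f ∈ I, ∀ n : ℤ, (decompose 𝒜 f n : R) ∈ I :=
    fun f hf n => decompose_mem_annihilator 𝒜 ℳ hf n
  haveI : Nontrivial M := ⟨⟨m, 0, hm0⟩⟩
  haveI : Nontrivial R := Module.nontrivial R M
  haveI : IsNoetherianRing R := Algebra.FiniteType.isNoetherianRing k R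
  haveI hmax : (irr 𝒜).IsMaximal := irr_isMaximal 𝒜 hpos h0
  haveI hprime : (irr 𝒜).IsPrime := hmax.isPrime
  -- the chain
  obtain ⟨Q, hQmono, hIQ, hQle⟩ := exists_chain_le_irr 𝒜 hpos h0 I hIhom D x hx hind hint
  have hsupp : ∀ i, Q i ∈ Module.support R M := by
    intro i
    rw [Module.mem_support_iff_of_finite]
    exact hIQ i
  have hlow := le_supportDim_localizedModule_of_chain (irr 𝒜) M Q hQmono hsupp hQle
  -- the localisation is not zero
  set m' : LocalizedModule (irr 𝒜).primeCompl M := LocalizedModule.mk m 1 with hm'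
  have hm'0 : m' ≠ 0 := by
    intro h
    rw [hm', ← LocalizedModule.zero_mk 1, LocalizedModule.mk_eq] at h
    obtain ⟨u, hu⟩ := h
    rw [smul_zero, smul_zero, one_smul] at hu
    exact u.2 (mem_irr_of_smul_eq_zero 𝒜 ℳ hpos h0 hm hm0 hu)
  have hcm : LocCoh.IsCohenMacaulayModule (Localization.AtPrime (irr 𝒜))
      (LocalizedModule (irr 𝒜).primeCompl M) := by
    rcases hMcm (irr 𝒜) with h | h
    · exact absurd (Subsingleton.elim m' 0) hm'0
    · exact h
  haveI : IsNoetherianRing (Localization.AtPrime (irr 𝒜)) :=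
    IsLocalization.isNoetherianRing (irr 𝒜).primeCompl _ inferInstance
  obtain ⟨P', hass, hP'le⟩ := exists_le_isAssociatedPrime_of_isNoetherianRing
    (Localization.AtPrime (irr 𝒜)) m' hm'0
  have hdimeq := Groth.Agent.Lib.Helper29.ringKrullDim_quotient_eq_supportDim_of_isCohenMacaulayModule
    (Localization.AtPrime (irr 𝒜)) (LocalizedModule (irr 𝒜).primeCompl M) hcm P' hass
  haveI hP'prime : P'.IsPrime := hass.isPrime
  -- contraction to `R`
  set Pp : PrimeSpectrum (Localization.AtPrime (irr 𝒜)) := ⟨P', hP'prime⟩ with hPp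
  set P : PrimeSpectrum R := PrimeSpectrum.comap (algebraMap R (Localization.AtPrime (irr 𝒜))) Pp
    with hP
  have hstrict : StrictMono (PrimeSpectrum.comap (algebraMap R (Localization.AtPrime (irr 𝒜)))) := by
    intro a b hab
    refine lt_of_le_of_ne (Ideal.comap_mono (show a.asIdeal ≤ b.asIdeal from hab.le)) ?_
    intro heq
    exact hab.ne (PrimeSpectrum.localization_comap_injective (Localization.AtPrime (irr 𝒜))
      (irr 𝒜).primeCompl heq)
  have hco : Order.coheight Pp ≤ Order.coheight P :=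
    Order.coheight_le_coheight_apply_of_strictMono _ hstrict Pp
  have hdimle : ringKrullDim (Localization.AtPrime (irr 𝒜) ⧸ P') ≤ ringKrullDim (R ⧸ P.asIdeal) := by
    have h1 := Groth.Agent.Lib.Helper29.ringKrullDim_quotient_eq_coheight
      (Localization.AtPrime (irr 𝒜)) Pp
    have h2 := Groth.Agent.Lib.Helper29.ringKrullDim_quotient_eq_coheight R P
    rw [h2]
    have h1' : ringKrullDim (Localization.AtPrime (irr 𝒜) ⧸ P') =
        ((Order.coheight Pp : ℕ∞) : WithBot ℕ∞) := h1
    rw [h1']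
    exact_mod_cast hco
  -- `I ≤ P`
  have hIP : I ≤ P.asIdeal := by
    intro a ha
    change algebraMap R (Localization.AtPrime (irr 𝒜)) a ∈ P'
    apply hass.annihilator_le
    rw [Submodule.mem_annihilator]
    intro z _
    induction z using LocalizedModule.induction_on with
    | h m₁ s =>
      rw [algebraMap_smul, LocalizedModule.smul'_mk, Module.mem_annihilator.mp ha m₁,
        LocalizedModule.zero_mk]
  -- `f(x) ∈ P`
  have hfP : (aeval x f : R) ∈ P.asIdeal := by
    change algebraMap R (Localization.AtPrime (irr 𝒜)) (aeval x f) ∈ P'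
    apply hP'le
    rw [Submodule.mem_colon_singleton, Submodule.mem_bot, hm', algebraMap_smul,
      LocalizedModule.smul'_mk, hf, LocalizedModule.zero_mk]
  have hup := ringKrullDim_quotient_add_one_le_of_sop I x hint P.asIdeal hIP f hf0 hfP
  -- contradiction
  have h1 : ((r : ℕ) : WithBot ℕ∞) ≤ ringKrullDim (R ⧸ P.asIdeal) := by
    calc ((r : ℕ) : WithBot ℕ∞) ≤ _ := hlow
      _ = ringKrullDim (Localization.AtPrime (irr 𝒜) ⧸ P') := hdimeq.symm
      _ ≤ _ := hdimle
  have h4 : ((r : ℕ) : WithBot ℕ∞) + 1 ≤ (r : ℕ) := (add_le_add_left h1 1).trans hup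
  have h5 : r + 1 ≤ r := by exact_mod_cast h4
  omega

end CM

end Groth.Agent.Lib.Helper87
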