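import Groth.Agent.Lib.Helper87.SegOne1
import Groth.Agent.Lib.Helper87.SegOne3
import Groth.Agent.Lib.Helper87.SegOne12
import Groth.Agent.Lib.Helper87.SegreCM5
import Groth.Agent.Lib.Helper87.GrNoethRel2
import Groth.Agent.Lib.Helper93.SkKer
import Groth.Agent.Lib.Helper29.DepthLoc2
import Groth.Agent.Lib.Helper29.DepthRees
import Groth.Agent.Lib.Helper39.GrBridge

/-!
# Graded modules over nonnegatively graded algebras: dimension at the irrelevant ideal and the
Cohen–Macaulay property from a homogeneous regular sequence (helper87)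
-/

set_option autoImplicit false
universe u

namespace Groth.Agent.Lib.Helper87.SegOne

open DirectSum TensorProduct RingTheory.Sequence IsLocalRing
open Groth.Agent.Lib.Helper99 Groth.Agent.Lib.Helper39 Groth.Agent.Lib.Helper39.GrBridge

section SegRing

variable {k : Type u} [Field k] {R S T : Type u} [CommRing R] [CommRing S] [CommRing T]
  [Algebra k R] [Algebra k S] [Algebra k T]
  (𝒜 : ℤ → Submodule k R) [GradedAlgebra 𝒜] (ℬ : ℤ → Submodule k S) [GradedAlgebra ℬ]
  (𝒯 : ℤ → Submodule k T) [GradedAlgebra 𝒯]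
  (ψ : T →ₐ[k] R ⊗[k] S) (hT : GrSeg.IsSegreRing 𝒜 ℬ 𝒯 ψ)

include hT in
theorem segre_pos (hposR : ∀ n : ℤ, n < 0 → 𝒜 n = ⊥) : ∀ n : ℤ, n < 0 → 𝒯 n = ⊥ := by
  intro n hn
  rw [eq_bot_iff]
  intro t ht
  rw [Submodule.mem_bot]
  apply hT.1
  rw [map_zero]
  have h1 : ψ t ∈ GrSeg.segrePiece k 𝒜 ℬ n := by
    rw [← hT.2 n]
    exact ⟨t, ht, rfl⟩
  have h2 : GrSeg.segrePiece k 𝒜 ℬ n ≤ ⊥ := by
    unfold GrSeg.segrePiece
    rw [Submodule.span_le]
    rintro _ ⟨a, ha, b, -, rfl⟩
    rw [hposR n hn, Submodule.mem_bot] at ha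
    rw [ha, TensorProduct.zero_tmul]
    exact Submodule.zero_mem _
  exact (Submodule.mem_bot k).mp (h2 h1)

include hT in
theorem segre_zero (h0R : 𝒜 0 = Submodule.span k {(1 : R)})
    (h0S : ℬ 0 = Submodule.span k {(1 : S)}) : 𝒯 0 = Submodule.span k {(1 : T)} := by
  apply le_antisymm
  · intro t ht
    have h1 : ψ t ∈ GrSeg.segrePiece k 𝒜 ℬ 0 := by
      rw [← hT.2 0]
      exact ⟨t, ht, rfl⟩
    have h2 : GrSeg.segrePiece k 𝒜 ℬ 0 ≤ Submodule.span k {(1 : R ⊗[k] S)} := by
      unfold GrSeg.segrePiece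
      rw [Submodule.span_le]
      rintro _ ⟨a, ha, b, hb, rfl⟩
      rw [h0R, Submodule.mem_span_singleton] at ha
      rw [h0S, Submodule.mem_span_singleton] at hb
      obtain ⟨c, rfl⟩ := ha
      obtain ⟨c', rfl⟩ := hb
      rw [SetLike.mem_coe, Submodule.mem_span_singleton]
      refine ⟨c * c', ?_⟩
      rw [TensorProduct.smul_tmul_smul]
      rfl
    obtain ⟨c, hc⟩ := Submodule.mem_span_singleton.mp (h2 h1)
    rw [Submodule.mem_span_singleton]
    refine ⟨c, hT.1 ?_⟩
    rw [map_smul, map_one, hc]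
  · rw [Submodule.span_le]
    rintro _ rfl
    exact SetLike.GradedOne.one_mem

end SegRing

section Dim

variable {k : Type u} [Field k] {T : Type u} [CommRing T] [Algebra k T]
  (𝒯 : ℤ → Submodule k T) [GradedAlgebra 𝒯]
  {P : Type u} [AddCommGroup P] [Module T P] [Module k P] [IsScalarTower k T P]
  (𝒬 : ℤ → AddSubgroup P) [DirectSum.Decomposition 𝒬] [SetLike.GradedSMul 𝒯 𝒬]

include 𝒬 in
/-- the dimension of a graded module is attained at the irrelevant ideal -/
theorem le_supportDim_localized_irr (hpos : ∀ n : ℤ, n < 0 → 𝒯 n = ⊥)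
    (h0 : 𝒯 0 = Submodule.span k {(1 : T)}) [Algebra.FiniteType k T] [Module.Finite T P]
    [(irr 𝒯).IsPrime] (s : ℕ) (hdim : Module.supportDim T P = s) :
    ((s : ℕ) : WithBot ℕ∞) ≤ Module.supportDim (Localization.AtPrime (irr 𝒯))
      (LocalizedModule (irr 𝒯).primeCompl P) := by
  classical
  set K : Ideal T := Module.annihilator T P with hK
  have hKhom : ∀ f ∈ K, ∀ n : ℤ, (decompose 𝒯 f n : T) ∈ K :=
    fun f hf n => decompose_mem_annihilator 𝒯 𝒬 hf n
  have hdimK : ringKrullDim (T ⧸ K) = s := by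
    rw [← Module.supportDim_eq_ringKrullDim_quotient_annihilator]
    exact hdim
  obtain ⟨D₁, hD₁, H⟩ := exists_homogeneous_noether_rel 𝒯 hpos h0 K hKhom s hdimK
  obtain ⟨x, hx, hind, hint⟩ := H D₁ hD₁ dvd_rfl
  obtain ⟨Q, hQmono, hIQ, hQle⟩ := exists_chain_le_irr 𝒯 hpos h0 K hKhom D₁ x hx hind hint
  have hsupp : ∀ i, Q i ∈ Module.support T P := by
    intro i
    rw [Module.mem_support_iff_of_finite]
    exact hIQ i
  exact le_supportDim_localizedModule_of_chain (irr 𝒯) P Q hQmono hsupp hQle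

omit [Module k P] [IsScalarTower k T P] in
/-- localization does not increase the dimension of the support -/
theorem supportDim_localizedModule_le (q : Ideal T) [q.IsPrime] :
    Module.supportDim (Localization.AtPrime q) (LocalizedModule q.primeCompl P) ≤
      Module.supportDim T P := by
  unfold Module.supportDim
  refine Order.krullDim_le_of_strictMono
    (fun x : Module.support (Localization.AtPrime q) (LocalizedModule q.primeCompl P) =>
      (⟨PrimeSpectrum.comap (algebraMap T (Localization.AtPrime q)) x.1,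
        (Groth.Agent.Lib.Helper93.Depth.mem_support_localizedModule_iff q.primeCompl P x.1).mp
          x.2⟩ : Module.support T P)) ?_
  intro a b hab
  refine lt_of_le_of_ne (Ideal.comap_mono (show a.1.asIdeal ≤ b.1.asIdeal from hab.le)) ?_
  intro heq
  apply hab.ne
  apply Subtype.ext
  exact PrimeSpectrum.localization_comap_injective (Localization.AtPrime q) q.primeCompl
    (congrArg Subtype.val heq)

include 𝒬 in
theorem nontrivial_localized_irr (hpos : ∀ n : ℤ, n < 0 → 𝒯 n = ⊥)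
    (h0 : 𝒯 0 = Submodule.span k {(1 : T)}) [Nontrivial P] [(irr 𝒯).IsPrime] :
    Nontrivial (LocalizedModule (irr 𝒯).primeCompl P) := by
  classical
  obtain ⟨n, hn⟩ := exists_ne (0 : P)
  have hex : ∃ p : ℤ, (decompose 𝒬 n p : P) ≠ 0 := by
    by_contra hcon
    push Not at hcon
    apply hn
    rw [← DirectSum.sum_support_decompose 𝒬 n]
    exact Finset.sum_eq_zero fun d _ => hcon d
  obtain ⟨p, hp⟩ := hex
  refine ⟨⟨LocalizedModule.mk (decompose 𝒬 n p : P) 1, 0, ?_⟩⟩
  intro h
  rw [← LocalizedModule.zero_mk 1, LocalizedModule.mk_eq] at h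
  obtain ⟨u, hu⟩ := h
  rw [smul_zero, smul_zero, one_smul] at hu
  exact u.2 (mem_irr_of_smul_eq_zero 𝒯 𝒬 hpos h0 (SetLike.coe_mem _) hp hu)

attribute [local instance] toSubGradedRing toSubDecomposition

include 𝒬 in
/-- a homogeneous regular sequence of length `dim P` in the irrelevant ideal makes every
localization of `P` zero or Cohen–Macaulay -/
theorem pcm_of_isWeaklyRegular (hpos : ∀ n : ℤ, n < 0 → 𝒯 n = ⊥)
    (h0 : 𝒯 0 = Submodule.span k {(1 : T)}) [IsNoetherianRing T] [Module.Finite T P]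
    [Nontrivial P] [Nontrivial T] (s : ℕ) (hdim : Module.supportDim T P = s) (ts : List T)
    (hlen : ts.length = s)
    (hmem : ∀ t ∈ ts, t ∈ irr 𝒯) (hreg : IsWeaklyRegular P ts) (q : Ideal T) [q.IsPrime] :
    Subsingleton (LocalizedModule q.primeCompl P) ∨
      LocCoh.IsCohenMacaulayModule (Localization.AtPrime q) (LocalizedModule q.primeCompl P) := by
  haveI hmax : (irr 𝒯).IsMaximal := irr_isMaximal 𝒯 hpos h0
  haveI hprime : (irr 𝒯).IsPrime := hmax.isPrime
  haveI : Nontrivial (LocalizedModule (irr 𝒯).primeCompl P) :=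
    nontrivial_localized_irr 𝒯 𝒬 hpos h0
  haveI : IsNoetherianRing (Localization.AtPrime (irr 𝒯)) :=
    IsLocalization.isNoetherianRing (irr 𝒯).primeCompl _ inferInstance
  have h1 : (ts.length : ℕ∞) ≤ LocCoh.idealDepth (irr 𝒯) P :=
    Groth.Agent.Lib.Helper93.Depth.length_le_idealDepth hreg hmem
  have h2 := Groth.Agent.Lib.Helper29.idealDepth_le_depth_localization T (irr 𝒯) P
  have h3 := Groth.Agent.Lib.Helper29.depth_le_supportDim (Localization.AtPrime (irr 𝒯))
    (LocalizedModule (irr 𝒯).primeCompl P)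
  have h4 := supportDim_localizedModule_le (P := P) (irr 𝒯)
  rw [hdim] at h4
  rw [hlen] at h1
  have h5 : ((s : ℕ∞) : WithBot ℕ∞) ≤
      ((LocCoh.depth (Localization.AtPrime (irr 𝒯))
        (LocalizedModule (irr 𝒯).primeCompl P) : ℕ∞) : WithBot ℕ∞) :=
    WithBot.coe_le_coe.mpr (h1.trans h2)
  have hcm : LocCoh.IsCohenMacaulayModule (Localization.AtPrime (irr 𝒯))
      (LocalizedModule (irr 𝒯).primeCompl P) := by
    unfold LocCoh.IsCohenMacaulayModule
    apply le_antisymm
    · exact h4.trans h5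
    · exact h3
  haveI : SetLike.GradedSMul (toSub 𝒯) 𝒬 := gsmul_toSub 𝒯 𝒬
  refine cm_all_of_cm_irr T (toSub 𝒯) P 𝒬 (irr 𝒯) ?_ hcm q
  intro I hI hItop
  apply le_irr_of_homogeneous 𝒯 hpos h0 I ?_ hItop
  intro f hf n
  have := hI n hf
  rwa [decompose_toSub] at this

end Dim

end Groth.Agent.Lib.Helper87.SegOne
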