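import Groth.Agent.Lib.Helper87.Kun19
import Groth.Agent.Lib.Helper87.Kun20
import Groth.Agent.Lib.Helper87.SegOne13
import Groth.Agent.Lib.Helper99.GrSegre2
import Groth.Agent.Lib.Helper39.GrPieces
import Groth.Agent.S13226

/-!
# The Künneth formula for the local cohomology of Segre products (helper87)
-/

set_option autoImplicit false
universe u

namespace Groth.Agent.Lib.Helper87.Kun

open DirectSum TensorProduct GrLC
open Groth.Agent.Lib.Helper99 Groth.Agent.Lib.Helper39 Groth.Agent.Lib.Helper39.GrBridge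
  Groth.Agent.Lib.Helper39.GrKoszul Groth.Agent.Lib.Helper87.SegOne Groth.Agent.Lib.Helper60

theorem sum_reindex (n : ℕ) (a b hX hY : ℕ → ℕ) (ha0 : a 0 = 0) (ha1 : a 1 = 0)
    (hb0 : b 0 = 0) (hb1 : b 1 = 0) (hXs : ∀ i, hX (i + 1) = a (i + 2))
    (hYs : ∀ j, hY (j + 1) = b (j + 2)) :
    ∑ i ∈ Finset.range (n + 1 + 1), hX i * hY (n + 1 - i) =
      hX 0 * b (n + 2) + a (n + 2) * hY 0 +
        ∑ i ∈ Finset.range (n + 2 + 2), a i * b (n + 2 + 1 - i) := by
  rw [Finset.sum_range_succ', Finset.sum_range_succ]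
  rw [Finset.sum_range_succ (fun i => a i * b (n + 2 + 1 - i)) (n + 2 + 1),
    Finset.sum_range_succ (fun i => a i * b (n + 2 + 1 - i)) (n + 2),
    Finset.sum_range_succ' (fun i => a i * b (n + 2 + 1 - i)) (n + 1),
    Finset.sum_range_succ' _ n]
  have e1 : n + 2 + 1 - (n + 2 + 1) = 0 := by omega
  have e2 : n + 2 + 1 - (n + 2) = 1 := by omega
  have e3 : n + 1 - (n + 1) = 0 := by omega
  have e4 : n + 1 - 0 = n + 1 := by omega
  simp only [e1, e2, e3, e4, hb0, hb1, ha0, ha1, mul_zero, zero_mul, add_zero, zero_add]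
  rw [hXs n, hYs n]
  have hmid : ∑ i ∈ Finset.range n, hX (i + 1) * hY (n + 1 - (i + 1)) =
      ∑ i ∈ Finset.range n, a (i + 1 + 1) * b (n + 2 + 1 - (i + 1 + 1)) := by
    refine Finset.sum_congr rfl fun i hi => ?_
    have hi' := Finset.mem_range.mp hi
    obtain ⟨j, hj⟩ : ∃ j, n + 1 - (i + 1) = j + 1 := ⟨n - i - 1, by omega⟩
    rw [hXs, hj, hYs]
    have : n + 2 + 1 - (i + 1 + 1) = j + 2 := by omega
    rw [this]
  rw [hmid]
  ring

section Sub

variable {ι : Type} [AddCommGroup ι] [DecidableEq ι] {R : Type u} [CommRing R]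
  {𝒜 : ι → AddSubgroup R} [GradedRing 𝒜]
  {M : Type u} [AddCommGroup M] [Module R M] {ℳ : ι → AddSubgroup M} [DirectSum.Decomposition ℳ]
  [SetLike.GradedSMul 𝒜 ℳ] (E : GrLC.StarInjRes 𝒜 ℳ) (a : HomogeneousIdeal 𝒜)

theorem H_subsingleton_of_Hcomp_eq_bot (i : ℕ) (h : ∀ g, E.Hcomp a i g = ⊥) :
    Subsingleton (E.H a i) := by
  classical
  refine ⟨fun x y => ?_⟩
  suffices H : ∀ x : E.H a i, x = 0 by rw [H x, H y]
  intro x
  obtain ⟨w, rfl⟩ := (Hgr_isInternal E a i).2 x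
  induction w using DirectSum.induction_on with
  | zero => exact map_zero _
  | of g z =>
    rw [DirectSum.coeAddMonoidHom_of]
    have h1 : (z : E.H a i) ∈ E.Hcomp a i g := z.2
    rw [h g, Submodule.mem_bot] at h1
    exact h1
  | add w w' hw hw' => rw [map_add, hw, hw', add_zero]

end Sub

theorem toSub_eq_bot {k : Type u} [Field k] {R : Type u} [CommRing R] [Algebra k R]
    {𝒜 : ℤ → Submodule k R} {n : ℤ} (h : 𝒜 n = ⊥) : toSub 𝒜 n = ⊥ := by
  rw [eq_bot_iff]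
  intro x hx
  have : x ∈ 𝒜 n := hx
  rw [h, Submodule.mem_bot] at this
  rw [this]
  exact AddSubgroup.zero_mem _

attribute [local instance] toSubGradedRing toSubDecomposition toSubGradedSMul

/-- **Künneth formula for the graded local cohomology of a Segre product of modules.** -/
theorem kunneth (k : Type u) [Field k] (R : Type u) [CommRing R] [Nontrivial R] [Algebra k R]
    (𝒜 : ℤ → Submodule k R) [GradedAlgebra 𝒜] (hposR : ∀ n : ℤ, n < 0 → 𝒜 n = ⊥)
    (h0R : 𝒜 0 = Submodule.span k {(1 : R)}) [Algebra.FiniteType k R] (S : Type u) [CommRing S]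
    [Nontrivial S] [Algebra k S] (ℬ : ℤ → Submodule k S) [GradedAlgebra ℬ]
    (hposS : ∀ n : ℤ, n < 0 → ℬ n = ⊥) (h0S : ℬ 0 = Submodule.span k {(1 : S)})
    [Algebra.FiniteType k S] (T : Type u) [CommRing T] [Algebra k T] (𝒯 : ℤ → Submodule k T)
    [GradedAlgebra 𝒯] (ψ : T →ₐ[k] TensorProduct k R S) (hT : GrSeg.IsSegreRing 𝒜 ℬ 𝒯 ψ)
    (mR : HomogeneousIdeal 𝒜)
    (hmR : mR.toIdeal = Ideal.span (⋃ n ∈ Set.Ioi (0 : ℤ), (𝒜 n : Set R)))
    (mS : HomogeneousIdeal ℬ)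
    (hmS : mS.toIdeal = Ideal.span (⋃ n ∈ Set.Ioi (0 : ℤ), (ℬ n : Set S)))
    (mT : HomogeneousIdeal 𝒯)
    (hmT : mT.toIdeal = Ideal.span (⋃ n ∈ Set.Ioi (0 : ℤ), (𝒯 n : Set T)))
    (M : Type u) [AddCommGroup M] [Module R M] [Module k M] [IsScalarTower k R M]
    (ℳ : ℤ → AddSubgroup M) [DirectSum.Decomposition ℳ] [SetLike.GradedSMul 𝒜 ℳ]
    [Module.Finite R M] (EM : GrLC.StarInjRes 𝒜 ℳ)
    (N : Type u) [AddCommGroup N] [Module S N] [Module k N] [IsScalarTower k S N]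
    (𝒩 : ℤ → AddSubgroup N) [DirectSum.Decomposition 𝒩] [SetLike.GradedSMul ℬ 𝒩]
    [Module.Finite S N] (EN : GrLC.StarInjRes ℬ 𝒩)
    (P : Type u) [AddCommGroup P] [Module T P] [Module k P] [IsScalarTower k T P]
    (𝒬 : ℤ → AddSubgroup P) [DirectSum.Decomposition 𝒬] [SetLike.GradedSMul 𝒯 𝒬]
    (φ : P →ₗ[k] TensorProduct k M N) (hP : GrSeg.IsSegreMod ψ ℳ 𝒩 𝒬 φ)
    (EP : GrLC.StarInjRes 𝒯 𝒬)
    (hM : ∀ (q : ℕ) (d : ℤ), q ≤ 1 → EM.Hcomp mR q d = ⊥)
    (hN : ∀ (q : ℕ) (d : ℤ), q ≤ 1 → EN.Hcomp mS q d = ⊥) (q : ℕ) (d : ℤ) :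
    Module.finrank (GrLC.deg0 𝒯) (EP.Hcomp mT q d) =
      Module.finrank (GrLC.deg0 𝒜) (GrLC.comp 𝒜 ℳ d) *
          Module.finrank (GrLC.deg0 ℬ) (EN.Hcomp mS q d) +
        Module.finrank (GrLC.deg0 𝒜) (EM.Hcomp mR q d) *
          Module.finrank (GrLC.deg0 ℬ) (GrLC.comp ℬ 𝒩 d) +
      (Finset.range (q + 2)).sum (fun i => Module.finrank (GrLC.deg0 𝒜) (EM.Hcomp mR i d) *
        Module.finrank (GrLC.deg0 ℬ) (EN.Hcomp mS (q + 1 - i) d)) := by
  classical
  haveI : IsNoetherianRing R := Algebra.FiniteType.isNoetherianRing k R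
  haveI : IsNoetherianRing S := Algebra.FiniteType.isNoetherianRing k S
  haveI : IsNoetherianRing (R ⊗[k] S) := Algebra.FiniteType.isNoetherianRing R (R ⊗[k] S)
  haveI : Nontrivial (R ⊗[k] S) :=
    Algebra.TensorProduct.nontrivial_of_algebraMap_injective_of_flat_left (R := k) (A := R)
      (B := S) (algebraMap k S).injective
  haveI : Nontrivial T := by
    by_contra hcon
    rw [not_nontrivial_iff_subsingleton] at hcon
    have h1 : ψ 1 = ψ 0 := congrArg ψ (Subsingleton.elim _ _)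
    rw [map_one, map_zero] at h1
    exact one_ne_zero h1
  haveI : IsNoetherianRing T := isNoetherianRing_segre 𝒜 ℬ 𝒯 hposR ψ hT.1 hT.2
  have h0T : 𝒯 0 = Submodule.span k {(1 : T)} := segre_zero 𝒜 ℬ 𝒯 ψ hT h0R h0S
  -- vanishing of `H^0` and `H^1`
  have h0M : Subsingleton (EM.H mR 0) :=
    H_subsingleton_of_Hcomp_eq_bot (convRes EM) (convIdeal mR) 0
      (fun g => (convRes_Hcomp_eq_bot_iff EM mR 0 g).mpr (hM 0 g (by omega)))
  have h1M : Subsingleton (EM.H mR 1) :=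
    H_subsingleton_of_Hcomp_eq_bot (convRes EM) (convIdeal mR) 1
      (fun g => (convRes_Hcomp_eq_bot_iff EM mR 1 g).mpr (hM 1 g (by omega)))
  have h0N : Subsingleton (EN.H mS 0) :=
    H_subsingleton_of_Hcomp_eq_bot (convRes EN) (convIdeal mS) 0
      (fun g => (convRes_Hcomp_eq_bot_iff EN mS 0 g).mpr (hN 0 g (by omega)))
  have h1N : Subsingleton (EN.H mS 1) :=
    H_subsingleton_of_Hcomp_eq_bot (convRes EN) (convIdeal mS) 1
      (fun g => (convRes_Hcomp_eq_bot_iff EN mS 1 g).mpr (hN 1 g (by omega)))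
  have hmR' : mR.toIdeal = irr 𝒜 := hmR
  have hmS' : mS.toIdeal = irr ℬ := hmS
  have hmT' : (convIdeal mT).toIdeal = irr 𝒯 := hmT
  -- the main theorem for the Segre total complex
  have main := seg_main 𝒯 ψ hT (xAug (k := k) 𝒜 EM mR h0M h1M) (xAug (k := k) ℬ EN mS h0N h1N)
    φ hP (xData_tor 𝒜 EM mR hmR') (xData_tor ℬ EN mS hmS') (convIdeal mT) hmT'
    (xData_lc 𝒜 EM mR hmR') (xData_lc ℬ EN mS hmS') (convRes EP)
  obtain ⟨hP0, hP1, hPn⟩ := main
  -- the counts on the factors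
  have hposR' : ∀ n : ℤ, n < 0 → toSub 𝒜 n = ⊥ := fun n hn => toSub_eq_bot (hposR n hn)
  have hposS' : ∀ n : ℤ, n < 0 → toSub ℬ n = ⊥ := fun n hn => toSub_eq_bot (hposS n hn)
  have cX0 := x_count_zero (k := k) 𝒜 EM mR h0M h1M h0R d
  have cXs := fun i => x_count_succ (k := k) 𝒜 EM mR h0M h1M h0R i d
  have cY0 := x_count_zero (k := k) ℬ EN mS h0N h1N h0S d
  have cYs := fun i => x_count_succ (k := k) ℬ EN mS h0N h1N h0S i d
  have hfX : ∀ i, Module.Finite k (LinearMap.range ((xData (k := k) 𝒜 EM mR).hodge.π ∘ₗ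
      (xData (k := k) 𝒜 EM mR).gr.P (i, d))) := by
    intro i
    cases i with
    | zero =>
      exact cX0.2 (GrPieces.finite_comp (toSub 𝒜) (toSub ℳ) hposR' d)
    | succ i =>
      exact (cXs i).2 (Groth.Agent.S13226.result R (toSub 𝒜) hposR' (convIdeal mR) hmR M
        (toSub ℳ) (convRes EM) (i + 2) d)
  have hfY : ∀ j, Module.Finite k (LinearMap.range ((xData (k := k) ℬ EN mS).hodge.π ∘ₗ
      (xData (k := k) ℬ EN mS).gr.P (j, d))) := by
    intro j
    cases j with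
    | zero =>
      exact cY0.2 (GrPieces.finite_comp (toSub ℬ) (toSub 𝒩) hposS' d)
    | succ j =>
      exact (cYs j).2 (Groth.Agent.S13226.result S (toSub ℬ) hposS' (convIdeal mS) hmS N
        (toSub 𝒩) (convRes EN) (j + 2) d)
  -- the cases
  have hbot : ∀ p : ℕ, Subsingleton (EP.H mT p) → EP.Hcomp mT p d = ⊥ := by
    intro p hp
    rw [eq_bot_iff]
    intro x _
    rw [Submodule.mem_bot]
    exact Subsingleton.elim _ _
  rcases Nat.lt_or_ge q 2 with hq | hq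
  · -- `q ≤ 1`: everything vanishes
    have hPq : EP.Hcomp mT q d = ⊥ := by
      interval_cases q
      · exact hbot 0 hP0
      · exact hbot 1 hP1
    rw [hPq, finrank_bot, hM q d (by omega), hN q d (by omega), finrank_bot, finrank_bot,
      mul_zero, zero_mul, zero_add, zero_add]
    symm
    apply Finset.sum_eq_zero
    intro i hi
    have hi' := Finset.mem_range.mp hi
    by_cases h1 : i ≤ 1
    · rw [hM i d h1, finrank_bot, zero_mul]
    · rw [hN (q + 1 - i) d (by omega), finrank_bot, mul_zero]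
  · obtain ⟨n, rfl⟩ : ∃ n, q = n + 2 := ⟨q - 2, by omega⟩
    obtain ⟨g⟩ := hPn n
    have hcount := t_count 𝒯 ψ hT (xData (k := k) 𝒜 EM mR) (xData (k := k) ℬ EN mS) h0T n d
      (convRes EP) (convIdeal mT) g
    have hharm := finrank_harmonic (xData (k := k) 𝒜 EM mR) (xData (k := k) ℬ EN mS) (n + 1) d
      hfX hfY
    have hL : Module.finrank (GrLC.deg0 𝒯) (EP.Hcomp mT (n + 2) d) =
        ∑ i ∈ Finset.range (n + 1 + 1),
          Module.finrank k (LinearMap.range ((xData (k := k) 𝒜 EM mR).hodge.π ∘ₗ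
            (xData (k := k) 𝒜 EM mR).gr.P (i, d))) *
          Module.finrank k (LinearMap.range ((xData (k := k) ℬ EN mS).hodge.π ∘ₗ
            (xData (k := k) ℬ EN mS).gr.P (n + 1 - i, d))) := hcount.trans hharm
    rw [hL]
    have key := sum_reindex n
      (fun i => Module.finrank (GrLC.deg0 𝒜) (EM.Hcomp mR i d))
      (fun j => Module.finrank (GrLC.deg0 ℬ) (EN.Hcomp mS j d))
      (fun i => Module.finrank k (LinearMap.range ((xData (k := k) 𝒜 EM mR).hodge.π ∘ₗ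
            (xData (k := k) 𝒜 EM mR).gr.P (i, d))))
      (fun j => Module.finrank k (LinearMap.range ((xData (k := k) ℬ EN mS).hodge.π ∘ₗ
            (xData (k := k) ℬ EN mS).gr.P (j, d))))
      (by show Module.finrank (GrLC.deg0 𝒜) (EM.Hcomp mR 0 d) = 0
          rw [hM 0 d (by omega), finrank_bot])
      (by show Module.finrank (GrLC.deg0 𝒜) (EM.Hcomp mR 1 d) = 0
          rw [hM 1 d (by omega), finrank_bot])
      (by show Module.finrank (GrLC.deg0 ℬ) (EN.Hcomp mS 0 d) = 0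
          rw [hN 0 d (by omega), finrank_bot])
      (by show Module.finrank (GrLC.deg0 ℬ) (EN.Hcomp mS 1 d) = 0
          rw [hN 1 d (by omega), finrank_bot])
      (fun i => ((cXs i).1).symm) (fun j => ((cYs j).1).symm)
    rw [key]
    rw [← cX0.1, ← cY0.1]

end Groth.Agent.Lib.Helper87.Kun
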