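import Groth.Agent.Lib.Helper87.Kun21

/-!
# The Künneth formula for the local cohomology of Segre products of rings (helper87)
-/

set_option autoImplicit false
universe u

namespace Groth.Agent.Lib.Helper87.Kun

open DirectSum TensorProduct GrLC
open Groth.Agent.Lib.Helper99 Groth.Agent.Lib.Helper39 Groth.Agent.Lib.Helper39.GrBridge
  Groth.Agent.Lib.Helper87.SegOne

theorem act_self' {k : Type u} [Field k] {R S : Type u} [CommRing R] [CommRing S] [Algebra k R]
    [Algebra k S] (u z : R ⊗[k] S) : GrSeg.act k R S R S u z = u * z := by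
  induction u using TensorProduct.induction_on with
  | zero => rw [map_zero, LinearMap.zero_apply, zero_mul]
  | tmul r s =>
    induction z using TensorProduct.induction_on with
    | zero => rw [map_zero, mul_zero]
    | tmul m n =>
      rw [GrSeg.act_tmul, Algebra.TensorProduct.tmul_mul_tmul, smul_eq_mul, smul_eq_mul]
    | add z z' hz hz' => rw [map_add, hz, hz', mul_add]
  | add u u' hu hu' => rw [map_add, LinearMap.add_apply, hu, hu', add_mul]

section Self

variable {k : Type u} [Field k] {R : Type u} [CommRing R] [Algebra k R]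
  (𝒜 : ℤ → Submodule k R) [GradedAlgebra 𝒜]

/-- the dimension of a piece of the ring over `R_0` is its dimension over `k` -/
theorem finrank_comp_self [Nontrivial R] [SetLike.GradedSMul 𝒜 (toSub 𝒜)]
    (h0R : 𝒜 0 = Submodule.span k {(1 : R)}) (d : ℤ) :
    Module.finrank (deg0 𝒜) (comp 𝒜 (toSub 𝒜) d) = Module.finrank k (𝒜 d) := by
  let κ : k →+* deg0 𝒜 :=
    (algebraMap k R).codRestrict (deg0 𝒜) (fun c => SetLike.algebraMap_mem_graded 𝒜 c)
  have hκ : Function.Bijective κ := by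
    constructor
    · intro c c' h
      exact (algebraMap k R).injective (congrArg Subtype.val h)
    · rintro ⟨r, hr⟩
      have hr' : r ∈ 𝒜 0 := hr
      rw [h0R, Submodule.mem_span_singleton] at hr'
      obtain ⟨c, rfl⟩ := hr'
      exact ⟨c, Subtype.ext (Algebra.algebraMap_eq_smul_one c)⟩
  have h1 := finrank_compHom κ hκ (comp 𝒜 (toSub 𝒜) d)
  letI : Module k (comp 𝒜 (toSub 𝒜) d) := Module.compHom _ κ
  let e : comp 𝒜 (toSub 𝒜) d ≃ₗ[k] 𝒜 d :=
    { toFun := fun x => ⟨x.1, x.2⟩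
      invFun := fun x => ⟨x.1, x.2⟩
      map_add' := fun _ _ => rfl
      map_smul' := fun c x => Subtype.ext (by
        show algebraMap k R c • (x.1 : R) = c • (x.1 : R)
        rw [algebraMap_smul])
      left_inv := fun _ => rfl
      right_inv := fun _ => rfl }
  exact h1.symm.trans e.finrank_eq

end Self

/-- **Künneth formula for the graded local cohomology of a Segre product of rings.** -/
theorem kunneth_ring (k : Type u) [Field k] (R : Type u) [CommRing R] [Nontrivial R]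
    [Algebra k R] (𝒜 : ℤ → Submodule k R) [GradedAlgebra 𝒜] (hposR : ∀ n : ℤ, n < 0 → 𝒜 n = ⊥)
    (h0R : 𝒜 0 = Submodule.span k {(1 : R)}) [Algebra.FiniteType k R] (S : Type u) [CommRing S]
    [Nontrivial S] [Algebra k S] (ℬ : ℤ → Submodule k S) [GradedAlgebra ℬ]
    (hposS : ∀ n : ℤ, n < 0 → ℬ n = ⊥) (h0S : ℬ 0 = Submodule.span k {(1 : S)})
    [Algebra.FiniteType k S] (T : Type u) [CommRing T] [Algebra k T] (𝒯 : ℤ → Submodule k T)
    [GradedAlgebra 𝒯] (ψ : T →ₐ[k] TensorProduct k R S) (hψ : Function.Injective ψ)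
    (hdegT : ∀ n : ℤ, (𝒯 n).map ψ.toLinearMap =
      Submodule.span k {x : TensorProduct k R S | ∃ a ∈ 𝒜 n, ∃ b ∈ ℬ n, x = a ⊗ₜ[k] b})
    (mR : HomogeneousIdeal 𝒜)
    (hmR : mR.toIdeal = Ideal.span (⋃ n ∈ Set.Ioi (0 : ℤ), (𝒜 n : Set R)))
    (I : GrLC.StarInjRes 𝒜 𝒜) (mS : HomogeneousIdeal ℬ)
    (hmS : mS.toIdeal = Ideal.span (⋃ n ∈ Set.Ioi (0 : ℤ), (ℬ n : Set S)))
    (J : GrLC.StarInjRes ℬ ℬ) (mT : HomogeneousIdeal 𝒯)
    (hmT : mT.toIdeal = Ideal.span (⋃ n ∈ Set.Ioi (0 : ℤ), (𝒯 n : Set T)))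
    (IT : GrLC.StarInjRes 𝒯 𝒯)
    (hR : ∀ (q : ℕ) (d : ℤ), q ≤ 1 → I.Hcomp mR q d = ⊥)
    (hS : ∀ (q : ℕ) (d : ℤ), q ≤ 1 → J.Hcomp mS q d = ⊥) (q : ℕ) (d : ℤ) :
    Module.finrank (GrLC.deg0 𝒯) (IT.Hcomp mT q d) =
      Module.finrank k (𝒜 d) * Module.finrank (GrLC.deg0 ℬ) (J.Hcomp mS q d) +
        Module.finrank (GrLC.deg0 𝒜) (I.Hcomp mR q d) * Module.finrank k (ℬ d) +
      (Finset.range (q + 2)).sum (fun i => Module.finrank (GrLC.deg0 𝒜) (I.Hcomp mR i d) *
        Module.finrank (GrLC.deg0 ℬ) (J.Hcomp mS (q + 1 - i) d)) := by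
  classical
  letI : DirectSum.Decomposition (toSub 𝒜) := toSubDecomposition 𝒜
  letI : DirectSum.Decomposition (toSub ℬ) := toSubDecomposition ℬ
  letI : DirectSum.Decomposition (toSub 𝒯) := toSubDecomposition 𝒯
  haveI : SetLike.GradedSMul 𝒜 (toSub 𝒜) :=
    ⟨fun {i j a b} ha hb => SetLike.GradedMul.mul_mem (A := 𝒜) ha hb⟩
  haveI : SetLike.GradedSMul ℬ (toSub ℬ) :=
    ⟨fun {i j a b} ha hb => SetLike.GradedMul.mul_mem (A := ℬ) ha hb⟩
  haveI : SetLike.GradedSMul 𝒯 (toSub 𝒯) :=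
    ⟨fun {i j a b} ha hb => SetLike.GradedMul.mul_mem (A := 𝒯) ha hb⟩
  have hT : GrSeg.IsSegreRing 𝒜 ℬ 𝒯 ψ := ⟨hψ, hdegT⟩
  have hP : GrSeg.IsSegreMod ψ (toSub 𝒜) (toSub ℬ) (toSub 𝒯) ψ.toLinearMap :=
    { injective := hψ
      image_piece := fun n => by
        have h1 := hdegT n
        have h2 : (ψ.toLinearMap '' ((toSub 𝒯 n : AddSubgroup T) : Set T)) =
            (((𝒯 n).map ψ.toLinearMap : Submodule k (R ⊗[k] S)) : Set (R ⊗[k] S)) := rfl
        rw [h2, h1]
        rfl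
      map_smul := fun t p => by
        rw [act_self']
        exact map_mul ψ t p }
  let EM : GrLC.StarInjRes 𝒜 (toSub 𝒜) :=
    { X := I.X
      d := I.d
      ε := I.ε
      d_grHom := I.d_grHom
      ε_grHom := fun j m hm => I.ε_grHom j m hm
      ε_injective := I.ε_injective
      exact_zero := I.exact_zero
      exact_succ := I.exact_succ
      starInj := I.starInj }
  let EN : GrLC.StarInjRes ℬ (toSub ℬ) :=
    { X := J.X
      d := J.d
      ε := J.ε
      d_grHom := J.d_grHom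
      ε_grHom := fun j m hm => J.ε_grHom j m hm
      ε_injective := J.ε_injective
      exact_zero := J.exact_zero
      exact_succ := J.exact_succ
      starInj := J.starInj }
  let EP : GrLC.StarInjRes 𝒯 (toSub 𝒯) :=
    { X := IT.X
      d := IT.d
      ε := IT.ε
      d_grHom := IT.d_grHom
      ε_grHom := fun j m hm => IT.ε_grHom j m hm
      ε_injective := IT.ε_injective
      exact_zero := IT.exact_zero
      exact_succ := IT.exact_succ
      starInj := IT.starInj }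
  have key := kunneth k R 𝒜 hposR h0R S ℬ hposS h0S T 𝒯 ψ hT mR hmR mS hmS mT hmT
    R (toSub 𝒜) EM S (toSub ℬ) EN T (toSub 𝒯) ψ.toLinearMap hP EP
    (fun q d hq => hR q d hq) (fun q d hq => hS q d hq) q d
  rw [finrank_comp_self 𝒜 h0R d, finrank_comp_self ℬ h0S d] at key
  exact key

end Groth.Agent.Lib.Helper87.Kun
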