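import Groth.Agent.Lib.Helper87.Kun22
import Groth.Agent.S13215

/-!
# Existence of `*`-injective resolutions over `Submodule`-valued gradings, the irrelevant ideal as a
homogeneous ideal, and the vanishing of pieces of rank zero (helper87)
-/

set_option autoImplicit false
universe u

namespace Groth.Agent.Lib.Helper87.Kun

open DirectSum TensorProduct GrLC
open Groth.Agent.Lib.Helper99 Groth.Agent.Lib.Helper39 Groth.Agent.Lib.Helper39.GrBridge
  Groth.Agent.Lib.Helper87.SegOne

section Unconv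

variable {ι : Type} [AddCommGroup ι] [DecidableEq ι] {R : Type u} [CommRing R]
  {σ : Type u} [SetLike σ R] [AddSubgroupClass σ R] {𝒜 : ι → σ} [GradedRing 𝒜]

attribute [local instance] toSubGradedRing toSubDecomposition toSubGradedSMul

theorem isStarInj_unconv {X : Type u} [AddCommGroup X] [Module R X] (𝒳 : ι → AddSubgroup X)
    [DirectSum.Decomposition 𝒳] [SetLike.GradedSMul (toSub 𝒜) 𝒳]
    (h : IsStarInj (toSub 𝒜) 𝒳) :
    @IsStarInj ι _ _ R _ σ _ _ 𝒜 _ X _ _ _ _ _ 𝒳 _ (gsmul_of_toSub 𝒜 𝒳) := by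
  intro A B f hf hinj g hg
  exact h (convGMod A) (convGMod B) f hf hinj g hg

variable {P : Type u} [AddCommGroup P] [Module R P] {𝒬 : ι → AddSubgroup P}
  [DirectSum.Decomposition 𝒬] [SetLike.GradedSMul (toSub 𝒜) 𝒬]

/-- a `*`-injective resolution over `toSub 𝒜` as one over `𝒜` -/
noncomputable def unconvRes (E : StarInjRes (toSub 𝒜) 𝒬) :
    @StarInjRes ι _ _ R _ σ _ _ 𝒜 _ P _ _ _ _ _ 𝒬 _ (gsmul_of_toSub 𝒜 𝒬) :=
  letI := gsmul_of_toSub 𝒜 𝒬
  { X := fun n => unconvGMod (E.X n)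
    d := E.d
    ε := E.ε
    d_grHom := E.d_grHom
    ε_grHom := fun j m hm => E.ε_grHom j m hm
    ε_injective := E.ε_injective
    exact_zero := E.exact_zero
    exact_succ := E.exact_succ
    starInj := fun n =>
      @isStarInj_unconv ι _ _ R _ σ _ _ 𝒜 _ (E.X n).carrier _ _ (E.X n).gr (E.X n).dec
        (E.X n).gsmul (E.starInj n) }

end Unconv

section Exists

variable {R : Type u} [CommRing R] [IsNoetherianRing R]
  {σ : Type u} [SetLike σ R] [AddSubgroupClass σ R] (𝒜 : ℤ → σ) [GradedRing 𝒜]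
  {P : Type u} [AddCommGroup P] [Module R P] (𝒬 : ℤ → AddSubgroup P)
  [DirectSum.Decomposition 𝒬] [SetLike.GradedSMul 𝒜 𝒬]

attribute [local instance] toSubGradedRing toSubDecomposition toSubGradedSMul

/-- `*`-injective resolutions exist over gradings by arbitrary subobjects -/
theorem exists_starInjRes : Nonempty (StarInjRes 𝒜 𝒬) := by
  haveI : SetLike.GradedSMul (toSub 𝒜) 𝒬 := gsmul_toSub 𝒜 𝒬
  obtain ⟨E⟩ := Groth.Agent.S13215.result R (toSub 𝒜) P 𝒬
  exact ⟨unconvRes E⟩

end Exists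

section Irr

variable {k : Type u} [Field k] {T : Type u} [CommRing T] [Algebra k T]
  (𝒯 : ℤ → Submodule k T) [GradedAlgebra 𝒯]

/-- the irrelevant ideal as a homogeneous ideal -/
noncomputable def irrH : HomogeneousIdeal 𝒯 :=
  ⟨Ideal.span (⋃ n ∈ Set.Ioi (0 : ℤ), (𝒯 n : Set T)), by
    apply Ideal.homogeneous_span
    intro x hx
    simp only [Set.mem_iUnion] at hx
    obtain ⟨n, -, hx⟩ := hx
    exact ⟨n, hx⟩⟩

theorem irrH_toIdeal :
    (irrH 𝒯).toIdeal = Ideal.span (⋃ n ∈ Set.Ioi (0 : ℤ), (𝒯 n : Set T)) := rfl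

end Irr

section Rank

variable {k : Type u} [Field k] {T : Type u} [CommRing T] [Algebra k T]
  {𝒯' : ℤ → AddSubgroup T} [GradedRing 𝒯']

/-- over a degree-zero subring which is the field of scalars, a finite piece of rank zero
vanishes -/
theorem eq_bot_of_finrank_eq_zero (hκ : ∀ c : k, algebraMap k T c ∈ 𝒯' 0)
    (hκb : Function.Bijective (kappa (𝒯' := 𝒯') hκ))
    {H : Type*} [AddCommGroup H] [Module T H] (X : Submodule (deg0 𝒯') H)
    [Module.Finite (deg0 𝒯') X] (h : Module.finrank (deg0 𝒯') X = 0) : X = ⊥ := by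
  letI : Module k X := Module.compHom X (kappa (𝒯' := 𝒯') hκ)
  have h1 : Module.finrank k X = 0 := by
    rw [← h]
    exact finrank_compHom (kappa (𝒯' := 𝒯') hκ) hκb X
  haveI : Module.Finite k X := finite_compHom (kappa (𝒯' := 𝒯') hκ) hκb.2 X
  have h2 : Subsingleton X := Module.finrank_zero_iff.mp h1
  exact Submodule.eq_bot_of_subsingleton

end Rank

end Groth.Agent.Lib.Helper87.Kun
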