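import Groth.Agent.Lib.Helper87.Kun23
import Groth.Agent.Lib.Helper26.LcCM
import Groth.Agent.Lib.Helper60.GrothVanishing
import Groth.Agent.S13224

/-!
# Graded local cohomology and the Cohen–Macaulay property of a graded module over a positively
graded algebra over a field (helper87)
-/

set_option autoImplicit false
universe u

namespace Groth.Agent.Lib.Helper87.Kun

open DirectSum TensorProduct GrLC RingTheory.Sequence
open Groth.Agent.Lib.Helper99 Groth.Agent.Lib.Helper39 Groth.Agent.Lib.Helper39.GrBridge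
  Groth.Agent.Lib.Helper87.SegOne Groth.Agent.Lib.Helper60

section GrCM

variable {k : Type u} [Field k] {T : Type u} [CommRing T] [Algebra k T]
  (𝒯 : ℤ → Submodule k T) [GradedAlgebra 𝒯]
  {P : Type u} [AddCommGroup P] [Module T P] [Module k P] [IsScalarTower k T P]
  (𝒬 : ℤ → AddSubgroup P) [DirectSum.Decomposition 𝒬] [SetLike.GradedSMul 𝒯 𝒬]

attribute [local instance] toSubGradedRing toSubDecomposition toSubGradedSMul

include 𝒬 in
/-- a lower bound for the depth along the irrelevant ideal by `dim P` makes every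
localization of `P` zero or Cohen–Macaulay -/
theorem pcm_of_le_idealDepth (hpos : ∀ n : ℤ, n < 0 → 𝒯 n = ⊥)
    (h0 : 𝒯 0 = Submodule.span k {(1 : T)}) [IsNoetherianRing T] [Module.Finite T P]
    [Nontrivial P] [Nontrivial T] (s : ℕ) (hdim : Module.supportDim T P = s)
    (h1 : (s : ℕ∞) ≤ LocCoh.idealDepth (Helper87.irr 𝒯) P) (q : Ideal T) [q.IsPrime] :
    Subsingleton (LocalizedModule q.primeCompl P) ∨
      LocCoh.IsCohenMacaulayModule (Localization.AtPrime q) (LocalizedModule q.primeCompl P) := by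
  haveI hmax : (Helper87.irr 𝒯).IsMaximal := irr_isMaximal 𝒯 hpos h0
  haveI hprime : (Helper87.irr 𝒯).IsPrime := hmax.isPrime
  haveI : Nontrivial (LocalizedModule (Helper87.irr 𝒯).primeCompl P) :=
    nontrivial_localized_irr 𝒯 𝒬 hpos h0
  haveI : IsNoetherianRing (Localization.AtPrime (Helper87.irr 𝒯)) :=
    IsLocalization.isNoetherianRing (Helper87.irr 𝒯).primeCompl _ inferInstance
  have h2 := Groth.Agent.Lib.Helper29.idealDepth_le_depth_localization T (Helper87.irr 𝒯) P
  have h3 := Groth.Agent.Lib.Helper29.depth_le_supportDim (Localization.AtPrime (Helper87.irr 𝒯))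
    (LocalizedModule (Helper87.irr 𝒯).primeCompl P)
  have h4 := supportDim_localizedModule_le (P := P) (Helper87.irr 𝒯)
  rw [hdim] at h4
  have h5 : ((s : ℕ∞) : WithBot ℕ∞) ≤
      ((LocCoh.depth (Localization.AtPrime (Helper87.irr 𝒯))
        (LocalizedModule (Helper87.irr 𝒯).primeCompl P) : ℕ∞) : WithBot ℕ∞) :=
    WithBot.coe_le_coe.mpr (h1.trans h2)
  have hcm : LocCoh.IsCohenMacaulayModule (Localization.AtPrime (Helper87.irr 𝒯))
      (LocalizedModule (Helper87.irr 𝒯).primeCompl P) := by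
    unfold LocCoh.IsCohenMacaulayModule
    apply le_antisymm
    · exact h4.trans h5
    · exact h3
  haveI : SetLike.GradedSMul (toSub 𝒯) 𝒬 := gsmul_toSub 𝒯 𝒬
  refine cm_all_of_cm_irr T (toSub 𝒯) P 𝒬 (Helper87.irr 𝒯) ?_ hcm q
  intro I hI hItop
  apply le_irr_of_homogeneous 𝒯 hpos h0 I ?_ hItop
  intro f hf n
  have := hI n hf
  rwa [decompose_toSub] at this

variable (EP : GrLC.StarInjRes 𝒯 𝒬) (mT : HomogeneousIdeal 𝒯)

omit [Module k P] [IsScalarTower k T P] in
/-- the graded local cohomology vanishes iff all of its pieces do iff the ungraded one does -/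
theorem Hcomp_eq_bot_iff_subsingleton [IsNoetherianRing T] (q : ℕ) :
    (∀ d : ℤ, EP.Hcomp mT q d = ⊥) ↔ Subsingleton (LocCoh.H mT.toIdeal q P) := by
  obtain ⟨e⟩ := Groth.Agent.S13224.result T (toSub 𝒯) (convIdeal mT) P (toSub 𝒬) (convRes EP) q
  have e' : EP.H mT q ≃ₗ[T] LocCoh.H mT.toIdeal q P := e
  constructor
  · intro h
    haveI : Subsingleton (EP.H mT q) :=
      H_subsingleton_of_Hcomp_eq_bot (convRes EP) (convIdeal mT) q
        (fun g => (convRes_Hcomp_eq_bot_iff EP mT q g).mpr (h g))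
    exact e'.symm.toEquiv.subsingleton
  · intro h d
    haveI : Subsingleton (EP.H mT q) := e'.toEquiv.subsingleton
    rw [eq_bot_iff]
    intro x _
    rw [Submodule.mem_bot]
    exact Subsingleton.elim _ _

omit [Module k P] [IsScalarTower k T P] in
/-- Grothendieck vanishing for the graded pieces -/
theorem Hcomp_eq_bot_of_supportDim_lt [IsNoetherianRing T] [Module.Finite T P] (q : ℕ)
    (h : Module.supportDim T P < (q : WithBot ℕ∞)) (d : ℤ) : EP.Hcomp mT q d = ⊥ :=
  (Hcomp_eq_bot_iff_subsingleton 𝒯 𝒬 EP mT q).mpr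
    (lc_subsingleton_of_supportDim_lt_of_finite mT.toIdeal q P h) d

/-- for a module all of whose localizations are zero or Cohen–Macaulay the graded local
cohomology at the irrelevant ideal vanishes below the dimension -/
theorem Hcomp_eq_bot_of_lt_of_cm (hpos : ∀ n : ℤ, n < 0 → 𝒯 n = ⊥)
    (h0 : 𝒯 0 = Submodule.span k {(1 : T)}) [IsNoetherianRing T] [Nontrivial T]
    [Module.Finite T P] (hmT : mT.toIdeal = Helper87.irr 𝒯) (n : ℕ) (hdim : Module.supportDim T P = n)
    (hcm : ∀ (q : Ideal T) [q.IsPrime], Subsingleton (LocalizedModule q.primeCompl P) ∨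
      LocCoh.IsCohenMacaulayModule (Localization.AtPrime q) (LocalizedModule q.primeCompl P))
    (q : ℕ) (hq : q < n) (d : ℤ) : EP.Hcomp mT q d = ⊥ := by
  haveI hmax : (Helper87.irr 𝒯).IsMaximal := irr_isMaximal 𝒯 hpos h0
  haveI hprime : (Helper87.irr 𝒯).IsPrime := hmax.isPrime
  haveI : Algebra.FiniteType k T := finiteType_of_isNoetherianRing 𝒯 hpos h0
  refine (Hcomp_eq_bot_iff_subsingleton 𝒯 𝒬 EP mT q).mpr ?_ d
  have main := (Groth.Agent.Lib.Helper26.LcCM.main T mT.toIdeal P
    (fun p => hcm p.asIdeal) n).mpr ?_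
  · exact main q hq
  · intro p hp _
    have hpe : p.asIdeal = Helper87.irr 𝒯 := by
      rw [hmT] at hp
      exact (hmax.eq_of_le p.isPrime.ne_top hp).symm
    have hlow := le_supportDim_localized_irr 𝒯 𝒬 hpos h0 n hdim
    have key : ∀ (I : Ideal T) [I.IsPrime], I = Helper87.irr 𝒯 →
        ((n : ℕ) : WithBot ℕ∞) ≤ Module.supportDim (Localization.AtPrime I)
          (LocalizedModule I.primeCompl P) := by
      intro I _ hI
      subst hI
      exact hlow
    exact key p.asIdeal hpe

include 𝒬 in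
/-- conversely, vanishing of the graded local cohomology below the dimension makes every
localization zero or Cohen–Macaulay -/
theorem pcm_of_Hcomp_eq_bot (hpos : ∀ n : ℤ, n < 0 → 𝒯 n = ⊥)
    (h0 : 𝒯 0 = Submodule.span k {(1 : T)}) [IsNoetherianRing T] [Nontrivial T]
    [Module.Finite T P] [Nontrivial P] (hmT : mT.toIdeal = Helper87.irr 𝒯) (n : ℕ)
    (hdim : Module.supportDim T P = n)
    (hvan : ∀ q : ℕ, q < n → ∀ d : ℤ, EP.Hcomp mT q d = ⊥) (q : Ideal T) [q.IsPrime] :
    Subsingleton (LocalizedModule q.primeCompl P) ∨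
      LocCoh.IsCohenMacaulayModule (Localization.AtPrime q) (LocalizedModule q.primeCompl P) := by
  refine pcm_of_le_idealDepth 𝒯 𝒬 hpos h0 n hdim ?_ q
  rw [← hmT]
  refine (Groth.Agent.Lib.Helper26.LcCM.lc_vanishing_iff_le_idealDepth T mT.toIdeal P n).mp ?_
  intro i hi
  exact (Hcomp_eq_bot_iff_subsingleton 𝒯 𝒬 EP mT i).mp (hvan i hi)

end GrCM

end Groth.Agent.Lib.Helper87.Kun
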