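import Groth.Agent.Lib.Helper87.SegOne7

/-!
# Homogeneous systems of parameters of graded Cohen–Macaulay modules are regular sequences, II
(helper87)
-/

set_option autoImplicit false
universe u

namespace Groth.Agent.Lib.Helper87.SegOne

open DirectSum MvPolynomial RingTheory.Sequence IsLocalRing
open Groth.Agent.Lib.Helper99 Groth.Agent.Lib.Helper39 Groth.Agent.Lib.Helper29

section Sop

variable {k : Type u} [Field k] {S : Type u} [CommRing S] [Algebra k S]
  (ℬ : ℤ → Submodule k S) [GradedAlgebra ℬ]
  {N : Type u} [AddCommGroup N] [Module S N] [Module k N] [IsScalarTower k S N]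
  (𝒩 : ℤ → AddSubgroup N) [DirectSum.Decomposition 𝒩] [SetLike.GradedSMul ℬ 𝒩]

omit [SetLike.GradedSMul ℬ 𝒩] [Module k N] [IsScalarTower k S N] in
theorem exists_homogeneous_ne_zero [Nontrivial N] : ∃ p : ℤ, ∃ m ∈ 𝒩 p, m ≠ 0 := by
  classical
  obtain ⟨n, hn⟩ := exists_ne (0 : N)
  by_contra hcon
  push Not at hcon
  apply hn
  rw [← DirectSum.sum_support_decompose 𝒩 n]
  exact Finset.sum_eq_zero fun d _ => hcon d _ (SetLike.coe_mem _)

include 𝒩 in
/-- a homogeneous system of parameters of a graded Cohen–Macaulay module is a weakly regular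
sequence -/
theorem isWeaklyRegular_sop (hpos : ∀ n : ℤ, n < 0 → ℬ n = ⊥)
    (h0 : ℬ 0 = Submodule.span k {(1 : S)}) [Algebra.FiniteType k S] [Module.Finite S N]
    [Nontrivial N]
    (hNcm : ∀ (q : Ideal S) [q.IsPrime], Subsingleton (LocalizedModule q.primeCompl N) ∨
      LocCoh.IsCohenMacaulayModule (Localization.AtPrime q) (LocalizedModule q.primeCompl N))
    {s : ℕ} (D : ℤ) (hD : 0 < D) (y : Fin s → S) (hy : ∀ i, y i ∈ ℬ D)
    (hind : AlgebraicIndependent k
      (fun i => Ideal.Quotient.mk (Module.annihilator S N) (y i)))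
    (hint : (MvPolynomial.aeval (fun i => Ideal.Quotient.mk (Module.annihilator S N) (y i)) :
      MvPolynomial (Fin s) k →ₐ[k] S ⧸ Module.annihilator S N).toRingHom.IsIntegral) :
    IsWeaklyRegular N (List.ofFn y) := by
  classical
  set J : Ideal S := Module.annihilator S N with hJ
  have hJhom : ∀ f ∈ J, ∀ n : ℤ, (decompose ℬ f n : S) ∈ J :=
    fun f hf n => decompose_mem_annihilator ℬ 𝒩 hf n
  have : Nontrivial S := Module.nontrivial S N
  have : IsNoetherianRing S := Algebra.FiniteType.isNoetherianRing k S
  haveI hmax : (irr ℬ).IsMaximal := irr_isMaximal ℬ hpos h0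
  haveI hprime : (irr ℬ).IsPrime := hmax.isPrime
  apply isWeaklyRegular_of_localized ℬ 𝒩 hpos h0 y hy
  obtain ⟨Q, hQmono, hIQ, hQle⟩ := exists_chain_le_irr ℬ hpos h0 J hJhom D y hy hind hint
  have hsupp : ∀ i, Q i ∈ Module.support S N := by
    intro i
    rw [Module.mem_support_iff_of_finite]
    exact hIQ i
  have hlow := le_supportDim_localizedModule_of_chain (irr ℬ) N Q hQmono hsupp hQle
  obtain ⟨p, m, hm, hm0⟩ := exists_homogeneous_ne_zero 𝒩
  set m' : LocalizedModule (irr ℬ).primeCompl N := LocalizedModule.mk m 1 with hm'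
  have hm'0 : m' ≠ 0 := by
    intro h
    rw [hm', ← LocalizedModule.zero_mk 1, LocalizedModule.mk_eq] at h
    obtain ⟨u, hu⟩ := h
    rw [smul_zero, smul_zero, one_smul] at hu
    exact u.2 (mem_irr_of_smul_eq_zero ℬ 𝒩 hpos h0 hm hm0 hu)
  have hcm : LocCoh.IsCohenMacaulayModule (Localization.AtPrime (irr ℬ))
      (LocalizedModule (irr ℬ).primeCompl N) := by
    rcases hNcm (irr ℬ) with h | h
    · exact absurd (Subsingleton.elim m' 0) hm'0
    · exact h
  haveI : IsNoetherianRing (Localization.AtPrime (irr ℬ)) :=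
    IsLocalization.isNoetherianRing (irr ℬ).primeCompl _ inferInstance
  set xs : List (Localization.AtPrime (irr ℬ)) :=
    List.ofFn fun j => algebraMap S (Localization.AtPrime (irr ℬ)) (y j) with hxs
  have hxsmem : ∀ x ∈ xs, x ∈ maximalIdeal (Localization.AtPrime (irr ℬ)) := by
    intro x hx
    rw [hxs, List.mem_ofFn] at hx
    obtain ⟨j, rfl⟩ := hx
    rw [IsLocalization.AtPrime.to_map_mem_maximal_iff (Localization.AtPrime (irr ℬ)) (irr ℬ)]
    exact mem_irr_of_pos ℬ hD (hy j)
  rw [isWeaklyRegular_iff_supportDim_of_isCohenMacaulayModule _ _ hcm xs hxsmem]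
  have hq0 : Module.supportDim (Localization.AtPrime (irr ℬ))
      (LocalizedModule (irr ℬ).primeCompl N ⧸ Ideal.ofList xs •
        (⊤ : Submodule (Localization.AtPrime (irr ℬ)) (LocalizedModule (irr ℬ).primeCompl N))) ≤
      0 := by
    unfold Module.supportDim
    have key : ∀ q ∈ Module.support (Localization.AtPrime (irr ℬ))
        (LocalizedModule (irr ℬ).primeCompl N ⧸ Ideal.ofList xs •
          (⊤ : Submodule (Localization.AtPrime (irr ℬ)) (LocalizedModule (irr ℬ).primeCompl N))),
        q = IsLocalRing.closedPoint (Localization.AtPrime (irr ℬ)) := by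
      intro q hq
      rw [Module.support_quotient] at hq
      obtain ⟨hq1, hq2⟩ := hq
      haveI hqp : (q.asIdeal.comap (algebraMap S (Localization.AtPrime (irr ℬ)))).IsPrime :=
        Ideal.comap_isPrime _ _
      have hJq : J ≤ q.asIdeal.comap (algebraMap S (Localization.AtPrime (irr ℬ))) := by
        intro r hr
        rw [Ideal.mem_comap]
        apply Module.annihilator_le_of_mem_support hq1
        rw [Module.mem_annihilator]
        intro z
        induction z using LocalizedModule.induction_on with
        | h n u =>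
          rw [algebraMap_smul, LocalizedModule.smul'_mk, Module.mem_annihilator.mp hr n,
            LocalizedModule.zero_mk]
      have hyq : ∀ j, y j ∈ q.asIdeal.comap (algebraMap S (Localization.AtPrime (irr ℬ))) := by
        intro j
        rw [Ideal.mem_comap]
        apply hq2
        apply Ideal.subset_span
        rw [hxs]
        exact List.mem_ofFn.mpr ⟨j, rfl⟩
      have hqmax := isMaximal_of_sop_le (k := k) J y hint _ hJq hyq
      have hqle : q.asIdeal.comap (algebraMap S (Localization.AtPrime (irr ℬ))) ≤ irr ℬ := by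
        intro r hr
        by_contra hrn
        have hu : IsUnit (algebraMap S (Localization.AtPrime (irr ℬ)) r) :=
          IsLocalization.map_units (Localization.AtPrime (irr ℬ))
            (⟨r, hrn⟩ : (irr ℬ).primeCompl)
        exact q.isPrime.ne_top (Ideal.eq_top_of_isUnit_mem _ hr hu)
      have heq : q.asIdeal.comap (algebraMap S (Localization.AtPrime (irr ℬ))) = irr ℬ :=
        hqmax.eq_of_le hmax.ne_top hqle
      apply PrimeSpectrum.ext
      show q.asIdeal = maximalIdeal (Localization.AtPrime (irr ℬ))
      have h9 := IsLocalization.map_under (irr ℬ).primeCompl (Localization.AtPrime (irr ℬ)) q.asIdeal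
      rw [← h9]
      show Ideal.map (algebraMap S (Localization.AtPrime (irr ℬ)))
        (q.asIdeal.comap (algebraMap S (Localization.AtPrime (irr ℬ)))) = _
      rw [heq]
      exact Localization.AtPrime.map_eq_maximalIdeal
    haveI : Subsingleton (Module.support (Localization.AtPrime (irr ℬ))
        (LocalizedModule (irr ℬ).primeCompl N ⧸ Ideal.ofList xs •
          (⊤ : Submodule (Localization.AtPrime (irr ℬ))
            (LocalizedModule (irr ℬ).primeCompl N)))) :=
      ⟨fun a b => Subtype.ext ((key a a.2).trans (key b b.2).symm)⟩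
    exact Order.krullDim_nonpos_of_subsingleton
  have hge := supportDim_le_supportDim_quotient_ofList_add_length (Localization.AtPrime (irr ℬ))
    (LocalizedModule (irr ℬ).primeCompl N) xs hxsmem
  have hlen : xs.length = s := by rw [hxs, List.length_ofFn]
  rw [hlen] at hge ⊢
  rcases eq_or_ne (Module.supportDim (Localization.AtPrime (irr ℬ))
      (LocalizedModule (irr ℬ).primeCompl N ⧸ Ideal.ofList xs •
        (⊤ : Submodule (Localization.AtPrime (irr ℬ)) (LocalizedModule (irr ℬ).primeCompl N))))
      ⊥ with hb | hb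
  · rw [hb, WithBot.bot_add] at hge
    have h1 := hlow.trans hge
    rw [le_bot_iff] at h1
    exact absurd h1 (by exact_mod_cast WithBot.coe_ne_bot)
  · have hq : Module.supportDim (Localization.AtPrime (irr ℬ))
        (LocalizedModule (irr ℬ).primeCompl N ⧸ Ideal.ofList xs •
          (⊤ : Submodule (Localization.AtPrime (irr ℬ))
            (LocalizedModule (irr ℬ).primeCompl N))) = 0 := by
      refine le_antisymm hq0 ?_
      obtain ⟨n, hn⟩ := WithBot.ne_bot_iff_exists.mp hb
      rw [← hn]
      exact WithBot.coe_le_coe.mpr zero_le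
    rw [hq, zero_add] at hge ⊢
    exact le_antisymm hlow hge

end Sop

end Groth.Agent.Lib.Helper87.SegOne
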