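import Groth.Agent.Lib.Helper87.SegreCM0
import Mathlib.RingTheory.GradedAlgebra.Homogeneous.Ideal
import Mathlib.RingTheory.GradedAlgebra.Radical

/-!
# The irrelevant ideal of a positively graded algebra over a field (helper87)

`irr 𝒜` is maximal, consists of the elements with vanishing degree-`0` component, contains the
annihilator of every non-zero homogeneous element of a graded module, and is the only prime
containing a homogeneous ideal modulo which every prime is maximal.
-/

set_option autoImplicit false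
universe u

namespace Groth.Agent.Lib.Helper87

open DirectSum
open Groth.Agent.Lib.Helper99 (coe_decompose_smul_of_mem)

section IrrMax

variable {k : Type u} [Field k] {R : Type u} [CommRing R] [Algebra k R]
  (𝒜 : ℤ → Submodule k R) [GradedAlgebra 𝒜]

/-- elements of the irrelevant ideal have no degree-zero component -/
theorem decompose_zero_of_mem_irr (hpos : ∀ n : ℤ, n < 0 → 𝒜 n = ⊥) {f : R} (hf : f ∈ irr 𝒜) :
    (decompose 𝒜 f 0 : R) = 0 := by
  have key : ∀ g : R, (decompose 𝒜 (g * f) 0 : R) = 0 := by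
    unfold irr at hf
    rw [Ideal.span] at hf
    induction hf using Submodule.span_induction with
    | mem f hf =>
      intro g
      simp only [Set.mem_iUnion, Set.mem_Ioi] at hf
      obtain ⟨n, hn, hfn⟩ := hf
      have h1 := DirectSum.coe_decompose_mul_add_of_right_mem 𝒜 (a := g) (i := -n) (j := n) hfn
      rw [neg_add_cancel] at h1
      rw [h1]
      have h2 : ∀ z ∈ 𝒜 (-n), z = 0 := by
        intro z hz
        rw [hpos (-n) (by omega), Submodule.mem_bot] at hz
        exact hz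
      rw [h2 _ (decompose 𝒜 g (-n)).2, zero_mul]
    | zero => intro g; rw [mul_zero, decompose_zero]; rfl
    | add f f' _ _ hf hf' =>
      intro g
      rw [mul_add, decompose_add, DirectSum.add_apply, Submodule.coe_add, hf g, hf' g, add_zero]
    | smul r f _ hf =>
      intro g
      rw [smul_eq_mul, ← mul_assoc]
      exact hf (g * r)
  have := key 1
  rwa [one_mul] at this

/-- an element without degree-zero component lies in the irrelevant ideal -/
theorem mem_irr_of_decompose_zero (hpos : ∀ n : ℤ, n < 0 → 𝒜 n = ⊥) {f : R}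
    (hf : (decompose 𝒜 f 0 : R) = 0) : f ∈ irr 𝒜 := by
  classical
  rw [← DirectSum.sum_support_decompose 𝒜 f]
  apply Ideal.sum_mem
  intro n _
  rcases lt_trichotomy n 0 with hn | hn | hn
  · have h2 : ∀ z ∈ 𝒜 n, z = 0 := by
      intro z hz
      rw [hpos n hn, Submodule.mem_bot] at hz
      exact hz
    rw [h2 _ (decompose 𝒜 f n).2]
    exact zero_mem _
  · rw [hn, hf]
    exact zero_mem _
  · exact mem_irr_of_pos 𝒜 hn (decompose 𝒜 f n).2

/-- the irrelevant ideal is maximal -/
theorem irr_isMaximal [Nontrivial R] (hpos : ∀ n : ℤ, n < 0 → 𝒜 n = ⊥)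
    (h0 : 𝒜 0 = Submodule.span k {(1 : R)}) : (irr 𝒜).IsMaximal := by
  rw [Ideal.isMaximal_iff]
  constructor
  · intro h1
    have h2 := decompose_zero_of_mem_irr 𝒜 hpos h1
    rw [decompose_of_mem_same 𝒜 (SetLike.GradedOne.one_mem (A := 𝒜))] at h2
    exact one_ne_zero h2
  · intro J x hJ hx hxJ
    obtain ⟨c, hc⟩ := exists_sub_algebraMap_mem_irr 𝒜 hpos h0 x
    have hcJ : algebraMap k R c ∈ J := by
      have h1 : x - algebraMap k R c ∈ J := hJ hc
      have h2 : algebraMap k R c = x - (x - algebraMap k R c) := by ring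
      rw [h2]
      exact J.sub_mem hxJ h1
    have hc0 : c ≠ 0 := by
      rintro rfl
      rw [map_zero, sub_zero] at hc
      exact hx hc
    have h3 : (1 : R) = algebraMap k R c⁻¹ * algebraMap k R c := by
      rw [← map_mul, inv_mul_cancel₀ hc0, map_one]
    rw [h3]
    exact J.mul_mem_left _ hcJ

/-- a proper homogeneous ideal is contained in the irrelevant ideal -/
theorem le_irr_of_homogeneous (hpos : ∀ n : ℤ, n < 0 → 𝒜 n = ⊥)
    (h0 : 𝒜 0 = Submodule.span k {(1 : R)}) (J : Ideal R)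
    (hJ : ∀ f ∈ J, ∀ n : ℤ, (decompose 𝒜 f n : R) ∈ J) (hJtop : J ≠ ⊤) : J ≤ irr 𝒜 := by
  intro f hf
  apply mem_irr_of_decompose_zero 𝒜 hpos
  have hspan : ∀ z ∈ 𝒜 0, ∃ c : k, c • (1 : R) = z := by
    intro z hz
    rw [h0, Submodule.mem_span_singleton] at hz
    exact hz
  obtain ⟨c, hc⟩ := hspan _ (decompose 𝒜 f 0).2
  by_contra hne
  have hc0 : c ≠ 0 := by
    rintro rfl
    rw [zero_smul] at hc
    exact hne hc.symm
  apply hJtop
  rw [Ideal.eq_top_iff_one]
  have h2 : (1 : R) = algebraMap k R c⁻¹ * (c • (1 : R)) := by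
    rw [Algebra.smul_def, mul_one, ← map_mul, inv_mul_cancel₀ hc0, map_one]
  rw [h2, hc]
  exact J.mul_mem_left _ (hJ f hf 0)

/-- a prime containing a homogeneous ideal modulo which all primes are maximal is the irrelevant
ideal -/
theorem eq_irr_of_homogeneous_le [Nontrivial R] (hpos : ∀ n : ℤ, n < 0 → 𝒜 n = ⊥)
    (h0 : 𝒜 0 = Submodule.span k {(1 : R)}) (J : Ideal R) (hJ : J.IsHomogeneous 𝒜)
    (hmax : ∀ q : Ideal R, q.IsPrime → J ≤ q → q.IsMaximal)
    (q : Ideal R) [hq : q.IsPrime] (hJq : J ≤ q) : q = irr 𝒜 := by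
  have hcore : ((q.homogeneousCore 𝒜).toIdeal).IsPrime := Ideal.IsPrime.homogeneousCore hq
  have hJcore : J ≤ (q.homogeneousCore 𝒜).toIdeal := by
    have := Ideal.homogeneousCore_mono 𝒜 hJq
    rw [← hJ.toIdeal_homogeneousCore_eq_self]
    exact this
  have hcmax := hmax _ hcore hJcore
  have hle : (q.homogeneousCore 𝒜).toIdeal ≤ q := Ideal.toIdeal_homogeneousCore_le 𝒜 q
  have heq : (q.homogeneousCore 𝒜).toIdeal = q := hcmax.eq_of_le hq.ne_top hle
  have hqhom : ∀ f ∈ q, ∀ n : ℤ, (decompose 𝒜 f n : R) ∈ q := by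
    intro f hf n
    have h1 : ((q.homogeneousCore 𝒜).toIdeal).IsHomogeneous 𝒜 := (q.homogeneousCore 𝒜).isHomogeneous
    rw [heq] at h1
    exact h1 n hf
  have hqle : q ≤ irr 𝒜 := le_irr_of_homogeneous 𝒜 hpos h0 q hqhom hq.ne_top
  have hqmax : q.IsMaximal := hmax q hq hJq
  exact hqmax.eq_of_le (irr_isMaximal 𝒜 hpos h0).ne_top hqle

end IrrMax

section AnnHom

variable {k : Type u} [Field k] {R : Type u} [CommRing R] [Algebra k R]
  (𝒜 : ℤ → Submodule k R) [GradedAlgebra 𝒜]
  {M : Type u} [AddCommGroup M] [Module R M] [Module k M] [IsScalarTower k R M]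
  (ℳ : ℤ → AddSubgroup M) [DirectSum.Decomposition ℳ] [SetLike.GradedSMul 𝒜 ℳ]

/-- the annihilator of a non-zero homogeneous element lies in the irrelevant ideal -/
theorem mem_irr_of_smul_eq_zero (hpos : ∀ n : ℤ, n < 0 → 𝒜 n = ⊥)
    (h0 : 𝒜 0 = Submodule.span k {(1 : R)}) {p : ℤ} {m : M} (hm : m ∈ ℳ p) (hm0 : m ≠ 0)
    {a : R} (ha : a • m = 0) : a ∈ irr 𝒜 := by
  apply mem_irr_of_decompose_zero 𝒜 hpos
  have h := coe_decompose_smul_of_mem 𝒜 ℳ a hm p
  rw [ha, decompose_zero, sub_self] at h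
  have hspan : ∀ z ∈ 𝒜 0, ∃ c : k, c • (1 : R) = z := by
    intro z hz
    rw [h0, Submodule.mem_span_singleton] at hz
    exact hz
  obtain ⟨c, hc⟩ := hspan _ (decompose 𝒜 a 0).2
  have h2 : c • m = 0 := by
    have : (c • (1 : R)) • m = c • m := by rw [smul_assoc, one_smul]
    rw [← this, hc]
    exact h.symm
  rcases smul_eq_zero.mp h2 with hc0 | hm'
  · rw [← hc, hc0, zero_smul]
  · exact absurd hm' hm0

end AnnHom

end Groth.Agent.Lib.Helper87
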