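import Groth.Agent.Lib.Helper87.SegOne5
import Groth.Agent.Lib.Helper87.SegreCM1
import Mathlib.RingTheory.Ideal.AssociatedPrime.Basic
import Mathlib.RingTheory.QuotSMulTop

/-!
# A socle element on a Segre product with a factor of dimension one (helper87)
-/

set_option autoImplicit false
universe u

namespace Groth.Agent.Lib.Helper87.SegOne

open DirectSum TensorProduct
open Groth.Agent.Lib.Helper99

section Eval

variable {k : Type u} [Field k] {R : Type u} [CommRing R] [Algebra k R]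
  {M N : Type u} [AddCommGroup M] [Module R M] [Module k M] [IsScalarTower k R M]
  [AddCommGroup N] [Module k N]

/-- evaluate a functional on the right factor -/
noncomputable def evalR (g : N →ₗ[k] k) : M ⊗[k] N →ₗ[k] M :=
  (TensorProduct.rid k M).toLinearMap ∘ₗ LinearMap.lTensor M g

omit [Module R M] [IsScalarTower k R M] in
theorem evalR_tmul (g : N →ₗ[k] k) (m : M) (n : N) : evalR g (m ⊗ₜ[k] n) = g n • m := by
  simp [evalR]

theorem evalR_lM (g : N →ₗ[k] k) (a : R) (z : M ⊗[k] N) :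
    evalR g (lM k N a z) = a • evalR g z := by
  induction z using TensorProduct.induction_on with
  | zero => simp
  | tmul m n => rw [lM_tmul, evalR_tmul, evalR_tmul, smul_comm]
  | add z z' hz hz' => rw [map_add, map_add, map_add, smul_add, hz, hz']

end Eval

section Seg

variable {k : Type u} [Field k] {R S T : Type u} [CommRing R] [CommRing S] [CommRing T]
  [Algebra k R] [Algebra k S] [Algebra k T]
  (𝒜 : ℤ → Submodule k R) [GradedAlgebra 𝒜] (ℬ : ℤ → Submodule k S) [GradedAlgebra ℬ]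
  (𝒯 : ℤ → Submodule k T) [GradedAlgebra 𝒯]
  {M N P : Type u} [AddCommGroup M] [Module R M] [Module k M] [IsScalarTower k R M]
  [AddCommGroup N] [Module S N] [Module k N] [IsScalarTower k S N]
  [AddCommGroup P] [Module T P] [Module k P] [IsScalarTower k T P]
  (ℳ : ℤ → AddSubgroup M) [DirectSum.Decomposition ℳ] [SetLike.GradedSMul 𝒜 ℳ]
  (𝒩 : ℤ → AddSubgroup N) [DirectSum.Decomposition 𝒩] [SetLike.GradedSMul ℬ 𝒩]
  (𝒬 : ℤ → AddSubgroup P) [DirectSum.Decomposition 𝒬]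
  (ψ : T →ₐ[k] R ⊗[k] S) (hT : GrSeg.IsSegreRing 𝒜 ℬ 𝒯 ψ)
  (φ : P →ₗ[k] M ⊗[k] N) (hP : GrSeg.IsSegreMod ψ ℳ 𝒩 𝒬 φ)

include hT hP in
/-- **B-core.**  If `a : M_{d} → M_{d+E}` is not surjective for some `d` with `N_d ≠ 0`, then the
irrelevant ideal of the Segre ring is associated to `P / tP`, where `t` lifts `a ⊗ b`. -/
theorem irr_mem_associatedPrimes [IsNoetherianRing T] [Nontrivial T]
    (hposT : ∀ n : ℤ, n < 0 → 𝒯 n = ⊥) (h0T : 𝒯 0 = Submodule.span k {(1 : T)})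
    {E : ℤ} {a : R} (ha : a ∈ 𝒜 E) {b : S} (hb : b ∈ ℬ E) (hbreg : IsSMulRegular N b)
    {t : T} (ht : ψ t = a ⊗ₜ[k] b)
    (hbound : ∃ D₀ : ℤ, ∀ D : ℤ, D₀ < D → ∀ m ∈ ℳ D, ∃ m' ∈ ℳ (D - E), a • m' = m)
    {d : ℤ} {n₁ : N} (hn₁ : n₁ ∈ 𝒩 d) (hn₁0 : n₁ ≠ 0) {m₀ : M} (hm₀ : m₀ ∈ ℳ (d + E))
    (hm₀a : ∀ m : M, a • m ≠ m₀) :
    irr 𝒯 ∈ associatedPrimes T (QuotSMulTop t P) := by
  classical
  obtain ⟨D₀, hD₀⟩ := hbound
  have hbn : b • n₁ ∈ 𝒩 (d + E) := by
    have := SetLike.GradedSMul.smul_mem (A := ℬ) (B := 𝒩) hb hn₁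
    rwa [vadd_eq_add, add_comm] at this
  have hbn0 : b • n₁ ≠ 0 := by
    intro h
    exact hn₁0 (hbreg (by show b • n₁ = b • 0; rw [h, smul_zero]))
  -- the element `w`
  obtain ⟨w, hw, hφw⟩ := exists_phi_eq ℳ 𝒩 𝒬 ψ φ hP
    (Submodule.subset_span ⟨m₀, hm₀, b • n₁, hbn, rfl⟩ :
      m₀ ⊗ₜ[k] (b • n₁) ∈ GrSeg.segrePiece k ℳ 𝒩 (d + E))
  -- `w ∉ tP`
  have hwt : ∀ p : P, t • p ≠ w := by
    intro p hp
    have hinj : LinearMap.ker (LinearMap.toSpanSingleton k N (b • n₁)) = ⊥ := by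
      rw [LinearMap.ker_eq_bot]
      intro c c' hcc'
      simp only [LinearMap.toSpanSingleton_apply] at hcc'
      by_contra hne
      have h1 : (c - c') • (b • n₁) = 0 := by rw [sub_smul, hcc', sub_self]
      rcases smul_eq_zero.mp h1 with h | h
      · exact hne (sub_eq_zero.mp h)
      · exact hbn0 h
    obtain ⟨g, hg⟩ := LinearMap.exists_leftInverse_of_injective _ hinj
    have hg1 : g (b • n₁) = 1 := by
      have := LinearMap.congr_fun hg (1 : k)
      simpa using this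
    have h2 : evalR g (φ w) = m₀ := by
      rw [hφw, evalR_tmul, hg1, one_smul]
    rw [← hp, phi_smul ℳ 𝒩 𝒬 ψ φ hP ht, evalR_lM] at h2
    exact hm₀a _ h2
  -- homogeneous elements of high degree carry `w` into `tP`
  have hhigh : ∀ e : ℤ, D₀ - d - E < e → ∀ u ∈ 𝒯 e, ∃ p : P, t • p = u • w := by
    intro e he u hu
    have h1 : ψ u ∈ GrSeg.segrePiece k 𝒜 ℬ e := by
      rw [← hT.2 e]
      exact ⟨u, hu, rfl⟩
    have key : ∀ v ∈ GrSeg.segrePiece k 𝒜 ℬ e, ∃ p : P,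
        φ (t • p) = GrSeg.act k R S M N v (m₀ ⊗ₜ[k] (b • n₁)) := by
      intro v hv
      induction hv using Submodule.span_induction with
      | mem v hv =>
        obtain ⟨r, hr, s', hs', rfl⟩ := hv
        have hrm : r • m₀ ∈ ℳ (e + (d + E)) := SetLike.GradedSMul.smul_mem (A := 𝒜) (B := ℳ) hr hm₀
        obtain ⟨m', hm', hm'e⟩ := hD₀ (e + (d + E)) (by omega) _ hrm
        have hsn : s' • n₁ ∈ 𝒩 (e + d) := SetLike.GradedSMul.smul_mem (A := ℬ) (B := 𝒩) hs' hn₁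
        have hm'2 : m' ∈ ℳ (e + d) := by
          have : e + (d + E) - E = e + d := by ring
          rwa [this] at hm'
        obtain ⟨p, -, hp⟩ := exists_phi_eq ℳ 𝒩 𝒬 ψ φ hP
          (Submodule.subset_span ⟨m', hm'2, s' • n₁, hsn, rfl⟩ :
            m' ⊗ₜ[k] (s' • n₁) ∈ GrSeg.segrePiece k ℳ 𝒩 (e + d))
        refine ⟨p, ?_⟩
        rw [phi_smul ℳ 𝒩 𝒬 ψ φ hP ht, hp, lN_tmul, lM_tmul, GrSeg.act_tmul, hm'e, smul_comm]
      | zero => exact ⟨0, by rw [smul_zero, map_zero, map_zero, LinearMap.zero_apply]⟩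
      | add v v' _ _ hv hv' =>
        obtain ⟨p, hp⟩ := hv
        obtain ⟨p', hp'⟩ := hv'
        exact ⟨p + p', by rw [smul_add, map_add, hp, hp', map_add, LinearMap.add_apply]⟩
      | smul c v _ hv =>
        obtain ⟨p, hp⟩ := hv
        exact ⟨c • p, by rw [smul_comm, map_smul, hp, map_smul, LinearMap.smul_apply]⟩
    obtain ⟨p, hp⟩ := key _ h1
    refine ⟨p, hP.injective ?_⟩
    rw [hp, hP.map_smul, hφw]
  -- the class of `w`
  set wbar : QuotSMulTop t P := Submodule.Quotient.mk w with hwbar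
  have hwbar0 : wbar ≠ 0 := by
    intro h
    rw [hwbar, Submodule.Quotient.mk_eq_zero, Submodule.mem_smul_pointwise_iff_exists] at h
    obtain ⟨p, -, hp⟩ := h
    exact hwt p hp
  obtain ⟨𝔭, hass, hle⟩ := exists_le_isAssociatedPrime_of_isNoetherianRing T wbar hwbar0
  have hprime : 𝔭.IsPrime := hass.isPrime
  have hirr : irr 𝒯 ≤ 𝔭 := by
    unfold irr
    rw [Ideal.span_le]
    intro x hx
    simp only [Set.mem_iUnion, Set.mem_Ioi] at hx
    obtain ⟨e, he, hxe⟩ := hx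
    set n : ℕ := (D₀ - d - E).toNat + 1 with hn
    have hxn : x ^ n ∈ 𝒯 (n • e) := SetLike.pow_mem_graded n hxe
    have hne : D₀ - d - E < n • e := by
      rw [nsmul_eq_mul]
      have h1 : D₀ - d - E ≤ ((D₀ - d - E).toNat : ℤ) := Int.self_le_toNat _
      have h2 : ((D₀ - d - E).toNat : ℤ) + 1 = (n : ℤ) := by rw [hn]; push_cast; ring
      nlinarith
    obtain ⟨p, hp⟩ := hhigh (n • e) hne (x ^ n) hxn
    have hmem : x ^ n ∈ 𝔭 := by
      apply hle
      rw [Submodule.mem_colon_singleton, Submodule.mem_bot, hwbar, ← Submodule.Quotient.mk_smul,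
        Submodule.Quotient.mk_eq_zero, Submodule.mem_smul_pointwise_iff_exists]
      exact ⟨p, Submodule.mem_top, hp⟩
    exact hprime.mem_of_pow_mem n hmem
  have hmax : (irr 𝒯).IsMaximal := irr_isMaximal 𝒯 hposT h0T
  have heq : irr 𝒯 = 𝔭 := hmax.eq_of_le hprime.ne_top hirr
  rw [heq]
  exact hass

end Seg

end Groth.Agent.Lib.Helper87.SegOne
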