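import Groth.Agent.Lib.Helper87.SegreCM5

/-!
# Dimension of the Segre product of graded Cohen–Macaulay modules (helper87)
-/

set_option autoImplicit false
universe u

namespace Groth.Agent.Lib.Helper87

open DirectSum MvPolynomial
open scoped TensorProduct

/-- a non-zero Segre product has non-zero homogeneous factors of a common degree -/
theorem exists_ne_zero_same_degree {k : Type u} [Field k] {R S T : Type u} [CommRing R]
    [CommRing S] [CommRing T] [Algebra k R] [Algebra k S] [Algebra k T]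
    {M N P : Type u} [AddCommGroup M] [Module R M] [Module k M] [IsScalarTower k R M]
    [AddCommGroup N] [Module S N] [Module k N] [IsScalarTower k S N]
    [AddCommGroup P] [Module T P] [Module k P] [IsScalarTower k T P]
    (ψ : T →ₐ[k] R ⊗[k] S) (ℳ : ℤ → AddSubgroup M) (𝒩 : ℤ → AddSubgroup N)
    (𝒬 : ℤ → AddSubgroup P) [DirectSum.Decomposition 𝒬] (φ : P →ₗ[k] M ⊗[k] N)
    (hP : GrSeg.IsSegreMod ψ ℳ 𝒩 𝒬 φ) (hne : ¬ Subsingleton P) :
    ∃ (p : ℤ) (m : M) (n : N), m ∈ ℳ p ∧ n ∈ 𝒩 p ∧ m ≠ 0 ∧ n ≠ 0 := by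
  classical
  rw [not_subsingleton_iff_nontrivial] at hne
  obtain ⟨q, hq⟩ := exists_ne (0 : P)
  have h1 : ∃ p : ℤ, (decompose 𝒬 q p : P) ≠ 0 := by
    by_contra hcon
    push Not at hcon
    apply hq
    rw [← DirectSum.sum_support_decompose 𝒬 q]
    exact Finset.sum_eq_zero fun p _ => hcon p
  obtain ⟨p, hp⟩ := h1
  have h2 : φ (decompose 𝒬 q p : P) ∈ (GrSeg.segrePiece k ℳ 𝒩 p : Set (M ⊗[k] N)) := by
    rw [← hP.image_piece p]
    exact ⟨_, (decompose 𝒬 q p).2, rfl⟩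
  have h3 : φ (decompose 𝒬 q p : P) ≠ 0 := by
    intro h
    rw [← map_zero φ] at h
    exact hp (hP.injective h)
  by_contra hcon
  push Not at hcon
  apply h3
  have h4 : GrSeg.segrePiece k ℳ 𝒩 p = ⊥ := by
    unfold GrSeg.segrePiece
    rw [Submodule.span_eq_bot]
    rintro _ ⟨a, ha, b, hb, rfl⟩
    by_cases ha0 : a = 0
    · rw [ha0, TensorProduct.zero_tmul]
    · rw [hcon p a b ha hb ha0, TensorProduct.tmul_zero]
  have h5 : φ (decompose 𝒬 q p : P) ∈ GrSeg.segrePiece k ℳ 𝒩 p := h2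
  rw [h4, Submodule.mem_bot] at h5
  exact h5

/-- **Segre product of graded Cohen–Macaulay modules**: `dim (M # N) = dim M + dim N - 1` unless
`M # N = 0`. -/
theorem supportDim_segreProduct_cm (k : Type u) [Field k] (R : Type u) [CommRing R] [Algebra k R]
    (𝒜 : ℤ → Submodule k R) [GradedAlgebra 𝒜] (hposR : ∀ n : ℤ, n < 0 → 𝒜 n = ⊥)
    (h0R : 𝒜 0 = Submodule.span k {(1 : R)}) [Algebra.FiniteType k R] (S : Type u) [CommRing S]
    [Algebra k S] (ℬ : ℤ → Submodule k S) [GradedAlgebra ℬ] (hposS : ∀ n : ℤ, n < 0 → ℬ n = ⊥)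
    (h0S : ℬ 0 = Submodule.span k {(1 : S)}) [Algebra.FiniteType k S] (T : Type u) [CommRing T]
    [Algebra k T] (𝒯 : ℤ → Submodule k T) [GradedAlgebra 𝒯] (ψ : T →ₐ[k] R ⊗[k] S)
    (hT : GrSeg.IsSegreRing 𝒜 ℬ 𝒯 ψ)
    (M : Type u) [AddCommGroup M] [Module R M] [Module k M] [IsScalarTower k R M]
    (ℳ : ℤ → AddSubgroup M) [DirectSum.Decomposition ℳ] [SetLike.GradedSMul 𝒜 ℳ]
    [Module.Finite R M] (N : Type u) [AddCommGroup N] [Module S N] [Module k N]
    [IsScalarTower k S N] (𝒩 : ℤ → AddSubgroup N) [DirectSum.Decomposition 𝒩]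
    [SetLike.GradedSMul ℬ 𝒩] [Module.Finite S N] (P : Type u) [AddCommGroup P] [Module T P]
    [Module k P] [IsScalarTower k T P] (𝒬 : ℤ → AddSubgroup P) [DirectSum.Decomposition 𝒬]
    (φ : P →ₗ[k] M ⊗[k] N) (hP : GrSeg.IsSegreMod ψ ℳ 𝒩 𝒬 φ) (r s : ℕ)
    (h1r : 1 ≤ r) (h1s : 1 ≤ s)
    (hdM : Module.supportDim R M = r) (hdN : Module.supportDim S N = s)
    (hMcm : ∀ (q : Ideal R) [q.IsPrime], Subsingleton (LocalizedModule q.primeCompl M) ∨
      LocCoh.IsCohenMacaulayModule (Localization.AtPrime q) (LocalizedModule q.primeCompl M))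
    (hNcm : ∀ (q : Ideal S) [q.IsPrime], Subsingleton (LocalizedModule q.primeCompl N) ∨
      LocCoh.IsCohenMacaulayModule (Localization.AtPrime q) (LocalizedModule q.primeCompl N)) :
    Module.supportDim T P = ((r + s - 1 : ℕ) : WithBot ℕ∞) ∨ Subsingleton P := by
  by_cases hsub : Subsingleton P
  · exact Or.inr hsub
  left
  obtain ⟨p, m, n, hm, hn, hm0, hn0⟩ := exists_ne_zero_same_degree ψ ℳ 𝒩 𝒬 φ hP hsub
  refine supportDim_segreProduct_core k R 𝒜 hposR h0R S ℬ hposS h0S T 𝒯 ψ hT M ℳ N 𝒩 P 𝒬 φ hP r s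
    hdM hdN h1r h1s p m hm n hn ?_ ?_
  · intro D _ x hx hind hint
    exact nonTors_of_cm 𝒜 ℳ hposR h0R hMcm (D : ℤ) x hx hind hint hm hm0
  · intro D _ y hy hind hint
    exact nonTors_of_cm ℬ 𝒩 hposS h0S hNcm (D : ℤ) y hy hind hint hn hn0

end Groth.Agent.Lib.Helper87
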