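import Groth.Agent.Lib.Helper87.SegOne5
import Groth.Agent.Lib.Helper87.SegOne8
import Groth.Agent.Lib.Helper87.SegOne9
import Groth.Agent.Lib.Helper87.SegOne13
import Groth.Agent.Lib.Helper87.SegreCM6

/-!
# Segre products with a factor of dimension one: the core statement (helper87)
-/

set_option autoImplicit false
universe u

namespace Groth.Agent.Lib.Helper87.SegOne

open DirectSum TensorProduct RingTheory.Sequence IsLocalRing MvPolynomial
open Groth.Agent.Lib.Helper99 Groth.Agent.Lib.Helper39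

section Any

variable {k : Type u} [Field k] {R : Type u} [CommRing R] [Algebra k R]
  (𝒜 : ℤ → Submodule k R) [GradedAlgebra 𝒜]
  {M : Type u} [AddCommGroup M] [Module R M] [Module k M] [IsScalarTower k R M]
  (ℳ : ℤ → AddSubgroup M) [DirectSum.Decomposition ℳ] [SetLike.GradedSMul 𝒜 ℳ]

include ℳ in
/-- every member of a homogeneous system of parameters of a graded Cohen–Macaulay module is
regular -/
theorem isSMulRegular_sop_any (hpos : ∀ n : ℤ, n < 0 → 𝒜 n = ⊥)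
    (h0 : 𝒜 0 = Submodule.span k {(1 : R)}) [Algebra.FiniteType k R] [Module.Finite R M]
    (hMcm : ∀ (q : Ideal R) [q.IsPrime], Subsingleton (LocalizedModule q.primeCompl M) ∨
      LocCoh.IsCohenMacaulayModule (Localization.AtPrime q) (LocalizedModule q.primeCompl M))
    {r : ℕ} (D : ℤ) (x : Fin r → R) (hx : ∀ i, x i ∈ 𝒜 D)
    (hind : AlgebraicIndependent k
      (fun i => Ideal.Quotient.mk (Module.annihilator R M) (x i)))
    (hint : (MvPolynomial.aeval (fun i => Ideal.Quotient.mk (Module.annihilator R M) (x i)) :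
      MvPolynomial (Fin r) k →ₐ[k] R ⧸ Module.annihilator R M).toRingHom.IsIntegral)
    (i : Fin r) : IsSMulRegular M (x i) := by
  apply isSMulRegular_of_homogeneous 𝒜 ℳ (hx i)
  intro d m hm hm0
  by_contra hne
  have h1 := nonTors_of_cm 𝒜 ℳ hpos h0 hMcm D x hx hind hint hm hne
  have h2 := h1 (MvPolynomial.X i) (by rw [MvPolynomial.aeval_X]; exact hm0)
  exact MvPolynomial.X_ne_zero _ h2

end Any

section Depth

variable {T : Type u} [CommRing T] [IsNoetherianRing T] (P : Type u) [AddCommGroup P]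
  [Module T P] [Module.Finite T P]

theorem depth_eq_one_of_mem_associatedPrimes (𝔐 : Ideal T) [𝔐.IsPrime] {t : T} (ht : t ∈ 𝔐)
    (hreg : IsSMulRegular P t) (hass : 𝔐 ∈ associatedPrimes T (QuotSMulTop t P)) :
    LocCoh.depth (Localization.AtPrime 𝔐) (LocalizedModule 𝔐.primeCompl P) = 1 := by
  have h1 := Groth.Agent.Lib.Helper29.depth_localizedModule_quotSMulTop_add_one T 𝔐 P ht hreg
  have h2 := Groth.Agent.Lib.Helper29.depth_localizedModule_eq_zero_of_mem_associatedPrimes T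
    (QuotSMulTop t P) 𝔐 hass
  rw [← h1, h2, zero_add]

theorem idealDepth_eq_one_of_mem_associatedPrimes (𝔐 : Ideal T) [𝔐.IsPrime] {t : T}
    (ht : t ∈ 𝔐) (hreg : IsSMulRegular P t)
    (hass : 𝔐 ∈ associatedPrimes T (QuotSMulTop t P)) :
    LocCoh.idealDepth 𝔐 P = 1 := by
  apply le_antisymm
  · rw [← depth_eq_one_of_mem_associatedPrimes P 𝔐 ht hreg hass]
    exact Groth.Agent.Lib.Helper29.idealDepth_le_depth_localization T 𝔐 P
  · have h1 : IsWeaklyRegular P [t] := (isWeaklyRegular_singleton_iff P t).mpr hreg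
    have h2 := Groth.Agent.Lib.Helper93.Depth.length_le_idealDepth (I := 𝔐) h1 (by
      intro r hr
      rw [List.mem_singleton] at hr
      rw [hr]
      exact ht)
    simpa using h2

end Depth

/-- **Core statement** for the Segre product of a graded Cohen–Macaulay module `M` of dimension
one and a graded Cohen–Macaulay module `N` of dimension `s ≥ 1`: there is a homogeneous
`M`-regular parameter `a` of degree `E > 0` such that `M # N` is Cohen–Macaulay as soon as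
`a : M_d → M_{d+E}` is onto whenever `N_d ≠ 0`, and has depth one otherwise. -/
theorem core (k : Type u) [Field k] (R : Type u) [CommRing R] [Algebra k R]
    (𝒜 : ℤ → Submodule k R) [GradedAlgebra 𝒜] (hposR : ∀ n : ℤ, n < 0 → 𝒜 n = ⊥)
    (h0R : 𝒜 0 = Submodule.span k {(1 : R)}) [Algebra.FiniteType k R] (S : Type u) [CommRing S]
    [Algebra k S] (ℬ : ℤ → Submodule k S) [GradedAlgebra ℬ] (hposS : ∀ n : ℤ, n < 0 → ℬ n = ⊥)
    (h0S : ℬ 0 = Submodule.span k {(1 : S)}) [Algebra.FiniteType k S] (T : Type u) [CommRing T]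
    [Algebra k T] (𝒯 : ℤ → Submodule k T) [GradedAlgebra 𝒯] (ψ : T →ₐ[k] R ⊗[k] S)
    (hT : GrSeg.IsSegreRing 𝒜 ℬ 𝒯 ψ)
    (M : Type u) [AddCommGroup M] [Module R M] [Module k M] [IsScalarTower k R M]
    (ℳ : ℤ → AddSubgroup M) [DirectSum.Decomposition ℳ] [SetLike.GradedSMul 𝒜 ℳ]
    [Module.Finite R M] (N : Type u) [AddCommGroup N] [Module S N] [Module k N]
    [IsScalarTower k S N] (𝒩 : ℤ → AddSubgroup N) [DirectSum.Decomposition 𝒩]
    [SetLike.GradedSMul ℬ 𝒩] [Module.Finite S N] (P : Type u) [AddCommGroup P] [Module T P]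
    [Module k P] [IsScalarTower k T P] (𝒬 : ℤ → AddSubgroup P) [DirectSum.Decomposition 𝒬]
    (φ : P →ₗ[k] M ⊗[k] N) (hP : GrSeg.IsSegreMod ψ ℳ 𝒩 𝒬 φ) [Nontrivial P] (s : ℕ)
    (h1s : 1 ≤ s)
    (hdM : Module.supportDim R M = 1) (hdN : Module.supportDim S N = s)
    (hMcm : ∀ (q : Ideal R) [q.IsPrime], Subsingleton (LocalizedModule q.primeCompl M) ∨
      LocCoh.IsCohenMacaulayModule (Localization.AtPrime q) (LocalizedModule q.primeCompl M))
    (hNcm : ∀ (q : Ideal S) [q.IsPrime], Subsingleton (LocalizedModule q.primeCompl N) ∨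
      LocCoh.IsCohenMacaulayModule (Localization.AtPrime q) (LocalizedModule q.primeCompl N)) :
    ∃ (E : ℤ) (a : R), 0 < E ∧ a ∈ 𝒜 E ∧ IsSMulRegular M a ∧
      (∃ D₀ : ℤ, ∀ D : ℤ, D₀ < D → ∀ m ∈ ℳ D, ∃ m' ∈ ℳ (D - E), a • m' = m) ∧
      (∀ d : ℤ, (∃ n ∈ 𝒩 d, n ≠ 0) → ∃ n ∈ 𝒩 (d + E), n ≠ 0) ∧
      ((∀ d : ℤ, (∃ n ∈ 𝒩 d, n ≠ 0) → ∀ m' ∈ ℳ (d + E), ∃ m ∈ ℳ d, a • m = m') →
        ∀ (q : Ideal T) [q.IsPrime], Subsingleton (LocalizedModule q.primeCompl P) ∨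
          LocCoh.IsCohenMacaulayModule (Localization.AtPrime q)
            (LocalizedModule q.primeCompl P)) ∧
      (s = 1 → ∀ (q : Ideal T) [q.IsPrime], Subsingleton (LocalizedModule q.primeCompl P) ∨
          LocCoh.IsCohenMacaulayModule (Localization.AtPrime q)
            (LocalizedModule q.primeCompl P)) ∧
      ((∃ d : ℤ, (∃ n ∈ 𝒩 d, n ≠ 0) ∧ ∃ m₀ ∈ ℳ (d + E), ∀ m : M, a • m ≠ m₀) →
        LocCoh.idealDepth (irr 𝒯) P = 1 ∧
        (2 ≤ s → ¬ ∀ (q : Ideal T) [q.IsPrime], Subsingleton (LocalizedModule q.primeCompl P) ∨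
          LocCoh.IsCohenMacaulayModule (Localization.AtPrime q)
            (LocalizedModule q.primeCompl P))) := by
  classical
  set I : Ideal R := Module.annihilator R M with hI
  set J : Ideal S := Module.annihilator S N with hJ
  have hdM' : Module.supportDim R M = ((1 : ℕ) : WithBot ℕ∞) := by rw [hdM]; rfl
  have hdimI : ringKrullDim (R ⧸ I) = ((1 : ℕ) : WithBot ℕ∞) := by
    rw [← Module.supportDim_eq_ringKrullDim_quotient_annihilator]; exact hdM'
  have hdimJ : ringKrullDim (S ⧸ J) = s := by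
    rw [← Module.supportDim_eq_ringKrullDim_quotient_annihilator]; exact hdN
  have hIhom : ∀ f ∈ I, ∀ n : ℤ, (decompose 𝒜 f n : R) ∈ I :=
    fun f hf n => decompose_mem_annihilator 𝒜 ℳ hf n
  have hJhom : ∀ f ∈ J, ∀ n : ℤ, (decompose ℬ f n : S) ∈ J :=
    fun f hf n => decompose_mem_annihilator ℬ 𝒩 hf n
  obtain ⟨D₁, hD₁, H₁⟩ := exists_homogeneous_noether_rel 𝒜 hposR h0R I hIhom 1 hdimI
  obtain ⟨D₂, hD₂, H₂⟩ := exists_homogeneous_noether_rel ℬ hposS h0S J hJhom s hdimJ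
  obtain ⟨x, hx, hxind, hintR⟩ := H₁ (D₁ * D₂) (Nat.mul_pos hD₁ hD₂) (Dvd.intro _ rfl)
  obtain ⟨y, hy, hyind, hintS⟩ := H₂ (D₁ * D₂) (Nat.mul_pos hD₁ hD₂) (Dvd.intro_left _ rfl)
  set E : ℤ := ((D₁ * D₂ : ℕ) : ℤ) with hEdef
  have hE : 0 < E := by
    have := Nat.mul_pos hD₁ hD₂
    rw [hEdef]
    exact_mod_cast this
  have hNnt : Nontrivial N := by
    rw [← Module.supportDim_ne_bot_iff_nontrivial S, hdN]
    exact WithBot.coe_ne_bot
  have hareg : IsSMulRegular M (x 0) :=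
    isSMulRegular_sop_one 𝒜 ℳ hposR h0R hMcm E x hx hxind hintR
  have hbound := exists_bound_quot 𝒜 ℳ hposR x hx hintR
  have hyreg : IsWeaklyRegular N (List.ofFn y) :=
    isWeaklyRegular_sop ℬ 𝒩 hposS h0S hNcm E hE y hy hyind hintS
  have hy0reg : IsSMulRegular N (y ⟨0, h1s⟩) :=
    isSMulRegular_sop_any ℬ 𝒩 hposS h0S hNcm E y hy hyind hintS ⟨0, h1s⟩
  have hposT := segre_pos 𝒜 ℬ 𝒯 ψ hT hposR
  have h0T := segre_zero 𝒜 ℬ 𝒯 ψ hT h0R h0S
  haveI : IsNoetherianRing T := isNoetherianRing_segre 𝒜 ℬ 𝒯 hposR ψ hT.1 hT.2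
  haveI : Module.Finite T P := segre_finite 𝒜 ℬ 𝒯 ℳ 𝒩 𝒬 ψ hT φ hP
  haveI : Nontrivial T := Module.nontrivial T P
  haveI : SetLike.GradedSMul 𝒯 𝒬 := gradedSMul 𝒜 ℬ 𝒯 ℳ 𝒩 𝒬 ψ hT φ hP
  have hdimP : Module.supportDim T P = s := by
    rcases supportDim_segreProduct_cm k R 𝒜 hposR h0R S ℬ hposS h0S T 𝒯 ψ hT M ℳ N 𝒩 P 𝒬 φ hP 1 s
      le_rfl h1s hdM' hdN hMcm hNcm with h | h
    · rw [h]
      congr 2
      omega
    · exact absurd h (not_subsingleton P)
  have hlift : ∀ j : Fin s, ∃ t ∈ 𝒯 E, ψ t = x 0 ⊗ₜ[k] y j :=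
    fun j => exists_t 𝒜 ℬ 𝒯 ψ hT (hx 0) (hy j)
  choose t htmem hteq using hlift
  have htirr : ∀ j, t j ∈ irr 𝒯 := fun j => mem_irr_of_pos 𝒯 hE (htmem j)
  have ht0reg : IsSMulRegular P (t ⟨0, h1s⟩) :=
    isSMulRegular_t ℳ 𝒩 𝒬 ψ φ hP (hteq _) hareg hy0reg
  refine ⟨E, x 0, hE, hx 0, hareg, hbound, ?_, ?_, ?_, ?_⟩
  · rintro d ⟨n, hn, hn0⟩
    refine ⟨y ⟨0, h1s⟩ • n, ?_, ?_⟩
    · have := SetLike.GradedSMul.smul_mem (A := ℬ) (B := 𝒩) (hy ⟨0, h1s⟩) hn
      rwa [vadd_eq_add, add_comm] at this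
    · intro h
      exact hn0 (hy0reg (by show y ⟨0, h1s⟩ • n = y ⟨0, h1s⟩ • 0; rw [h, smul_zero]))
  · intro H' q hq
    have hreg := isWeaklyRegular_t 𝒜 ℬ ℳ 𝒩 𝒬 ψ φ hP (hx 0) hareg y hy hyreg t hteq H'
    exact pcm_of_isWeaklyRegular 𝒯 𝒬 hposT h0T s hdimP (List.ofFn t) List.length_ofFn
      (by
        intro u hu
        obtain ⟨j, rfl⟩ := List.mem_ofFn.mp hu
        exact htirr j) hreg q
  · intro hs1 q hq
    have hreg : IsWeaklyRegular P [t ⟨0, h1s⟩] :=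
      (isWeaklyRegular_singleton_iff P _).mpr ht0reg
    exact pcm_of_isWeaklyRegular 𝒯 𝒬 hposT h0T s hdimP [t ⟨0, h1s⟩]
      (by rw [List.length_singleton]; exact hs1.symm)
      (by
        intro u hu
        rw [List.mem_singleton] at hu
        rw [hu]
        exact htirr _) hreg q
  · rintro ⟨d, ⟨n₁, hn₁, hn₁0⟩, m₀, hm₀, hm₀a⟩
    have hass := irr_mem_associatedPrimes 𝒜 ℬ 𝒯 ℳ 𝒩 𝒬 ψ hT φ hP hposT h0T (hx 0)
      (hy ⟨0, h1s⟩) hy0reg (hteq _) hbound hn₁ hn₁0 hm₀ hm₀a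
    haveI hmax : (irr 𝒯).IsMaximal := irr_isMaximal 𝒯 hposT h0T
    haveI hprime : (irr 𝒯).IsPrime := hmax.isPrime
    refine ⟨idealDepth_eq_one_of_mem_associatedPrimes P (irr 𝒯) (htirr _) ht0reg hass, ?_⟩
    intro h2s hpcm
    have hdepth := depth_eq_one_of_mem_associatedPrimes P (irr 𝒯) (htirr _) ht0reg hass
    haveI : Nontrivial (LocalizedModule (irr 𝒯).primeCompl P) :=
      nontrivial_localized_irr 𝒯 𝒬 hposT h0T
    have hcm : LocCoh.IsCohenMacaulayModule (Localization.AtPrime (irr 𝒯))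
        (LocalizedModule (irr 𝒯).primeCompl P) := by
      rcases hpcm (irr 𝒯) with h | h
      · exact absurd h (not_subsingleton _)
      · exact h
    unfold LocCoh.IsCohenMacaulayModule at hcm
    rw [hdepth] at hcm
    haveI : Algebra.FiniteType k T := finiteType_of_isNoetherianRing 𝒯 hposT h0T
    have hlow := le_supportDim_localized_irr 𝒯 𝒬 hposT h0T s hdimP
    rw [hcm] at hlow
    have h3 : (s : ℕ∞) ≤ 1 := by exact_mod_cast hlow
    have h4 : s ≤ 1 := by exact_mod_cast h3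
    omega

end Groth.Agent.Lib.Helper87.SegOne
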