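import Groth.Agent.Lib.Helper87.Kun24
import Groth.Agent.Lib.Helper87.SegreCM6
import Groth.Agent.Lib.Helper87.SegOne14

/-!
# The Cohen–Macaulay property of a Segre product of Cohen–Macaulay modules of dimension `≥ 2`
(helper87)
-/

set_option autoImplicit false
universe u

namespace Groth.Agent.Lib.Helper87.Kun

open DirectSum TensorProduct GrLC RingTheory.Sequence
open Groth.Agent.Lib.Helper99 Groth.Agent.Lib.Helper39 Groth.Agent.Lib.Helper39.GrBridge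
  Groth.Agent.Lib.Helper87.SegOne Groth.Agent.Lib.Helper60

attribute [local instance] toSubGradedRing toSubDecomposition toSubGradedSMul

section Comp

variable {ι : Type} [AddCommGroup ι] [DecidableEq ι] {R : Type u} [CommRing R]
  {σ : Type u} [SetLike σ R] [AddSubgroupClass σ R] (𝒜 : ι → σ) [GradedRing 𝒜]
  {M : Type u} [AddCommGroup M] [Module R M] (ℳ : ι → AddSubgroup M)
  [SetLike.GradedSMul 𝒜 ℳ]

theorem comp_eq_bot_iff (d : ι) : GrLC.comp 𝒜 ℳ d = ⊥ ↔ ℳ d = ⊥ := by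
  constructor
  · intro h
    rw [eq_bot_iff]
    intro x hx
    have h1 : x ∈ GrLC.comp 𝒜 ℳ d := hx
    rw [h, Submodule.mem_bot] at h1
    rw [h1]
    exact zero_mem _
  · intro h
    rw [eq_bot_iff]
    intro x hx
    have h1 : x ∈ ℳ d := hx
    rw [h, AddSubgroup.mem_bot] at h1
    rw [h1]
    exact zero_mem _

end Comp

section Ranks

variable {k : Type u} [Field k] {R : Type u} [CommRing R] [Nontrivial R] [Algebra k R]
  (𝒜 : ℤ → Submodule k R) [GradedAlgebra 𝒜]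
  {M : Type u} [AddCommGroup M] [Module R M]
  (ℳ : ℤ → AddSubgroup M) [DirectSum.Decomposition ℳ] [SetLike.GradedSMul 𝒜 ℳ]

/-- a piece of a finite graded module of rank zero vanishes -/
theorem piece_eq_bot_of_finrank [IsNoetherianRing R] [Module.Finite R M]
    (hpos : ∀ n : ℤ, n < 0 → 𝒜 n = ⊥)
    (h0 : 𝒜 0 = Submodule.span k {(1 : R)}) (d : ℤ)
    (h : Module.finrank (GrLC.deg0 𝒜) (GrLC.comp 𝒜 ℳ d) = 0) : ℳ d = ⊥ := by
  have hpos' : ∀ n : ℤ, n < 0 → toSub 𝒜 n = ⊥ := fun n hn => toSub_eq_bot (hpos n hn)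
  haveI : Module.Finite (GrLC.deg0 (toSub 𝒜)) (GrLC.comp (toSub 𝒜) (toSub ℳ) d) :=
    GrPieces.finite_comp (toSub 𝒜) (toSub ℳ) hpos' d
  have h1 := eq_bot_of_finrank_eq_zero (k := k) (𝒯' := toSub 𝒜) (kappa_mem 𝒜) (kappa_bij 𝒜 h0)
    (GrLC.comp (toSub 𝒜) (toSub ℳ) d) h
  exact (comp_eq_bot_iff (toSub 𝒜) (toSub ℳ) d).mp h1

/-- a piece of the graded local cohomology at the irrelevant ideal of rank zero vanishes -/
theorem Hcomp_eq_bot_of_finrank [IsNoetherianRing R] [Module.Finite R M]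
    (hpos : ∀ n : ℤ, n < 0 → 𝒜 n = ⊥)
    (h0 : 𝒜 0 = Submodule.span k {(1 : R)}) (E : GrLC.StarInjRes 𝒜 ℳ) (m : HomogeneousIdeal 𝒜)
    (hm : m.toIdeal = Ideal.span (⋃ n ∈ Set.Ioi (0 : ℤ), (𝒜 n : Set R))) (q : ℕ) (d : ℤ)
    (h : Module.finrank (GrLC.deg0 𝒜) (E.Hcomp m q d) = 0) : E.Hcomp m q d = ⊥ := by
  have hpos' : ∀ n : ℤ, n < 0 → toSub 𝒜 n = ⊥ := fun n hn => toSub_eq_bot (hpos n hn)
  haveI : Module.Finite (GrLC.deg0 (toSub 𝒜)) ((convRes E).Hcomp (convIdeal m) q d) :=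
    Groth.Agent.S13226.result R (toSub 𝒜) hpos' (convIdeal m) hm M (toSub ℳ) (convRes E) q d
  have h1 := eq_bot_of_finrank_eq_zero (k := k) (𝒯' := toSub 𝒜) (kappa_mem 𝒜) (kappa_bij 𝒜 h0)
    ((convRes E).Hcomp (convIdeal m) q d) h
  exact (convRes_Hcomp_eq_bot_iff E m q d).mp h1

end Ranks

/-- **Cohen–Macaulayness of the Segre product of Cohen–Macaulay modules of dimensions `≥ 2`.** -/
theorem segre_cm_iff (k : Type u) [Field k] (R : Type u) [CommRing R] [Algebra k R]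
    (𝒜 : ℤ → Submodule k R) [GradedAlgebra 𝒜] (hposR : ∀ n : ℤ, n < 0 → 𝒜 n = ⊥)
    (h0R : 𝒜 0 = Submodule.span k {(1 : R)}) [Algebra.FiniteType k R] (S : Type u) [CommRing S]
    [Algebra k S] (ℬ : ℤ → Submodule k S) [GradedAlgebra ℬ]
    (hposS : ∀ n : ℤ, n < 0 → ℬ n = ⊥) (h0S : ℬ 0 = Submodule.span k {(1 : S)})
    [Algebra.FiniteType k S] (T : Type u) [CommRing T] [Algebra k T] (𝒯 : ℤ → Submodule k T)
    [GradedAlgebra 𝒯] (ψ : T →ₐ[k] TensorProduct k R S) (hT : GrSeg.IsSegreRing 𝒜 ℬ 𝒯 ψ)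
    (mR : HomogeneousIdeal 𝒜)
    (hmR : mR.toIdeal = Ideal.span (⋃ n ∈ Set.Ioi (0 : ℤ), (𝒜 n : Set R)))
    (mS : HomogeneousIdeal ℬ)
    (hmS : mS.toIdeal = Ideal.span (⋃ n ∈ Set.Ioi (0 : ℤ), (ℬ n : Set S)))
    (M : Type u) [AddCommGroup M] [Module R M] [Module k M] [IsScalarTower k R M]
    (ℳ : ℤ → AddSubgroup M) [DirectSum.Decomposition ℳ] [SetLike.GradedSMul 𝒜 ℳ]
    [Module.Finite R M] (EM : GrLC.StarInjRes 𝒜 ℳ)
    (N : Type u) [AddCommGroup N] [Module S N] [Module k N] [IsScalarTower k S N]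
    (𝒩 : ℤ → AddSubgroup N) [DirectSum.Decomposition 𝒩] [SetLike.GradedSMul ℬ 𝒩]
    [Module.Finite S N] (EN : GrLC.StarInjRes ℬ 𝒩)
    (P : Type u) [AddCommGroup P] [Module T P] [Module k P] [IsScalarTower k T P]
    (𝒬 : ℤ → AddSubgroup P) [DirectSum.Decomposition 𝒬]
    (φ : P →ₗ[k] TensorProduct k M N) (hP : GrSeg.IsSegreMod ψ ℳ 𝒩 𝒬 φ) [Nontrivial P]
    (r s : ℕ) (h2r : 2 ≤ r) (h2s : 2 ≤ s) (hdM : Module.supportDim R M = r)
    (hdN : Module.supportDim S N = s)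
    (hMcm : (∀ (q : Ideal R) [q.IsPrime], Subsingleton (LocalizedModule q.primeCompl M) ∨
      LocCoh.IsCohenMacaulayModule (Localization.AtPrime q) (LocalizedModule q.primeCompl M)))
    (hNcm : (∀ (q : Ideal S) [q.IsPrime], Subsingleton (LocalizedModule q.primeCompl N) ∨
      LocCoh.IsCohenMacaulayModule (Localization.AtPrime q) (LocalizedModule q.primeCompl N))) :
    (∀ (q : Ideal T) [q.IsPrime], Subsingleton (LocalizedModule q.primeCompl P) ∨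
      LocCoh.IsCohenMacaulayModule (Localization.AtPrime q) (LocalizedModule q.primeCompl P)) ↔
    (∀ d : ℤ, ℳ d = ⊥ ∨ EN.Hcomp mS s d = ⊥) ∧ (∀ d : ℤ, EM.Hcomp mR r d = ⊥ ∨ 𝒩 d = ⊥) := by
  classical
  haveI : IsNoetherianRing R := Algebra.FiniteType.isNoetherianRing k R
  haveI : IsNoetherianRing S := Algebra.FiniteType.isNoetherianRing k S
  haveI : Nontrivial M := by
    rw [← Module.supportDim_ne_bot_iff_nontrivial R, hdM]
    exact WithBot.coe_ne_bot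
  haveI : Nontrivial N := by
    rw [← Module.supportDim_ne_bot_iff_nontrivial S, hdN]
    exact WithBot.coe_ne_bot
  haveI : Nontrivial R := Module.nontrivial R M
  haveI : Nontrivial S := Module.nontrivial S N
  have hposT := segre_pos 𝒜 ℬ 𝒯 ψ hT hposR
  have h0T := segre_zero 𝒜 ℬ 𝒯 ψ hT h0R h0S
  haveI : IsNoetherianRing T := isNoetherianRing_segre 𝒜 ℬ 𝒯 hposR ψ hT.1 hT.2
  haveI : Module.Finite T P := segre_finite 𝒜 ℬ 𝒯 ℳ 𝒩 𝒬 ψ hT φ hP
  haveI : Nontrivial T := Module.nontrivial T P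
  haveI : SetLike.GradedSMul 𝒯 𝒬 := gradedSMul 𝒜 ℬ 𝒯 ℳ 𝒩 𝒬 ψ hT φ hP
  have hdimP : Module.supportDim T P = ((r + s - 1 : ℕ) : WithBot ℕ∞) := by
    rcases supportDim_segreProduct_cm k R 𝒜 hposR h0R S ℬ hposS h0S T 𝒯 ψ hT M ℳ N 𝒩 P 𝒬 φ hP r s
      (by omega) (by omega) hdM hdN hMcm hNcm with h | h
    · exact h
    · exact absurd h (not_subsingleton P)
  obtain ⟨EP⟩ := exists_starInjRes 𝒯 𝒬
  have hmT : (irrH 𝒯).toIdeal = Ideal.span (⋃ n ∈ Set.Ioi (0 : ℤ), (𝒯 n : Set T)) :=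
    irrH_toIdeal 𝒯
  -- the local cohomology of the factors is concentrated in one degree
  have hMlt : ∀ q : ℕ, q < r → ∀ d : ℤ, EM.Hcomp mR q d = ⊥ := fun q hq d =>
    Hcomp_eq_bot_of_lt_of_cm 𝒜 ℳ EM mR hposR h0R hmR r hdM hMcm q hq d
  have hNlt : ∀ q : ℕ, q < s → ∀ d : ℤ, EN.Hcomp mS q d = ⊥ := fun q hq d =>
    Hcomp_eq_bot_of_lt_of_cm ℬ 𝒩 EN mS hposS h0S hmS s hdN hNcm q hq d
  have hMgt : ∀ q : ℕ, r < q → ∀ d : ℤ, EM.Hcomp mR q d = ⊥ := fun q hq d =>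
    Hcomp_eq_bot_of_supportDim_lt 𝒜 ℳ EM mR q (by rw [hdM]; exact_mod_cast hq) d
  have hNgt : ∀ q : ℕ, s < q → ∀ d : ℤ, EN.Hcomp mS q d = ⊥ := fun q hq d =>
    Hcomp_eq_bot_of_supportDim_lt ℬ 𝒩 EN mS q (by rw [hdN]; exact_mod_cast hq) d
  have hMne : ∀ q : ℕ, q ≠ r → ∀ d : ℤ, EM.Hcomp mR q d = ⊥ := fun q hq d => by
    rcases Nat.lt_or_gt_of_ne hq with h | h
    · exact hMlt q h d
    · exact hMgt q h d
  have hNne : ∀ q : ℕ, q ≠ s → ∀ d : ℤ, EN.Hcomp mS q d = ⊥ := fun q hq d => by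
    rcases Nat.lt_or_gt_of_ne hq with h | h
    · exact hNlt q h d
    · exact hNgt q h d
  have kun := fun (q : ℕ) (d : ℤ) => kunneth k R 𝒜 hposR h0R S ℬ hposS h0S T 𝒯 ψ hT mR hmR mS hmS
    (irrH 𝒯) hmT M ℳ EM N 𝒩 EN P 𝒬 φ hP EP (fun q d hq => hMlt q (by omega) d)
    (fun q d hq => hNlt q (by omega) d) q d
  have hsum : ∀ (q : ℕ) (d : ℤ), q < r + s - 1 →
      (Finset.range (q + 2)).sum (fun i => Module.finrank (GrLC.deg0 𝒜) (EM.Hcomp mR i d) *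
        Module.finrank (GrLC.deg0 ℬ) (EN.Hcomp mS (q + 1 - i) d)) = 0 := by
    intro q d hq
    apply Finset.sum_eq_zero
    intro i _
    by_cases hir : i = r
    · rw [hNne (q + 1 - i) (by omega) d, finrank_bot, mul_zero]
    · rw [hMne i hir d, finrank_bot, zero_mul]
  constructor
  · intro hPcm
    have hPlt : ∀ q : ℕ, q < r + s - 1 → ∀ d : ℤ, EP.Hcomp (irrH 𝒯) q d = ⊥ := fun q hq d =>
      Hcomp_eq_bot_of_lt_of_cm 𝒯 𝒬 EP (irrH 𝒯) hposT h0T hmT (r + s - 1) hdimP hPcm q hq d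
    constructor
    · intro d
      have h1 := kun s d
      rw [hPlt s (by omega) d, finrank_bot, hsum s d (by omega), add_zero] at h1
      have h2 : Module.finrank (GrLC.deg0 𝒜) (GrLC.comp 𝒜 ℳ d) *
          Module.finrank (GrLC.deg0 ℬ) (EN.Hcomp mS s d) = 0 := by omega
      rcases Nat.mul_eq_zero.mp h2 with h3 | h3
      · exact Or.inl (piece_eq_bot_of_finrank 𝒜 ℳ hposR h0R d h3)
      · exact Or.inr (Hcomp_eq_bot_of_finrank ℬ 𝒩 hposS h0S EN mS hmS s d h3)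
    · intro d
      have h1 := kun r d
      rw [hPlt r (by omega) d, finrank_bot, hsum r d (by omega), add_zero] at h1
      have h2 : Module.finrank (GrLC.deg0 𝒜) (EM.Hcomp mR r d) *
          Module.finrank (GrLC.deg0 ℬ) (GrLC.comp ℬ 𝒩 d) = 0 := by omega
      rcases Nat.mul_eq_zero.mp h2 with h3 | h3
      · exact Or.inl (Hcomp_eq_bot_of_finrank 𝒜 ℳ hposR h0R EM mR hmR r d h3)
      · exact Or.inr (piece_eq_bot_of_finrank ℬ 𝒩 hposS h0S d h3)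
  · rintro ⟨hc1, hc2⟩
    refine pcm_of_Hcomp_eq_bot 𝒯 𝒬 EP (irrH 𝒯) hposT h0T hmT (r + s - 1) hdimP ?_
    intro q hq d
    apply Hcomp_eq_bot_of_finrank 𝒯 𝒬 hposT h0T EP (irrH 𝒯) hmT q d
    rw [kun q d, hsum q d hq, add_zero]
    have t1 : Module.finrank (GrLC.deg0 𝒜) (GrLC.comp 𝒜 ℳ d) *
        Module.finrank (GrLC.deg0 ℬ) (EN.Hcomp mS q d) = 0 := by
      by_cases hqs : q = s
      · subst hqs
        rcases hc1 d with h | h
        · rw [(comp_eq_bot_iff 𝒜 ℳ d).mpr h, finrank_bot, zero_mul]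
        · rw [h, finrank_bot, mul_zero]
      · rw [hNne q hqs d, finrank_bot, mul_zero]
    have t2 : Module.finrank (GrLC.deg0 𝒜) (EM.Hcomp mR q d) *
        Module.finrank (GrLC.deg0 ℬ) (GrLC.comp ℬ 𝒩 d) = 0 := by
      by_cases hqr : q = r
      · subst hqr
        rcases hc2 d with h | h
        · rw [h, finrank_bot, zero_mul]
        · rw [(comp_eq_bot_iff ℬ 𝒩 d).mpr h, finrank_bot, mul_zero]
      · rw [hMne q hqr d, finrank_bot, zero_mul]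
    rw [t1, t2]

end Groth.Agent.Lib.Helper87.Kun
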