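import Groth.Agent.Lib.Helper87.SegOne15
import Groth.Agent.Lib.Helper29.DepthSelf

/-!
# Segre products of graded rings with a factor of dimension one (helper87)
-/

set_option autoImplicit false
universe u

namespace Groth.Agent.Lib.Helper87.SegOne

open DirectSum TensorProduct GrLC
open Groth.Agent.Lib.Helper99 Groth.Agent.Lib.Helper39 Groth.Agent.Lib.Helper39.GrBridge
open Groth.Agent.Lib.Helper29

theorem act_self {k : Type u} [Field k] {R S : Type u} [CommRing R] [CommRing S] [Algebra k R]
    [Algebra k S] (u z : R ⊗[k] S) : GrSeg.act k R S R S u z = u * z := by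
  induction u using TensorProduct.induction_on with
  | zero => rw [map_zero, LinearMap.zero_apply, zero_mul]
  | tmul r s =>
    induction z using TensorProduct.induction_on with
    | zero => rw [map_zero, mul_zero]
    | tmul m n =>
      rw [GrSeg.act_tmul, Algebra.TensorProduct.tmul_mul_tmul, smul_eq_mul, smul_eq_mul]
    | add z z' hz hz' => rw [map_add, hz, hz', mul_add]
  | add u u' hu hu' => rw [map_add, LinearMap.add_apply, hu, hu', add_mul]

theorem cmModule_self_of_cmRing (R : Type u) [CommRing R] [LocCoh.IsCohenMacaulayRing R]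
    (q : Ideal R) [q.IsPrime] :
    LocCoh.IsCohenMacaulayModule (Localization.AtPrime q) (LocalizedModule q.primeCompl R) := by
  have h := (LocCoh.IsCohenMacaulayRing.isCohenMacaulayLocalRing_localization
    (R := R) q).supportDim_eq_depth
  exact (isCohenMacaulayModule_congr (Localization.AtPrime q)
    (localizedModuleSelfEquiv R q)).mpr h

theorem cmRing_of_cmModule_self (T : Type u) [CommRing T] [IsNoetherianRing T]
    (h : ∀ (q : Ideal T) [q.IsPrime], Subsingleton (LocalizedModule q.primeCompl T) ∨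
      LocCoh.IsCohenMacaulayModule (Localization.AtPrime q) (LocalizedModule q.primeCompl T)) :
    LocCoh.IsCohenMacaulayRing T := by
  refine { isCohenMacaulayLocalRing_localization := fun p hp => ?_ }
  haveI : IsNoetherianRing (Localization.AtPrime p) :=
    IsLocalization.isNoetherianRing p.primeCompl _ inferInstance
  have hcm : LocCoh.IsCohenMacaulayModule (Localization.AtPrime p)
      (LocalizedModule p.primeCompl T) := by
    rcases h p with h1 | h1
    · exfalso
      have : Subsingleton (Localization.AtPrime p) :=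
        (localizedModuleSelfEquiv T p).symm.toEquiv.subsingleton
      exact not_subsingleton (Localization.AtPrime p) this
    · exact h1
  exact { supportDim_eq_depth := (isCohenMacaulayModule_congr (Localization.AtPrime p)
    (localizedModuleSelfEquiv T p)).mp hcm }

/-- **The Segre product of a Cohen–Macaulay graded ring of dimension one with a Cohen–Macaulay
graded ring of dimension `s`.** -/
theorem main_ring (k : Type u) [Field k] (R : Type u) [CommRing R] [Algebra k R]
    (𝒜 : ℤ → Submodule k R) [GradedAlgebra 𝒜] (hposR : ∀ n : ℤ, n < 0 → 𝒜 n = ⊥)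
    (h0R : 𝒜 0 = Submodule.span k {(1 : R)}) [Algebra.FiniteType k R] (S : Type u) [CommRing S]
    [Algebra k S] (ℬ : ℤ → Submodule k S) [GradedAlgebra ℬ] (hposS : ∀ n : ℤ, n < 0 → ℬ n = ⊥)
    (h0S : ℬ 0 = Submodule.span k {(1 : S)}) [Algebra.FiniteType k S] (T : Type u) [CommRing T]
    [Algebra k T] (𝒯 : ℤ → Submodule k T) [GradedAlgebra 𝒯] (ψ : T →ₐ[k] R ⊗[k] S)
    (hψ : Function.Injective ψ)
    (hdegT : ∀ n : ℤ, (𝒯 n).map ψ.toLinearMap =
      Submodule.span k {x : R ⊗[k] S | ∃ a ∈ 𝒜 n, ∃ b ∈ ℬ n, x = a ⊗ₜ[k] b})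
    [LocCoh.IsCohenMacaulayRing R] [LocCoh.IsCohenMacaulayRing S] (mR : HomogeneousIdeal 𝒜)
    (hmR : mR.toIdeal = Ideal.span (⋃ n ∈ Set.Ioi (0 : ℤ), (𝒜 n : Set R)))
    (I : GrLC.StarInjRes 𝒜 𝒜) (hr : ringKrullDim R = 1) (s : ℕ) (hs : ringKrullDim S = s)
    (h1s : 1 ≤ s) :
    (2 ≤ s → (LocCoh.IsCohenMacaulayRing T ↔ ∀ n : ℤ, I.Hcomp mR 1 n = ⊥ ∨ ℬ n = ⊥)) ∧
    (s = 1 → LocCoh.IsCohenMacaulayRing T) := by
  classical
  letI : DirectSum.Decomposition (toSub 𝒜) := toSubDecomposition 𝒜
  letI : DirectSum.Decomposition (toSub ℬ) := toSubDecomposition ℬ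
  letI : DirectSum.Decomposition (toSub 𝒯) := toSubDecomposition 𝒯
  haveI : SetLike.GradedSMul 𝒜 (toSub 𝒜) :=
    ⟨fun {i j a b} ha hb => SetLike.GradedMul.mul_mem (A := 𝒜) ha hb⟩
  haveI : SetLike.GradedSMul ℬ (toSub ℬ) :=
    ⟨fun {i j a b} ha hb => SetLike.GradedMul.mul_mem (A := ℬ) ha hb⟩
  have hT : GrSeg.IsSegreRing 𝒜 ℬ 𝒯 ψ := ⟨hψ, hdegT⟩
  have hP : GrSeg.IsSegreMod ψ (toSub 𝒜) (toSub ℬ) (toSub 𝒯) ψ.toLinearMap :=
    { injective := hψ
      image_piece := fun n => by
        have h1 := hdegT n
        have h2 : (ψ.toLinearMap '' ((toSub 𝒯 n : AddSubgroup T) : Set T)) =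
            (((𝒯 n).map ψ.toLinearMap : Submodule k (R ⊗[k] S)) : Set (R ⊗[k] S)) := rfl
        rw [h2, h1]
        rfl
      map_smul := fun t p => by
        rw [act_self]
        exact map_mul ψ t p }
  have hRnt : Nontrivial R := by
    by_contra hcon
    rw [not_nontrivial_iff_subsingleton] at hcon
    rw [ringKrullDim_eq_bot_of_subsingleton] at hr
    exact absurd hr (by decide)
  have hSnt : Nontrivial S := by
    by_contra hcon
    rw [not_nontrivial_iff_subsingleton] at hcon
    rw [ringKrullDim_eq_bot_of_subsingleton] at hs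
    exact absurd hs.symm WithBot.coe_ne_bot
  haveI : Nontrivial (R ⊗[k] S) :=
    Algebra.TensorProduct.nontrivial_of_algebraMap_injective_of_flat_left (R := k) (A := R)
      (B := S) (algebraMap k S).injective
  haveI : Nontrivial T := by
    by_contra hcon
    rw [not_nontrivial_iff_subsingleton] at hcon
    have h1 : ψ 1 = ψ 0 := congrArg ψ (Subsingleton.elim _ _)
    rw [map_one, map_zero] at h1
    exact one_ne_zero h1
  haveI : IsNoetherianRing T := isNoetherianRing_segre 𝒜 ℬ 𝒯 hposR ψ hψ hdegT
  let EM : GrLC.StarInjRes 𝒜 (toSub 𝒜) :=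
    { X := I.X
      d := I.d
      ε := I.ε
      d_grHom := I.d_grHom
      ε_grHom := fun j m hm => I.ε_grHom j m hm
      ε_injective := I.ε_injective
      exact_zero := I.exact_zero
      exact_succ := I.exact_succ
      starInj := I.starInj }
  have hdM : Module.supportDim R R = 1 := by
    rw [Module.supportDim_self_eq_ringKrullDim]; exact hr
  have hdN : Module.supportDim S S = s := by
    rw [Module.supportDim_self_eq_ringKrullDim]; exact hs
  have key := main k R 𝒜 hposR h0R S ℬ hposS h0S T 𝒯 ψ hT mR hmR R (toSub 𝒜) EM S (toSub ℬ) T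
    (toSub 𝒯) ψ.toLinearMap hP s h1s hdM hdN
    (fun q _ => Or.inr (cmModule_self_of_cmRing R q))
    (fun q _ => Or.inr (cmModule_self_of_cmRing S q))
  have hbot : ∀ n : ℤ, (toSub ℬ n = ⊥ ↔ ℬ n = ⊥) := by
    intro n
    constructor
    · intro h
      rw [eq_bot_iff]
      intro x hx
      have : x ∈ toSub ℬ n := hx
      rw [h, AddSubgroup.mem_bot] at this
      rw [this]
      exact Submodule.zero_mem _
    · intro h
      rw [eq_bot_iff]
      intro x hx
      have : x ∈ ℬ n := hx
      rw [h, Submodule.mem_bot] at this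
      rw [this]
      exact AddSubgroup.zero_mem _
  have hH : ∀ n : ℤ, EM.Hcomp mR 1 n = I.Hcomp mR 1 n := fun n => rfl
  constructor
  · intro h2s
    constructor
    · intro hcm n
      have hpcm : ∀ (q : Ideal T) [q.IsPrime], Subsingleton (LocalizedModule q.primeCompl T) ∨
          LocCoh.IsCohenMacaulayModule (Localization.AtPrime q)
            (LocalizedModule q.primeCompl T) :=
        fun q _ => Or.inr (cmModule_self_of_cmRing T q)
      rcases ((key.1 h2s).mp hpcm) n with h | h
      · exact Or.inl ((hH n) ▸ h)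
      · exact Or.inr ((hbot n).mp h)
    · intro hcond
      apply cmRing_of_cmModule_self T
      apply (key.1 h2s).mpr
      intro n
      rcases hcond n with h | h
      · exact Or.inl ((hH n).symm ▸ h)
      · exact Or.inr ((hbot n).mpr h)
  · intro hs1
    exact cmRing_of_cmModule_self T (key.2 hs1)

end Groth.Agent.Lib.Helper87.SegOne
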