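import Groth.Agent.Lib.Helper87.Kun25
import Groth.Agent.Lib.Helper87.SegOne16

/-!
# The Cohen–Macaulay property of a Segre product of Cohen–Macaulay rings of dimension `≥ 2`
(helper87)
-/

set_option autoImplicit false
universe u

namespace Groth.Agent.Lib.Helper87.Kun

open DirectSum TensorProduct GrLC RingTheory.Sequence
open Groth.Agent.Lib.Helper99 Groth.Agent.Lib.Helper39 Groth.Agent.Lib.Helper39.GrBridge
  Groth.Agent.Lib.Helper87.SegOne Groth.Agent.Lib.Helper60

theorem toSub_eq_bot_iff {k : Type u} [Field k] {R : Type u} [CommRing R] [Algebra k R]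
    (𝒜 : ℤ → Submodule k R) (n : ℤ) : toSub 𝒜 n = ⊥ ↔ 𝒜 n = ⊥ := by
  constructor
  · intro h
    rw [eq_bot_iff]
    intro x hx
    have : x ∈ toSub 𝒜 n := hx
    rw [h, AddSubgroup.mem_bot] at this
    rw [this]
    exact Submodule.zero_mem _
  · intro h
    exact toSub_eq_bot h

/-- **Cohen–Macaulayness of the Segre product of Cohen–Macaulay rings of dimensions `≥ 2`.** -/
theorem segre_cm_ring_iff (k : Type u) [Field k] (R : Type u) [CommRing R] [Algebra k R]
    (𝒜 : ℤ → Submodule k R) [GradedAlgebra 𝒜] (hposR : ∀ n : ℤ, n < 0 → 𝒜 n = ⊥)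
    (h0R : 𝒜 0 = Submodule.span k {(1 : R)}) [Algebra.FiniteType k R] (S : Type u) [CommRing S]
    [Algebra k S] (ℬ : ℤ → Submodule k S) [GradedAlgebra ℬ]
    (hposS : ∀ n : ℤ, n < 0 → ℬ n = ⊥) (h0S : ℬ 0 = Submodule.span k {(1 : S)})
    [Algebra.FiniteType k S] (T : Type u) [CommRing T] [Algebra k T] (𝒯 : ℤ → Submodule k T)
    [GradedAlgebra 𝒯] (ψ : T →ₐ[k] TensorProduct k R S) (hψ : Function.Injective ψ)
    (hdegT : ∀ n : ℤ, (𝒯 n).map ψ.toLinearMap =
      Submodule.span k {x : TensorProduct k R S | ∃ a ∈ 𝒜 n, ∃ b ∈ ℬ n, x = a ⊗ₜ[k] b})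
    [LocCoh.IsCohenMacaulayRing R] [LocCoh.IsCohenMacaulayRing S] (mR : HomogeneousIdeal 𝒜)
    (hmR : mR.toIdeal = Ideal.span (⋃ n ∈ Set.Ioi (0 : ℤ), (𝒜 n : Set R)))
    (I : GrLC.StarInjRes 𝒜 𝒜) (mS : HomogeneousIdeal ℬ)
    (hmS : mS.toIdeal = Ideal.span (⋃ n ∈ Set.Ioi (0 : ℤ), (ℬ n : Set S)))
    (J : GrLC.StarInjRes ℬ ℬ) (r s : ℕ) (hr : ringKrullDim R = r) (hs : ringKrullDim S = s)
    (h2r : 2 ≤ r) (h2s : 2 ≤ s) :
    LocCoh.IsCohenMacaulayRing T ↔
      (∀ n : ℤ, 𝒜 n = ⊥ ∨ J.Hcomp mS s n = ⊥) ∧ (∀ n : ℤ, I.Hcomp mR r n = ⊥ ∨ ℬ n = ⊥) := by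
  classical
  letI : DirectSum.Decomposition (toSub 𝒜) := toSubDecomposition 𝒜
  letI : DirectSum.Decomposition (toSub ℬ) := toSubDecomposition ℬ
  letI : DirectSum.Decomposition (toSub 𝒯) := toSubDecomposition 𝒯
  haveI : SetLike.GradedSMul 𝒜 (toSub 𝒜) :=
    ⟨fun {i j a b} ha hb => SetLike.GradedMul.mul_mem (A := 𝒜) ha hb⟩
  haveI : SetLike.GradedSMul ℬ (toSub ℬ) :=
    ⟨fun {i j a b} ha hb => SetLike.GradedMul.mul_mem (A := ℬ) ha hb⟩
  have hT : GrSeg.IsSegreRing 𝒜 ℬ 𝒯 ψ := ⟨hψ, hdegT⟩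
  have hP : GrSeg.IsSegreMod ψ (toSub 𝒜) (toSub ℬ) (toSub 𝒯) ψ.toLinearMap :=
    { injective := hψ
      image_piece := fun n => by
        have h1 := hdegT n
        have h2 : (ψ.toLinearMap '' ((toSub 𝒯 n : AddSubgroup T) : Set T)) =
            (((𝒯 n).map ψ.toLinearMap : Submodule k (R ⊗[k] S)) : Set (R ⊗[k] S)) := rfl
        rw [h2, h1]
        rfl
      map_smul := fun t p => by
        rw [act_self']
        exact map_mul ψ t p }
  have hRnt : Nontrivial R := by
    by_contra hcon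
    rw [not_nontrivial_iff_subsingleton] at hcon
    rw [ringKrullDim_eq_bot_of_subsingleton] at hr
    exact absurd hr.symm WithBot.coe_ne_bot
  have hSnt : Nontrivial S := by
    by_contra hcon
    rw [not_nontrivial_iff_subsingleton] at hcon
    rw [ringKrullDim_eq_bot_of_subsingleton] at hs
    exact absurd hs.symm WithBot.coe_ne_bot
  haveI : Nontrivial (R ⊗[k] S) :=
    Algebra.TensorProduct.nontrivial_of_algebraMap_injective_of_flat_left (R := k) (A := R)
      (B := S) (algebraMap k S).injective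
  haveI : Nontrivial T := by
    by_contra hcon
    rw [not_nontrivial_iff_subsingleton] at hcon
    have h1 : ψ 1 = ψ 0 := congrArg ψ (Subsingleton.elim _ _)
    rw [map_one, map_zero] at h1
    exact one_ne_zero h1
  haveI : IsNoetherianRing T := isNoetherianRing_segre 𝒜 ℬ 𝒯 hposR ψ hψ hdegT
  let EM : GrLC.StarInjRes 𝒜 (toSub 𝒜) :=
    { X := I.X
      d := I.d
      ε := I.ε
      d_grHom := I.d_grHom
      ε_grHom := fun j m hm => I.ε_grHom j m hm
      ε_injective := I.ε_injective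
      exact_zero := I.exact_zero
      exact_succ := I.exact_succ
      starInj := I.starInj }
  let EN : GrLC.StarInjRes ℬ (toSub ℬ) :=
    { X := J.X
      d := J.d
      ε := J.ε
      d_grHom := J.d_grHom
      ε_grHom := fun j m hm => J.ε_grHom j m hm
      ε_injective := J.ε_injective
      exact_zero := J.exact_zero
      exact_succ := J.exact_succ
      starInj := J.starInj }
  have hdM : Module.supportDim R R = r := by
    rw [Module.supportDim_self_eq_ringKrullDim]; exact hr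
  have hdN : Module.supportDim S S = s := by
    rw [Module.supportDim_self_eq_ringKrullDim]; exact hs
  have key := segre_cm_iff k R 𝒜 hposR h0R S ℬ hposS h0S T 𝒯 ψ hT mR hmR mS hmS R (toSub 𝒜) EM
    S (toSub ℬ) EN T (toSub 𝒯) ψ.toLinearMap hP r s h2r h2s hdM hdN
    (fun q _ => Or.inr (cmModule_self_of_cmRing R q))
    (fun q _ => Or.inr (cmModule_self_of_cmRing S q))
  have hHM : ∀ n : ℤ, EM.Hcomp mR r n = I.Hcomp mR r n := fun n => rfl
  have hHN : ∀ n : ℤ, EN.Hcomp mS s n = J.Hcomp mS s n := fun n => rfl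
  constructor
  · intro hcm
    have hpcm : ∀ (q : Ideal T) [q.IsPrime], Subsingleton (LocalizedModule q.primeCompl T) ∨
        LocCoh.IsCohenMacaulayModule (Localization.AtPrime q)
          (LocalizedModule q.primeCompl T) :=
      fun q _ => Or.inr (cmModule_self_of_cmRing T q)
    obtain ⟨k1, k2⟩ := key.mp hpcm
    constructor
    · intro n
      rcases k1 n with h | h
      · exact Or.inl ((toSub_eq_bot_iff 𝒜 n).mp h)
      · exact Or.inr ((hHN n) ▸ h)
    · intro n
      rcases k2 n with h | h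
      · exact Or.inl ((hHM n) ▸ h)
      · exact Or.inr ((toSub_eq_bot_iff ℬ n).mp h)
  · rintro ⟨c1, c2⟩
    apply cmRing_of_cmModule_self T
    apply key.mpr
    constructor
    · intro n
      rcases c1 n with h | h
      · exact Or.inl ((toSub_eq_bot_iff 𝒜 n).mpr h)
      · exact Or.inr ((hHN n).symm ▸ h)
    · intro n
      rcases c2 n with h | h
      · exact Or.inl ((hHM n).symm ▸ h)
      · exact Or.inr ((toSub_eq_bot_iff ℬ n).mpr h)

end Groth.Agent.Lib.Helper87.Kun
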