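import Groth.Agent.Lib.Helper87.Kun25

/-!
# The low local cohomology of a Segre product of Cohen–Macaulay modules and its depth (helper87)
-/

set_option autoImplicit false
universe u

namespace Groth.Agent.Lib.Helper87.Kun

open DirectSum TensorProduct GrLC RingTheory.Sequence
open Groth.Agent.Lib.Helper99 Groth.Agent.Lib.Helper39 Groth.Agent.Lib.Helper39.GrBridge
  Groth.Agent.Lib.Helper87.SegOne Groth.Agent.Lib.Helper60

attribute [local instance] toSubGradedRing toSubDecomposition toSubGradedSMul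

section GrDepth

variable {k : Type u} [Field k] {T : Type u} [CommRing T] [Algebra k T]
  (𝒯 : ℤ → Submodule k T) [GradedAlgebra 𝒯]
  {P : Type u} [AddCommGroup P] [Module T P]
  (𝒬 : ℤ → AddSubgroup P) [DirectSum.Decomposition 𝒬] [SetLike.GradedSMul 𝒯 𝒬]
  (EP : GrLC.StarInjRes 𝒯 𝒬) (mT : HomogeneousIdeal 𝒯)

/-- the depth along a homogeneous ideal is the least degree of nonvanishing graded local
cohomology -/
theorem idealDepth_eq_of_Hcomp [IsNoetherianRing T] [Module.Finite T P] (n : ℕ)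
    (hvan : ∀ q : ℕ, q < n → ∀ d : ℤ, EP.Hcomp mT q d = ⊥)
    (hne : ∃ d : ℤ, EP.Hcomp mT n d ≠ ⊥) :
    LocCoh.idealDepth mT.toIdeal P = (n : ℕ∞) := by
  have h1 : (n : ℕ∞) ≤ LocCoh.idealDepth mT.toIdeal P :=
    (Groth.Agent.Lib.Helper26.LcCM.lc_vanishing_iff_le_idealDepth T mT.toIdeal P n).mp
      (fun i hi => (Hcomp_eq_bot_iff_subsingleton 𝒯 𝒬 EP mT i).mp (hvan i hi))
  have h2 : ¬ ((n + 1 : ℕ) : ℕ∞) ≤ LocCoh.idealDepth mT.toIdeal P := by
    intro h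
    have h3 := (Groth.Agent.Lib.Helper26.LcCM.lc_vanishing_iff_le_idealDepth T mT.toIdeal P
      (n + 1)).mpr h n (by omega)
    obtain ⟨d, hd⟩ := hne
    exact hd ((Hcomp_eq_bot_iff_subsingleton 𝒯 𝒬 EP mT n).mpr h3 d)
  apply le_antisymm _ h1
  by_contra hlt
  push Not at hlt
  apply h2
  have := Order.add_one_le_of_lt hlt
  exact_mod_cast this

end GrDepth

/-- the graded local cohomology of a Segre product of Cohen–Macaulay modules of dimensions
`r, s ≥ 2` in degrees `< r + s - 1`. -/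
theorem segre_Hcomp_eq_bot_iff (k : Type u) [Field k] (R : Type u) [CommRing R] [Algebra k R]
    (𝒜 : ℤ → Submodule k R) [GradedAlgebra 𝒜] (hposR : ∀ n : ℤ, n < 0 → 𝒜 n = ⊥)
    (h0R : 𝒜 0 = Submodule.span k {(1 : R)}) [Algebra.FiniteType k R] (S : Type u) [CommRing S]
    [Algebra k S] (ℬ : ℤ → Submodule k S) [GradedAlgebra ℬ]
    (hposS : ∀ n : ℤ, n < 0 → ℬ n = ⊥) (h0S : ℬ 0 = Submodule.span k {(1 : S)})
    [Algebra.FiniteType k S] (T : Type u) [CommRing T] [Algebra k T] (𝒯 : ℤ → Submodule k T)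
    [GradedAlgebra 𝒯] (ψ : T →ₐ[k] TensorProduct k R S) (hT : GrSeg.IsSegreRing 𝒜 ℬ 𝒯 ψ)
    (mR : HomogeneousIdeal 𝒜)
    (hmR : mR.toIdeal = Ideal.span (⋃ n ∈ Set.Ioi (0 : ℤ), (𝒜 n : Set R)))
    (mS : HomogeneousIdeal ℬ)
    (hmS : mS.toIdeal = Ideal.span (⋃ n ∈ Set.Ioi (0 : ℤ), (ℬ n : Set S)))
    (mT : HomogeneousIdeal 𝒯)
    (hmT : mT.toIdeal = Ideal.span (⋃ n ∈ Set.Ioi (0 : ℤ), (𝒯 n : Set T)))
    (M : Type u) [AddCommGroup M] [Module R M] [Module k M] [IsScalarTower k R M]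
    (ℳ : ℤ → AddSubgroup M) [DirectSum.Decomposition ℳ] [SetLike.GradedSMul 𝒜 ℳ]
    [Module.Finite R M] (EM : GrLC.StarInjRes 𝒜 ℳ)
    (N : Type u) [AddCommGroup N] [Module S N] [Module k N] [IsScalarTower k S N]
    (𝒩 : ℤ → AddSubgroup N) [DirectSum.Decomposition 𝒩] [SetLike.GradedSMul ℬ 𝒩]
    [Module.Finite S N] (EN : GrLC.StarInjRes ℬ 𝒩)
    (P : Type u) [AddCommGroup P] [Module T P] [Module k P] [IsScalarTower k T P]
    (𝒬 : ℤ → AddSubgroup P) [DirectSum.Decomposition 𝒬] [SetLike.GradedSMul 𝒯 𝒬]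
    (φ : P →ₗ[k] TensorProduct k M N) (hP : GrSeg.IsSegreMod ψ ℳ 𝒩 𝒬 φ)
    (EP : GrLC.StarInjRes 𝒯 𝒬)
    (r s : ℕ) (h2r : 2 ≤ r) (h2s : 2 ≤ s) (hdM : Module.supportDim R M = r)
    (hdN : Module.supportDim S N = s)
    (hMcm : (∀ (q : Ideal R) [q.IsPrime], Subsingleton (LocalizedModule q.primeCompl M) ∨
      LocCoh.IsCohenMacaulayModule (Localization.AtPrime q) (LocalizedModule q.primeCompl M)))
    (hNcm : (∀ (q : Ideal S) [q.IsPrime], Subsingleton (LocalizedModule q.primeCompl N) ∨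
      LocCoh.IsCohenMacaulayModule (Localization.AtPrime q) (LocalizedModule q.primeCompl N)))
    (q : ℕ) (hq : q < r + s - 1) (d : ℤ) :
    EP.Hcomp mT q d = ⊥ ↔
      (q = s → (ℳ d = ⊥ ∨ EN.Hcomp mS s d = ⊥)) ∧ (q = r → (EM.Hcomp mR r d = ⊥ ∨ 𝒩 d = ⊥)) := by
  classical
  haveI : IsNoetherianRing R := Algebra.FiniteType.isNoetherianRing k R
  haveI : IsNoetherianRing S := Algebra.FiniteType.isNoetherianRing k S
  haveI : Nontrivial M := by
    rw [← Module.supportDim_ne_bot_iff_nontrivial R, hdM]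
    exact WithBot.coe_ne_bot
  haveI : Nontrivial N := by
    rw [← Module.supportDim_ne_bot_iff_nontrivial S, hdN]
    exact WithBot.coe_ne_bot
  haveI : Nontrivial R := Module.nontrivial R M
  haveI : Nontrivial S := Module.nontrivial S N
  have hposT := segre_pos 𝒜 ℬ 𝒯 ψ hT hposR
  have h0T := segre_zero 𝒜 ℬ 𝒯 ψ hT h0R h0S
  haveI : IsNoetherianRing T := isNoetherianRing_segre 𝒜 ℬ 𝒯 hposR ψ hT.1 hT.2
  haveI : Module.Finite T P := segre_finite 𝒜 ℬ 𝒯 ℳ 𝒩 𝒬 ψ hT φ hP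
  haveI : Nontrivial (R ⊗[k] S) :=
    Algebra.TensorProduct.nontrivial_of_algebraMap_injective_of_flat_left (R := k) (A := R)
      (B := S) (algebraMap k S).injective
  haveI : Nontrivial T := by
    by_contra hcon
    rw [not_nontrivial_iff_subsingleton] at hcon
    have h1 : ψ 1 = ψ 0 := congrArg ψ (Subsingleton.elim _ _)
    rw [map_one, map_zero] at h1
    exact one_ne_zero h1
  -- the local cohomology of the factors is concentrated in one degree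
  have hMlt : ∀ q : ℕ, q < r → ∀ d : ℤ, EM.Hcomp mR q d = ⊥ := fun q hq d =>
    Hcomp_eq_bot_of_lt_of_cm 𝒜 ℳ EM mR hposR h0R hmR r hdM hMcm q hq d
  have hNlt : ∀ q : ℕ, q < s → ∀ d : ℤ, EN.Hcomp mS q d = ⊥ := fun q hq d =>
    Hcomp_eq_bot_of_lt_of_cm ℬ 𝒩 EN mS hposS h0S hmS s hdN hNcm q hq d
  have hMgt : ∀ q : ℕ, r < q → ∀ d : ℤ, EM.Hcomp mR q d = ⊥ := fun q hq d =>
    Hcomp_eq_bot_of_supportDim_lt 𝒜 ℳ EM mR q (by rw [hdM]; exact_mod_cast hq) d
  have hNgt : ∀ q : ℕ, s < q → ∀ d : ℤ, EN.Hcomp mS q d = ⊥ := fun q hq d =>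
    Hcomp_eq_bot_of_supportDim_lt ℬ 𝒩 EN mS q (by rw [hdN]; exact_mod_cast hq) d
  have hMne : ∀ q : ℕ, q ≠ r → ∀ d : ℤ, EM.Hcomp mR q d = ⊥ := fun q hq d => by
    rcases Nat.lt_or_gt_of_ne hq with h | h
    · exact hMlt q h d
    · exact hMgt q h d
  have hNne : ∀ q : ℕ, q ≠ s → ∀ d : ℤ, EN.Hcomp mS q d = ⊥ := fun q hq d => by
    rcases Nat.lt_or_gt_of_ne hq with h | h
    · exact hNlt q h d
    · exact hNgt q h d
  have kun := kunneth k R 𝒜 hposR h0R S ℬ hposS h0S T 𝒯 ψ hT mR hmR mS hmS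
    mT hmT M ℳ EM N 𝒩 EN P 𝒬 φ hP EP (fun q d hq => hMlt q (by omega) d)
    (fun q d hq => hNlt q (by omega) d) q d
  have hsum : (Finset.range (q + 2)).sum (fun i =>
      Module.finrank (GrLC.deg0 𝒜) (EM.Hcomp mR i d) *
        Module.finrank (GrLC.deg0 ℬ) (EN.Hcomp mS (q + 1 - i) d)) = 0 := by
    apply Finset.sum_eq_zero
    intro i _
    by_cases hir : i = r
    · rw [hNne (q + 1 - i) (by omega) d, finrank_bot, mul_zero]
    · rw [hMne i hir d, finrank_bot, zero_mul]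
  rw [hsum, add_zero] at kun
  constructor
  · intro hbot
    rw [hbot, finrank_bot] at kun
    constructor
    · intro hqs
      subst hqs
      have h2 : Module.finrank (GrLC.deg0 𝒜) (GrLC.comp 𝒜 ℳ d) *
          Module.finrank (GrLC.deg0 ℬ) (EN.Hcomp mS q d) = 0 := by omega
      rcases Nat.mul_eq_zero.mp h2 with h3 | h3
      · exact Or.inl (piece_eq_bot_of_finrank 𝒜 ℳ hposR h0R d h3)
      · exact Or.inr (Hcomp_eq_bot_of_finrank ℬ 𝒩 hposS h0S EN mS hmS q d h3)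
    · intro hqr
      subst hqr
      have h2 : Module.finrank (GrLC.deg0 𝒜) (EM.Hcomp mR q d) *
          Module.finrank (GrLC.deg0 ℬ) (GrLC.comp ℬ 𝒩 d) = 0 := by omega
      rcases Nat.mul_eq_zero.mp h2 with h3 | h3
      · exact Or.inl (Hcomp_eq_bot_of_finrank 𝒜 ℳ hposR h0R EM mR hmR q d h3)
      · exact Or.inr (piece_eq_bot_of_finrank ℬ 𝒩 hposS h0S d h3)
  · rintro ⟨hc1, hc2⟩
    apply Hcomp_eq_bot_of_finrank 𝒯 𝒬 hposT h0T EP mT hmT q d
    rw [kun]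
    have t1 : Module.finrank (GrLC.deg0 𝒜) (GrLC.comp 𝒜 ℳ d) *
        Module.finrank (GrLC.deg0 ℬ) (EN.Hcomp mS q d) = 0 := by
      by_cases hqs : q = s
      · rcases hc1 hqs with h | h
        · rw [(comp_eq_bot_iff 𝒜 ℳ d).mpr h, finrank_bot, zero_mul]
        · rw [hqs, h, finrank_bot, mul_zero]
      · rw [hNne q hqs d, finrank_bot, mul_zero]
    have t2 : Module.finrank (GrLC.deg0 𝒜) (EM.Hcomp mR q d) *
        Module.finrank (GrLC.deg0 ℬ) (GrLC.comp ℬ 𝒩 d) = 0 := by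
      by_cases hqr : q = r
      · rcases hc2 hqr with h | h
        · rw [hqr, h, finrank_bot, zero_mul]
        · rw [(comp_eq_bot_iff ℬ 𝒩 d).mpr h, finrank_bot, mul_zero]
      · rw [hMne q hqr d, finrank_bot, zero_mul]
    rw [t1, t2]

end Groth.Agent.Lib.Helper87.Kun
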