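import Groth.Agent.Lib.Helper87.Kun28
import Groth.Agent.Lib.Helper39.GrVer29

/-!
# The graded local cohomology of a standard graded polynomial ring (helper87)

`H^N_m(k[X_1..X_N])_e ≠ 0` iff `e ≤ -N`.
-/

set_option autoImplicit false
universe u

namespace Groth.Agent.Lib.Helper87.Kun

open DirectSum TensorProduct GrLC MvPolynomial
open Groth.Agent.Lib.Helper39 Groth.Agent.Lib.Helper39.GrBridge
  Groth.Agent.Lib.Helper39.GrStarLocal Groth.Agent.Lib.Helper39.GrWeightedPoly
  Groth.Agent.Lib.Helper39.VerPoly Groth.Agent.Lib.Helper39.GrLes Groth.Agent.Lib.Helper60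

attribute [local instance] MvPolynomial.weightedGradedAlgebra
attribute [local instance] toSubGradedRing toSubDecomposition toSubGradedSMul

theorem wb_lt_of_succ_le {y : WithBot ℕ∞} {N : ℕ} (h : y + 1 ≤ (N : WithBot ℕ∞)) :
    y < (N : WithBot ℕ∞) := by
  induction y using WithBot.recBotCoe with
  | bot => exact WithBot.bot_lt_coe _
  | coe d =>
    have h' : ((d + 1 : ℕ∞) : WithBot ℕ∞) ≤ ((N : ℕ∞) : WithBot ℕ∞) := by exact_mod_cast h
    have h'' : d + 1 ≤ (N : ℕ∞) := WithBot.coe_le_coe.mp h'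
    have hd : d ≠ ⊤ := by
      rintro rfl
      simp at h''
    have h3 : d < (N : ℕ∞) := (ENat.add_one_le_iff hd).mp h''
    exact_mod_cast h3

/-- the end degree is attained -/
theorem ne_bot_of_endDeg' {M : Type u} [AddCommGroup M] (𝒢 : ℤ → AddSubgroup M) (a : ℤ)
    (ha : GrLC.endDeg 𝒢 = ((a : WithTop ℤ) : WithBot (WithTop ℤ))) : 𝒢 a ≠ ⊥ := by
  intro hbot
  have hle : GrLC.endDeg 𝒢 ≤ (((a - 1 : ℤ) : WithTop ℤ) : WithBot (WithTop ℤ)) := by
    unfold GrLC.endDeg
    apply iSup_le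
    intro j
    apply iSup_le
    intro hj
    have hja : (((j : ℤ) : WithTop ℤ) : WithBot (WithTop ℤ)) ≤
        ((a : WithTop ℤ) : WithBot (WithTop ℤ)) := by
      rw [← ha]
      unfold GrLC.endDeg
      exact le_iSup₂_of_le j hj le_rfl
    have hja' : j ≤ a := by exact_mod_cast hja
    have hne : j ≠ a := fun h => hj (h ▸ hbot)
    have : j ≤ a - 1 := by omega
    exact_mod_cast this
  rw [ha] at hle
  have : a ≤ a - 1 := by exact_mod_cast hle
  omega

section Poly

variable (k : Type u) [Field k] (N : ℕ)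

theorem poly_hpos : ∀ n : ℤ, n < 0 →
    weightedHomogeneousSubmodule k (fun _ : Fin N => (1 : ℤ)) n = ⊥ := by
  intro n hn
  have h := stdGr_hpos k N n hn
  rw [eq_bot_iff]
  intro x hx
  have : x ∈ stdGr k N n := hx
  rw [h, AddSubgroup.mem_bot] at this
  rw [this]
  exact Submodule.zero_mem _

theorem poly_h0 : weightedHomogeneousSubmodule k (fun _ : Fin N => (1 : ℤ)) 0 =
    Submodule.span k {(1 : MvPolynomial (Fin N) k)} := by
  apply le_antisymm
  · intro p hp
    have h := eq_C_of_mem_zero k N _ (hw1 N) hp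
    rw [h, Submodule.mem_span_singleton]
    exact ⟨coeff 0 p, by rw [Algebra.smul_def, mul_one]; rfl⟩
  · rw [Submodule.span_le]
    rintro _ rfl
    exact SetLike.GradedOne.one_mem

theorem poly_piece_ne_bot (hN : 1 ≤ N) (n : ℤ) (hn : 0 ≤ n) :
    weightedHomogeneousSubmodule k (fun _ : Fin N => (1 : ℤ)) n ≠ ⊥ := by
  obtain ⟨m, rfl⟩ := Int.eq_ofNat_of_zero_le hn
  intro h
  have hx : (X ⟨0, hN⟩ : MvPolynomial (Fin N) k) ∈
      weightedHomogeneousSubmodule k (fun _ : Fin N => (1 : ℤ)) 1 :=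
    isWeightedHomogeneous_X k _ _
  have h1 : (X ⟨0, hN⟩ : MvPolynomial (Fin N) k) ^ m ∈
      weightedHomogeneousSubmodule k (fun _ : Fin N => (1 : ℤ)) (m : ℤ) := by
    have := SetLike.pow_mem_graded m hx
    rwa [nsmul_eq_mul, mul_one] at this
  rw [h, Submodule.mem_bot] at h1
  exact pow_ne_zero m (X_ne_zero _) h1

/-- multiplication by a variable is surjective on the top local cohomology -/
theorem poly_Hgr_ne_bot_pred (hN : 1 ≤ N) (I : StarInjRes (stdGr k N) (stdGr k N))
    (m : HomogeneousIdeal (stdGr k N)) (e : ℤ) (h : I.Hgr m N e ≠ ⊥) :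
    I.Hgr m N (e - 1) ≠ ⊥ := by
  classical
  set x : MvPolynomial (Fin N) k := X ⟨0, hN⟩ with hxdef
  have hx : x ∈ stdGr k N 1 := X_mem k N (fun _ => (1 : ℤ)) ⟨0, hN⟩
  have hx0 : x ≠ 0 := X_ne_zero _
  have hreg : IsSMulRegular (MvPolynomial (Fin N) k) x := by
    intro u v huv
    exact mul_left_cancel₀ hx0 huv
  set L : Submodule (MvPolynomial (Fin N) k) (MvPolynomial (Fin N) k) :=
    (Ideal.span {x} : Ideal (MvPolynomial (Fin N) k)) with hL
  have hLhom : L.IsHomogeneous (stdGr k N) := by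
    have : (Ideal.span {x}).IsHomogeneous (stdGr k N) := by
      apply Ideal.homogeneous_span
      intro y hy
      rw [Set.mem_singleton_iff] at hy
      rw [hy]
      exact ⟨1, hx⟩
    exact this
  letI decN := quotDecomposition (stdGr k N) L hLhom
  haveI smulN := quotGradedSMul (stdGr k N) (stdGr k N) L
  obtain ⟨F⟩ := Groth.Agent.S13215.result (MvPolynomial (Fin N) k) (stdGr k N)
    (MvPolynomial (Fin N) k ⧸ L) (quotPieces (stdGr k N) L)
  have hker : LinearMap.ker L.mkQ = LinearMap.range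
      (x • (LinearMap.id : MvPolynomial (Fin N) k →ₗ[MvPolynomial (Fin N) k]
        MvPolynomial (Fin N) k)) := by
    rw [Submodule.ker_mkQ]
    ext y
    constructor
    · intro hy
      obtain ⟨c, rfl⟩ := Ideal.mem_span_singleton'.mp hy
      exact ⟨c, by simp [mul_comm]⟩
    · rintro ⟨c, rfl⟩
      exact Ideal.mem_span_singleton'.mpr ⟨c, by simp [mul_comm]⟩
  obtain ⟨δ, -, -, -, -, h5⟩ := exists_les_smul hx hreg L.mkQ (Submodule.mkQ_surjective _)
    (isGrHom_mkQ (stdGr k N) L) hker I F m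
  -- vanishing of `H^N` of the quotient
  have hdimQ : Module.supportDim (MvPolynomial (Fin N) k) (MvPolynomial (Fin N) k ⧸ L) <
      (N : WithBot ℕ∞) := by
    have h1 : Module.supportDim (MvPolynomial (Fin N) k)
        (MvPolynomial (Fin N) k ⧸ (Ideal.span {x} : Ideal (MvPolynomial (Fin N) k))) =
        ringKrullDim (MvPolynomial (Fin N) k ⧸ (Ideal.span {x} : Ideal (MvPolynomial (Fin N) k))) :=
      Module.supportDim_quotient_eq_ringKrullDim _
    have h2 := ringKrullDim_quotient_succ_le_of_nonZeroDivisor (r := x)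
      (mem_nonZeroDivisors_of_ne_zero hx0)
    rw [dim_eq k N] at h2
    have h3 := wb_lt_of_succ_le h2
    rw [← h1] at h3
    exact h3
  haveI : Module.Finite (MvPolynomial (Fin N) k) (MvPolynomial (Fin N) k ⧸ L) :=
    Module.Finite.of_surjective L.mkQ (Submodule.mkQ_surjective _)
  have hvan : Subsingleton (F.H m N) := by
    obtain ⟨eq⟩ := Groth.Agent.S13224.result (MvPolynomial (Fin N) k) (stdGr k N) m
      (MvPolynomial (Fin N) k ⧸ L) (quotPieces (stdGr k N) L) F N
    haveI : Subsingleton (LocCoh.H m.toIdeal N (MvPolynomial (Fin N) k ⧸ L)) :=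
      lc_subsingleton_of_supportDim_lt_of_finite m.toIdeal N _ hdimQ
    exact eq.toEquiv.subsingleton
  obtain ⟨⟨y, hy⟩, hy0⟩ := (AddSubgroup.ne_bot_iff_exists_ne_zero).mp h
  have hy0' : y ≠ 0 := fun h => hy0 (Subtype.ext h)
  obtain ⟨z, hz, hxz⟩ := h5 N e y hy (Subsingleton.elim _ _)
  rw [← sub_eq_add_neg] at hz
  intro hbot
  rw [hbot, AddSubgroup.mem_bot] at hz
  rw [hz, smul_zero] at hxz
  exact hy0' hxz.symm

/-- the top local cohomology of the polynomial ring lives exactly in degrees `≤ -N` -/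
theorem poly_Hgr_eq_bot_iff (hN : 1 ≤ N) (I : StarInjRes (stdGr k N) (stdGr k N))
    (m : HomogeneousIdeal (stdGr k N))
    (hm : m.toIdeal = Ideal.span (⋃ n ∈ Set.Ioi (0 : ℤ),
      (stdGr k N n : Set (MvPolynomial (Fin N) k)))) (e : ℤ) :
    I.Hgr m N e = ⊥ ↔ -(N : ℤ) < e := by
  obtain rfl : m = GrStarLocal.irr (stdGr k N) := HomogeneousIdeal.toIdeal_injective hm
  have hend := VerPoly.endDeg_eq k N I
  constructor
  · intro hbot
    by_contra hle
    push Not at hle
    -- descend from `-N` to `e`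
    have htop : I.Hgr (GrStarLocal.irr (stdGr k N)) N (-(N : ℤ)) ≠ ⊥ :=
      ne_bot_of_endDeg' _ _ hend
    have key : ∀ j : ℕ, I.Hgr (GrStarLocal.irr (stdGr k N)) N (-(N : ℤ) - j) ≠ ⊥ := by
      intro j
      induction j with
      | zero => simpa using htop
      | succ j ih =>
        have := poly_Hgr_ne_bot_pred k N hN I (GrStarLocal.irr (stdGr k N)) _ ih
        have e1 : -(N : ℤ) - (j : ℤ) - 1 = -(N : ℤ) - ((j + 1 : ℕ) : ℤ) := by push_cast; ring
        rw [e1] at this
        exact this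
    obtain ⟨j, hj⟩ : ∃ j : ℕ, e = -(N : ℤ) - j := ⟨(-(N : ℤ) - e).toNat, by omega⟩
    rw [hj] at hbot
    exact key j hbot
  · intro hlt
    exact GrAInvPoly.eq_bot_of_endDeg _ _ hend e hlt

end Poly

end Groth.Agent.Lib.Helper87.Kun
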