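import Groth.Agent.Lib.Helper87.SegOne3

/-!
# The Segre product of graded modules as a concrete graded module (helper87)

For a graded `R`-module `X` and a graded `S`-module `Y` (over a field `k`), and `T = R # S`
presented by `ψ : T → R ⊗ S`, the `T`-module `X # Y = ⊕_n X_n ⊗ Y_n ⊆ X ⊗ Y` (`segSub`), its
grading (`segGr`), and functoriality (`segMap`).
-/

set_option autoImplicit false
universe u

namespace Groth.Agent.Lib.Helper87.Kun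

open DirectSum TensorProduct
open Groth.Agent.Lib.Helper99 Groth.Agent.Lib.Helper87.SegOne

section Amb

variable {k : Type u} [Field k] {R S T : Type u} [CommRing R] [CommRing S] [CommRing T]
  [Algebra k R] [Algebra k S] [Algebra k T]

/-- `X ⊗ Y`, to be viewed as a module over `R ⊗ S` and over `T` through `ψ` -/
def Amb (_ψ : T →ₐ[k] R ⊗[k] S) (X Y : Type u) [AddCommGroup X] [Module k X] [AddCommGroup Y]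
    [Module k Y] : Type u := X ⊗[k] Y

variable (ψ : T →ₐ[k] R ⊗[k] S) (X Y : Type u) [AddCommGroup X] [Module R X] [Module k X]
  [IsScalarTower k R X] [AddCommGroup Y] [Module S Y] [Module k Y] [IsScalarTower k S Y]

noncomputable instance : AddCommGroup (Amb ψ X Y) := inferInstanceAs (AddCommGroup (X ⊗[k] Y))

noncomputable instance : Module k (Amb ψ X Y) := inferInstanceAs (Module k (X ⊗[k] Y))

noncomputable instance instModuleAmbA : Module (R ⊗[k] S) (Amb ψ X Y) :=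
  (segreModule : Module (R ⊗[k] S) (X ⊗[k] Y))

noncomputable instance instModuleAmbT : Module T (Amb ψ X Y) :=
  Module.compHom (Amb ψ X Y) (ψ : T →+* R ⊗[k] S)

variable {ψ X Y}

theorem amb_smulA (u : R ⊗[k] S) (z : Amb ψ X Y) : u • z = GrSeg.act k R S X Y u z := rfl

theorem amb_smulT (t : T) (z : Amb ψ X Y) : t • z = GrSeg.act k R S X Y (ψ t) z := rfl

theorem amb_smulT_A (t : T) (z : Amb ψ X Y) : t • z = (ψ t) • z := rfl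

instance : IsScalarTower k T (Amb ψ X Y) where
  smul_assoc c t z := by
    show GrSeg.act k R S X Y (ψ (c • t)) z = c • GrSeg.act k R S X Y (ψ t) z
    rw [map_smul, map_smul, LinearMap.smul_apply]

instance : IsScalarTower k (R ⊗[k] S) (Amb ψ X Y) where
  smul_assoc c u z := by
    show GrSeg.act k R S X Y (c • u) z = c • GrSeg.act k R S X Y u z
    rw [map_smul, LinearMap.smul_apply]

end Amb

section Seg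

variable {k : Type u} [Field k] {R S T : Type u} [CommRing R] [CommRing S] [CommRing T]
  [Algebra k R] [Algebra k S] [Algebra k T]
  (𝒜 : ℤ → Submodule k R) [GradedAlgebra 𝒜] (ℬ : ℤ → Submodule k S) [GradedAlgebra ℬ]
  (𝒯 : ℤ → Submodule k T) [GradedAlgebra 𝒯]
  (ψ : T →ₐ[k] R ⊗[k] S) (hT : GrSeg.IsSegreRing 𝒜 ℬ 𝒯 ψ)
  {X Y : Type u} [AddCommGroup X] [Module R X] [Module k X] [IsScalarTower k R X]
  [AddCommGroup Y] [Module S Y] [Module k Y] [IsScalarTower k S Y]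
  (𝒳 : ℤ → AddSubgroup X) [DirectSum.Decomposition 𝒳] [SetLike.GradedSMul 𝒜 𝒳]
  (𝒴 : ℤ → AddSubgroup Y) [DirectSum.Decomposition 𝒴] [SetLike.GradedSMul ℬ 𝒴]

/-- the span of all diagonal tensors -/
def segAll : Submodule k (X ⊗[k] Y) := ⨆ n : ℤ, GrSeg.segrePiece k 𝒳 𝒴 n

include hT in
omit [DirectSum.Decomposition 𝒳] [DirectSum.Decomposition 𝒴] in
theorem psi_mem {m : ℤ} {t : T} (ht : t ∈ 𝒯 m) : ψ t ∈ GrSeg.segrePiece k 𝒜 ℬ m := by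
  rw [← hT.2 m]
  exact ⟨t, ht, rfl⟩

include hT in
omit [DirectSum.Decomposition 𝒳] [DirectSum.Decomposition 𝒴] in
theorem act_psi_mem_segAll (t : T) {z : X ⊗[k] Y} (hz : z ∈ segAll (k := k) 𝒳 𝒴) :
    GrSeg.act k R S X Y (ψ t) z ∈ segAll (k := k) 𝒳 𝒴 := by
  classical
  rw [← DirectSum.sum_support_decompose 𝒯 t, map_sum, map_sum, LinearMap.sum_apply]
  refine Submodule.sum_mem _ fun m _ => ?_
  have hm := psi_mem 𝒜 ℬ 𝒯 ψ hT (decompose 𝒯 t m).2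
  induction hz using Submodule.iSup_induction' with
  | mem n z hz =>
    exact Submodule.mem_iSup_of_mem (m + n) (act_mem 𝒜 ℬ 𝒳 𝒴 hm hz)
  | zero => rw [map_zero]; exact Submodule.zero_mem _
  | add z z' _ _ hz hz' => rw [map_add]; exact Submodule.add_mem _ hz hz'

/-- the Segre product `X # Y` as a `T`-submodule of `X ⊗ Y` -/
def segSub : Submodule T (Amb ψ X Y) where
  carrier := (segAll (k := k) 𝒳 𝒴 : Set (X ⊗[k] Y))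
  add_mem' ha hb := Submodule.add_mem (segAll (k := k) 𝒳 𝒴) ha hb
  zero_mem' := Submodule.zero_mem (segAll (k := k) 𝒳 𝒴)
  smul_mem' t _ hz := act_psi_mem_segAll 𝒜 ℬ 𝒯 ψ hT 𝒳 𝒴 t hz

/-- the underlying tensor of an element of `X # Y` -/
def segVal : segSub 𝒜 ℬ 𝒯 ψ hT 𝒳 𝒴 →ₗ[k] X ⊗[k] Y where
  toFun z := z.1
  map_add' _ _ := rfl
  map_smul' _ _ := rfl

omit [DirectSum.Decomposition 𝒳] [DirectSum.Decomposition 𝒴] in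
theorem segVal_injective : Function.Injective (segVal 𝒜 ℬ 𝒯 ψ hT 𝒳 𝒴) :=
  fun _ _ h => Subtype.ext h

omit [DirectSum.Decomposition 𝒳] [DirectSum.Decomposition 𝒴] in
theorem segVal_mem (z : segSub 𝒜 ℬ 𝒯 ψ hT 𝒳 𝒴) : segVal 𝒜 ℬ 𝒯 ψ hT 𝒳 𝒴 z ∈ segAll (k := k) 𝒳 𝒴 :=
  z.2

omit [DirectSum.Decomposition 𝒳] [DirectSum.Decomposition 𝒴] in
theorem segVal_smul (t : T) (z : segSub 𝒜 ℬ 𝒯 ψ hT 𝒳 𝒴) :
    segVal 𝒜 ℬ 𝒯 ψ hT 𝒳 𝒴 (t • z) = GrSeg.act k R S X Y (ψ t) (segVal 𝒜 ℬ 𝒯 ψ hT 𝒳 𝒴 z) := rfl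

/-- constructor -/
def segMk (z : X ⊗[k] Y) (hz : z ∈ segAll (k := k) 𝒳 𝒴) : segSub 𝒜 ℬ 𝒯 ψ hT 𝒳 𝒴 := ⟨z, hz⟩

omit [DirectSum.Decomposition 𝒳] [DirectSum.Decomposition 𝒴] in
theorem segVal_segMk (z : X ⊗[k] Y) (hz : z ∈ segAll (k := k) 𝒳 𝒴) :
    segVal 𝒜 ℬ 𝒯 ψ hT 𝒳 𝒴 (segMk 𝒜 ℬ 𝒯 ψ hT 𝒳 𝒴 z hz) = z := rfl

/-- the pieces of `X # Y` -/
noncomputable def segGr : ℤ → AddSubgroup (segSub 𝒜 ℬ 𝒯 ψ hT 𝒳 𝒴) := fun n =>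
  (GrSeg.segrePiece k 𝒳 𝒴 n).toAddSubgroup.comap (segVal 𝒜 ℬ 𝒯 ψ hT 𝒳 𝒴).toAddMonoidHom

omit [DirectSum.Decomposition 𝒳] [DirectSum.Decomposition 𝒴] in
theorem mem_segGr {n : ℤ} {z : segSub 𝒜 ℬ 𝒯 ψ hT 𝒳 𝒴} :
    z ∈ segGr 𝒜 ℬ 𝒯 ψ hT 𝒳 𝒴 n ↔ segVal 𝒜 ℬ 𝒯 ψ hT 𝒳 𝒴 z ∈ GrSeg.segrePiece k 𝒳 𝒴 n := Iff.rfl

theorem segVal_coeAddMonoidHom (x : ⨁ n, segGr 𝒜 ℬ 𝒯 ψ hT 𝒳 𝒴 n) (m : ℤ) :
    prMN 𝒜 ℬ 𝒳 𝒴 m m (segVal 𝒜 ℬ 𝒯 ψ hT 𝒳 𝒴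
      (DirectSum.coeAddMonoidHom (segGr 𝒜 ℬ 𝒯 ψ hT 𝒳 𝒴) x)) =
      segVal 𝒜 ℬ 𝒯 ψ hT 𝒳 𝒴 (x m : segSub 𝒜 ℬ 𝒯 ψ hT 𝒳 𝒴) := by
  classical
  induction x using DirectSum.induction_on with
  | zero => simp
  | of n x =>
    rw [DirectSum.coeAddMonoidHom_of]
    have hx2 : segVal 𝒜 ℬ 𝒯 ψ hT 𝒳 𝒴 (x : segSub 𝒜 ℬ 𝒯 ψ hT 𝒳 𝒴) ∈
        piece2 (k := k) 𝒳 𝒴 n n := x.2
    by_cases h : n = m
    · subst h
      rw [DirectSum.of_eq_same]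
      exact prMN_of_mem 𝒜 ℬ 𝒳 𝒴 hx2
    · rw [DirectSum.of_eq_of_ne _ _ _ (Ne.symm h)]
      rw [prMN_of_mem_ne 𝒜 ℬ 𝒳 𝒴 (Or.inl h) hx2]
      rfl
  | add x y hx hy =>
    rw [map_add, map_add, map_add, hx, hy, DirectSum.add_apply]
    rfl

omit [DirectSum.Decomposition 𝒳] [DirectSum.Decomposition 𝒴] in
theorem exists_coe_eq {z : X ⊗[k] Y} (hz : z ∈ segAll (k := k) 𝒳 𝒴) :
    ∃ x : ⨁ n, segGr 𝒜 ℬ 𝒯 ψ hT 𝒳 𝒴 n, segVal 𝒜 ℬ 𝒯 ψ hT 𝒳 𝒴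
      (DirectSum.coeAddMonoidHom (segGr 𝒜 ℬ 𝒯 ψ hT 𝒳 𝒴) x) = z := by
  classical
  induction hz using Submodule.iSup_induction' with
  | mem n z hz =>
    refine ⟨DirectSum.of (fun n => segGr 𝒜 ℬ 𝒯 ψ hT 𝒳 𝒴 n) n
      ⟨segMk 𝒜 ℬ 𝒯 ψ hT 𝒳 𝒴 z (Submodule.mem_iSup_of_mem n hz), hz⟩, ?_⟩
    rw [DirectSum.coeAddMonoidHom_of]
    rfl
  | zero => exact ⟨0, by simp⟩
  | add z z' _ _ hz hz' =>
    obtain ⟨x, hx⟩ := hz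
    obtain ⟨x', hx'⟩ := hz'
    exact ⟨x + x', by rw [map_add, map_add, hx, hx']⟩

theorem segGr_isInternal : DirectSum.IsInternal (segGr 𝒜 ℬ 𝒯 ψ hT 𝒳 𝒴) := by
  classical
  constructor
  · rw [injective_iff_map_eq_zero]
    intro x hx
    have key : ∀ m, (x m : segSub 𝒜 ℬ 𝒯 ψ hT 𝒳 𝒴) = 0 := by
      intro m
      apply segVal_injective 𝒜 ℬ 𝒯 ψ hT 𝒳 𝒴
      rw [← segVal_coeAddMonoidHom 𝒜 ℬ 𝒯 ψ hT 𝒳 𝒴 x m, hx]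
      simp
    refine DFinsupp.ext fun m => Subtype.ext ?_
    rw [key m]
    rfl
  · intro z
    obtain ⟨x, hx⟩ := exists_coe_eq 𝒜 ℬ 𝒯 ψ hT 𝒳 𝒴 (segVal_mem 𝒜 ℬ 𝒯 ψ hT 𝒳 𝒴 z)
    exact ⟨x, segVal_injective 𝒜 ℬ 𝒯 ψ hT 𝒳 𝒴 hx⟩

/-- the grading of `X # Y` -/
@[instance_reducible]
noncomputable def segDecomposition : DirectSum.Decomposition (segGr 𝒜 ℬ 𝒯 ψ hT 𝒳 𝒴) :=
  (segGr_isInternal 𝒜 ℬ 𝒯 ψ hT 𝒳 𝒴).chooseDecomposition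

omit [DirectSum.Decomposition 𝒳] [DirectSum.Decomposition 𝒴] in
theorem segGradedSMul : SetLike.GradedSMul 𝒯 (segGr 𝒜 ℬ 𝒯 ψ hT 𝒳 𝒴) where
  smul_mem := by
    intro m n t z ht hz
    exact act_mem 𝒜 ℬ 𝒳 𝒴 (psi_mem 𝒜 ℬ 𝒯 ψ hT ht) hz

/-- `X # Y` as a bundled graded `T`-module -/
noncomputable def segG : GrLC.GMod.{u} 𝒯 :=
  { carrier := segSub 𝒜 ℬ 𝒯 ψ hT 𝒳 𝒴
    gr := segGr 𝒜 ℬ 𝒯 ψ hT 𝒳 𝒴
    dec := segDecomposition 𝒜 ℬ 𝒯 ψ hT 𝒳 𝒴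
    gsmul := segGradedSMul 𝒜 ℬ 𝒯 ψ hT 𝒳 𝒴 }

/-- the concrete Segre product is a Segre product -/
theorem isSegreMod_segVal :
    letI := segDecomposition 𝒜 ℬ 𝒯 ψ hT 𝒳 𝒴
    GrSeg.IsSegreMod ψ 𝒳 𝒴 (segGr 𝒜 ℬ 𝒯 ψ hT 𝒳 𝒴) (segVal 𝒜 ℬ 𝒯 ψ hT 𝒳 𝒴) := by
  let _ := segDecomposition 𝒜 ℬ 𝒯 ψ hT 𝒳 𝒴
  refine ⟨segVal_injective 𝒜 ℬ 𝒯 ψ hT 𝒳 𝒴, fun n => ?_, fun t p => rfl⟩
  ext z
  constructor
  · rintro ⟨p, hp, rfl⟩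
    exact hp
  · intro hz
    exact ⟨segMk 𝒜 ℬ 𝒯 ψ hT 𝒳 𝒴 z (Submodule.mem_iSup_of_mem n hz), hz, rfl⟩

end Seg

end Groth.Agent.Lib.Helper87.Kun
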