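import Groth.Agent.Lib.Helper87.SegOne16
import Groth.Agent.Lib.Helper82.CMPoly
import Groth.Agent.Lib.Helper39.GrWeightedPoly
import Groth.Agent.Lib.Helper39.GrShift

/-!
# The Segre product `k[X](a) # k[Y_1..Y_s](b)` (helper87)
-/

set_option autoImplicit false
universe u

namespace Groth.Agent.Lib.Helper87.SegOne

open DirectSum TensorProduct MvPolynomial
open Groth.Agent.Lib.Helper99 Groth.Agent.Lib.Helper39 Groth.Agent.Lib.Helper39.GrBridge

attribute [local instance] MvPolynomial.weightedGradedAlgebra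

section Poly

variable (k : Type u) [Field k] (N : ℕ)

theorem poly_pos : ∀ n : ℤ, n < 0 →
    weightedHomogeneousSubmodule k (fun _ : Fin N => (1 : ℤ)) n = ⊥ := by
  intro n hn
  rw [eq_bot_iff]
  intro p hp
  rw [Submodule.mem_bot]
  by_contra hne
  obtain ⟨d, hd⟩ := MvPolynomial.ne_zero_iff.mp hne
  have hwd := (show p.IsWeightedHomogeneous (fun _ : Fin N => (1 : ℤ)) n from hp) hd
  have := GrWeightedPoly.weight_nonneg N (fun _ => (1 : ℤ)) (fun _ => one_pos) d
  omega

theorem poly_zero : weightedHomogeneousSubmodule k (fun _ : Fin N => (1 : ℤ)) 0 =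
    Submodule.span k {(1 : MvPolynomial (Fin N) k)} := by
  apply le_antisymm
  · intro p hp
    rw [GrWeightedPoly.eq_C_of_mem_zero k N _ (fun _ => one_pos) hp, Submodule.mem_span_singleton]
    exact ⟨coeff 0 p, by rw [Algebra.smul_def, mul_one]; rfl⟩
  · rw [Submodule.span_le]
    rintro _ rfl
    exact isWeightedHomogeneous_one k _

theorem X_pow_mem (i : Fin N) (n : ℕ) : (X i : MvPolynomial (Fin N) k) ^ n ∈
    weightedHomogeneousSubmodule k (fun _ : Fin N => (1 : ℤ)) (n : ℤ) := by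
  have h := (isWeightedHomogeneous_X k (fun _ : Fin N => (1 : ℤ)) i).pow n
  rw [nsmul_eq_mul, mul_one] at h
  exact h

theorem eq_smul_X_pow {p : MvPolynomial (Fin 1) k} {n : ℕ}
    (hp : p ∈ weightedHomogeneousSubmodule k (fun _ : Fin 1 => (1 : ℤ)) (n : ℤ)) :
    ∃ c : k, p = c • (X 0 : MvPolynomial (Fin 1) k) ^ n := by
  refine ⟨coeff (Finsupp.single 0 n) p, ?_⟩
  ext d
  rw [coeff_smul, X_pow_eq_monomial, coeff_monomial, smul_eq_mul]
  split_ifs with h
  · rw [← h, mul_one]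
  · rw [mul_zero]
    by_contra hne
    have hwd := (show p.IsWeightedHomogeneous (fun _ : Fin 1 => (1 : ℤ)) (n : ℤ) from hp) hne
    apply h
    rw [Finsupp.weight_apply, Finsupp.sum_fintype _ _ (by simp)] at hwd
    simp only [Finset.univ_unique, Fin.default_eq_zero, Fin.isValue, mul_one,
      Finset.sum_singleton, nsmul_eq_mul] at hwd
    refine Finsupp.ext fun i => ?_
    have hi : i = 0 := Subsingleton.elim _ _
    subst hi
    rw [Finsupp.single_eq_same]
    exact_mod_cast hwd.symm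

end Poly

section TM

variable {k : Type u} [Field k] {M N : Type u} [AddCommGroup M] [Module k M]
  [AddCommGroup N] [Module k N]

theorem tmul_ne_zero' {m : M} {n : N} (hm : m ≠ 0) (hn : n ≠ 0) : m ⊗ₜ[k] n ≠ 0 := by
  intro h
  have hinj : LinearMap.ker (LinearMap.toSpanSingleton k N n) = ⊥ := by
    rw [LinearMap.ker_eq_bot]
    intro c c' hcc'
    simp only [LinearMap.toSpanSingleton_apply] at hcc'
    by_contra hne
    have h1 : (c - c') • n = 0 := by rw [sub_smul, hcc', sub_self]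
    rcases smul_eq_zero.mp h1 with h | h
    · exact hne (sub_eq_zero.mp h)
    · exact hn h
  obtain ⟨g, hg⟩ := LinearMap.exists_leftInverse_of_injective _ hinj
  have hg1 : g n = 1 := by
    have := LinearMap.congr_fun hg (1 : k)
    simpa using this
  have h2 := congrArg ((TensorProduct.rid k M).toLinearMap ∘ₗ LinearMap.lTensor M g) h
  simp only [LinearMap.coe_comp, LinearEquiv.coe_coe, Function.comp_apply,
    LinearMap.lTensor_tmul, TensorProduct.rid_tmul, hg1, one_smul, map_zero] at h2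
  exact hm h2

end TM

/-- **S19764.** -/
theorem poly_shift (k : Type u) [Field k] (s : ℕ) (h2s : 2 ≤ s) (T : Type u) [CommRing T]
    [Algebra k T] (𝒯 : ℤ → Submodule k T) [GradedAlgebra 𝒯]
    (ψ : T →ₐ[k] (MvPolynomial (Fin 1) k) ⊗[k] (MvPolynomial (Fin s) k))
    (hT : GrSeg.IsSegreRing (weightedHomogeneousSubmodule k (fun _ : Fin 1 => (1 : ℤ)))
      (weightedHomogeneousSubmodule k (fun _ : Fin s => (1 : ℤ))) 𝒯 ψ)
    (mT : HomogeneousIdeal 𝒯)
    (hmT : mT.toIdeal = Ideal.span (⋃ n ∈ Set.Ioi (0 : ℤ), (𝒯 n : Set T))) (a b : ℤ)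
    (P : Type u) [AddCommGroup P] [Module T P] [Module k P] [IsScalarTower k T P]
    (𝒬 : ℤ → AddSubgroup P) [DirectSum.Decomposition 𝒬]
    (φ : P →ₗ[k] (MvPolynomial (Fin 1) k) ⊗[k] (MvPolynomial (Fin s) k))
    (hP : GrSeg.IsSegreMod ψ
      (fun n : ℤ => (weightedHomogeneousSubmodule k (fun _ : Fin 1 => (1 : ℤ))) (n + a))
      (fun n : ℤ => (weightedHomogeneousSubmodule k (fun _ : Fin s => (1 : ℤ))) (n + b)) 𝒬 φ) :
    (b ≤ a → (∀ (q : Ideal T) [q.IsPrime], Subsingleton (LocalizedModule q.primeCompl P) ∨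
      LocCoh.IsCohenMacaulayModule (Localization.AtPrime q) (LocalizedModule q.primeCompl P))) ∧
    (a < b → LocCoh.idealDepth mT.toIdeal P = (1 : ℕ∞)) := by
  classical
  set 𝒜 := weightedHomogeneousSubmodule k (fun _ : Fin 1 => (1 : ℤ)) with h𝒜
  set ℬ := weightedHomogeneousSubmodule k (fun _ : Fin s => (1 : ℤ)) with hℬ
  have hposR := poly_pos k 1
  have h0R := poly_zero k 1
  have hposS := poly_pos k s
  have h0S := poly_zero k s
  letI : DirectSum.Decomposition (toSub 𝒜) := toSubDecomposition 𝒜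
  letI : DirectSum.Decomposition (toSub ℬ) := toSubDecomposition ℬ
  letI : DirectSum.Decomposition (shiftPieces (toSub 𝒜) a) := shiftDecomposition (toSub 𝒜) a
  letI : DirectSum.Decomposition (shiftPieces (toSub ℬ) b) := shiftDecomposition (toSub ℬ) b
  haveI : SetLike.GradedSMul 𝒜 (shiftPieces (toSub 𝒜) a) :=
    ⟨fun {i j r x} hr hx => by
      show r * x ∈ 𝒜 (i + j + a)
      rw [add_assoc]
      exact SetLike.GradedMul.mul_mem (A := 𝒜) hr hx⟩
  haveI : SetLike.GradedSMul ℬ (shiftPieces (toSub ℬ) b) :=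
    ⟨fun {i j r x} hr hx => by
      show r * x ∈ ℬ (i + j + b)
      rw [add_assoc]
      exact SetLike.GradedMul.mul_mem (A := ℬ) hr hx⟩
  have hP' : GrSeg.IsSegreMod ψ (shiftPieces (toSub 𝒜) a) (shiftPieces (toSub ℬ) b) 𝒬 φ :=
    ⟨hP.injective, fun n => hP.image_piece n, hP.map_smul⟩
  have hRreg : IsRegularRing (MvPolynomial (Fin 1) k) :=
    MvPolynomial.isRegularRing_of_isRegularRing _
  have hSreg : IsRegularRing (MvPolynomial (Fin s) k) :=
    MvPolynomial.isRegularRing_of_isRegularRing _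
  haveI : LocCoh.IsCohenMacaulayRing (MvPolynomial (Fin 1) k) :=
    Groth.Agent.Lib.Helper82.CMPoly.isCohenMacaulayRing_of_isRegularRing _
  haveI : LocCoh.IsCohenMacaulayRing (MvPolynomial (Fin s) k) :=
    Groth.Agent.Lib.Helper82.CMPoly.isCohenMacaulayRing_of_isRegularRing _
  have hdM : Module.supportDim (MvPolynomial (Fin 1) k) (MvPolynomial (Fin 1) k) = 1 := by
    rw [Module.supportDim_self_eq_ringKrullDim, MvPolynomial.ringKrullDim_of_isNoetherianRing,
      ringKrullDim_eq_zero_of_field, zero_add, Nat.card_eq_fintype_card, Fintype.card_fin]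
    rfl
  have hdN : Module.supportDim (MvPolynomial (Fin s) k) (MvPolynomial (Fin s) k) = s := by
    rw [Module.supportDim_self_eq_ringKrullDim, MvPolynomial.ringKrullDim_of_isNoetherianRing,
      ringKrullDim_eq_zero_of_field, zero_add, Nat.card_eq_fintype_card, Fintype.card_fin]
  have hXne : ∀ (N : ℕ) (i : Fin N) (n : ℕ), (X i : MvPolynomial (Fin N) k) ^ n ≠ 0 :=
    fun N i n => pow_ne_zero n (X_ne_zero i)
  have h0s : 0 < s := by omega
  -- `P` is not zero
  haveI : Nontrivial P := by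
    set n₀ : ℤ := max (-a) (-b) with hn₀
    have h1 : 0 ≤ n₀ + a := by have := le_max_left (-a) (-b); omega
    have h2 : 0 ≤ n₀ + b := by have := le_max_right (-a) (-b); omega
    have hx₁ : (X 0 : MvPolynomial (Fin 1) k) ^ (n₀ + a).toNat ∈ shiftPieces (toSub 𝒜) a n₀ := by
      show _ ∈ 𝒜 (n₀ + a)
      have := X_pow_mem k 1 0 (n₀ + a).toNat
      rwa [Int.toNat_of_nonneg h1] at this
    have hy₁ : (X ⟨0, h0s⟩ : MvPolynomial (Fin s) k) ^ (n₀ + b).toNat ∈
        shiftPieces (toSub ℬ) b n₀ := by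
      show _ ∈ ℬ (n₀ + b)
      have := X_pow_mem k s ⟨0, h0s⟩ (n₀ + b).toNat
      rwa [Int.toNat_of_nonneg h2] at this
    obtain ⟨p, -, hp⟩ := exists_phi_eq (shiftPieces (toSub 𝒜) a) (shiftPieces (toSub ℬ) b) 𝒬 ψ φ
      hP' (Submodule.subset_span ⟨_, hx₁, _, hy₁, rfl⟩ :
        (((X 0 : MvPolynomial (Fin 1) k) ^ (n₀ + a).toNat) ⊗ₜ[k]
          ((X ⟨0, h0s⟩ : MvPolynomial (Fin s) k) ^ (n₀ + b).toNat)) ∈
          GrSeg.segrePiece k (shiftPieces (toSub 𝒜) a) (shiftPieces (toSub ℬ) b) n₀)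
    refine ⟨⟨p, 0, ?_⟩⟩
    intro h
    rw [h, map_zero] at hp
    exact tmul_ne_zero' (hXne 1 0 _) (hXne s ⟨0, h0s⟩ _) hp.symm
  obtain ⟨E, a', hE, ha', hareg, -, -, hok, -, hfail⟩ :=
    core k (MvPolynomial (Fin 1) k) 𝒜 hposR h0R (MvPolynomial (Fin s) k) ℬ hposS h0S T 𝒯 ψ hT
      (MvPolynomial (Fin 1) k) (shiftPieces (toSub 𝒜) a) (MvPolynomial (Fin s) k)
      (shiftPieces (toSub ℬ) b) P 𝒬 φ hP' s (by omega) hdM hdN
      (fun q _ => Or.inr (cmModule_self_of_cmRing _ q))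
      (fun q _ => Or.inr (cmModule_self_of_cmRing _ q))
  have ha0 : a' ≠ 0 := by
    intro h
    have h1 : (1 : MvPolynomial (Fin 1) k) = 0 :=
      hareg (by show a' • (1 : MvPolynomial (Fin 1) k) = a' • 0; rw [h, zero_smul, zero_smul])
    exact one_ne_zero h1
  obtain ⟨E', hE'⟩ : ∃ E' : ℕ, E = E' := ⟨E.toNat, (Int.toNat_of_nonneg hE.le).symm⟩
  have hE'pos : 0 < E' := by
    rw [hE'] at hE
    exact_mod_cast hE
  constructor
  · intro hba
    apply hok
    rintro d ⟨n, hn, hn0⟩ m' hm'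
    have hdb : 0 ≤ d + b := by
      by_contra hneg
      push Not at hneg
      have hn' : n ∈ ℬ (d + b) := hn
      have hbot : n ∈ (⊥ : Submodule k (MvPolynomial (Fin s) k)) := by
        rw [← hposS (d + b) hneg]
        exact hn'
      exact hn0 ((Submodule.mem_bot k).mp hbot)
    have hda : 0 ≤ d + a := by omega
    obtain ⟨u, hu⟩ : ∃ u : ℕ, d + a = u := ⟨(d + a).toNat, (Int.toNat_of_nonneg hda).symm⟩
    have hm'2 : m' ∈ 𝒜 (((u + E' : ℕ)) : ℤ) := by
      have hm'1 : m' ∈ 𝒜 (d + E + a) := hm'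
      have e2 : (((u + E' : ℕ)) : ℤ) = d + E + a := by rw [hE']; push_cast; omega
      rwa [e2]
    obtain ⟨c', hc'⟩ := eq_smul_X_pow k hm'2
    have ha2 : a' ∈ 𝒜 ((E' : ℕ) : ℤ) := by rwa [← hE']
    obtain ⟨c, hc⟩ := eq_smul_X_pow k ha2
    have hc0 : c ≠ 0 := by
      intro h
      rw [h, zero_smul] at hc
      exact ha0 hc
    refine ⟨(c⁻¹ * c') • (X 0 : MvPolynomial (Fin 1) k) ^ u, ?_, ?_⟩
    · show _ ∈ 𝒜 (d + a)
      rw [hu]
      exact Submodule.smul_mem _ _ (X_pow_mem k 1 0 u)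
    · rw [hc', hc, smul_eq_mul, smul_mul_smul_comm, ← pow_add, ← mul_assoc, mul_inv_cancel₀ hc0,
        one_mul, add_comm]
  · intro hab
    have hirr : mT.toIdeal = irr 𝒯 := hmT
    rw [hirr]
    refine (hfail ⟨-1 - a, ⟨(X ⟨0, h0s⟩ : MvPolynomial (Fin s) k) ^ (b - a - 1).toNat, ?_,
      hXne s _ _⟩, (X 0 : MvPolynomial (Fin 1) k) ^ (E' - 1), ?_, ?_⟩).1
    · show _ ∈ ℬ (-1 - a + b)
      have := X_pow_mem k s ⟨0, h0s⟩ (b - a - 1).toNat
      rw [Int.toNat_of_nonneg (by omega)] at this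
      have e : -1 - a + b = b - a - 1 := by ring
      rwa [e]
    · show _ ∈ 𝒜 (-1 - a + E + a)
      have := X_pow_mem k 1 0 (E' - 1)
      have e : -1 - a + E + a = ((E' - 1 : ℕ) : ℤ) := by
        rw [hE', Nat.cast_sub hE'pos]
        push_cast
        ring
      rwa [e]
    · intro m hm
      have hm₀mem : (X 0 : MvPolynomial (Fin 1) k) ^ (E' - 1) ∈
          shiftPieces (toSub 𝒜) a (-1 - a + E) := by
        show _ ∈ 𝒜 (-1 - a + E + a)
        have := X_pow_mem k 1 0 (E' - 1)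
        have e : -1 - a + E + a = ((E' - 1 : ℕ) : ℤ) := by
          rw [hE', Nat.cast_sub hE'pos]
          push_cast
          ring
        rwa [e]
      have h1 := coe_decompose_smul_of_left_mem 𝒜 (shiftPieces (toSub 𝒜) a) ha' m (-1 - a + E)
      rw [hm, decompose_of_mem_same _ hm₀mem, add_sub_cancel_right] at h1
      have h2 : ((decompose (shiftPieces (toSub 𝒜) a) m) (-1 - a) : MvPolynomial (Fin 1) k) ∈
          𝒜 (-1 - a + a) := SetLike.coe_mem _
      have hbot : ((decompose (shiftPieces (toSub 𝒜) a) m) (-1 - a) : MvPolynomial (Fin 1) k) ∈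
          (⊥ : Submodule k (MvPolynomial (Fin 1) k)) := by
        rw [← hposR (-1 - a + a) (by omega)]
        exact h2
      rw [(Submodule.mem_bot k).mp hbot, smul_zero] at h1
      exact hXne 1 0 _ h1

end Groth.Agent.Lib.Helper87.SegOne
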