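import Groth.Agent.Lib.Helper87.Kun29
import Groth.Agent.Lib.Helper87.SegOne19

/-!
# The Segre product `k[X_1..X_r](a) # k[Y_1..Y_s](b)` for `r, s ≥ 2` (helper87)
-/

set_option autoImplicit false
universe u

namespace Groth.Agent.Lib.Helper87.Kun

open DirectSum TensorProduct GrLC MvPolynomial
open Groth.Agent.Lib.Helper99 Groth.Agent.Lib.Helper39 Groth.Agent.Lib.Helper39.GrBridge
  Groth.Agent.Lib.Helper39.GrStarLocal Groth.Agent.Lib.Helper39.GrWeightedPoly
  Groth.Agent.Lib.Helper39.VerPoly Groth.Agent.Lib.Helper39.GrLes Groth.Agent.Lib.Helper60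
  Groth.Agent.Lib.Helper87.SegOne

attribute [local instance] MvPolynomial.weightedGradedAlgebra
attribute [local instance] toSubGradedRing toSubDecomposition toSubGradedSMul
attribute [local instance] shiftDecomposition shiftGradedSMul

section PolyShift

variable (k : Type u) [Field k] (N : ℕ)

theorem poly_piece_eq_bot_iff (hN : 1 ≤ N) (e : ℤ) :
    weightedHomogeneousSubmodule k (fun _ : Fin N => (1 : ℤ)) e = ⊥ ↔ e < 0 := by
  constructor
  · intro h
    by_contra hge
    push Not at hge
    exact poly_piece_ne_bot k N hN e hge h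
  · intro h
    exact poly_hpos k N e h

theorem polyShiftGSMul (a : ℤ) :
    SetLike.GradedSMul (weightedHomogeneousSubmodule k (fun _ : Fin N => (1 : ℤ)))
      (shiftPieces (stdGr k N) a) :=
  gsmul_of_toSub (weightedHomogeneousSubmodule k (fun _ : Fin N => (1 : ℤ)))
    (shiftPieces (stdGr k N) a)

attribute [local instance] polyShiftGSMul

/-- a `*`-injective resolution of the shifted polynomial ring together with the degrees of its
top local cohomology -/
theorem exists_shift_res (hN : 1 ≤ N) (a : ℤ)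
    (m : HomogeneousIdeal (weightedHomogeneousSubmodule k (fun _ : Fin N => (1 : ℤ))))
    (hm : m.toIdeal = Ideal.span (⋃ n ∈ Set.Ioi (0 : ℤ),
      ((weightedHomogeneousSubmodule k (fun _ : Fin N => (1 : ℤ)) n :
        Submodule k (MvPolynomial (Fin N) k)) : Set (MvPolynomial (Fin N) k)))) :
    ∃ E : GrLC.StarInjRes (weightedHomogeneousSubmodule k (fun _ : Fin N => (1 : ℤ)))
      (shiftPieces (stdGr k N) a), ∀ d : ℤ, E.Hcomp m N d = ⊥ ↔ -(N : ℤ) < d + a := by
  classical
  obtain ⟨I⟩ := Groth.Agent.S13215.result (MvPolynomial (Fin N) k) (stdGr k N)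
    (MvPolynomial (Fin N) k) (stdGr k N)
  refine ⟨unconvRes (shiftRes I a), fun d => ?_⟩
  have h1 : (unconvRes (𝒜 := weightedHomogeneousSubmodule k (fun _ : Fin N => (1 : ℤ)))
      (shiftRes I a)).Hcomp m N d = ⊥ ↔ I.Hgr (convIdeal m) N (d + a) = ⊥ := by
    rw [eq_bot_iff, eq_bot_iff]
    exact Iff.rfl
  rw [h1]
  exact poly_Hgr_eq_bot_iff k N hN I (convIdeal m) hm (d + a)

end PolyShift

end Groth.Agent.Lib.Helper87.Kun
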