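import Groth.Agent.Lib.Helper87.Kun30
import Groth.Agent.Lib.Helper87.Kun26

/-!
# The Segre product `k[X_1..X_r](a) # k[Y_1..Y_s](b)` for `r, s ≥ 2`: Cohen–Macaulayness and
depth (helper87)
-/

set_option autoImplicit false
universe u

namespace Groth.Agent.Lib.Helper87.Kun

open DirectSum TensorProduct GrLC MvPolynomial
open Groth.Agent.Lib.Helper99 Groth.Agent.Lib.Helper39 Groth.Agent.Lib.Helper39.GrBridge
  Groth.Agent.Lib.Helper39.GrStarLocal Groth.Agent.Lib.Helper39.GrWeightedPoly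
  Groth.Agent.Lib.Helper39.VerPoly Groth.Agent.Lib.Helper39.GrLes Groth.Agent.Lib.Helper60
  Groth.Agent.Lib.Helper87.SegOne

attribute [local instance] MvPolynomial.weightedGradedAlgebra
attribute [local instance] toSubGradedRing toSubDecomposition toSubGradedSMul
attribute [local instance] shiftDecomposition shiftGradedSMul
attribute [local instance] polyShiftGSMul

/-- **S19763.** -/
theorem segre_poly_shifts (k : Type u) [Field k] (r s : ℕ) (h2r : 2 ≤ r) (h2s : 2 ≤ s)
    (T : Type u) [CommRing T] [Algebra k T] (𝒯 : ℤ → Submodule k T) [GradedAlgebra 𝒯]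
    (ψ : T →ₐ[k] TensorProduct k (MvPolynomial (Fin r) k) (MvPolynomial (Fin s) k))
    (hT : GrSeg.IsSegreRing (MvPolynomial.weightedHomogeneousSubmodule k (fun _ : Fin r => (1 : ℤ)))
      (MvPolynomial.weightedHomogeneousSubmodule k (fun _ : Fin s => (1 : ℤ))) 𝒯 ψ)
    (mT : HomogeneousIdeal 𝒯)
    (hmT : mT.toIdeal = Ideal.span (⋃ n ∈ Set.Ioi (0 : ℤ), (𝒯 n : Set T))) (a b : ℤ)
    (P : Type u) [AddCommGroup P] [Module T P] [Module k P] [IsScalarTower k T P]
    (𝒬 : ℤ → AddSubgroup P) [DirectSum.Decomposition 𝒬]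
    (φ : P →ₗ[k] TensorProduct k (MvPolynomial (Fin r) k) (MvPolynomial (Fin s) k))
    (hP : GrSeg.IsSegreMod ψ
      (fun n : ℤ => (MvPolynomial.weightedHomogeneousSubmodule k (fun _ : Fin r => (1 : ℤ))) (n + a))
      (fun n : ℤ => (MvPolynomial.weightedHomogeneousSubmodule k (fun _ : Fin s => (1 : ℤ))) (n + b))
      𝒬 φ) :
    ((∀ (q : Ideal T) [q.IsPrime], Subsingleton (LocalizedModule q.primeCompl P) ∨
      LocCoh.IsCohenMacaulayModule (Localization.AtPrime q) (LocalizedModule q.primeCompl P)) ↔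
      (a - b < (s : ℤ) ∧ -(r : ℤ) < a - b)) ∧
    ((s : ℤ) ≤ a - b → LocCoh.idealDepth mT.toIdeal P = (s : ℕ∞)) ∧
    (a - b ≤ -(r : ℤ) → LocCoh.idealDepth mT.toIdeal P = (r : ℕ∞)) := by
  classical
  have h1r : 1 ≤ r := by omega
  have h1s : 1 ≤ s := by omega
  have hposR := poly_hpos k r
  have h0R := poly_h0 k r
  have hposS := poly_hpos k s
  have h0S := poly_h0 k s
  have hP' : GrSeg.IsSegreMod ψ (shiftPieces (stdGr k r) a) (shiftPieces (stdGr k s) b) 𝒬 φ :=
    ⟨hP.injective, fun n => hP.image_piece n, hP.map_smul⟩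
  have hdM : Module.supportDim (MvPolynomial (Fin r) k) (MvPolynomial (Fin r) k) = r := by
    rw [Module.supportDim_self_eq_ringKrullDim]
    exact dim_eq k r
  have hdN : Module.supportDim (MvPolynomial (Fin s) k) (MvPolynomial (Fin s) k) = s := by
    rw [Module.supportDim_self_eq_ringKrullDim]
    exact dim_eq k s
  have hXne : ∀ (N : ℕ) (i : Fin N) (n : ℕ), (X i : MvPolynomial (Fin N) k) ^ n ≠ 0 :=
    fun N i n => pow_ne_zero n (X_ne_zero i)
  -- `P` is not zero
  haveI : Nontrivial P := by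
    set n₀ : ℤ := max (-a) (-b) with hn₀
    have h1 : 0 ≤ n₀ + a := by have := le_max_left (-a) (-b); omega
    have h2 : 0 ≤ n₀ + b := by have := le_max_right (-a) (-b); omega
    have hx₁ : (X ⟨0, h1r⟩ : MvPolynomial (Fin r) k) ^ (n₀ + a).toNat ∈
        shiftPieces (stdGr k r) a n₀ := by
      show _ ∈ weightedHomogeneousSubmodule k (fun _ : Fin r => (1 : ℤ)) (n₀ + a)
      have := X_pow_mem k r ⟨0, h1r⟩ (n₀ + a).toNat
      rwa [Int.toNat_of_nonneg h1] at this
    have hy₁ : (X ⟨0, h1s⟩ : MvPolynomial (Fin s) k) ^ (n₀ + b).toNat ∈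
        shiftPieces (stdGr k s) b n₀ := by
      show _ ∈ weightedHomogeneousSubmodule k (fun _ : Fin s => (1 : ℤ)) (n₀ + b)
      have := X_pow_mem k s ⟨0, h1s⟩ (n₀ + b).toNat
      rwa [Int.toNat_of_nonneg h2] at this
    obtain ⟨p, -, hp⟩ := exists_phi_eq (shiftPieces (stdGr k r) a) (shiftPieces (stdGr k s) b) 𝒬 ψ φ
      hP' (Submodule.subset_span ⟨_, hx₁, _, hy₁, rfl⟩ :
        (((X ⟨0, h1r⟩ : MvPolynomial (Fin r) k) ^ (n₀ + a).toNat) ⊗ₜ[k]
          ((X ⟨0, h1s⟩ : MvPolynomial (Fin s) k) ^ (n₀ + b).toNat)) ∈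
          GrSeg.segrePiece k (shiftPieces (stdGr k r) a) (shiftPieces (stdGr k s) b) n₀)
    refine ⟨⟨p, 0, ?_⟩⟩
    intro h
    rw [h, map_zero] at hp
    exact tmul_ne_zero' (hXne r ⟨0, h1r⟩ _) (hXne s ⟨0, h1s⟩ _) hp.symm
  -- the irrelevant ideals and the resolutions
  obtain ⟨EM, hEM⟩ := exists_shift_res k r h1r a
    (irrH (weightedHomogeneousSubmodule k (fun _ : Fin r => (1 : ℤ)))) (irrH_toIdeal _)
  obtain ⟨EN, hEN⟩ := exists_shift_res k s h1s b
    (irrH (weightedHomogeneousSubmodule k (fun _ : Fin s => (1 : ℤ)))) (irrH_toIdeal _)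
  haveI : SetLike.GradedSMul 𝒯 𝒬 :=
    gradedSMul (weightedHomogeneousSubmodule k (fun _ : Fin r => (1 : ℤ)))
      (weightedHomogeneousSubmodule k (fun _ : Fin s => (1 : ℤ))) 𝒯
      (shiftPieces (stdGr k r) a) (shiftPieces (stdGr k s) b) 𝒬 ψ hT φ hP'
  haveI : IsNoetherianRing T :=
    isNoetherianRing_segre (weightedHomogeneousSubmodule k (fun _ : Fin r => (1 : ℤ)))
      (weightedHomogeneousSubmodule k (fun _ : Fin s => (1 : ℤ))) 𝒯 hposR ψ hT.1 hT.2
  haveI : Module.Finite T P :=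
    segre_finite (weightedHomogeneousSubmodule k (fun _ : Fin r => (1 : ℤ)))
      (weightedHomogeneousSubmodule k (fun _ : Fin s => (1 : ℤ))) 𝒯
      (shiftPieces (stdGr k r) a) (shiftPieces (stdGr k s) b) 𝒬 ψ hT φ hP'
  obtain ⟨EP⟩ := exists_starInjRes 𝒯 𝒬
  -- the pieces of the modules
  have hMbot : ∀ d : ℤ, shiftPieces (stdGr k r) a d = ⊥ ↔ d + a < 0 := by
    intro d
    have h1 : shiftPieces (stdGr k r) a d = ⊥ ↔
        weightedHomogeneousSubmodule k (fun _ : Fin r => (1 : ℤ)) (d + a) = ⊥ :=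
      toSub_eq_bot_iff _ (d + a)
    rw [h1]
    exact poly_piece_eq_bot_iff k r h1r (d + a)
  have hNbot : ∀ d : ℤ, shiftPieces (stdGr k s) b d = ⊥ ↔ d + b < 0 := by
    intro d
    have h1 : shiftPieces (stdGr k s) b d = ⊥ ↔
        weightedHomogeneousSubmodule k (fun _ : Fin s => (1 : ℤ)) (d + b) = ⊥ :=
      toSub_eq_bot_iff _ (d + b)
    rw [h1]
    exact poly_piece_eq_bot_iff k s h1s (d + b)
  have hcm := segre_cm_iff k (MvPolynomial (Fin r) k)
    (weightedHomogeneousSubmodule k (fun _ : Fin r => (1 : ℤ))) hposR h0R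
    (MvPolynomial (Fin s) k) (weightedHomogeneousSubmodule k (fun _ : Fin s => (1 : ℤ))) hposS h0S
    T 𝒯 ψ hT (irrH _) (irrH_toIdeal _) (irrH _) (irrH_toIdeal _)
    (MvPolynomial (Fin r) k) (shiftPieces (stdGr k r) a) EM
    (MvPolynomial (Fin s) k) (shiftPieces (stdGr k s) b) EN P 𝒬 φ hP' r s h2r h2s hdM hdN
    (fun q _ => Or.inr (cmModule_self_of_cmRing _ q))
    (fun q _ => Or.inr (cmModule_self_of_cmRing _ q))
  have hlow := fun (q : ℕ) (hq : q < r + s - 1) (d : ℤ) =>
    segre_Hcomp_eq_bot_iff k (MvPolynomial (Fin r) k)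
    (weightedHomogeneousSubmodule k (fun _ : Fin r => (1 : ℤ))) hposR h0R
    (MvPolynomial (Fin s) k) (weightedHomogeneousSubmodule k (fun _ : Fin s => (1 : ℤ))) hposS h0S
    T 𝒯 ψ hT (irrH _) (irrH_toIdeal _) (irrH _) (irrH_toIdeal _) mT hmT
    (MvPolynomial (Fin r) k) (shiftPieces (stdGr k r) a) EM
    (MvPolynomial (Fin s) k) (shiftPieces (stdGr k s) b) EN P 𝒬 φ hP' EP r s h2r h2s hdM hdN
    (fun q _ => Or.inr (cmModule_self_of_cmRing _ q))
    (fun q _ => Or.inr (cmModule_self_of_cmRing _ q)) q hq d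
  refine ⟨?_, ?_, ?_⟩
  · rw [hcm]
    constructor
    · rintro ⟨c1, c2⟩
      constructor
      · rcases c1 (-a) with h | h
        · rw [hMbot] at h
          omega
        · rw [hEN] at h
          omega
      · rcases c2 (-b) with h | h
        · rw [hEM] at h
          omega
        · rw [hNbot] at h
          omega
    · rintro ⟨c1, c2⟩
      constructor
      · intro d
        by_cases hd : d + a < 0
        · exact Or.inl ((hMbot d).mpr hd)
        · exact Or.inr ((hEN d).mpr (by omega))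
      · intro d
        by_cases hd : d + b < 0
        · exact Or.inr ((hNbot d).mpr hd)
        · exact Or.inl ((hEM d).mpr (by omega))
  · intro hab
    apply idealDepth_eq_of_Hcomp 𝒯 𝒬 EP mT s
    · intro q hq d
      rw [hlow q (by omega) d]
      constructor
      · intro hqs
        omega
      · intro _
        by_cases hd : d + b < 0
        · exact Or.inr ((hNbot d).mpr hd)
        · exact Or.inl ((hEM d).mpr (by omega))
    · refine ⟨-a, fun hbot => ?_⟩
      rcases ((hlow s (by omega) (-a)).mp hbot).1 rfl with h | h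
      · rw [hMbot] at h
        omega
      · rw [hEN] at h
        omega
  · intro hab
    apply idealDepth_eq_of_Hcomp 𝒯 𝒬 EP mT r
    · intro q hq d
      rw [hlow q (by omega) d]
      constructor
      · intro _
        by_cases hd : d + a < 0
        · exact Or.inl ((hMbot d).mpr hd)
        · exact Or.inr ((hEN d).mpr (by omega))
      · intro hqr
        omega
    · refine ⟨-b, fun hbot => ?_⟩
      rcases ((hlow r (by omega) (-b)).mp hbot).2 rfl with h | h
      · rw [hEM] at h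
        omega
      · rw [hNbot] at h
        omega

end Groth.Agent.Lib.Helper87.Kun
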