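import Groth.Agent.Lib.Helper87.Kun2

/-!
# Graded local cohomology is insensitive to torsion kernels and cokernels (helper87)

A homogeneous map `f : P → Q` of graded modules whose kernel and cokernel are `a`-torsion induces
graded isomorphisms `H^q_a(P) ≅ H^q_a(Q)` for `q ≥ 2`.
-/

set_option autoImplicit false
universe u

namespace Groth.Agent.Lib.Helper87.Kun

open DirectSum GrLC Groth.Agent.Lib.Helper39 Groth.Agent.Lib.Helper39.GrLes
  Groth.Agent.Lib.Helper39.Ver Groth.Agent.Lib.Helper39.GrTop Groth.Agent.Lib.Helper39.GrKoszul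

section LES
variable {ι : Type} [AddCommGroup ι] [DecidableEq ι] {R : Type u} [CommRing R]
  {𝒜 : ι → AddSubgroup R} [GradedRing 𝒜]
  {M' : Type u} [AddCommGroup M'] [Module R M'] {ℳ' : ι → AddSubgroup M'} [DirectSum.Decomposition ℳ']
  [SetLike.GradedSMul 𝒜 ℳ']
  {M : Type u} [AddCommGroup M] [Module R M] {ℳ : ι → AddSubgroup M} [DirectSum.Decomposition ℳ]
  [SetLike.GradedSMul 𝒜 ℳ]
  {M'' : Type u} [AddCommGroup M''] [Module R M''] {ℳ'' : ι → AddSubgroup M''}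
  [DirectSum.Decomposition ℳ''] [SetLike.GradedSMul 𝒜 ℳ'']
  {i : M' →ₗ[R] M} {p : M →ₗ[R] M''}

/-- the map induced by the projection is a graded equivalence when the cohomology of the
sub vanishes in two consecutive degrees -/
theorem nonempty_grEquiv_proj (S : GrSES ℳ' ℳ ℳ'' i p) (E' : StarInjRes 𝒜 ℳ')
    (E : StarInjRes 𝒜 ℳ) (E'' : StarInjRes 𝒜 ℳ'') (a : HomogeneousIdeal 𝒜) (k : ℕ)
    (h1 : Subsingleton (E'.H a k)) (h2 : Subsingleton (E'.H a (k + 1))) :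
    Nonempty (GrEquiv R (E.Hgr a k) (E''.Hgr a k)) := by
  obtain ⟨δ, -, ex1, ex2, -⟩ := exists_les S E' E E'' a
  refine ⟨GrEquiv.ofBijective (Hmap₀ E E'' a p S.p_grHom k)
    (Hmap₀_isGrHom E E'' a p S.p_grHom k) ⟨?_, ?_⟩ (Hgr_isInternal E a k)
    (Hgr_isInternal E'' a k)⟩
  · rw [injective_iff_map_eq_zero]
    intro y hy
    obtain ⟨x, rfl⟩ := (ex1 k y).mp hy
    rw [Subsingleton.elim x 0, map_zero]
  · intro z
    exact (ex2 k z).mp (Subsingleton.elim _ _)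

end LES

section Compare
variable {ι : Type} [AddCommGroup ι] [DecidableEq ι] [Module.Free ℤ ι] [Module.Finite ℤ ι]
  {R : Type u} [CommRing R] [IsNoetherianRing R] {𝒜 : ι → AddSubgroup R} [GradedRing 𝒜]

/-- the kernel of a homogeneous map -/
noncomputable def kerG {P Q : GMod.{u} 𝒜} (f : P.carrier →ₗ[R] Q.carrier)
    (hf : IsGrHom P.gr Q.gr f) : GMod.{u} 𝒜 :=
  gsub P (LinearMap.ker f) (IsGrHom.ker_isHomogeneous P.gr Q.gr hf)

/-- the image of a homogeneous map -/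
noncomputable def ranG {P Q : GMod.{u} 𝒜} (f : P.carrier →ₗ[R] Q.carrier)
    (hf : IsGrHom P.gr Q.gr f) : GMod.{u} 𝒜 :=
  gsub Q (LinearMap.range f) (IsGrHom.range_isHomogeneous P.gr Q.gr hf)

/-- the cokernel of a homogeneous map -/
noncomputable def cokG {P Q : GMod.{u} 𝒜} (f : P.carrier →ₗ[R] Q.carrier)
    (hf : IsGrHom P.gr Q.gr f) : GMod.{u} 𝒜 :=
  gquot Q (LinearMap.range f) (IsGrHom.range_isHomogeneous P.gr Q.gr hf)

/-- inclusion of the kernel -/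
noncomputable def kerIncl {P Q : GMod.{u} 𝒜} (f : P.carrier →ₗ[R] Q.carrier)
    (hf : IsGrHom P.gr Q.gr f) : (kerG f hf).carrier →ₗ[R] P.carrier := (LinearMap.ker f).subtype

/-- the map onto the image -/
noncomputable def ranProj {P Q : GMod.{u} 𝒜} (f : P.carrier →ₗ[R] Q.carrier)
    (hf : IsGrHom P.gr Q.gr f) : P.carrier →ₗ[R] (ranG f hf).carrier := f.rangeRestrict

/-- inclusion of the image -/
noncomputable def ranIncl {P Q : GMod.{u} 𝒜} (f : P.carrier →ₗ[R] Q.carrier)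
    (hf : IsGrHom P.gr Q.gr f) : (ranG f hf).carrier →ₗ[R] Q.carrier := (LinearMap.range f).subtype

/-- projection onto the cokernel -/
noncomputable def cokProj {P Q : GMod.{u} 𝒜} (f : P.carrier →ₗ[R] Q.carrier)
    (hf : IsGrHom P.gr Q.gr f) : Q.carrier →ₗ[R] (cokG f hf).carrier := (LinearMap.range f).mkQ

/-- **Comparison**, bundled form. -/
theorem nonempty_grEquiv_of_torsion_ker_coker' (a : HomogeneousIdeal 𝒜) (P Q : GMod.{u} 𝒜)
    (f : P.carrier →ₗ[R] Q.carrier) (hf : IsGrHom P.gr Q.gr f)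
    (hker : ∀ x : P.carrier, f x = 0 → ∃ k : ℕ, ∀ r ∈ a.toIdeal ^ k, r • x = 0)
    (hcok : ∀ y : Q.carrier, ∃ k : ℕ, ∀ r ∈ a.toIdeal ^ k, r • y ∈ LinearMap.range f)
    (EP : StarInjRes 𝒜 P.gr) (EQ : StarInjRes 𝒜 Q.gr) (q : ℕ) :
    Nonempty (GrEquiv R (EP.Hgr a (q + 2)) (EQ.Hgr a (q + 2))) := by
  have S1 : GrSES (kerG f hf).gr P.gr (ranG f hf).gr (kerIncl f hf) (ranProj f hf) :=
    { i_grHom := isGrHom_subtype P.gr (LinearMap.ker f)
      p_grHom := fun g x hx => hf g x hx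
      i_inj := Subtype.val_injective
      p_surj := LinearMap.surjective_rangeRestrict _
      exact := by
        show LinearMap.ker f.rangeRestrict = LinearMap.range (LinearMap.ker f).subtype
        rw [LinearMap.ker_rangeRestrict, Submodule.range_subtype] }
  have S2 : GrSES (ranG f hf).gr Q.gr (cokG f hf).gr (ranIncl f hf) (cokProj f hf) :=
    gsub_gquot_ses Q (LinearMap.range f) (IsGrHom.range_isHomogeneous P.gr Q.gr hf)
  have hKt : ∀ x : (kerG f hf).carrier, ∃ k : ℕ, ∀ r ∈ a.toIdeal ^ k, r • x = 0 := by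
    intro x
    obtain ⟨k, hk⟩ := hker x.1 x.2
    exact ⟨k, fun r hr => Subtype.ext (hk r hr)⟩
  have hCt : ∀ y : (cokG f hf).carrier, ∃ k : ℕ, ∀ r ∈ a.toIdeal ^ k, r • y = 0 := by
    intro y
    obtain ⟨y, rfl⟩ := Submodule.mkQ_surjective (LinearMap.range f) y
    obtain ⟨k, hk⟩ := hcok y
    refine ⟨k, fun r hr => ?_⟩
    show r • (LinearMap.range f).mkQ y = 0
    rw [← map_smul, Submodule.mkQ_apply, Submodule.Quotient.mk_eq_zero]
    exact hk r hr
  have hK : ∀ i : ℕ, 1 ≤ i → Subsingleton ((someRes (kerG f hf)).H a i) :=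
    fun i hi => H_subsingleton_of_torsion a (someRes (kerG f hf)) hKt i hi
  have hC : ∀ i : ℕ, 1 ≤ i → Subsingleton ((someRes (cokG f hf)).H a i) :=
    fun i hi => H_subsingleton_of_torsion a (someRes (cokG f hf)) hCt i hi
  obtain ⟨g1⟩ := nonempty_grEquiv_proj S1 (someRes (kerG f hf)) EP
    (someRes (ranG f hf)) a (q + 2) (hK (q + 2) (by omega)) (hK (q + 2 + 1) (by omega))
  obtain ⟨g2⟩ := nonempty_grEquiv_incl S2 (someRes (ranG f hf)) EQ
    (someRes (cokG f hf)) a (q + 1) (hC (q + 1) (by omega)) (hC (q + 1 + 1) (by omega))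
  exact ⟨g1.trans g2⟩

variable {P Q : Type u} [AddCommGroup P] [Module R P] [AddCommGroup Q] [Module R Q]
  {𝓟 : ι → AddSubgroup P} [DirectSum.Decomposition 𝓟] [SetLike.GradedSMul 𝒜 𝓟]
  {𝓠 : ι → AddSubgroup Q} [DirectSum.Decomposition 𝓠] [SetLike.GradedSMul 𝒜 𝓠]

/-- **Comparison.** A homogeneous map with `a`-torsion kernel and cokernel induces graded
isomorphisms on `H^q_a` for `q ≥ 2`. -/
theorem nonempty_grEquiv_of_torsion_ker_coker (a : HomogeneousIdeal 𝒜) (f : P →ₗ[R] Q)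
    (hf : IsGrHom 𝓟 𝓠 f)
    (hker : ∀ x : P, f x = 0 → ∃ k : ℕ, ∀ r ∈ a.toIdeal ^ k, r • x = 0)
    (hcok : ∀ y : Q, ∃ k : ℕ, ∀ r ∈ a.toIdeal ^ k, r • y ∈ LinearMap.range f)
    (EP : StarInjRes 𝒜 𝓟) (EQ : StarInjRes 𝒜 𝓠) (q : ℕ) :
    Nonempty (GrEquiv R (EP.Hgr a (q + 2)) (EQ.Hgr a (q + 2))) :=
  nonempty_grEquiv_of_torsion_ker_coker' a (GMod.of 𝒜 P 𝓟) (GMod.of 𝒜 Q 𝓠) f hf hker hcok EP EQ q

end Compare

end Groth.Agent.Lib.Helper87.Kun
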