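import Groth.Agent.Lib.Helper87.Kun32
import Groth.Agent.Lib.Helper87.Kun19

/-!
# The complex `Ē` without depth hypotheses (helper87)

The map `M → Z⁰(Ē)` (the ideal transform) has torsion kernel and cokernel; hence
`H^{n+2}_a(M) ≅ H^{n+1}(Ē)` without any hypothesis on `H^0_a(M)`, `H^1_a(M)`.
-/

set_option autoImplicit false
universe u

namespace Groth.Agent.Lib.Helper87.Kun

open DirectSum TensorProduct GrLC
open Groth.Agent.Lib.Helper99 Groth.Agent.Lib.Helper39 Groth.Agent.Lib.Helper39.GrBridge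
  Groth.Agent.Lib.Helper39.GrKoszul Groth.Agent.Lib.Helper60 Groth.Agent.Lib.Helper39.GrLes
  Groth.Agent.Lib.Helper39.Ver

section EbarZ

variable {ι : Type} [AddCommGroup ι] [DecidableEq ι]
  {R : Type u} [CommRing R] {𝒜 : ι → AddSubgroup R} [GradedRing 𝒜]
  {M : Type u} [AddCommGroup M] [Module R M] {ℳ : ι → AddSubgroup M} [DirectSum.Decomposition ℳ]
  [SetLike.GradedSMul 𝒜 ℳ] (E : StarInjRes 𝒜 ℳ) (a : HomogeneousIdeal 𝒜)

theorem ebarD_ebarε (x : M) : (ebarCx E a).d 0 (ebarε E a x) = 0 := by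
  show ebarD E a 0 (ebarQ E a 0 (E.ε x)) = 0
  rw [ebarD_ebarQ, d_ε, map_zero]

/-- the map from the module to the `0`-cocycles of `Ē` (the ideal transform) -/
noncomputable def ebarZ : M →ₗ[R] ((ebarCx E a).Z 0).carrier :=
  LinearMap.codRestrict (LinearMap.ker ((ebarCx E a).d 0)) (ebarε E a)
    (fun x => LinearMap.mem_ker.mpr (ebarD_ebarε E a x))

theorem zIncl_ebarZ (x : M) : (ebarCx E a).zIncl 0 (ebarZ E a x) = ebarε E a x := rfl

theorem ebarZ_grHom : IsGrHom ℳ ((ebarCx E a).Z 0).gr (ebarZ E a) :=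
  fun g x hx => ebarε_grHom E a g x hx

theorem ebarZ_ker (x : M) (hx : ebarZ E a x = 0) :
    ∃ k : ℕ, ∀ r ∈ a.toIdeal ^ k, r • x = 0 := by
  have h0 : ebarε E a x = 0 := by
    rw [← zIncl_ebarZ, hx, map_zero]
  have h1 : E.ε x ∈ gam a.toIdeal (E.X 0).carrier := (ebarQ_eq_zero_iff E a 0 _).mp h0
  exact mem_gam_of_ε_mem E a h1

theorem ebarZ_coker (z : ((ebarCx E a).Z 0).carrier) :
    ∃ k : ℕ, ∀ r ∈ a.toIdeal ^ k, r • z ∈ LinearMap.range (ebarZ E a) := by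
  have hz : (ebarCx E a).d 0 ((ebarCx E a).zIncl 0 z) = 0 := z.2
  obtain ⟨w, hw⟩ := ebarQ_surjective E a 0 ((ebarCx E a).zIncl 0 z)
  rw [← hw] at hz
  have h2 : ebarQ E a 1 (E.d 0 w) = 0 := hz
  rw [ebarQ_eq_zero_iff] at h2
  obtain ⟨k, hk⟩ := h2
  refine ⟨k, fun r hr => ?_⟩
  have h3 : r • w ∈ LinearMap.ker (E.d 0) := by
    rw [LinearMap.mem_ker, map_smul, hk r hr]
  rw [E.exact_zero] at h3
  obtain ⟨x, hx⟩ := h3
  refine ⟨x, ?_⟩
  apply Subtype.ext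
  show ebarQ E a 0 (E.ε x) = r • (ebarCx E a).zIncl 0 z
  rw [hx, map_smul, hw]
  rfl

end EbarZ

section EbarMain

variable {ι : Type} [AddCommGroup ι] [DecidableEq ι] [Module.Free ℤ ι] [Module.Finite ℤ ι]
  {R : Type u} [CommRing R] [IsNoetherianRing R] {𝒜 : ι → AddSubgroup R} [GradedRing 𝒜]
  {M : Type u} [AddCommGroup M] [Module R M] {ℳ : ι → AddSubgroup M} [DirectSum.Decomposition ℳ]
  [SetLike.GradedSMul 𝒜 ℳ] (E : StarInjRes 𝒜 ℳ) (a : HomogeneousIdeal 𝒜)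

/-- `H^{n+2}_a(M) ≅ H^{n+1}(Ē)`, without hypotheses on `H^0_a(M)` and `H^1_a(M)` -/
theorem ebar_main' (n : ℕ) :
    Nonempty (GrEquiv R (E.Hgr a (n + 2)) ((ebarCx E a).Hq n).gr) := by
  obtain ⟨g⟩ := nonempty_grEquiv_of_torsion_ker_coker a (ebarZ E a) (ebarZ_grHom E a)
    (ebarZ_ker E a) (ebarZ_coker E a) E (someRes ((ebarCx E a).Z 0)) n
  obtain ⟨h⟩ := (ebarCx E a).main_Z (ebar_totAcyc E a) (ebar_torCoh E a) n 0 n (by omega)
    (someRes ((ebarCx E a).Z 0))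
  exact ⟨g.trans h⟩

end EbarMain

end Groth.Agent.Lib.Helper87.Kun
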