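import Groth.Agent.Lib.Helper87.Kun33

/-!
# Counting `Ē` without depth hypotheses; the `0`-cocycles as an augmentation (helper87)
-/

set_option autoImplicit false
universe u

namespace Groth.Agent.Lib.Helper87.Kun

open DirectSum TensorProduct GrLC
open Groth.Agent.Lib.Helper99 Groth.Agent.Lib.Helper39 Groth.Agent.Lib.Helper39.GrBridge
  Groth.Agent.Lib.Helper39.GrKoszul Groth.Agent.Lib.Helper60

section XSide

variable {k : Type u} [Field k] {R : Type u} [CommRing R] [Algebra k R]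
  (𝒜 : ℤ → Submodule k R) [GradedAlgebra 𝒜]
  {M : Type u} [AddCommGroup M] [Module R M]
  {ℳ : ℤ → AddSubgroup M} [DirectSum.Decomposition ℳ] [SetLike.GradedSMul 𝒜 ℳ]
  (EM : StarInjRes 𝒜 ℳ) (mR : HomogeneousIdeal 𝒜)

attribute [local instance] toSubGradedRing toSubDecomposition toSubGradedSMul

/-- the harmonic part in positive degrees counts the local cohomology (no depth hypotheses) -/
theorem x_count_succ' [Nontrivial R] [IsNoetherianRing R]
    (h0R : 𝒜 0 = Submodule.span k {(1 : R)}) (i : ℕ) (e : ℤ) :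
    Module.finrank (deg0 𝒜) (EM.Hcomp mR (i + 2) e) =
        Module.finrank k (LinearMap.range ((xData (k := k) 𝒜 EM mR).hodge.π ∘ₗ
          (xData (k := k) 𝒜 EM mR).gr.P (i + 1, e))) ∧
      (Module.Finite (deg0 𝒜) (EM.Hcomp mR (i + 2) e) →
        Module.Finite k (LinearMap.range ((xData (k := k) 𝒜 EM mR).hodge.π ∘ₗ
          (xData (k := k) 𝒜 EM mR).gr.P (i + 1, e)))) := by
  obtain ⟨g⟩ := ebar_main' (convRes EM) (convIdeal mR) i
  have hc := count_Hq (kappa_mem 𝒜) (kappa_bij 𝒜 h0R) (xCx 𝒜 EM mR) i e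
    (xData (k := k) 𝒜 EM mR).hodge.toHodge
    (xι 𝒜 EM mR i) (xι 𝒜 EM mR (i + 1)) (xι 𝒜 EM mR (i + 1 + 1))
    (lofK_injective 𝒜 (xCx 𝒜 EM mR) (i + 1)) (lofK_injective 𝒜 (xCx 𝒜 EM mR) (i + 1 + 1))
    (fun z => (bigD_lofK k (xCx 𝒜 EM mR) i z).symm)
    (fun z => (bigD_lofK k (xCx 𝒜 EM mR) (i + 1) z).symm)
    (fun c z => by
      rw [xι_apply, xι_apply, map_smul, algebraMap_smul])
    (LinearMap.range ((xData (k := k) 𝒜 EM mR).gr.P (i, e)))
    (LinearMap.range ((xData (k := k) 𝒜 EM mR).gr.P (i + 1, e)))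
    (mem_range_P_iff 𝒜 EM mR i e) (mem_range_P_iff 𝒜 EM mR (i + 1) e)
    (by
      rintro _ ⟨w, rfl⟩
      exact ⟨_, ((xData (k := k) 𝒜 EM mR).hodge.πP (i + 1, e) w).symm⟩)
    (by
      rintro _ ⟨w, rfl⟩
      exact ⟨_, ((xData (k := k) 𝒜 EM mR).hodge.sP (i, e) w).symm⟩)
  rw [LinearMap.range_comp]
  let φ := pieceEquiv (deg0 (toSub 𝒜)) g.e ((convRes EM).Hcomp (convIdeal mR) (i + 2) e)
    (comp (toSub 𝒜) ((ebarCx (convRes EM) (convIdeal mR)).Hq i).gr e) (fun x => g.mem_iff e x)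
  refine ⟨?_, fun hfin => ?_⟩
  · exact φ.finrank_eq.trans hc.1
  · refine hc.2 ?_
    haveI : Module.Finite (deg0 (toSub 𝒜)) ((convRes EM).Hcomp (convIdeal mR) (i + 2) e) := hfin
    exact Module.Finite.equiv φ

end XSide

section ZK

variable {R : Type u} [CommRing R] {𝒜' : ℤ → AddSubgroup R} [GradedRing 𝒜']

/-- the `0`-cocycles of a complex, with a phantom field of scalars -/
def ZK (k : Type u) (C : CoCx 𝒜') : Type u := (C.Z 0).carrier

variable (k : Type u) [Field k] [Algebra k R] (C : CoCx 𝒜')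

noncomputable instance : AddCommGroup (ZK k C) := inferInstanceAs (AddCommGroup (C.Z 0).carrier)

noncomputable instance : Module R (ZK k C) := inferInstanceAs (Module R (C.Z 0).carrier)

noncomputable instance : Module k (ZK k C) := Module.compHom (ZK k C) (algebraMap k R)

instance : IsScalarTower k R (ZK k C) :=
  ⟨fun c r x => by
    show (c • r) • x = algebraMap k R c • (r • x)
    rw [Algebra.smul_def, mul_smul]⟩

/-- the grading of `ZK` -/
noncomputable def zKGr : ℤ → AddSubgroup (ZK k C) := (C.Z 0).gr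

noncomputable instance : DirectSum.Decomposition (zKGr k C) :=
  inferInstanceAs (DirectSum.Decomposition (C.Z 0).gr)

instance : SetLike.GradedSMul 𝒜' (zKGr k C) :=
  inferInstanceAs (SetLike.GradedSMul 𝒜' (C.Z 0).gr)

/-- the inclusion of the cocycles -/
noncomputable def zKIncl : ZK k C →ₗ[R] (C.K 0).carrier := C.zIncl 0

theorem zKIncl_injective : Function.Injective (zKIncl k C) := Subtype.val_injective

theorem d_zKIncl (z : ZK k C) : C.d 0 (zKIncl k C z) = 0 := z.2

theorem zKIncl_grHom : IsGrHom (zKGr k C) (C.K 0).gr (zKIncl k C) := C.zIncl_grHom 0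

/-- constructor -/
noncomputable def zKMk (x : (C.K 0).carrier) (hx : C.d 0 x = 0) : ZK k C := ⟨x, hx⟩

theorem zKIncl_zKMk (x : (C.K 0).carrier) (hx : C.d 0 x = 0) : zKIncl k C (zKMk k C x hx) = x :=
  rfl

end ZK

section ZAug

variable {k : Type u} [Field k] {R : Type u} [CommRing R] [Algebra k R]
  (𝒜 : ℤ → Submodule k R) [GradedAlgebra 𝒜]

attribute [local instance] toSubGradedRing toSubDecomposition toSubGradedSMul

variable (C : CoCx (toSub 𝒜))

instance zKGradedSMul : SetLike.GradedSMul 𝒜 (zKGr k C) := gsmul_of_toSub 𝒜 (zKGr k C)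

/-- the `0`-cocycles augment the complex -/
noncomputable def zAug : AugData (bigCxData (k := k) 𝒜 C) (zKGr k C) where
  ε := lofK k C 0 ∘ₗ zKIncl k C
  ε_gr := fun g m hm => lofG_grHom C.K 0 g _ (zKIncl_grHom k C g m hm)
  ε_inj := (lofK_injective 𝒜 C 0).comp (zKIncl_injective k C)
  c0 := fun x => bigc_lofK k C 0 _
  D0 := fun x => by
    show bigD k C (lofK k C 0 (zKIncl k C x)) = 0
    rw [bigD_lofK, d_zKIncl, map_zero]
  exact := fun x hx hD => by
    have h2 : x = lofK k C 0 (compK k C 0 x) := eq_lofK_of_bigc 𝒜 C hx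
    have h3 : C.d 0 (compK k C 0 x) = 0 := by
      apply lofK_injective 𝒜 C (0 + 1)
      rw [← bigD_lofK, ← h2, map_zero]
      exact hD
    refine ⟨zKMk k C _ h3, ?_⟩
    show lofK k C 0 (zKIncl k C (zKMk k C _ h3)) = x
    rw [zKIncl_zKMk, ← h2]

theorem zAug_ε (z : ZK k C) : (zAug (k := k) 𝒜 C).ε z = lofK k C 0 (zKIncl k C z) := rfl

end ZAug

end Groth.Agent.Lib.Helper87.Kun
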