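import Groth.Agent.Lib.Helper87.Kun17
import Mathlib.LinearAlgebra.TensorProduct.RightExactness

/-!
# Segre products of maps with torsion kernel and cokernel (helper87)

If `f : M → M'` and `g : N → N'` are homogeneous maps whose kernels and cokernels are torsion for
the irrelevant ideals, then `f # g : M # N → M' # N'` has kernel and cokernel torsion for the
irrelevant ideal of the Segre product.
-/

set_option autoImplicit false
universe u

namespace Groth.Agent.Lib.Helper87.Kun

open DirectSum TensorProduct GrLC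
open Groth.Agent.Lib.Helper99 Groth.Agent.Lib.Helper39 Groth.Agent.Lib.Helper39.GrBridge
  Groth.Agent.Lib.Helper39.GrKoszul Groth.Agent.Lib.Helper87.SegOne Groth.Agent.Lib.Helper60

section Near

variable {k : Type u} [Field k] {R S : Type u} [CommRing R] [CommRing S] [Algebra k R]
  [Algebra k S]
  {X Y X' Y' : Type u} [AddCommGroup X] [Module R X] [Module k X] [IsScalarTower k R X]
  [AddCommGroup Y] [Module S Y] [Module k Y] [IsScalarTower k S Y]
  [AddCommGroup X'] [Module R X'] [Module k X'] [IsScalarTower k R X']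
  [AddCommGroup Y'] [Module S Y'] [Module k Y'] [IsScalarTower k S Y']
  (I : Ideal R) (J : Ideal S)

/-- the elements carried into `W` by `I^n ⊗ J^n` for some `n` -/
def nearSub (W : Submodule k (X ⊗[k] Y)) : Submodule k (X ⊗[k] Y) where
  carrier := {u | ∃ n : ℕ, ∀ r₁ ∈ I ^ n, ∀ r₂ ∈ J ^ n, GrSeg.act k R S X Y (r₁ ⊗ₜ[k] r₂) u ∈ W}
  zero_mem' := ⟨0, fun r₁ _ r₂ _ => by rw [map_zero]; exact zero_mem _⟩
  add_mem' := by
    rintro u u' ⟨n, hn⟩ ⟨n', hn'⟩
    refine ⟨max n n', fun r₁ h₁ r₂ h₂ => ?_⟩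
    rw [map_add]
    exact add_mem
      (hn r₁ (Ideal.pow_le_pow_right (le_max_left n n') h₁) r₂
        (Ideal.pow_le_pow_right (le_max_left n n') h₂))
      (hn' r₁ (Ideal.pow_le_pow_right (le_max_right n n') h₁) r₂
        (Ideal.pow_le_pow_right (le_max_right n n') h₂))
  smul_mem' := by
    rintro c u ⟨n, hn⟩
    exact ⟨n, fun r₁ h₁ r₂ h₂ => by
      rw [map_smul]
      exact Submodule.smul_mem _ c (hn r₁ h₁ r₂ h₂)⟩

theorem mem_nearSub {W : Submodule k (X ⊗[k] Y)} {u : X ⊗[k] Y} :
    u ∈ nearSub I J W ↔ ∃ n : ℕ, ∀ r₁ ∈ I ^ n, ∀ r₂ ∈ J ^ n,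
      GrSeg.act k R S X Y (r₁ ⊗ₜ[k] r₂) u ∈ W := Iff.rfl

/-- the kernel of a tensor product of maps with torsion kernels is torsion -/
theorem ker_map_le_nearSub (f : X →ₗ[R] X') (g : Y →ₗ[S] Y')
    (hkf : ∀ x, f x = 0 → ∃ n : ℕ, ∀ r ∈ I ^ n, r • x = 0)
    (hkg : ∀ y, g y = 0 → ∃ n : ℕ, ∀ r ∈ J ^ n, r • y = 0) :
    LinearMap.ker (TensorProduct.map (f.restrictScalars k) (g.restrictScalars k)) ≤
      nearSub I J (⊥ : Submodule k (X ⊗[k] Y)) := by
  have hinj : Function.Injective (TensorProduct.map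
      (LinearMap.range (f.restrictScalars k)).subtype
      (LinearMap.range (g.restrictScalars k)).subtype) :=
    TensorProduct.map_injective_of_flat_flat _ _ (Submodule.subtype_injective _)
      (Submodule.subtype_injective _)
  have hcomp : TensorProduct.map (f.restrictScalars k) (g.restrictScalars k) =
      TensorProduct.map (LinearMap.range (f.restrictScalars k)).subtype
        (LinearMap.range (g.restrictScalars k)).subtype ∘ₗ
      TensorProduct.map (f.restrictScalars k).rangeRestrict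
        (g.restrictScalars k).rangeRestrict := by
    rw [← TensorProduct.map_comp]
    rfl
  have hk := TensorProduct.map_ker
    (LinearMap.exact_subtype_ker_map (f.restrictScalars k).rangeRestrict)
    (LinearMap.surjective_rangeRestrict (f.restrictScalars k))
    (LinearMap.exact_subtype_ker_map (g.restrictScalars k).rangeRestrict)
    (LinearMap.surjective_rangeRestrict (g.restrictScalars k))
  intro w hw
  have hw' : w ∈ LinearMap.ker (TensorProduct.map (f.restrictScalars k).rangeRestrict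
      (g.restrictScalars k).rangeRestrict) := by
    rw [LinearMap.mem_ker]
    apply hinj
    rw [map_zero, ← LinearMap.comp_apply, ← hcomp]
    exact hw
  rw [hk] at hw'
  refine (sup_le ?_ ?_ : _ ≤ nearSub I J (⊥ : Submodule k (X ⊗[k] Y))) hw'
  · rintro _ ⟨z, rfl⟩
    induction z using TensorProduct.induction_on with
    | zero => rw [map_zero]; exact zero_mem _
    | tmul x y =>
      have hy : g (y : Y) = 0 := by
        have h1 := y.2
        rw [LinearMap.mem_ker] at h1
        exact congrArg Subtype.val h1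
      obtain ⟨n, hn⟩ := hkg _ hy
      refine ⟨n, fun r₁ _ r₂ h₂ => ?_⟩
      rw [LinearMap.lTensor_tmul, Submodule.subtype_apply, GrSeg.act_tmul, hn r₂ h₂,
        TensorProduct.tmul_zero]
      exact zero_mem _
    | add z z' hz hz' => rw [map_add]; exact add_mem hz hz'
  · rintro _ ⟨z, rfl⟩
    induction z using TensorProduct.induction_on with
    | zero => rw [map_zero]; exact zero_mem _
    | tmul x y =>
      have hx : f (x : X) = 0 := by
        have h1 := x.2
        rw [LinearMap.mem_ker] at h1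
        exact congrArg Subtype.val h1
      obtain ⟨n, hn⟩ := hkf _ hx
      refine ⟨n, fun r₁ h₁ r₂ _ => ?_⟩
      rw [LinearMap.rTensor_tmul, Submodule.subtype_apply, GrSeg.act_tmul, hn r₁ h₁,
        TensorProduct.zero_tmul]
      exact zero_mem _
    | add z z' hz hz' => rw [map_add]; exact add_mem hz hz'

/-- the cokernel of a tensor product of maps with torsion cokernels is torsion -/
theorem mem_nearSub_range (f : X →ₗ[R] X') (g : Y →ₗ[S] Y')
    (hcf : ∀ x' : X', ∃ n : ℕ, ∀ r ∈ I ^ n, r • x' ∈ LinearMap.range f)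
    (hcg : ∀ y' : Y', ∃ n : ℕ, ∀ r ∈ J ^ n, r • y' ∈ LinearMap.range g) (u : X' ⊗[k] Y') :
    u ∈ nearSub I J (LinearMap.range
      (TensorProduct.map (f.restrictScalars k) (g.restrictScalars k))) := by
  induction u using TensorProduct.induction_on with
  | zero => exact zero_mem _
  | tmul x' y' =>
    obtain ⟨n, hn⟩ := hcf x'
    obtain ⟨n', hn'⟩ := hcg y'
    refine ⟨max n n', fun r₁ h₁ r₂ h₂ => ?_⟩
    obtain ⟨x, hx⟩ := hn r₁ (Ideal.pow_le_pow_right (le_max_left n n') h₁)
    obtain ⟨y, hy⟩ := hn' r₂ (Ideal.pow_le_pow_right (le_max_right n n') h₂)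
    refine ⟨x ⊗ₜ[k] y, ?_⟩
    rw [TensorProduct.map_tmul, GrSeg.act_tmul, LinearMap.coe_restrictScalars,
      LinearMap.coe_restrictScalars, hx, hy]
  | add u u' hu hu' => exact add_mem hu hu'

end Near

section Colon

variable {k : Type u} [Field k] {R S T : Type u} [CommRing R] [CommRing S] [CommRing T]
  [Algebra k R] [Algebra k S] [Algebra k T]
  {𝒜 : ℤ → Submodule k R} [GradedAlgebra 𝒜] {ℬ : ℤ → Submodule k S} [GradedAlgebra ℬ]
  (𝒯 : ℤ → Submodule k T) [GradedAlgebra 𝒯]
  (ψ : T →ₐ[k] R ⊗[k] S) (hT : GrSeg.IsSegreRing 𝒜 ℬ 𝒯 ψ)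
  {X Y : Type u} [AddCommGroup X] [Module R X] [Module k X] [IsScalarTower k R X]
  [AddCommGroup Y] [Module S Y] [Module k Y] [IsScalarTower k S Y]

include hT in
/-- from `I^n ⊗ J^n` to the powers of the irrelevant ideal of the Segre product -/
theorem act_psi_mem_of_near (W : Submodule k (X ⊗[k] Y))
    (hW : ∀ (v : R ⊗[k] S) (u : X ⊗[k] Y), u ∈ W → GrSeg.act k R S X Y v u ∈ W)
    {u : X ⊗[k] Y} {n : ℕ}
    (h : ∀ r₁ ∈ irr 𝒜 ^ n, ∀ r₂ ∈ irr ℬ ^ n, GrSeg.act k R S X Y (r₁ ⊗ₜ[k] r₂) u ∈ W)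
    {t : T} (ht : t ∈ irr 𝒯 ^ n) : GrSeg.act k R S X Y (ψ t) u ∈ W := by
  let colon : Ideal (R ⊗[k] S) :=
    { carrier := {v | GrSeg.act k R S X Y v u ∈ W}
      add_mem' := by
        intro v v' hv hv'
        show GrSeg.act k R S X Y (v + v') u ∈ W
        rw [map_add, LinearMap.add_apply]
        exact add_mem hv hv'
      zero_mem' := by
        show GrSeg.act k R S X Y 0 u ∈ W
        rw [map_zero, LinearMap.zero_apply]
        exact zero_mem _
      smul_mem' := by
        intro w v hv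
        show GrSeg.act k R S X Y (w • v) u ∈ W
        rw [smul_eq_mul, act_mul]
        exact hW w _ hv }
  have h1 := psi_mem_pow_mul_pow 𝒜 ℬ 𝒯 ψ hT n ht
  have h2 : ((irr 𝒜) ^ n).map (inclL (k := k) (S := S)) *
      ((irr ℬ) ^ n).map (inclR (k := k) (R := R)) ≤ colon := by
    rw [Ideal.map, Ideal.map, Ideal.span_mul_span', Ideal.span_le]
    rintro _ ⟨_, ⟨r₁, h₁, rfl⟩, _, ⟨r₂, h₂, rfl⟩, rfl⟩
    show GrSeg.act k R S X Y (inclL (k := k) (S := S) r₁ * inclR (k := k) (R := R) r₂) u ∈ W
    rw [inclL_apply, inclR_apply, Algebra.TensorProduct.tmul_mul_tmul, mul_one, one_mul]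
    exact h r₁ h₁ r₂ h₂
  exact h2 h1

end Colon

end Groth.Agent.Lib.Helper87.Kun
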