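import Groth.Agent.Lib.Helper87.Kun35

/-!
# The Segre product of two homogeneous maps (helper87)

`segComp : M # N → M' # N'` for homogeneous `f : M → M'`, `g : N → N'`; its kernel and cokernel are
torsion when those of `f` and `g` are.
-/

set_option autoImplicit false
universe u

namespace Groth.Agent.Lib.Helper87.Kun

open DirectSum TensorProduct GrLC
open Groth.Agent.Lib.Helper99 Groth.Agent.Lib.Helper39 Groth.Agent.Lib.Helper39.GrBridge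
  Groth.Agent.Lib.Helper39.GrKoszul Groth.Agent.Lib.Helper87.SegOne Groth.Agent.Lib.Helper60

section SegComp

variable {k : Type u} [Field k] {R S T : Type u} [CommRing R] [CommRing S] [CommRing T]
  [Algebra k R] [Algebra k S] [Algebra k T]
  {𝒜 : ℤ → Submodule k R} [GradedAlgebra 𝒜] {ℬ : ℤ → Submodule k S} [GradedAlgebra ℬ]
  (𝒯 : ℤ → Submodule k T) [GradedAlgebra 𝒯]
  (ψ : T →ₐ[k] R ⊗[k] S) (hT : GrSeg.IsSegreRing 𝒜 ℬ 𝒯 ψ)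
  {M N P M' N' : Type u} [AddCommGroup M] [Module R M] [Module k M] [IsScalarTower k R M]
  [AddCommGroup N] [Module S N] [Module k N] [IsScalarTower k S N]
  [AddCommGroup P] [Module T P] [Module k P] [IsScalarTower k T P]
  [AddCommGroup M'] [Module R M'] [Module k M'] [IsScalarTower k R M']
  [AddCommGroup N'] [Module S N'] [Module k N'] [IsScalarTower k S N']
  {ℳ : ℤ → AddSubgroup M} [DirectSum.Decomposition ℳ] [SetLike.GradedSMul 𝒜 ℳ]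
  {𝒩 : ℤ → AddSubgroup N} [DirectSum.Decomposition 𝒩] [SetLike.GradedSMul ℬ 𝒩]
  {𝒬 : ℤ → AddSubgroup P} [DirectSum.Decomposition 𝒬] [SetLike.GradedSMul 𝒯 𝒬]
  {ℳ' : ℤ → AddSubgroup M'} [DirectSum.Decomposition ℳ'] [SetLike.GradedSMul 𝒜 ℳ']
  {𝒩' : ℤ → AddSubgroup N'} [DirectSum.Decomposition 𝒩'] [SetLike.GradedSMul ℬ 𝒩']
  (f : M →ₗ[R] M') (hf : IsGrHom ℳ ℳ' f) (g : N →ₗ[S] N') (hg : IsGrHom 𝒩 𝒩' g)

/-- the tensor product of the two maps -/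
noncomputable def mapE : M ⊗[k] N →ₗ[k] M' ⊗[k] N' :=
  TensorProduct.map (f.restrictScalars k) (g.restrictScalars k)

theorem mapE_tmul (m : M) (n : N) : mapE (k := k) f g (m ⊗ₜ[k] n) = f m ⊗ₜ[k] g n := rfl

theorem mapE_act (v : R ⊗[k] S) (z : M ⊗[k] N) :
    mapE f g (GrSeg.act k R S M N v z) = GrSeg.act k R S M' N' v (mapE f g z) :=
  map_act f g v z

include hf hg in
theorem mapE_mem_piece {d : ℤ} {z : M ⊗[k] N} (hz : z ∈ GrSeg.segrePiece k ℳ 𝒩 d) :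
    mapE f g z ∈ GrSeg.segrePiece k ℳ' 𝒩' d := by
  induction hz using Submodule.span_induction with
  | mem z hz =>
    obtain ⟨m, hm, n, hn, rfl⟩ := hz
    rw [mapE_tmul]
    exact Submodule.subset_span ⟨f m, hf d m hm, g n, hg d n hn, rfl⟩
  | zero => rw [map_zero]; exact Submodule.zero_mem _
  | add u v _ _ hu hv => rw [map_add]; exact Submodule.add_mem _ hu hv
  | smul c u _ hu => rw [map_smul]; exact Submodule.smul_mem _ c hu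

include hf hg in
theorem mapE_mem_segAll {z : M ⊗[k] N} (hz : z ∈ segAll (k := k) ℳ 𝒩) :
    mapE f g z ∈ segAll (k := k) ℳ' 𝒩' := by
  induction hz using Submodule.iSup_induction' with
  | mem d z hz => exact Submodule.mem_iSup_of_mem d (mapE_mem_piece f hf g hg hz)
  | zero => rw [map_zero]; exact Submodule.zero_mem _
  | add z z' _ _ hz hz' => rw [map_add]; exact Submodule.add_mem _ hz hz'

include hf hg in
theorem prMN_mapE (d e : ℤ) (x : M ⊗[k] N) :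
    mapE f g (prMN 𝒜 ℬ ℳ 𝒩 d e x) = prMN 𝒜 ℬ ℳ' 𝒩' d e (mapE f g x) := by
  induction x using TensorProduct.induction_on with
  | zero => simp
  | tmul m n =>
    simp only [prMN, TensorProduct.map_tmul, mapE_tmul]
    rw [prK_comm hf, prK_comm hg]
  | add x x' hx hx' => simp only [map_add, hx, hx']

include hf hg in
theorem diagPr_mapE (w : M ⊗[k] N) :
    diagPr 𝒜 ℬ ℳ' 𝒩' (mapE f g w) = mapE f g (diagPr 𝒜 ℬ ℳ 𝒩 w) :=
  (tensGr 𝒜 ℬ ℳ 𝒩).sel_comm' (tensGr 𝒜 ℬ ℳ' 𝒩') {l | l.1 = l.2} {l | l.1 = l.2} (mapE f g)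
    (fun l => Or.inr ⟨l, fun x => prMN_mapE f hf g hg l.1 l.2 x, Iff.rfl⟩) w

variable (φ : P →ₗ[k] M ⊗[k] N) (hP : GrSeg.IsSegreMod ψ ℳ 𝒩 𝒬 φ)

/-- the Segre product of the two maps -/
noncomputable def segComp : P →ₗ[T] segSub 𝒜 ℬ 𝒯 ψ hT ℳ' 𝒩' where
  toFun p := segMk 𝒜 ℬ 𝒯 ψ hT ℳ' 𝒩' (mapE f g (φ p))
    (mapE_mem_segAll f hf g hg (phi_mem_segAll ψ φ hP p))
  map_add' p p' := by
    apply segVal_injective
    simp only [segVal_segMk, map_add]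
  map_smul' t p := by
    apply segVal_injective
    rw [segVal_segMk, RingHom.id_apply, segVal_smul, segVal_segMk, hP.map_smul, mapE_act]

theorem segVal_segComp (p : P) :
    segVal 𝒜 ℬ 𝒯 ψ hT ℳ' 𝒩' (segComp 𝒯 ψ hT f hf g hg φ hP p) = mapE f g (φ p) := rfl

theorem segComp_grHom :
    IsGrHom 𝒬 (segGr 𝒜 ℬ 𝒯 ψ hT ℳ' 𝒩') (segComp 𝒯 ψ hT f hf g hg φ hP) := by
  intro d p hp
  rw [mem_segGr, segVal_segComp]
  exact mapE_mem_piece f hf g hg (phi_mem ℳ 𝒩 𝒬 ψ φ hP hp)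

theorem segComp_ker
    (hkf : ∀ x, f x = 0 → ∃ n : ℕ, ∀ r ∈ irr 𝒜 ^ n, r • x = 0)
    (hkg : ∀ y, g y = 0 → ∃ n : ℕ, ∀ r ∈ irr ℬ ^ n, r • y = 0)
    (p : P) (hp : segComp 𝒯 ψ hT f hf g hg φ hP p = 0) :
    ∃ n : ℕ, ∀ t ∈ irr 𝒯 ^ n, t • p = 0 := by
  have h1 : mapE f g (φ p) = 0 := by
    rw [← segVal_segComp 𝒯 ψ hT f hf g hg φ hP, hp, map_zero]
  obtain ⟨n, hn⟩ := ker_map_le_nearSub (k := k) (irr 𝒜) (irr ℬ) f g hkf hkg
    (LinearMap.mem_ker.mpr h1)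
  refine ⟨n, fun t ht => ?_⟩
  apply hP.injective
  rw [hP.map_smul, map_zero]
  have h2 := act_psi_mem_of_near 𝒯 ψ hT (⊥ : Submodule k (M ⊗[k] N))
    (fun v u hu => by
      rw [Submodule.mem_bot] at hu ⊢
      rw [hu, map_zero]) hn ht
  exact (Submodule.mem_bot k).mp h2

theorem segComp_coker
    (hcf : ∀ x' : M', ∃ n : ℕ, ∀ r ∈ irr 𝒜 ^ n, r • x' ∈ LinearMap.range f)
    (hcg : ∀ y' : N', ∃ n : ℕ, ∀ r ∈ irr ℬ ^ n, r • y' ∈ LinearMap.range g)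
    (z : segSub 𝒜 ℬ 𝒯 ψ hT ℳ' 𝒩') :
    ∃ n : ℕ, ∀ t ∈ irr 𝒯 ^ n, t • z ∈ LinearMap.range (segComp 𝒯 ψ hT f hf g hg φ hP) := by
  obtain ⟨n, hn⟩ := mem_nearSub_range (k := k) (irr 𝒜) (irr ℬ) f g hcf hcg
    (segVal 𝒜 ℬ 𝒯 ψ hT ℳ' 𝒩' z)
  refine ⟨n, fun t ht => ?_⟩
  obtain ⟨w, hw⟩ := act_psi_mem_of_near 𝒯 ψ hT (LinearMap.range (mapE (k := k) f g))
    (fun v u hu => by
      obtain ⟨w, rfl⟩ := hu
      exact ⟨GrSeg.act k R S M N v w, mapE_act f g v w⟩) hn ht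
  have h1 : GrSeg.act k R S M' N' (ψ t) (segVal 𝒜 ℬ 𝒯 ψ hT ℳ' 𝒩' z) ∈
      segAll (k := k) ℳ' 𝒩' := by
    rw [← segVal_smul]
    exact segVal_mem 𝒜 ℬ 𝒯 ψ hT ℳ' 𝒩' (t • z)
  have h2 : mapE f g (diagPr 𝒜 ℬ ℳ 𝒩 w) =
      GrSeg.act k R S M' N' (ψ t) (segVal 𝒜 ℬ 𝒯 ψ hT ℳ' 𝒩' z) := by
    rw [← diagPr_mapE f hf g hg, hw, diagPr_of_mem 𝒜 ℬ ℳ' 𝒩' h1]
  obtain ⟨p, hp⟩ := exists_phi_eq_of_mem_segAll ψ φ hP (diagPr_mem 𝒜 ℬ ℳ 𝒩 w)
  refine ⟨p, ?_⟩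
  apply segVal_injective
  rw [segVal_segComp, hp, h2, segVal_smul]

end SegComp

end Groth.Agent.Lib.Helper87.Kun
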