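import Groth.Agent.Lib.Helper87.Kun36
import Groth.Agent.Lib.Helper87.Kun32
import Groth.Agent.Lib.Helper87.Kun20

/-!
# Künneth for Segre products without depth hypotheses: module form (helper87)
-/

set_option autoImplicit false
universe u

namespace Groth.Agent.Lib.Helper87.Kun

open DirectSum TensorProduct GrLC
open Groth.Agent.Lib.Helper99 Groth.Agent.Lib.Helper39 Groth.Agent.Lib.Helper39.GrBridge
  Groth.Agent.Lib.Helper39.GrKoszul Groth.Agent.Lib.Helper87.SegOne Groth.Agent.Lib.Helper60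

section Core

variable {k : Type u} [Field k] {R S T : Type u} [CommRing R] [CommRing S] [CommRing T]
  [Algebra k R] [Algebra k S] [Algebra k T]
  {𝒜 : ℤ → Submodule k R} [GradedAlgebra 𝒜] {ℬ : ℤ → Submodule k S} [GradedAlgebra ℬ]
  (𝒯 : ℤ → Submodule k T) [GradedAlgebra 𝒯]
  (ψ : T →ₐ[k] R ⊗[k] S) (hT : GrSeg.IsSegreRing 𝒜 ℬ 𝒯 ψ)
  {X Y : Type u} [AddCommGroup X] [Module R X] [Module k X] [IsScalarTower k R X]
  [AddCommGroup Y] [Module S Y] [Module k Y] [IsScalarTower k S Y]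
  {𝒳 : ℤ → AddSubgroup X} [DirectSum.Decomposition 𝒳] [SetLike.GradedSMul 𝒜 𝒳]
  {𝒴 : ℤ → AddSubgroup Y} [DirectSum.Decomposition 𝒴] [SetLike.GradedSMul ℬ 𝒴]
  {CX : CxData 𝒜 𝒳} {CY : CxData ℬ 𝒴}
  {M N P M' N' : Type u} [AddCommGroup M] [Module R M] [Module k M] [IsScalarTower k R M]
  [AddCommGroup N] [Module S N] [Module k N] [IsScalarTower k S N]
  [AddCommGroup P] [Module T P] [Module k P] [IsScalarTower k T P]
  [AddCommGroup M'] [Module R M'] [Module k M'] [IsScalarTower k R M']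
  [AddCommGroup N'] [Module S N'] [Module k N'] [IsScalarTower k S N']
  {ℳ : ℤ → AddSubgroup M} [DirectSum.Decomposition ℳ] [SetLike.GradedSMul 𝒜 ℳ]
  {𝒩 : ℤ → AddSubgroup N} [DirectSum.Decomposition 𝒩] [SetLike.GradedSMul ℬ 𝒩]
  {𝒬 : ℤ → AddSubgroup P} [DirectSum.Decomposition 𝒬] [SetLike.GradedSMul 𝒯 𝒬]
  {ℳ' : ℤ → AddSubgroup M'} [DirectSum.Decomposition ℳ'] [SetLike.GradedSMul 𝒜 ℳ']
  {𝒩' : ℤ → AddSubgroup N'} [DirectSum.Decomposition 𝒩'] [SetLike.GradedSMul ℬ 𝒩']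
  (AX : AugData CX ℳ') (AY : AugData CY 𝒩')
  (f : M →ₗ[R] M') (hf : IsGrHom ℳ ℳ' f) (g : N →ₗ[S] N') (hg : IsGrHom 𝒩 𝒩' g)
  (φ : P →ₗ[k] M ⊗[k] N) (hP : GrSeg.IsSegreMod ψ ℳ 𝒩 𝒬 φ)
  (hTX : ∀ (i : ℕ) (x : X), CX.c (i + 1) x = x → CX.D x = 0 →
    ∃ n : ℕ, ∀ r ∈ irr 𝒜 ^ n, r • x ∈ LinearMap.range CX.D)
  (hTY : ∀ (i : ℕ) (y : Y), CY.c (i + 1) y = y → CY.D y = 0 →
    ∃ n : ℕ, ∀ r ∈ irr ℬ ^ n, r • y ∈ LinearMap.range CY.D)

attribute [local instance] toSubGradedRing toSubDecomposition toSubGradedSMul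

include hTX hTY AX AY hP hf hg in
/-- **Künneth for Segre products**, module form, without depth hypotheses: the modules `M`, `N`
map to the augmentation modules `M'`, `N'` with torsion kernels and cokernels. -/
theorem seg_main' [IsNoetherianRing R] [IsNoetherianRing S] [IsNoetherianRing T]
    [IsNoetherianRing (R ⊗[k] S)] (a : HomogeneousIdeal (toSub 𝒯)) (ha : a.toIdeal = irr 𝒯)
    (hX : ∀ (B : Type u) (p : ℕ), Subsingleton (LocCoh.H (irr 𝒜) p (B →₀ X)))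
    (hY : ∀ (B : Type u) (p : ℕ), Subsingleton (LocCoh.H (irr ℬ) p (B →₀ Y)))
    (hkf : ∀ x, f x = 0 → ∃ n : ℕ, ∀ r ∈ irr 𝒜 ^ n, r • x = 0)
    (hkg : ∀ y, g y = 0 → ∃ n : ℕ, ∀ r ∈ irr ℬ ^ n, r • y = 0)
    (hcf : ∀ x' : M', ∃ n : ℕ, ∀ r ∈ irr 𝒜 ^ n, r • x' ∈ LinearMap.range f)
    (hcg : ∀ y' : N', ∃ n : ℕ, ∀ r ∈ irr ℬ ^ n, r • y' ∈ LinearMap.range g)
    (EP : StarInjRes (toSub 𝒯) (toSub 𝒬)) (n : ℕ) :
    Nonempty (GrEquiv T (EP.Hgr a (n + 2)) ((segCx 𝒯 ψ hT CX CY).Hq n).gr) := by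
  letI := segDecomposition 𝒜 ℬ 𝒯 ψ hT ℳ' 𝒩'
  haveI := segGradedSMul 𝒜 ℬ 𝒯 ψ hT ℳ' 𝒩'
  have hP' := isSegreMod_segVal 𝒜 ℬ 𝒯 ψ hT ℳ' 𝒩'
  let EP' : StarInjRes (toSub 𝒯) (toSub (segGr 𝒜 ℬ 𝒯 ψ hT ℳ' 𝒩')) :=
    someRes (GMod.of (toSub 𝒯) (segSub 𝒜 ℬ 𝒯 ψ hT ℳ' 𝒩') (toSub (segGr 𝒜 ℬ 𝒯 ψ hT ℳ' 𝒩')))
  obtain ⟨-, -, hn⟩ := seg_main 𝒯 ψ hT AX AY (segVal 𝒜 ℬ 𝒯 ψ hT ℳ' 𝒩') hP' hTX hTY a ha hX hY EP'
  have hgr : IsGrHom (toSub 𝒬) (toSub (segGr 𝒜 ℬ 𝒯 ψ hT ℳ' 𝒩'))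
      (segComp 𝒯 ψ hT f hf g hg φ hP) := segComp_grHom 𝒯 ψ hT f hf g hg φ hP
  obtain ⟨g1⟩ := nonempty_grEquiv_of_torsion_ker_coker a (segComp 𝒯 ψ hT f hf g hg φ hP) hgr
    (by rw [ha]; exact segComp_ker 𝒯 ψ hT f hf g hg φ hP hkf hkg)
    (by rw [ha]; exact segComp_coker 𝒯 ψ hT f hf g hg φ hP hcf hcg) EP EP' n
  obtain ⟨g2⟩ := hn n
  exact ⟨g1.trans g2⟩

end Core

section Harm

variable {k : Type u} [Field k] {R S : Type u} [CommRing R] [CommRing S]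
  [Algebra k R] [Algebra k S]
  {𝒜 : ℤ → Submodule k R} [GradedAlgebra 𝒜] {ℬ : ℤ → Submodule k S} [GradedAlgebra ℬ]
  {X Y : Type u} [AddCommGroup X] [Module R X] [Module k X] [IsScalarTower k R X]
  [AddCommGroup Y] [Module S Y] [Module k Y] [IsScalarTower k S Y]
  {𝒳 : ℤ → AddSubgroup X} [DirectSum.Decomposition 𝒳] [SetLike.GradedSMul 𝒜 𝒳]
  {𝒴 : ℤ → AddSubgroup Y} [DirectSum.Decomposition 𝒴] [SetLike.GradedSMul ℬ 𝒴]
  (CX : CxData 𝒜 𝒳) (CY : CxData ℬ 𝒴)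

/-- the dimension of the harmonic part when only one bidegree contributes -/
theorem finrank_harmonic_single (m : ℕ) (e : ℤ) (i₀ : ℕ) (hi₀ : i₀ ≤ m)
    (hvan : ∀ i, i ≤ m → i ≠ i₀ →
      (CX.hodge.π ∘ₗ CX.gr.P (i, e) = 0 ∨ CY.hodge.π ∘ₗ CY.gr.P (m - i, e) = 0)) :
    Module.finrank k (((totGr CX CY).part (Dne m e)).map (totHodge CX CY).π) =
      Module.finrank k (LinearMap.range (CX.hodge.π ∘ₗ CX.gr.P (i₀, e))) *
        Module.finrank k (LinearMap.range (CY.hodge.π ∘ₗ CY.gr.P (m - i₀, e))) := by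
  classical
  have h1 : ((totGr CX CY).part (Dne m e)).map (totHodge CX CY).π =
      LinearMap.range (∑ i ∈ Finset.range (m + 1), harmQ CX CY e i (m - i)) := by
    ext v
    constructor
    · rintro ⟨_, ⟨u, rfl⟩, rfl⟩
      refine ⟨u, ?_⟩
      rw [LinearMap.sum_apply]
      exact (sel_Dne_eq_sum CX CY m e u).symm
    · rintro ⟨u, rfl⟩
      refine ⟨(totGr CX CY).sel (Dne m e) u, (totGr CX CY).sel_mem_part _ _, ?_⟩
      rw [LinearMap.sum_apply]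
      exact sel_Dne_eq_sum CX CY m e u
  have h2 : ∑ i ∈ Finset.range (m + 1), harmQ CX CY e i (m - i) = harmQ CX CY e i₀ (m - i₀) := by
    refine Finset.sum_eq_single i₀ (fun i hi hne => ?_) (fun h => ?_)
    · have hi' : i ≤ m := by
        have := Finset.mem_range.mp hi
        omega
      rcases hvan i hi' hne with h | h
      · show TensorProduct.map (CX.hodge.π ∘ₗ CX.gr.P (i, e))
          (CY.hodge.π ∘ₗ CY.gr.P (m - i, e)) = 0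
        rw [h, TensorProduct.map_zero_left]
      · show TensorProduct.map (CX.hodge.π ∘ₗ CX.gr.P (i, e))
          (CY.hodge.π ∘ₗ CY.gr.P (m - i, e)) = 0
        rw [h, TensorProduct.map_zero_right]
    · exact absurd (Finset.mem_range.mpr (by omega)) h
  rw [h1, h2]
  exact finrank_range_map _ _

end Harm

end Groth.Agent.Lib.Helper87.Kun
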