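import Groth.Agent.Lib.Helper87.Kun37
import Groth.Agent.Lib.Helper87.Kun34
import Groth.Agent.Lib.Helper87.Kun22
import Groth.Agent.Lib.Helper87.Kun23

/-!
# The top Künneth formula for Segre products, without depth hypotheses (helper87)

`dim H^{r+s-1}_{T_+}(M # N)_d = dim H^r_{R_+}(M)_d · dim H^s_{S_+}(N)_d` when `H^q(M) = 0` for
`q > r ≥ 2` and `H^q(N) = 0` for `q > s ≥ 2` (`kunneth_top`); in particular for the rings
themselves, of dimensions `r, s ≥ 2` (`kunneth_top_ring`).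
-/

set_option autoImplicit false
universe u

namespace Groth.Agent.Lib.Helper87.Kun

open DirectSum TensorProduct GrLC
open Groth.Agent.Lib.Helper99 Groth.Agent.Lib.Helper39 Groth.Agent.Lib.Helper39.GrBridge
  Groth.Agent.Lib.Helper39.GrKoszul Groth.Agent.Lib.Helper87.SegOne Groth.Agent.Lib.Helper60

section XZ

variable {k : Type u} [Field k] {R : Type u} [CommRing R] [Algebra k R]
  (𝒜 : ℤ → Submodule k R) [GradedAlgebra 𝒜]
  {M : Type u} [AddCommGroup M] [Module R M]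
  {ℳ : ℤ → AddSubgroup M} [DirectSum.Decomposition ℳ] [SetLike.GradedSMul 𝒜 ℳ]
  (EM : StarInjRes 𝒜 ℳ) (mR : HomogeneousIdeal 𝒜)

attribute [local instance] toSubGradedRing toSubDecomposition toSubGradedSMul

/-- the map to the ideal transform -/
noncomputable def xZ : M →ₗ[R] ZK k (xCx 𝒜 EM mR) := ebarZ (convRes EM) (convIdeal mR)

theorem xZ_grHom : IsGrHom ℳ (zKGr k (xCx 𝒜 EM mR)) (xZ (k := k) 𝒜 EM mR) :=
  fun g x hx => ebarZ_grHom (convRes EM) (convIdeal mR) g x hx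

theorem xZ_ker (hmR : mR.toIdeal = irr 𝒜) (x : M) (hx : xZ (k := k) 𝒜 EM mR x = 0) :
    ∃ n : ℕ, ∀ r ∈ irr 𝒜 ^ n, r • x = 0 := by
  rw [← hmR]
  exact ebarZ_ker (convRes EM) (convIdeal mR) x hx

theorem xZ_coker (hmR : mR.toIdeal = irr 𝒜) (z : ZK k (xCx 𝒜 EM mR)) :
    ∃ n : ℕ, ∀ r ∈ irr 𝒜 ^ n, r • z ∈ LinearMap.range (xZ (k := k) 𝒜 EM mR) := by
  rw [← hmR]
  exact ebarZ_coker (convRes EM) (convIdeal mR) z

/-- vanishing of a piece of local cohomology kills the corresponding harmonic projector -/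
theorem harm_eq_zero [Nontrivial R] [IsNoetherianRing R]
    (h0R : 𝒜 0 = Submodule.span k {(1 : R)}) (i : ℕ) (e : ℤ)
    (h : EM.Hcomp mR (i + 2) e = ⊥) :
    (xData (k := k) 𝒜 EM mR).hodge.π ∘ₗ (xData (k := k) 𝒜 EM mR).gr.P (i + 1, e) = 0 := by
  obtain ⟨h1, h2⟩ := x_count_succ' (k := k) 𝒜 EM mR h0R i e
  rw [h] at h1 h2
  rw [finrank_bot] at h1
  haveI := h2 inferInstance
  have h3 : Subsingleton (LinearMap.range ((xData (k := k) 𝒜 EM mR).hodge.π ∘ₗ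
      (xData (k := k) 𝒜 EM mR).gr.P (i + 1, e))) := Module.finrank_zero_iff.mp h1.symm
  exact LinearMap.range_eq_bot.mp Submodule.eq_bot_of_subsingleton

end XZ

attribute [local instance] toSubGradedRing toSubDecomposition toSubGradedSMul

/-- **Top Künneth formula for the graded local cohomology of a Segre product of modules**, without
depth hypotheses. -/
theorem kunneth_top (k : Type u) [Field k] (R : Type u) [CommRing R] [Nontrivial R] [Algebra k R]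
    (𝒜 : ℤ → Submodule k R) [GradedAlgebra 𝒜] (hposR : ∀ n : ℤ, n < 0 → 𝒜 n = ⊥)
    (h0R : 𝒜 0 = Submodule.span k {(1 : R)}) [Algebra.FiniteType k R] (S : Type u) [CommRing S]
    [Nontrivial S] [Algebra k S] (ℬ : ℤ → Submodule k S) [GradedAlgebra ℬ]
    (hposS : ∀ n : ℤ, n < 0 → ℬ n = ⊥) (h0S : ℬ 0 = Submodule.span k {(1 : S)})
    [Algebra.FiniteType k S] (T : Type u) [CommRing T] [Algebra k T] (𝒯 : ℤ → Submodule k T)
    [GradedAlgebra 𝒯] (ψ : T →ₐ[k] TensorProduct k R S) (hT : GrSeg.IsSegreRing 𝒜 ℬ 𝒯 ψ)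
    (mR : HomogeneousIdeal 𝒜)
    (hmR : mR.toIdeal = Ideal.span (⋃ n ∈ Set.Ioi (0 : ℤ), (𝒜 n : Set R)))
    (mS : HomogeneousIdeal ℬ)
    (hmS : mS.toIdeal = Ideal.span (⋃ n ∈ Set.Ioi (0 : ℤ), (ℬ n : Set S)))
    (mT : HomogeneousIdeal 𝒯)
    (hmT : mT.toIdeal = Ideal.span (⋃ n ∈ Set.Ioi (0 : ℤ), (𝒯 n : Set T)))
    (M : Type u) [AddCommGroup M] [Module R M] [Module k M] [IsScalarTower k R M]
    (ℳ : ℤ → AddSubgroup M) [DirectSum.Decomposition ℳ] [SetLike.GradedSMul 𝒜 ℳ]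
    (EM : GrLC.StarInjRes 𝒜 ℳ)
    (N : Type u) [AddCommGroup N] [Module S N] [Module k N] [IsScalarTower k S N]
    (𝒩 : ℤ → AddSubgroup N) [DirectSum.Decomposition 𝒩] [SetLike.GradedSMul ℬ 𝒩]
    (EN : GrLC.StarInjRes ℬ 𝒩)
    (P : Type u) [AddCommGroup P] [Module T P] [Module k P] [IsScalarTower k T P]
    (𝒬 : ℤ → AddSubgroup P) [DirectSum.Decomposition 𝒬] [SetLike.GradedSMul 𝒯 𝒬]
    (φ : P →ₗ[k] TensorProduct k M N) (hP : GrSeg.IsSegreMod ψ ℳ 𝒩 𝒬 φ)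
    (EP : GrLC.StarInjRes 𝒯 𝒬) (r s : ℕ) (h2r : 2 ≤ r) (h2s : 2 ≤ s)
    (hM : ∀ (q : ℕ) (d : ℤ), r < q → EM.Hcomp mR q d = ⊥)
    (hN : ∀ (q : ℕ) (d : ℤ), s < q → EN.Hcomp mS q d = ⊥) (d : ℤ) :
    Module.finrank (GrLC.deg0 𝒯) (EP.Hcomp mT (r + s - 1) d) =
      Module.finrank (GrLC.deg0 𝒜) (EM.Hcomp mR r d) *
        Module.finrank (GrLC.deg0 ℬ) (EN.Hcomp mS s d) := by
  classical
  haveI : IsNoetherianRing R := Algebra.FiniteType.isNoetherianRing k R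
  haveI : IsNoetherianRing S := Algebra.FiniteType.isNoetherianRing k S
  haveI : IsNoetherianRing (R ⊗[k] S) := Algebra.FiniteType.isNoetherianRing R (R ⊗[k] S)
  haveI : Nontrivial (R ⊗[k] S) :=
    Algebra.TensorProduct.nontrivial_of_algebraMap_injective_of_flat_left (R := k) (A := R)
      (B := S) (algebraMap k S).injective
  haveI : Nontrivial T := by
    by_contra hcon
    rw [not_nontrivial_iff_subsingleton] at hcon
    have h1 : ψ 1 = ψ 0 := congrArg ψ (Subsingleton.elim _ _)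
    rw [map_one, map_zero] at h1
    exact one_ne_zero h1
  haveI : IsNoetherianRing T := isNoetherianRing_segre 𝒜 ℬ 𝒯 hposR ψ hT.1 hT.2
  have h0T : 𝒯 0 = Submodule.span k {(1 : T)} := segre_zero 𝒜 ℬ 𝒯 ψ hT h0R h0S
  have hmR' : mR.toIdeal = irr 𝒜 := hmR
  have hmS' : mS.toIdeal = irr ℬ := hmS
  have hmT' : (convIdeal mT).toIdeal = irr 𝒯 := hmT
  obtain ⟨r', rfl⟩ : ∃ r', r = r' + 2 := ⟨r - 2, by omega⟩
  obtain ⟨s', rfl⟩ : ∃ s', s = s' + 2 := ⟨s - 2, by omega⟩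
  have e1 : r' + 2 + (s' + 2) - 1 = (r' + s' + 1) + 2 := by omega
  rw [e1]
  -- the main theorem for the Segre total complex
  obtain ⟨g⟩ := seg_main' 𝒯 ψ hT (zAug (k := k) 𝒜 (xCx 𝒜 EM mR)) (zAug (k := k) ℬ (xCx ℬ EN mS))
    (xZ (k := k) 𝒜 EM mR) (xZ_grHom 𝒜 EM mR) (xZ (k := k) ℬ EN mS) (xZ_grHom ℬ EN mS)
    φ hP (xData_tor 𝒜 EM mR hmR') (xData_tor ℬ EN mS hmS') (convIdeal mT) hmT'
    (xData_lc 𝒜 EM mR hmR') (xData_lc ℬ EN mS hmS')
    (xZ_ker 𝒜 EM mR hmR') (xZ_ker ℬ EN mS hmS') (xZ_coker 𝒜 EM mR hmR') (xZ_coker ℬ EN mS hmS')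
    (convRes EP) (r' + s' + 1)
  have hcount := t_count 𝒯 ψ hT (xData (k := k) 𝒜 EM mR) (xData (k := k) ℬ EN mS) h0T
    (r' + s' + 1) d (convRes EP) (convIdeal mT) g
  have hharm := finrank_harmonic_single (xData (k := k) 𝒜 EM mR) (xData (k := k) ℬ EN mS)
    (r' + s' + 1 + 1) d (r' + 1) (by omega) (by
      intro i hi hne
      rcases Nat.lt_or_ge i (r' + 1) with hlt | hge
      · right
        obtain ⟨j', hj'⟩ : ∃ j', r' + s' + 1 + 1 - i = j' + 1 := ⟨r' + s' + 1 - i, by omega⟩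
        rw [hj']
        exact harm_eq_zero ℬ EN mS h0S j' d (hN (j' + 2) d (by omega))
      · left
        obtain ⟨i', rfl⟩ : ∃ i', i = i' + 1 := ⟨i - 1, by omega⟩
        exact harm_eq_zero 𝒜 EM mR h0R i' d (hM (i' + 2) d (by omega)))
  have e2 : r' + s' + 1 + 1 - (r' + 1) = s' + 1 := by omega
  rw [e2] at hharm
  have hL : Module.finrank (GrLC.deg0 𝒯) (EP.Hcomp mT (r' + s' + 1 + 2) d) =
      Module.finrank k (LinearMap.range ((xData (k := k) 𝒜 EM mR).hodge.π ∘ₗ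
        (xData (k := k) 𝒜 EM mR).gr.P (r' + 1, d))) *
      Module.finrank k (LinearMap.range ((xData (k := k) ℬ EN mS).hodge.π ∘ₗ
        (xData (k := k) ℬ EN mS).gr.P (s' + 1, d))) := hcount.trans hharm
  rw [hL, (x_count_succ' (k := k) 𝒜 EM mR h0R r' d).1,
    (x_count_succ' (k := k) ℬ EN mS h0S s' d).1]

end Groth.Agent.Lib.Helper87.Kun
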