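import Mathlib

/-!
# Projector gradings and Hodge data for differentials on vector spaces (helper87)

A `ProjGr k V Λ` is a grading of the vector space `V` by a family of orthogonal projectors.  For a
differential `D` of "degree `θ`" we construct graded Hodge data `(π, s)`:
`D s + s D = 1 - π`, `π D = D π = 0`, `π π = π` (`exists_gHodge`).
-/

set_option autoImplicit false
universe u v w

namespace Groth.Agent.Lib.Helper87.Kun

section PG

/-- a grading of a vector space given by a family of orthogonal projectors -/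
structure ProjGr (k : Type u) [Field k] (V : Type v) [AddCommGroup V] [Module k V]
    (Λ : Type w) where
  P : Λ → V →ₗ[k] V
  same : ∀ l x, P l (P l x) = P l x
  orth : ∀ l m, l ≠ m → ∀ x, P l (P m x) = 0
  span : ∀ x : V, x ∈ ⨆ l, LinearMap.range (P l)

variable {k : Type u} [Field k] {V : Type v} [AddCommGroup V] [Module k V] {Λ : Type w}
  (G : ProjGr k V Λ)

namespace ProjGr

theorem induction {motive : V → Prop} (h0 : motive 0)
    (hadd : ∀ x y, motive x → motive y → motive (x + y))
    (hom : ∀ l x, G.P l x = x → motive x) (x : V) : motive x := by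
  refine Submodule.iSup_induction _ (motive := motive) (G.span x) ?_ h0 hadd
  rintro l _ ⟨y, rfl⟩
  exact hom l _ (G.same l y)

theorem ext_hom {W : Type*} [AddCommGroup W] [Module k W] {f g : V →ₗ[k] W}
    (h : ∀ l x, G.P l x = x → f x = g x) : f = g := by
  ext x
  exact G.induction (motive := fun x => f x = g x) (by rw [map_zero, map_zero])
    (fun x y hx hy => by rw [map_add, map_add, hx, hy]) h x

theorem exists_finset (x : V) :
    ∃ s : Finset Λ, (∀ l, l ∉ s → G.P l x = 0) ∧ x = ∑ l ∈ s, G.P l x := by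
  classical
  refine G.induction (motive := fun x => ∃ s : Finset Λ, (∀ l, l ∉ s → G.P l x = 0) ∧
    x = ∑ l ∈ s, G.P l x) ⟨∅, fun l _ => map_zero _, by simp⟩ ?_ ?_ x
  · rintro x y ⟨s, hs0, hs⟩ ⟨t, ht0, ht⟩
    refine ⟨s ∪ t, fun l hl => ?_, ?_⟩
    · rw [Finset.mem_union, not_or] at hl
      rw [map_add, hs0 l hl.1, ht0 l hl.2, add_zero]
    · have h1 : ∑ l ∈ s ∪ t, G.P l x = ∑ l ∈ s, G.P l x :=
        (Finset.sum_subset Finset.subset_union_left (fun l _ hl => hs0 l hl)).symm
      have h2 : ∑ l ∈ s ∪ t, G.P l y = ∑ l ∈ t, G.P l y :=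
        (Finset.sum_subset Finset.subset_union_right (fun l _ hl => ht0 l hl)).symm
      simp only [map_add, Finset.sum_add_distrib]
      rw [h1, h2, ← hs, ← ht]
  · intro l x hx
    refine ⟨{l}, fun m hm => ?_, ?_⟩
    · rw [Finset.mem_singleton] at hm
      rw [← hx, G.orth m l hm]
    · rw [Finset.sum_singleton, hx]

theorem eq_zero_of_forall {x : V} (h : ∀ l, G.P l x = 0) : x = 0 := by
  obtain ⟨s, -, hs⟩ := G.exists_finset x
  rw [hs]
  exact Finset.sum_eq_zero fun l _ => h l

theorem finite_support (x : V) : (Function.support fun l => G.P l x).Finite := by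
  obtain ⟨s, hs0, -⟩ := G.exists_finset x
  refine s.finite_toSet.subset fun l hl => ?_
  by_contra h
  exact hl (hs0 l h)

theorem finsum_eq (x : V) : ∑ᶠ l, G.P l x = x := by
  obtain ⟨s, hs0, hs⟩ := G.exists_finset x
  rw [finsum_eq_sum_of_support_subset _ (s := s) (fun l hl => by
    by_contra h
    exact hl (hs0 l h))]
  exact hs.symm

/-- a subspace stable under the projectors -/
def Stable (A : Submodule k V) : Prop := ∀ l x, x ∈ A → G.P l x ∈ A

/-- averaging a linear map over the grading -/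
noncomputable def avg (f : V →ₗ[k] V) : V →ₗ[k] V where
  toFun x := ∑ᶠ l, G.P l (f (G.P l x))
  map_add' x y := by
    have hx : (Function.support fun l => G.P l (f (G.P l x))).Finite :=
      (G.finite_support x).subset fun l hl => by
        intro h
        apply hl
        show G.P l (f (G.P l x)) = 0
        rw [show G.P l x = 0 from h, map_zero, map_zero]
    have hy : (Function.support fun l => G.P l (f (G.P l y))).Finite :=
      (G.finite_support y).subset fun l hl => by
        intro h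
        apply hl
        show G.P l (f (G.P l y)) = 0
        rw [show G.P l y = 0 from h, map_zero, map_zero]
    rw [← finsum_add_distrib hx hy]
    congr 1
    ext l
    rw [map_add, map_add, map_add]
  map_smul' c x := by
    rw [RingHom.id_apply, smul_finsum]
    congr 1
    ext l
    rw [map_smul, map_smul, map_smul]

theorem avg_apply (f : V →ₗ[k] V) (x : V) : G.avg f x = ∑ᶠ l, G.P l (f (G.P l x)) := rfl

theorem avg_hom (f : V →ₗ[k] V) {l : Λ} {x : V} (hx : G.P l x = x) :
    G.avg f x = G.P l (f x) := by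
  rw [avg_apply, finsum_eq_single _ l, hx]
  intro m hm
  rw [← hx, G.orth m l hm, map_zero, map_zero]

theorem avg_comm (f : V →ₗ[k] V) (l : Λ) (x : V) : G.avg f (G.P l x) = G.P l (G.avg f x) := by
  rw [G.avg_hom f (G.same l x), avg_apply]
  have hfin : (Function.support fun m => G.P m (f (G.P m x))).Finite :=
    (G.finite_support x).subset fun m hm => by
      intro h
      apply hm
      show G.P m (f (G.P m x)) = 0
      rw [show G.P m x = 0 from h, map_zero, map_zero]
  rw [map_finsum _ hfin, finsum_eq_single _ l, G.same]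
  intro m hm
  exact G.orth l m hm.symm _

/-- a graded projector onto a stable subspace -/
theorem exists_projector (A : Submodule k V) (hA : G.Stable A) :
    ∃ p : V →ₗ[k] V, (∀ x, p x ∈ A) ∧ (∀ x, x ∈ A → p x = x) ∧
      ∀ l x, p (G.P l x) = G.P l (p x) := by
  obtain ⟨C, hC⟩ := Submodule.exists_isCompl A
  let p₀ : V →ₗ[k] V := A.subtype ∘ₗ Submodule.projectionOnto A C hC
  have hp₀A : ∀ x, p₀ x ∈ A := fun x => (Submodule.projectionOnto A C hC x).2
  have hp₀id : ∀ x, x ∈ A → p₀ x = x := fun x hx => by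
    show ((Submodule.projectionOnto A C hC x : A) : V) = x
    have := Submodule.projectionOnto_apply_left hC ⟨x, hx⟩
    exact congrArg Subtype.val this
  refine ⟨G.avg p₀, fun x => ?_, fun x hx => ?_, G.avg_comm p₀⟩
  · rw [avg_apply]
    exact finsum_induction (· ∈ A) A.zero_mem (fun _ _ => A.add_mem)
      (fun l => hA l _ (hp₀A _))
  · rw [avg_apply]
    have : ∀ l, G.P l (p₀ (G.P l x)) = G.P l x := fun l => by
      rw [hp₀id _ (hA l x hx), G.same]
    simp only [this]
    exact G.finsum_eq x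

end ProjGr

/-- graded Hodge data for a differential of degree `θ` -/
structure GHodge (θ : Λ → Λ) (D : V →ₗ[k] V) where
  π : V →ₗ[k] V
  s : V →ₗ[k] V
  ds_sd : ∀ x, D (s x) + s (D x) = x - π x
  πD : ∀ x, π (D x) = 0
  Dπ : ∀ x, D (π x) = 0
  ππ : ∀ x, π (π x) = π x
  πP : ∀ l x, π (G.P l x) = G.P l (π x)
  sP : ∀ l x, s (G.P (θ l) x) = G.P l (s x)
  sP0 : ∀ m, m ∉ Set.range θ → ∀ x, s (G.P m x) = 0

theorem exists_gHodge (θ : Λ → Λ) (D : V →ₗ[k] V)
    (hDD : ∀ x, D (D x) = 0) (hD : ∀ l x, D (G.P l x) = G.P (θ l) (D x))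
    (hD0 : ∀ m, m ∉ Set.range θ → ∀ x, G.P m (D x) = 0) : Nonempty (GHodge G θ D) := by
  classical
  have hZ : G.Stable (LinearMap.ker D) := fun l x hx => by
    rw [LinearMap.mem_ker] at hx ⊢
    rw [hD, hx, map_zero]
  have hB : G.Stable (LinearMap.range D) := by
    rintro m _ ⟨x, rfl⟩
    by_cases hm : m ∈ Set.range θ
    · obtain ⟨l, rfl⟩ := hm
      exact ⟨G.P l x, hD l x⟩
    · rw [hD0 m hm]
      exact Submodule.zero_mem _
  obtain ⟨pZ, hpZmem, hpZid, hpZP⟩ := G.exists_projector _ hZ
  obtain ⟨q, hqmem, hqid, hqP⟩ := G.exists_projector _ hB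
  obtain ⟨g, hg⟩ := LinearMap.exists_rightInverse_of_surjective D.rangeRestrict
    (LinearMap.range_eq_top.mpr (LinearMap.surjective_rangeRestrict D))
  have hDg : ∀ b : LinearMap.range D, D (g b) = b := fun b => by
    have := congrArg (fun f => ((f b : LinearMap.range D) : V)) hg
    exact this
  have hDpZ : ∀ x, D (pZ x) = 0 := fun x => LinearMap.mem_ker.mp (hpZmem x)
  have hpZD : ∀ x, pZ (D x) = D x := fun x => hpZid _ (LinearMap.mem_ker.mpr (hDD x))
  have hqD : ∀ x, q (D x) = D x := fun x => hqid _ ⟨x, rfl⟩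
  have hDq : ∀ x, D (q x) = 0 := fun x => by
    obtain ⟨y, hy⟩ := hqmem x
    rw [← hy, hDD]
  have hpZq : ∀ x, pZ (q x) = q x := fun x => by
    obtain ⟨y, hy⟩ := hqmem x
    rw [← hy, hpZD]
  -- the projector onto the boundaries killing a complement of the cycles
  let pB : V →ₗ[k] V := q ∘ₗ pZ
  let pB' : V →ₗ[k] LinearMap.range D := LinearMap.codRestrict _ pB (fun x => hqmem _)
  let t : LinearMap.range D →ₗ[k] V := (LinearMap.id - pZ) ∘ₗ g
  have ht : ∀ (x : V) (h : D x ∈ LinearMap.range D), t ⟨D x, h⟩ = x - pZ x := fun x h => by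
    show g ⟨D x, h⟩ - pZ (g ⟨D x, h⟩) = x - pZ x
    have h1 : g ⟨D x, h⟩ - x ∈ LinearMap.ker D := by
      rw [LinearMap.mem_ker, map_sub, hDg]
      exact sub_self _
    have h2 := hpZid _ h1
    rw [map_sub] at h2
    rw [sub_eq_sub_iff_add_eq_add]
    rw [sub_eq_iff_eq_add] at h2
    rw [h2]
    abel
  have hDt : ∀ b : LinearMap.range D, D (t b) = b := fun b => by
    show D (g b - pZ (g b)) = b
    rw [map_sub, hDg, hDpZ, sub_zero]
  refine ⟨{ π := pZ - pB
            s := t ∘ₗ pB'
            ds_sd := fun x => ?_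
            πD := fun x => ?_
            Dπ := fun x => ?_
            ππ := fun x => ?_
            πP := fun l x => ?_
            sP := fun l x => ?_
            sP0 := fun m hm x => ?_ }⟩
  · show D (t (pB' x)) + t (pB' (D x)) = x - (pZ x - q (pZ x))
    have h1 : pB' (D x) = ⟨D x, ⟨x, rfl⟩⟩ := Subtype.ext (by
      show q (pZ (D x)) = D x
      rw [hpZD, hqD])
    rw [hDt, h1, ht]
    show q (pZ x) + (x - pZ x) = x - (pZ x - q (pZ x))
    abel
  · show pZ (D x) - q (pZ (D x)) = 0
    rw [hpZD, hqD, sub_self]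
  · show D (pZ x - q (pZ x)) = 0
    rw [map_sub, hDpZ, hDq, sub_zero]
  · show pZ (pZ x - q (pZ x)) - q (pZ (pZ x - q (pZ x))) = pZ x - q (pZ x)
    have h1 : pZ (pZ x) = pZ x := hpZid _ (hpZmem x)
    have h2 : q (q (pZ x)) = q (pZ x) := hqid _ (hqmem _)
    rw [map_sub, h1, hpZq, map_sub, h2, sub_self, sub_zero]
  · show pZ (G.P l x) - q (pZ (G.P l x)) = G.P l (pZ x - q (pZ x))
    rw [hpZP, hqP, map_sub]
  · show t (pB' (G.P (θ l) x)) = G.P l (t (pB' x))
    obtain ⟨w, hw⟩ := hqmem (pZ x)
    have h1 : pB' x = ⟨D w, ⟨w, rfl⟩⟩ := Subtype.ext hw.symm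
    have h2 : pB' (G.P (θ l) x) = ⟨D (G.P l w), ⟨_, rfl⟩⟩ := Subtype.ext (by
      show q (pZ (G.P (θ l) x)) = D (G.P l w)
      rw [hpZP, hqP, ← hw, hD])
    rw [h1, h2, ht, ht, map_sub, hpZP]
  · show t (pB' (G.P m x)) = 0
    have h2 : pB' (G.P m x) = 0 := Subtype.ext (by
      show q (pZ (G.P m x)) = 0
      obtain ⟨w, hw⟩ := hqmem (pZ x)
      rw [hpZP, hqP, ← hw, hD0 m hm])
    rw [h2, map_zero]

end PG

end Groth.Agent.Lib.Helper87.Kun
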