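import Groth.Agent.Lib.Helper87.Kun2

/-!
# Additive maps out of the cohomology of a complex of graded modules (helper87)
-/

set_option autoImplicit false
universe u

namespace Groth.Agent.Lib.Helper87.Kun

open DirectSum GrLC Groth.Agent.Lib.Helper39 Groth.Agent.Lib.Helper39.GrLes
  Groth.Agent.Lib.Helper39.Ver Groth.Agent.Lib.Helper39.GrTop Groth.Agent.Lib.Helper39.GrKoszul

section
variable {ι : Type} [AddCommGroup ι] [DecidableEq ι]
  {R : Type u} [CommRing R] {𝒜 : ι → AddSubgroup R} [GradedRing 𝒜]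

namespace CoCx
variable (C : CoCx 𝒜) (n : ℕ) {G : Type*} [AddCommGroup G]

/-- an additive map on the terms killing the coboundaries descends to the cohomology -/
noncomputable def hqLift (f : (C.K (n + 1)).carrier →+ G) (hf : ∀ w, f (C.d n w) = 0) :
    (C.Hq n).carrier →+ G :=
  QuotientAddGroup.lift (C.BZ n).toAddSubgroup (f.comp (C.zIncl (n + 1)).toAddMonoidHom)
    (by
      intro z hz
      obtain ⟨w, hw⟩ : C.zIncl (n + 1) z ∈ LinearMap.range (C.d n) := hz
      show f (C.zIncl (n + 1) z) = 0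
      rw [← hw, hf])

theorem hqLift_toHq (f : (C.K (n + 1)).carrier →+ G) (hf : ∀ w, f (C.d n w) = 0)
    (z : (C.Z (n + 1)).carrier) : C.hqLift n f hf (C.toHq n z) = f (C.zIncl (n + 1) z) := rfl

theorem toHq_surjective : Function.Surjective (C.toHq n) := Submodule.mkQ_surjective _

theorem toHq_eq_zero_iff (z : (C.Z (n + 1)).carrier) :
    C.toHq n z = 0 ↔ C.zIncl (n + 1) z ∈ LinearMap.range (C.d n) := by
  show (C.BZ n).mkQ z = 0 ↔ _
  rw [Submodule.mkQ_apply, Submodule.Quotient.mk_eq_zero]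
  rfl

theorem mem_Hq_gr_iff (e : ι) (x : (C.Hq n).carrier) :
    x ∈ (C.Hq n).gr e ↔ ∃ z : (C.Z (n + 1)).carrier,
      C.zIncl (n + 1) z ∈ (C.K (n + 1)).gr e ∧ C.toHq n z = x := Iff.rfl

end CoCx
end

end Groth.Agent.Lib.Helper87.Kun
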