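import Groth.Agent.Lib.Helper87.Kun17
import Groth.Agent.Lib.Helper87.Kun20

/-!
# Cohomology realizations of packaged complexes and the one-bidegree Künneth map (helper87)

`CohReal CX i ℋ`: a `k`-linear map `cls : X → H` computing the `i`-th cohomology of the packaged
complex `CX` (it factors through the harmonic projection and the class map).  For two such
realizations the map `cls ⊗ cls` on `X ⊗ Y` kills total coboundaries, is `R ⊗ S`-linear on total
cocycles, and (if only one bidegree is harmonic in the given total degree) detects total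
coboundaries.
-/

set_option autoImplicit false
universe u

namespace Groth.Agent.Lib.Helper87.Kun

open DirectSum TensorProduct GrLC
open Groth.Agent.Lib.Helper99 Groth.Agent.Lib.Helper39 Groth.Agent.Lib.Helper39.GrBridge
  Groth.Agent.Lib.Helper39.GrKoszul Groth.Agent.Lib.Helper87.SegOne Groth.Agent.Lib.Helper60

section CxLemmas

variable {k : Type u} [Field k] {R : Type u} [CommRing R] [Algebra k R]
  {𝒜 : ℤ → Submodule k R} [GradedAlgebra 𝒜]
  {X : Type u} [AddCommGroup X] [Module R X] [Module k X] [IsScalarTower k R X]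
  {𝒳 : ℤ → AddSubgroup X} [DirectSum.Decomposition 𝒳] [SetLike.GradedSMul 𝒜 𝒳]
  (CX : CxData 𝒜 𝒳)

theorem CxData.c_P_ne {i : ℕ} {l : ℕ × ℤ} (h : l.1 ≠ i) (x : X) : CX.c i (CX.gr.P l x) = 0 := by
  rw [CX.gr_P]
  exact CX.c_orth i l.1 (Ne.symm h) _

theorem CxData.c_P_same (e : ℤ) (i : ℕ) (x : X) : CX.c i (CX.gr.P (i, e) x) = CX.gr.P (i, e) x :=
  CX.c_P (i, e) x

/-- the harmonic projection commutes with the projections onto the terms -/
theorem CxData.π_c (i : ℕ) (x : X) : CX.hodge.π (CX.c i x) = CX.c i (CX.hodge.π x) := by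
  refine CX.gr.induction (motive := fun x => CX.hodge.π (CX.c i x) = CX.c i (CX.hodge.π x))
    (by rw [map_zero, map_zero, map_zero]) (fun x y hx hy => by
      rw [map_add, map_add, hx, hy, map_add, map_add]) (fun l x hx => ?_) x
  rw [← hx]
  by_cases h : l.1 = i
  · obtain ⟨j, e⟩ := l
    simp only at h
    subst h
    rw [CX.c_P_same, CX.hodge.πP, CX.c_P_same]
  · rw [CX.c_P_ne h, map_zero, CX.hodge.πP, CX.c_P_ne h]

end CxLemmas

section Real

variable {k : Type u} [Field k] {R : Type u} [CommRing R] [Algebra k R]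
  {𝒜 : ℤ → Submodule k R} [GradedAlgebra 𝒜]
  {X : Type u} [AddCommGroup X] [Module R X] [Module k X] [IsScalarTower k R X]
  {𝒳 : ℤ → AddSubgroup X} [DirectSum.Decomposition 𝒳] [SetLike.GradedSMul 𝒜 𝒳]

/-- a realization of the `i`-th cohomology of a packaged complex -/
structure CohReal (CX : CxData 𝒜 𝒳) (i : ℕ) {H : Type u} [AddCommGroup H] [Module R H]
    [Module k H] (ℋ : ℤ → AddSubgroup H) where
  cls : X →ₗ[k] H
  cls_D : ∀ w, cls (CX.D w) = 0
  cls_π : ∀ x, cls (CX.hodge.π x) = cls x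
  cls_c : ∀ x, cls (CX.c i x) = cls x
  cls_smul : ∀ (r : R) (x : X), CX.D x = 0 → cls (r • x) = r • cls x
  cls_inj : ∀ x, CX.hodge.π x = x → CX.c i x = x → cls x = 0 → x = 0
  cls_mem : ∀ (e : ℤ) (x : X), cls (CX.gr.P (i, e) x) ∈ ℋ e
  cls_surj : ∀ (e : ℤ) (h : H), h ∈ ℋ e → ∃ x, CX.gr.P (i, e) x = x ∧ CX.D x = 0 ∧ cls x = h

variable {CX : CxData 𝒜 𝒳} {i : ℕ} {H : Type u} [AddCommGroup H] [Module R H]
    [Module k H] {ℋ : ℤ → AddSubgroup H} (RX : CohReal CX i ℋ)

theorem CohReal.cls_P_ne {l : ℕ × ℤ} (h : l.1 ≠ i) (x : X) : RX.cls (CX.gr.P l x) = 0 := by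
  rw [← RX.cls_c, CX.c_P_ne h, map_zero]

/-- the harmonic projector of degree `i` -/
noncomputable def CohReal.p (_RX : CohReal CX i ℋ) : X →ₗ[k] X :=
  CX.hodge.π ∘ₗ (CX.c i).restrictScalars k

theorem CohReal.p_apply (x : X) : RX.p x = CX.hodge.π (CX.c i x) := rfl

theorem CohReal.cls_p (x : X) : RX.cls (RX.p x) = RX.cls x := by
  rw [RX.p_apply, RX.cls_π, RX.cls_c]

/-- a `k`-linear retraction of `cls` on the harmonic part of degree `i` -/
theorem CohReal.exists_retraction :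
    ∃ ρ : H →ₗ[k] X, ∀ x, ρ (RX.cls (RX.p x)) = RX.p x := by
  let W : Submodule k X := LinearMap.range RX.p
  let f : W →ₗ[k] H := RX.cls ∘ₗ W.subtype
  have hf : LinearMap.ker f = ⊥ := by
    rw [LinearMap.ker_eq_bot']
    rintro ⟨_, w, rfl⟩ hw
    apply Subtype.ext
    show RX.p w = 0
    refine RX.cls_inj _ ?_ ?_ hw
    · rw [RX.p_apply, CX.hodge.ππ]
    · rw [RX.p_apply, ← CX.π_c, CX.cc]
  obtain ⟨g, hg⟩ := LinearMap.exists_leftInverse_of_injective f hf
  refine ⟨W.subtype ∘ₗ g, fun x => ?_⟩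
  have h1 := LinearMap.congr_fun hg ⟨RX.p x, x, rfl⟩
  show ((g (RX.cls (RX.p x)) : W) : X) = RX.p x
  exact congrArg Subtype.val h1

end Real

section Phi

variable {k : Type u} [Field k] {R S : Type u} [CommRing R] [CommRing S] [Algebra k R]
  [Algebra k S]
  {𝒜 : ℤ → Submodule k R} [GradedAlgebra 𝒜] {ℬ : ℤ → Submodule k S} [GradedAlgebra ℬ]
  {X Y : Type u} [AddCommGroup X] [Module R X] [Module k X] [IsScalarTower k R X]
  [AddCommGroup Y] [Module S Y] [Module k Y] [IsScalarTower k S Y]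
  {𝒳 : ℤ → AddSubgroup X} [DirectSum.Decomposition 𝒳] [SetLike.GradedSMul 𝒜 𝒳]
  {𝒴 : ℤ → AddSubgroup Y} [DirectSum.Decomposition 𝒴] [SetLike.GradedSMul ℬ 𝒴]
  {CX : CxData 𝒜 𝒳} {CY : CxData ℬ 𝒴} {i₀ j₀ : ℕ}
  {HX HY : Type u} [AddCommGroup HX] [Module R HX] [Module k HX] [IsScalarTower k R HX]
  [AddCommGroup HY] [Module S HY] [Module k HY] [IsScalarTower k S HY]
  {ℋX : ℤ → AddSubgroup HX} {ℋY : ℤ → AddSubgroup HY}
  (RX : CohReal CX i₀ ℋX) (RY : CohReal CY j₀ ℋY)

/-- the Künneth map on the level of the total complex -/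
noncomputable def bigPhi : X ⊗[k] Y →ₗ[k] HX ⊗[k] HY := TensorProduct.map RX.cls RY.cls

theorem bigPhi_tmul (x : X) (y : Y) : bigPhi RX RY (x ⊗ₜ[k] y) = RX.cls x ⊗ₜ[k] RY.cls y := rfl

theorem bigPhi_totDel (u : X ⊗[k] Y) : bigPhi RX RY (totDel CX CY u) = 0 := by
  induction u using TensorProduct.induction_on with
  | zero => rw [map_zero, map_zero]
  | tmul x y =>
    show bigPhi RX RY (totD CX.Dk CX.sign.σ CY.Dk (x ⊗ₜ[k] y)) = 0
    rw [totD_tmul, map_add, bigPhi_tmul, bigPhi_tmul]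
    have h1 : RX.cls (CX.Dk x) = 0 := RX.cls_D x
    have h2 : RY.cls (CY.Dk y) = 0 := RY.cls_D y
    rw [h1, h2, TensorProduct.zero_tmul, TensorProduct.tmul_zero, add_zero]
  | add u u' hu hu' => rw [map_add, map_add, hu, hu', add_zero]

theorem bigPhi_totπ (u : X ⊗[k] Y) : bigPhi RX RY ((totHodge CX CY).π u) = bigPhi RX RY u := by
  rw [totHodge_π_apply]
  induction u using TensorProduct.induction_on with
  | zero => rw [map_zero]
  | tmul x y => rw [TensorProduct.map_tmul, bigPhi_tmul, bigPhi_tmul, RX.cls_π, RY.cls_π]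
  | add u u' hu hu' => rw [map_add, map_add, hu, hu', map_add]

/-- `bigPhi` is `R ⊗ S`-linear on harmonic elements -/
theorem bigPhi_act_totπ (v : R ⊗[k] S) (u : X ⊗[k] Y) :
    bigPhi RX RY (GrSeg.act k R S X Y v ((totHodge CX CY).π u)) =
      GrSeg.act k R S HX HY v (bigPhi RX RY ((totHodge CX CY).π u)) := by
  rw [totHodge_π_apply]
  induction v using TensorProduct.induction_on with
  | zero => simp
  | tmul r₁ r₂ =>
    induction u using TensorProduct.induction_on with
    | zero => simp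
    | tmul x y =>
      rw [TensorProduct.map_tmul, GrSeg.act_tmul, bigPhi_tmul, bigPhi_tmul, GrSeg.act_tmul,
        RX.cls_smul r₁ _ (CX.hodge.Dπ x), RY.cls_smul r₂ _ (CY.hodge.Dπ y)]
    | add u u' hu hu' => rw [map_add, map_add, map_add, hu, hu', map_add, map_add]
  | add v v' hv hv' =>
    rw [map_add, LinearMap.add_apply, map_add, hv, hv', map_add, LinearMap.add_apply]

/-- `bigPhi` is `R ⊗ S`-linear on total cocycles -/
theorem bigPhi_act (v : R ⊗[k] S) {u : X ⊗[k] Y} (hu : totDel CX CY u = 0) :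
    bigPhi RX RY (GrSeg.act k R S X Y v u) = GrSeg.act k R S HX HY v (bigPhi RX RY u) := by
  have h1 := (totHodge CX CY).decomp hu
  have h2 : GrSeg.act k R S X Y v u = GrSeg.act k R S X Y v ((totHodge CX CY).π u) +
      totDel CX CY (GrSeg.act k R S X Y v ((totHodge CX CY).s u)) := by
    rw [totDel_act, ← map_add, ← h1]
  rw [h2, map_add, bigPhi_totDel, add_zero, bigPhi_act_totπ, bigPhi_totπ]

variable {m : ℕ} (hm : m = i₀ + j₀)
  (hvan : ∀ i j : ℕ, i + j = m → ¬ (i = i₀ ∧ j = j₀) →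
    (∀ x, CX.hodge.π (CX.c i x) = 0) ∨ (∀ y, CY.hodge.π (CY.c j y) = 0))

include hm hvan in
/-- in total degree `m` only the bidegree `(i₀, j₀)` is harmonic -/
theorem totπ_eq_map_p {u : X ⊗[k] Y} (hu : u ∈ (totGr CX CY).part (Dall m)) :
    (totHodge CX CY).π u = TensorProduct.map RX.p RY.p u := by
  rw [(totGr CX CY).mem_part_iff] at hu
  rw [← hu]
  have key : (totGr CX CY).sel (Dall m) u ∈
      LinearMap.eqLocus (totHodge CX CY).π (TensorProduct.map RX.p RY.p) := by
    refine (totGr CX CY).sel_mem _ _ (fun q hq w => ?_) u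
    obtain ⟨⟨i, d⟩, ⟨j, d'⟩⟩ := q
    have hll : i + j = m := hq.1
    rw [LinearMap.mem_eqLocus, totHodge_π_apply]
    induction w using TensorProduct.induction_on with
    | zero => simp
    | tmul a b =>
      show TensorProduct.map CX.hodge.π CY.hodge.π
        (TensorProduct.map (CX.gr.P (i, d)) (CY.gr.P (j, d')) (a ⊗ₜ[k] b)) =
        TensorProduct.map RX.p RY.p
          (TensorProduct.map (CX.gr.P (i, d)) (CY.gr.P (j, d')) (a ⊗ₜ[k] b))
      rw [TensorProduct.map_tmul, TensorProduct.map_tmul, TensorProduct.map_tmul, RX.p_apply,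
        RY.p_apply]
      by_cases h : i = i₀ ∧ j = j₀
      · obtain ⟨rfl, rfl⟩ := h
        rw [CX.c_P_same, CY.c_P_same]
      · rcases hvan i j hll h with h0 | h0
        · have e1 : CX.hodge.π (CX.gr.P (i, d) a) = 0 := by
            rw [← CX.c_P (i, d) a]
            exact h0 _
          have e2 : CX.hodge.π (CX.c i₀ (CX.gr.P (i, d) a)) = 0 := by
            rw [CX.π_c, e1, map_zero]
          rw [e1, e2, TensorProduct.zero_tmul, TensorProduct.zero_tmul]
        · have e1 : CY.hodge.π (CY.gr.P (j, d') b) = 0 := by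
            rw [← CY.c_P (j, d') b]
            exact h0 _
          have e2 : CY.hodge.π (CY.c j₀ (CY.gr.P (j, d') b)) = 0 := by
            rw [CY.π_c, e1, map_zero]
          rw [e1, e2, TensorProduct.tmul_zero, TensorProduct.tmul_zero]
    | add w w' hw hw' => rw [map_add, map_add, map_add, hw, hw']
  exact key

include hm hvan in
/-- `bigPhi` detects the harmonic part in total degree `m` -/
theorem totπ_eq_zero_of_bigPhi {u : X ⊗[k] Y} (hu : u ∈ (totGr CX CY).part (Dall m))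
    (h : bigPhi RX RY u = 0) : (totHodge CX CY).π u = 0 := by
  obtain ⟨ρX, hρX⟩ := RX.exists_retraction
  obtain ⟨ρY, hρY⟩ := RY.exists_retraction
  have h1 : bigPhi RX RY (TensorProduct.map RX.p RY.p u) = 0 := by
    rw [← totπ_eq_map_p RX RY hm hvan hu, bigPhi_totπ, h]
  have h2 : ∀ w : X ⊗[k] Y, TensorProduct.map ρX ρY
      (bigPhi RX RY (TensorProduct.map RX.p RY.p w)) = TensorProduct.map RX.p RY.p w := by
    intro w
    induction w using TensorProduct.induction_on with
    | zero => simp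
    | tmul a b =>
      rw [TensorProduct.map_tmul, bigPhi_tmul, TensorProduct.map_tmul, hρX, hρY]
    | add w w' hw hw' => simp only [map_add, hw, hw']
  rw [totπ_eq_map_p RX RY hm hvan hu, ← h2 u, h1, map_zero]

include hm in
/-- the image of `bigPhi` on the part of internal degree `e` -/
theorem bigPhi_mem_piece (e : ℤ) {u : X ⊗[k] Y} (hu : u ∈ (totGr CX CY).part (Dne m e)) :
    bigPhi RX RY u ∈ GrSeg.segrePiece k ℋX ℋY e := by
  rw [(totGr CX CY).mem_part_iff] at hu
  rw [← hu]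
  have key : (totGr CX CY).sel (Dne m e) u ∈
      (GrSeg.segrePiece k ℋX ℋY e).comap (bigPhi RX RY) := by
    refine (totGr CX CY).sel_mem _ _ (fun q hq w => ?_) u
    obtain ⟨⟨i, d⟩, ⟨j, d'⟩⟩ := q
    have hd : d = e := hq.2.1
    have hd' : d' = e := hq.2.2
    rw [hd, hd', Submodule.mem_comap]
    induction w using TensorProduct.induction_on with
    | zero => rw [map_zero, map_zero]; exact Submodule.zero_mem _
    | tmul a b =>
      show bigPhi RX RY (TensorProduct.map (CX.gr.P (i, e)) (CY.gr.P (j, e)) (a ⊗ₜ[k] b)) ∈ _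
      rw [TensorProduct.map_tmul, bigPhi_tmul]
      by_cases h : i = i₀ ∧ j = j₀
      · obtain ⟨rfl, rfl⟩ := h
        exact Submodule.subset_span ⟨_, RX.cls_mem e a, _, RY.cls_mem e b, rfl⟩
      · rw [not_and_or] at h
        rcases h with h | h
        · rw [RX.cls_P_ne (l := (i, e)) h, TensorProduct.zero_tmul]
          exact Submodule.zero_mem _
        · rw [RY.cls_P_ne (l := (j, e)) h, TensorProduct.tmul_zero]
          exact Submodule.zero_mem _
    | add w w' hw hw' => rw [map_add, map_add]; exact Submodule.add_mem _ hw hw'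
  exact key

include hm in
/-- elementary tensors of classes are reached -/
theorem exists_bigPhi_eq (e : ℤ) {h : HX} (hh : h ∈ ℋX e) {h' : HY} (hh' : h' ∈ ℋY e) :
    ∃ u ∈ (totGr CX CY).part (Dne m e), totDel CX CY u = 0 ∧ bigPhi RX RY u = h ⊗ₜ[k] h' := by
  obtain ⟨x, hx1, hx2, hx3⟩ := RX.cls_surj e h hh
  obtain ⟨y, hy1, hy2, hy3⟩ := RY.cls_surj e h' hh'
  refine ⟨x ⊗ₜ[k] y, ?_, ?_, ?_⟩
  · refine (totGr CX CY).hom_mem_part (l := ((i₀, e), (j₀, e)))
      (show (((i₀, e), (j₀, e)) : Idx) ∈ Dne m e from ⟨hm.symm, rfl, rfl⟩) ?_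
    show TensorProduct.map (CX.gr.P (i₀, e)) (CY.gr.P (j₀, e)) (x ⊗ₜ[k] y) = _
    rw [TensorProduct.map_tmul, hx1, hy1]
  · show totD CX.Dk CX.sign.σ CY.Dk (x ⊗ₜ[k] y) = 0
    rw [totD_tmul]
    have h1 : CX.Dk x = 0 := hx2
    have h2 : CY.Dk y = 0 := hy2
    rw [h1, h2, TensorProduct.zero_tmul, TensorProduct.tmul_zero, add_zero]
  · rw [bigPhi_tmul, hx3, hy3]

end Phi

end Groth.Agent.Lib.Helper87.Kun
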