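import Groth.Agent.Lib.Helper87.Kun41
import Groth.Agent.Lib.Helper87.Kun40

/-!
# The one-bidegree Künneth map on the cohomology of the Segre total complex (helper87)

If in total degree `n + 1 = i₀ + j₀` only the bidegree `(i₀, j₀)` is harmonic, the cohomology
`H^{n+1}` of the Segre total complex is the Segre product of `H^{i₀}(X)` and `H^{j₀}(Y)`
(`phiH_injective`, `phiH_smul`, `phiH_image`).
-/

set_option autoImplicit false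
universe u

namespace Groth.Agent.Lib.Helper87.Kun

open DirectSum TensorProduct GrLC
open Groth.Agent.Lib.Helper99 Groth.Agent.Lib.Helper39 Groth.Agent.Lib.Helper39.GrBridge
  Groth.Agent.Lib.Helper39.GrKoszul Groth.Agent.Lib.Helper87.SegOne Groth.Agent.Lib.Helper60

section SegSingle

variable {k : Type u} [Field k] {R S T : Type u} [CommRing R] [CommRing S] [CommRing T]
  [Algebra k R] [Algebra k S] [Algebra k T]
  {𝒜 : ℤ → Submodule k R} [GradedAlgebra 𝒜] {ℬ : ℤ → Submodule k S} [GradedAlgebra ℬ]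
  (𝒯 : ℤ → Submodule k T) [GradedAlgebra 𝒯]
  (ψ : T →ₐ[k] R ⊗[k] S) (hT : GrSeg.IsSegreRing 𝒜 ℬ 𝒯 ψ)
  {X Y : Type u} [AddCommGroup X] [Module R X] [Module k X] [IsScalarTower k R X]
  [AddCommGroup Y] [Module S Y] [Module k Y] [IsScalarTower k S Y]
  {𝒳 : ℤ → AddSubgroup X} [DirectSum.Decomposition 𝒳] [SetLike.GradedSMul 𝒜 𝒳]
  {𝒴 : ℤ → AddSubgroup Y} [DirectSum.Decomposition 𝒴] [SetLike.GradedSMul ℬ 𝒴]
  {CX : CxData 𝒜 𝒳} {CY : CxData ℬ 𝒴} {i₀ j₀ : ℕ}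
  {HX HY : Type u} [AddCommGroup HX] [Module R HX] [Module k HX] [IsScalarTower k R HX]
  [AddCommGroup HY] [Module S HY] [Module k HY] [IsScalarTower k S HY]
  {ℋX : ℤ → AddSubgroup HX} {ℋY : ℤ → AddSubgroup HY}
  (RX : CohReal CX i₀ ℋX) (RY : CohReal CY j₀ ℋY)

attribute [local instance] toSubGradedRing toSubDecomposition toSubGradedSMul

/-- the Künneth map on the terms of the Segre total complex -/
noncomputable def phiK (n : ℕ) : (segK 𝒯 ψ hT CX CY n).carrier →+ HX ⊗[k] HY :=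
  (bigPhi RX RY).toAddMonoidHom.comp (kVHom 𝒯 ψ hT CX CY n)

theorem phiK_apply (n : ℕ) (z : (segK 𝒯 ψ hT CX CY n).carrier) :
    phiK 𝒯 ψ hT RX RY n z = bigPhi RX RY (kV 𝒯 ψ hT CX CY n z) := rfl

theorem phiK_segDiff (n : ℕ) (w : (segK 𝒯 ψ hT CX CY n).carrier) :
    phiK 𝒯 ψ hT RX RY (n + 1) ((segCx 𝒯 ψ hT CX CY).d n w) = 0 := by
  rw [phiK_apply]
  show bigPhi RX RY (kV 𝒯 ψ hT CX CY (n + 1) (segDiff 𝒯 ψ hT CX CY n w)) = 0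
  rw [kV_segDiff, bigPhi_totDel]

/-- the Künneth map on the cohomology of the Segre total complex -/
noncomputable def phiH (n : ℕ) : ((segCx 𝒯 ψ hT CX CY).Hq n).carrier →+ HX ⊗[k] HY :=
  (segCx 𝒯 ψ hT CX CY).hqLift n (phiK 𝒯 ψ hT RX RY (n + 1)) (phiK_segDiff 𝒯 ψ hT RX RY n)

theorem phiH_toHq (n : ℕ) (z : ((segCx 𝒯 ψ hT CX CY).Z (n + 1)).carrier) :
    phiH 𝒯 ψ hT RX RY n ((segCx 𝒯 ψ hT CX CY).toHq n z) =
      bigPhi RX RY (kV 𝒯 ψ hT CX CY (n + 1) ((segCx 𝒯 ψ hT CX CY).zIncl (n + 1) z)) := rfl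

theorem totDel_kV_zIncl (n : ℕ) (z : ((segCx 𝒯 ψ hT CX CY).Z (n + 1)).carrier) :
    totDel CX CY (kV 𝒯 ψ hT CX CY (n + 1) ((segCx 𝒯 ψ hT CX CY).zIncl (n + 1) z)) = 0 := by
  have h1 : segDiff 𝒯 ψ hT CX CY (n + 1) ((segCx 𝒯 ψ hT CX CY).zIncl (n + 1) z) = 0 := z.2
  rw [← kV_segDiff, h1, kV_zero]

theorem kV_zIncl_smul (n : ℕ) (t : T) (z : ((segCx 𝒯 ψ hT CX CY).Z (n + 1)).carrier) :
    kV 𝒯 ψ hT CX CY (n + 1) ((segCx 𝒯 ψ hT CX CY).zIncl (n + 1) (t • z)) =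
      GrSeg.act k R S X Y (ψ t)
        (kV 𝒯 ψ hT CX CY (n + 1) ((segCx 𝒯 ψ hT CX CY).zIncl (n + 1) z)) := rfl

/-- `T`-equivariance -/
theorem phiH_smul (n : ℕ) (t : T) (x : ((segCx 𝒯 ψ hT CX CY).Hq n).carrier) :
    phiH 𝒯 ψ hT RX RY n (t • x) = GrSeg.act k R S HX HY (ψ t) (phiH 𝒯 ψ hT RX RY n x) := by
  obtain ⟨z, rfl⟩ := (segCx 𝒯 ψ hT CX CY).toHq_surjective n x
  rw [← map_smul, phiH_toHq, phiH_toHq, kV_zIncl_smul,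
    bigPhi_act RX RY _ (totDel_kV_zIncl 𝒯 ψ hT n z)]

theorem phiH_injective (n : ℕ) (hn : n + 1 = i₀ + j₀)
    (hvan : ∀ i j : ℕ, i + j = n + 1 → ¬ (i = i₀ ∧ j = j₀) →
      (∀ x, CX.hodge.π (CX.c i x) = 0) ∨ (∀ y, CY.hodge.π (CY.c j y) = 0)) :
    Function.Injective (phiH 𝒯 ψ hT RX RY n) := by
  rw [injective_iff_map_eq_zero]
  intro x hx
  obtain ⟨z, rfl⟩ := (segCx 𝒯 ψ hT CX CY).toHq_surjective n x
  rw [phiH_toHq] at hx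
  rw [(segCx 𝒯 ψ hT CX CY).toHq_eq_zero_iff]
  set u := kV 𝒯 ψ hT CX CY (n + 1) ((segCx 𝒯 ψ hT CX CY).zIncl (n + 1) z) with hu
  have hu1 : u ∈ (totGr CX CY).part (Deq (n + 1)) := kV_mem 𝒯 ψ hT CX CY (n + 1) _
  have hu2 : u ∈ (totGr CX CY).part (Dall (n + 1)) :=
    (totGr CX CY).part_mono (fun q (hq : q ∈ Deq (n + 1)) => (⟨hq.1, trivial⟩ : q ∈ Dall (n + 1)))
      hu1
  have hd : totDel CX CY u = 0 := totDel_kV_zIncl 𝒯 ψ hT n z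
  have hπ : (totHodge CX CY).π u = 0 := totπ_eq_zero_of_bigPhi RX RY hn hvan hu2 hx
  have h1 := (totHodge CX CY).decomp hd
  rw [hπ, zero_add] at h1
  have hs : (totHodge CX CY).s u ∈ (totGr CX CY).part (Deq n) := by
    rw [(totGr CX CY).mem_part_iff] at hu1 ⊢
    rw [sel_tots, hu1]
  refine ⟨kMk 𝒯 ψ hT CX CY n _ hs, ?_⟩
  apply kV_injective 𝒯 ψ hT CX CY (n + 1)
  show kV 𝒯 ψ hT CX CY (n + 1) (segDiff 𝒯 ψ hT CX CY n (kMk 𝒯 ψ hT CX CY n _ hs)) = u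
  rw [kV_segDiff, kV_kMk]
  exact h1.symm

theorem phiH_mem (n : ℕ) (hn : n + 1 = i₀ + j₀) (e : ℤ)
    {x : ((segCx 𝒯 ψ hT CX CY).Hq n).carrier} (hx : x ∈ ((segCx 𝒯 ψ hT CX CY).Hq n).gr e) :
    phiH 𝒯 ψ hT RX RY n x ∈ GrSeg.segrePiece k ℋX ℋY e := by
  obtain ⟨z, hz, rfl⟩ := ((segCx 𝒯 ψ hT CX CY).mem_Hq_gr_iff n e x).mp hx
  rw [phiH_toHq]
  refine bigPhi_mem_piece RX RY hn e ?_
  exact (mem_part_Dne_iff CX CY (n + 1) e _).mpr ⟨kV_mem 𝒯 ψ hT CX CY (n + 1) _, hz⟩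

theorem phiH_algebraMap_smul (n : ℕ) (c : k) (x : ((segCx 𝒯 ψ hT CX CY).Hq n).carrier) :
    phiH 𝒯 ψ hT RX RY n (algebraMap k T c • x) = c • phiH 𝒯 ψ hT RX RY n x := by
  rw [phiH_smul, AlgHom.commutes, act_algebraMap]

theorem exists_phiH_eq (n : ℕ) (hn : n + 1 = i₀ + j₀) (e : ℤ) {v : HX ⊗[k] HY}
    (hv : v ∈ GrSeg.segrePiece k ℋX ℋY e) :
    ∃ x ∈ ((segCx 𝒯 ψ hT CX CY).Hq n).gr e, phiH 𝒯 ψ hT RX RY n x = v := by
  induction hv using Submodule.span_induction with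
  | mem v hv =>
    obtain ⟨h, hh, h', hh', rfl⟩ := hv
    obtain ⟨u, hu1, hu2, hu3⟩ := exists_bigPhi_eq RX RY hn e hh hh'
    obtain ⟨hu4, hu5⟩ := (mem_part_Dne_iff CX CY (n + 1) e u).mp hu1
    have hz : segDiff 𝒯 ψ hT CX CY (n + 1) (kMk 𝒯 ψ hT CX CY (n + 1) u hu4) = 0 := by
      apply kV_injective 𝒯 ψ hT CX CY (n + 1 + 1)
      rw [kV_segDiff, kV_kMk, hu2, kV_zero]
    refine ⟨(segCx 𝒯 ψ hT CX CY).toHq n ⟨kMk 𝒯 ψ hT CX CY (n + 1) u hu4, hz⟩, ?_, ?_⟩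
    · exact ((segCx 𝒯 ψ hT CX CY).mem_Hq_gr_iff n e _).mpr ⟨_, hu5, rfl⟩
    · rw [phiH_toHq]
      exact hu3
  | zero => exact ⟨0, AddSubgroup.zero_mem _, map_zero _⟩
  | add v v' _ _ hv hv' =>
    obtain ⟨x, hx, rfl⟩ := hv
    obtain ⟨x', hx', rfl⟩ := hv'
    exact ⟨x + x', AddSubgroup.add_mem _ hx hx', map_add _ _ _⟩
  | smul c v _ hv =>
    obtain ⟨x, hx, rfl⟩ := hv
    refine ⟨algebraMap k T c • x, ?_, phiH_algebraMap_smul 𝒯 ψ hT RX RY n c x⟩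
    have h0 : algebraMap k T c ∈ toSub 𝒯 0 := kappaT_mem 𝒯 c
    have := SetLike.GradedSMul.smul_mem (A := toSub 𝒯)
      (B := ((segCx 𝒯 ψ hT CX CY).Hq n).gr) h0 hx
    rw [vadd_eq_add, zero_add] at this
    exact this

end SegSingle

end Groth.Agent.Lib.Helper87.Kun
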