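import Groth.Agent.Lib.Helper87.Kun41
import Groth.Agent.Lib.Helper87.Kun40
import Groth.Agent.Lib.Helper87.Kun13

/-!
# Cohomology realizations of the packaged direct-sum complex (helper87)

For a complex `C` of graded modules and a graded isomorphism `g : H ≅ H^{i+1}(C)`, the packaged
complex `bigCxData C` has a cohomology realization of degree `i + 1` with values in `H`.
-/

set_option autoImplicit false
universe u

namespace Groth.Agent.Lib.Helper87.Kun

open DirectSum TensorProduct GrLC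
open Groth.Agent.Lib.Helper99 Groth.Agent.Lib.Helper39 Groth.Agent.Lib.Helper39.GrBridge
  Groth.Agent.Lib.Helper39.GrKoszul Groth.Agent.Lib.Helper60

section BigReal

variable {k : Type u} [Field k] {R : Type u} [CommRing R] [Algebra k R]
  (𝒜 : ℤ → Submodule k R) [GradedAlgebra 𝒜]

attribute [local instance] toSubGradedRing toSubDecomposition toSubGradedSMul

variable (C : CoCx (toSub 𝒜))

theorem compK_bigD (j : ℕ) (y : BigK k C) :
    compK k C (j + 1) (bigD k C y) = C.d j (compK k C j y) := by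
  refine bigK_induction k C
    (motive := fun y => compK k C (j + 1) (bigD k C y) = C.d j (compK k C j y)) (by simp) ?_ ?_ y
  · intro j' x
    rw [bigD_lofK]
    by_cases h : j' = j
    · subst h
      rw [compK_lofK, compK_lofK]
    · rw [compK_lofK_ne k C (fun h' => h (Nat.succ_injective h')), compK_lofK_ne k C h, map_zero]
  · intro x y hx hy
    rw [map_add, map_add, hx, hy, map_add, map_add]

theorem compK_bigc (j : ℕ) (y : BigK k C) : compK k C j (bigc k C j y) = compK k C j y := by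
  show compK k C j (lofK k C j (compK k C j y)) = _
  rw [compK_lofK]

theorem smul_def_bigK (c : k) (y : BigK k C) : c • y = algebraMap k R c • y := rfl

/-- the component of a cocycle as a cocycle of the complex -/
noncomputable def zOf (i : ℕ) (y : BigK k C) (hy : bigD k C y = 0) : (C.Z (i + 1)).carrier :=
  ⟨compK k C (i + 1) y, by
    rw [LinearMap.mem_ker, ← compK_bigD, hy, map_zero]⟩

theorem zIncl_zOf (i : ℕ) (y : BigK k C) (hy : bigD k C y = 0) :
    C.zIncl (i + 1) (zOf 𝒜 C i y hy) = compK k C (i + 1) y := rfl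

theorem zOf_add (i : ℕ) (y y' : BigK k C) (hy : bigD k C y = 0) (hy' : bigD k C y' = 0)
    (hyy : bigD k C (y + y') = 0) :
    zOf 𝒜 C i (y + y') hyy = zOf 𝒜 C i y hy + zOf 𝒜 C i y' hy' :=
  Subtype.ext (map_add (compK k C (i + 1)) y y')

theorem zOf_smul (i : ℕ) (r : R) (y : BigK k C) (hy : bigD k C y = 0)
    (hry : bigD k C (r • y) = 0) : zOf 𝒜 C i (r • y) hry = r • zOf 𝒜 C i y hy :=
  Subtype.ext (map_smul (compK k C (i + 1)) r y)

theorem zOf_congr (i : ℕ) {y y' : BigK k C} (h : y = y') (hy : bigD k C y = 0)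
    (hy' : bigD k C y' = 0) : zOf 𝒜 C i y hy = zOf 𝒜 C i y' hy' := by
  subst h
  rfl

theorem toHq_eq_of_sub (i : ℕ) (z z' : (C.Z (i + 1)).carrier) (w : (C.K i).carrier)
    (h : C.zIncl (i + 1) z = C.zIncl (i + 1) z' + C.d i w) : C.toHq i z = C.toHq i z' := by
  rw [← sub_eq_zero, ← map_sub, C.toHq_eq_zero_iff]
  refine ⟨w, ?_⟩
  rw [map_sub, h, add_sub_cancel_left]

/-- a cocycle and its harmonic projection have the same class -/
theorem toHq_zOf_π (i : ℕ) (y : BigK k C) (hy : bigD k C y = 0) :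
    C.toHq i (zOf 𝒜 C i ((bigCxData (k := k) 𝒜 C).hodge.π y)
      ((bigCxData (k := k) 𝒜 C).hodge.Dπ y)) = C.toHq i (zOf 𝒜 C i y hy) := by
  symm
  refine toHq_eq_of_sub 𝒜 C i _ _ (compK k C i ((bigCxData (k := k) 𝒜 C).hodge.s y)) ?_
  rw [zIncl_zOf, zIncl_zOf, ← compK_bigD, ← map_add]
  congr 1
  exact (bigCxData (k := k) 𝒜 C).hodge.toHodge.decomp hy

variable {H : Type u} [AddCommGroup H] [Module R H] [Module k H] [IsScalarTower k R H]
  {ℋ : ℤ → AddSubgroup H}

/-- the class map of the realization -/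
noncomputable def bigCls (i : ℕ) (g : GrEquiv R ℋ (C.Hq i).gr) : BigK k C →ₗ[k] H where
  toFun x := g.e.symm (C.toHq i (zOf 𝒜 C i ((bigCxData (k := k) 𝒜 C).hodge.π x)
    ((bigCxData (k := k) 𝒜 C).hodge.Dπ x)))
  map_add' x y := by
    have hx : bigD k C ((bigCxData (k := k) 𝒜 C).hodge.π x) = 0 :=
      (bigCxData (k := k) 𝒜 C).hodge.Dπ x
    have hy : bigD k C ((bigCxData (k := k) 𝒜 C).hodge.π y) = 0 :=
      (bigCxData (k := k) 𝒜 C).hodge.Dπ y
    have hxy : bigD k C ((bigCxData (k := k) 𝒜 C).hodge.π x +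
        (bigCxData (k := k) 𝒜 C).hodge.π y) = 0 := by rw [map_add, hx, hy, add_zero]
    have h1 : zOf 𝒜 C i ((bigCxData (k := k) 𝒜 C).hodge.π (x + y))
        ((bigCxData (k := k) 𝒜 C).hodge.Dπ (x + y)) =
        zOf 𝒜 C i ((bigCxData (k := k) 𝒜 C).hodge.π x) hx +
          zOf 𝒜 C i ((bigCxData (k := k) 𝒜 C).hodge.π y) hy := by
      rw [← zOf_add 𝒜 C i _ _ hx hy hxy]
      exact zOf_congr 𝒜 C i (map_add _ x y) _ _
    rw [h1, map_add, map_add]
  map_smul' c x := by
    have hx : bigD k C ((bigCxData (k := k) 𝒜 C).hodge.π x) = 0 :=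
      (bigCxData (k := k) 𝒜 C).hodge.Dπ x
    have hcx : bigD k C (algebraMap k R c • (bigCxData (k := k) 𝒜 C).hodge.π x) = 0 := by
      rw [map_smul, hx, smul_zero]
    have hπ : (bigCxData (k := k) 𝒜 C).hodge.π (c • x) =
        algebraMap k R c • (bigCxData (k := k) 𝒜 C).hodge.π x := by
      rw [map_smul]
      rfl
    have h1 : zOf 𝒜 C i ((bigCxData (k := k) 𝒜 C).hodge.π (c • x))
        ((bigCxData (k := k) 𝒜 C).hodge.Dπ (c • x)) =
        algebraMap k R c • zOf 𝒜 C i ((bigCxData (k := k) 𝒜 C).hodge.π x) hx := by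
      rw [← zOf_smul 𝒜 C i _ _ hx hcx]
      exact zOf_congr 𝒜 C i hπ _ _
    rw [RingHom.id_apply, h1, map_smul, map_smul, algebraMap_smul]

theorem bigCls_apply (i : ℕ) (g : GrEquiv R ℋ (C.Hq i).gr) (x : BigK k C) :
    bigCls 𝒜 C i g x = g.e.symm (C.toHq i (zOf 𝒜 C i ((bigCxData (k := k) 𝒜 C).hodge.π x)
      ((bigCxData (k := k) 𝒜 C).hodge.Dπ x))) := rfl

theorem bigCls_of_cocycle (i : ℕ) (g : GrEquiv R ℋ (C.Hq i).gr) (x : BigK k C)
    (hx : bigD k C x = 0) :
    bigCls 𝒜 C i g x = g.e.symm (C.toHq i (zOf 𝒜 C i x hx)) := by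
  rw [bigCls_apply, toHq_zOf_π 𝒜 C i x hx]

/-- **the cohomology realization** -/
noncomputable def bigReal (i : ℕ) (g : GrEquiv R ℋ (C.Hq i).gr) :
    CohReal (bigCxData (k := k) 𝒜 C) (i + 1) ℋ where
  cls := bigCls 𝒜 C i g
  cls_D w := by
    rw [bigCls_apply]
    have h1 : zOf 𝒜 C i ((bigCxData (k := k) 𝒜 C).hodge.π ((bigCxData (k := k) 𝒜 C).D w))
        ((bigCxData (k := k) 𝒜 C).hodge.Dπ _) = 0 := by
      apply Subtype.ext
      show compK k C (i + 1) ((bigCxData (k := k) 𝒜 C).hodge.π ((bigCxData (k := k) 𝒜 C).D w)) = 0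
      have h2 : (bigCxData (k := k) 𝒜 C).hodge.π ((bigCxData (k := k) 𝒜 C).D w) = 0 :=
        (bigCxData (k := k) 𝒜 C).hodge.πD w
      rw [h2, map_zero]
    rw [h1, map_zero, map_zero]
  cls_π x := by
    rw [bigCls_apply, bigCls_apply]
    congr 2
    exact zOf_congr 𝒜 C i ((bigCxData (k := k) 𝒜 C).hodge.ππ x) _ _
  cls_c x := by
    rw [bigCls_apply, bigCls_apply]
    congr 2
    apply Subtype.ext
    show compK k C (i + 1) ((bigCxData (k := k) 𝒜 C).hodge.π
      ((bigCxData (k := k) 𝒜 C).c (i + 1) x)) =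
        compK k C (i + 1) ((bigCxData (k := k) 𝒜 C).hodge.π x)
    rw [(bigCxData (k := k) 𝒜 C).π_c, bigCxData_c, compK_bigc]
  cls_smul r x hx := by
    have hx' : bigD k C x = 0 := hx
    have hrx : bigD k C (r • x) = 0 := by rw [map_smul, hx', smul_zero]
    rw [bigCls_of_cocycle 𝒜 C i g x hx', bigCls_of_cocycle 𝒜 C i g (r • x) hrx,
      zOf_smul 𝒜 C i r x hx' hrx, map_smul, map_smul]
  cls_inj x hπ hc hx := by
    have hD : bigD k C x = 0 := by
      rw [← hπ]
      exact (bigCxData (k := k) 𝒜 C).hodge.Dπ x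
    rw [bigCls_of_cocycle 𝒜 C i g x hD] at hx
    have h1 : C.toHq i (zOf 𝒜 C i x hD) = 0 := by
      have := congrArg g.e hx
      rwa [LinearEquiv.apply_symm_apply, map_zero] at this
    rw [C.toHq_eq_zero_iff, zIncl_zOf] at h1
    obtain ⟨w, hw⟩ := h1
    have h2 : x = lofK k C (i + 1) (compK k C (i + 1) x) := eq_lofK_of_bigc 𝒜 C hc
    have h3 : x = (bigCxData (k := k) 𝒜 C).D (lofK k C i w) := by
      rw [bigCxData_D, bigD_lofK, hw]
      exact h2
    rw [← hπ, h3]
    exact (bigCxData (k := k) 𝒜 C).hodge.πD _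
  cls_mem e x := by
    rw [bigCls_apply]
    refine (g.symm.mem_iff e _).mp ?_
    rw [C.mem_Hq_gr_iff]
    refine ⟨_, ?_, rfl⟩
    rw [zIncl_zOf, (bigCxData (k := k) 𝒜 C).hodge.πP]
    exact compG_grHom C.K (i + 1) e _ ((bigCxData (k := k) 𝒜 C).P_mem (i + 1, e) _)
  cls_surj e h hh := by
    have h1 : g.e h ∈ (C.Hq i).gr e := (g.mem_iff e h).mp hh
    rw [C.mem_Hq_gr_iff] at h1
    obtain ⟨z, hz, hzh⟩ := h1
    have hmem : lofK k C (i + 1) (C.zIncl (i + 1) z) ∈ bigKGr k C e :=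
      lofG_grHom C.K (i + 1) e _ hz
    have hD : bigD k C (lofK k C (i + 1) (C.zIncl (i + 1) z)) = 0 := by
      rw [bigD_lofK]
      have : C.d (i + 1) (C.zIncl (i + 1) z) = 0 := z.2
      rw [this, map_zero]
    refine ⟨lofK k C (i + 1) (C.zIncl (i + 1) z), ?_, hD, ?_⟩
    · show bigc k C (i + 1) (prK 𝒜 (bigKGr k C) e (lofK k C (i + 1) (C.zIncl (i + 1) z))) = _
      rw [prK_of_mem hmem, bigc_lofK]
    · rw [bigCls_of_cocycle 𝒜 C i g _ hD]
      have h2 : zOf 𝒜 C i (lofK k C (i + 1) (C.zIncl (i + 1) z)) hD = z := by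
        apply Subtype.ext
        show compK k C (i + 1) (lofK k C (i + 1) (C.zIncl (i + 1) z)) = _
        rw [compK_lofK]
        rfl
      rw [h2, hzh, LinearEquiv.symm_apply_apply]

end BigReal

end Groth.Agent.Lib.Helper87.Kun
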