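import Groth.Agent.Lib.Helper87.Kun43
import Groth.Agent.Lib.Helper87.Kun42
import Groth.Agent.Lib.Helper87.Kun38

/-!
# The top Künneth formula for Segre products, module form (helper87)

`H^{r+s-1}_{T_+}(M # N) ≅ H^r_{R_+}(M) # H^s_{S_+}(N)` as graded `T`-modules, in the form of
`GrSeg.IsSegreMod`, when `H^q(M) = 0` for `q > r ≥ 2` and `H^q(N) = 0` for `q > s ≥ 2`.
-/

set_option autoImplicit false
universe u

namespace Groth.Agent.Lib.Helper87.Kun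

open DirectSum TensorProduct GrLC
open Groth.Agent.Lib.Helper99 Groth.Agent.Lib.Helper39 Groth.Agent.Lib.Helper39.GrBridge
  Groth.Agent.Lib.Helper39.GrKoszul Groth.Agent.Lib.Helper87.SegOne Groth.Agent.Lib.Helper60

section XReal

variable {k : Type u} [Field k] {R : Type u} [CommRing R] [Algebra k R]
  (𝒜 : ℤ → Submodule k R) [GradedAlgebra 𝒜]
  {M : Type u} [AddCommGroup M] [Module R M]
  {ℳ : ℤ → AddSubgroup M} [DirectSum.Decomposition ℳ] [SetLike.GradedSMul 𝒜 ℳ]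
  (EM : StarInjRes 𝒜 ℳ) (mR : HomogeneousIdeal 𝒜)

attribute [local instance] toSubGradedRing toSubDecomposition toSubGradedSMul

/-- vanishing of a local cohomology module kills the harmonic part of the corresponding degree -/
theorem harm_c_eq_zero [Nontrivial R] [IsNoetherianRing R]
    (h0R : 𝒜 0 = Submodule.span k {(1 : R)}) (i : ℕ)
    (h : ∀ e : ℤ, EM.Hcomp mR (i + 2) e = ⊥) (x : BigK k (xCx 𝒜 EM mR)) :
    (xData (k := k) 𝒜 EM mR).hodge.π ((xData (k := k) 𝒜 EM mR).c (i + 1) x) = 0 := by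
  refine (xData (k := k) 𝒜 EM mR).gr.induction
    (motive := fun x => (xData (k := k) 𝒜 EM mR).hodge.π
      ((xData (k := k) 𝒜 EM mR).c (i + 1) x) = 0)
    (by rw [map_zero, map_zero]) (fun x y hx hy => by
      rw [map_add, map_add, hx, hy, add_zero]) (fun l x hx => ?_) x
  rw [← hx]
  by_cases hl : l.1 = i + 1
  · obtain ⟨j, e⟩ := l
    simp only at hl
    subst hl
    rw [(xData (k := k) 𝒜 EM mR).c_P_same]
    exact LinearMap.congr_fun (harm_eq_zero 𝒜 EM mR h0R i e (h e)) x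
  · rw [(xData (k := k) 𝒜 EM mR).c_P_ne hl, map_zero]

/-- the local cohomology of `M` as a realization of the cohomology of `Ē` -/
noncomputable def xReal [IsNoetherianRing R] (i : ℕ)
    [Module k (EM.H mR (i + 2))] [IsScalarTower k R (EM.H mR (i + 2))]
    (g : GrEquiv R ((convRes EM).Hgr (convIdeal mR) (i + 2)) ((xCx 𝒜 EM mR).Hq i).gr) :
    CohReal (xData (k := k) 𝒜 EM mR) (i + 1) (EM.Hgr mR (i + 2)) :=
  bigReal 𝒜 (xCx 𝒜 EM mR) i
    (⟨g.e, fun e x => g.mem_iff e x⟩ : GrEquiv R (EM.Hgr mR (i + 2)) ((xCx 𝒜 EM mR).Hq i).gr)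

end XReal

attribute [local instance] toSubGradedRing toSubDecomposition toSubGradedSMul

/-- **Top Künneth formula for Segre products, module form** (degrees written as `r' + 2`,
`s' + 2`, `r' + s' + 1 + 2`). -/
theorem kunneth_top_mod_core (k : Type u) [Field k] (R : Type u) [CommRing R] [Nontrivial R]
    [Algebra k R]
    (𝒜 : ℤ → Submodule k R) [GradedAlgebra 𝒜] (hposR : ∀ n : ℤ, n < 0 → 𝒜 n = ⊥)
    (h0R : 𝒜 0 = Submodule.span k {(1 : R)}) [Algebra.FiniteType k R] (S : Type u) [CommRing S]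
    [Nontrivial S] [Algebra k S] (ℬ : ℤ → Submodule k S) [GradedAlgebra ℬ]
    (hposS : ∀ n : ℤ, n < 0 → ℬ n = ⊥) (h0S : ℬ 0 = Submodule.span k {(1 : S)})
    [Algebra.FiniteType k S] (T : Type u) [CommRing T] [Algebra k T] (𝒯 : ℤ → Submodule k T)
    [GradedAlgebra 𝒯] (ψ : T →ₐ[k] TensorProduct k R S) (hT : GrSeg.IsSegreRing 𝒜 ℬ 𝒯 ψ)
    (mR : HomogeneousIdeal 𝒜)
    (hmR : mR.toIdeal = Ideal.span (⋃ n ∈ Set.Ioi (0 : ℤ), (𝒜 n : Set R)))
    (mS : HomogeneousIdeal ℬ)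
    (hmS : mS.toIdeal = Ideal.span (⋃ n ∈ Set.Ioi (0 : ℤ), (ℬ n : Set S)))
    (mT : HomogeneousIdeal 𝒯)
    (hmT : mT.toIdeal = Ideal.span (⋃ n ∈ Set.Ioi (0 : ℤ), (𝒯 n : Set T)))
    (M : Type u) [AddCommGroup M] [Module R M] [Module k M] [IsScalarTower k R M]
    (ℳ : ℤ → AddSubgroup M) [DirectSum.Decomposition ℳ] [SetLike.GradedSMul 𝒜 ℳ]
    (EM : GrLC.StarInjRes 𝒜 ℳ)
    (N : Type u) [AddCommGroup N] [Module S N] [Module k N] [IsScalarTower k S N]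
    (𝒩 : ℤ → AddSubgroup N) [DirectSum.Decomposition 𝒩] [SetLike.GradedSMul ℬ 𝒩]
    (EN : GrLC.StarInjRes ℬ 𝒩)
    (P : Type u) [AddCommGroup P] [Module T P] [Module k P] [IsScalarTower k T P]
    (𝒬 : ℤ → AddSubgroup P) [DirectSum.Decomposition 𝒬] [SetLike.GradedSMul 𝒯 𝒬]
    (φ : P →ₗ[k] TensorProduct k M N) (hP : GrSeg.IsSegreMod ψ ℳ 𝒩 𝒬 φ)
    (EP : GrLC.StarInjRes 𝒯 𝒬) (r' s' : ℕ)
    (hM : ∀ (q : ℕ) (d : ℤ), r' + 2 < q → EM.Hcomp mR q d = ⊥)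
    (hN : ∀ (q : ℕ) (d : ℤ), s' + 2 < q → EN.Hcomp mS q d = ⊥)
    [Module k (EM.H mR (r' + 2))] [IsScalarTower k R (EM.H mR (r' + 2))]
    [Module k (EN.H mS (s' + 2))] [IsScalarTower k S (EN.H mS (s' + 2))]
    [Module k (EP.H mT (r' + s' + 1 + 2))] [IsScalarTower k T (EP.H mT (r' + s' + 1 + 2))]
    [DirectSum.Decomposition (EP.Hgr mT (r' + s' + 1 + 2))] :
    ∃ φ' : EP.H mT (r' + s' + 1 + 2) →ₗ[k]
        TensorProduct k (EM.H mR (r' + 2)) (EN.H mS (s' + 2)),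
      GrSeg.IsSegreMod ψ (EM.Hgr mR (r' + 2)) (EN.Hgr mS (s' + 2))
        (EP.Hgr mT (r' + s' + 1 + 2)) φ' := by
  classical
  haveI : IsNoetherianRing R := Algebra.FiniteType.isNoetherianRing k R
  haveI : IsNoetherianRing S := Algebra.FiniteType.isNoetherianRing k S
  haveI : IsNoetherianRing (R ⊗[k] S) := Algebra.FiniteType.isNoetherianRing R (R ⊗[k] S)
  haveI : Nontrivial (R ⊗[k] S) :=
    Algebra.TensorProduct.nontrivial_of_algebraMap_injective_of_flat_left (R := k) (A := R)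
      (B := S) (algebraMap k S).injective
  haveI : Nontrivial T := by
    by_contra hcon
    rw [not_nontrivial_iff_subsingleton] at hcon
    have h1 : ψ 1 = ψ 0 := congrArg ψ (Subsingleton.elim _ _)
    rw [map_one, map_zero] at h1
    exact one_ne_zero h1
  haveI : IsNoetherianRing T := isNoetherianRing_segre 𝒜 ℬ 𝒯 hposR ψ hT.1 hT.2
  have hmR' : mR.toIdeal = irr 𝒜 := hmR
  have hmS' : mS.toIdeal = irr ℬ := hmS
  have hmT' : (convIdeal mT).toIdeal = irr 𝒯 := hmT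
  -- the main theorem for the Segre total complex
  obtain ⟨g0⟩ := seg_main' 𝒯 ψ hT (zAug (k := k) 𝒜 (xCx 𝒜 EM mR)) (zAug (k := k) ℬ (xCx ℬ EN mS))
    (xZ (k := k) 𝒜 EM mR) (xZ_grHom 𝒜 EM mR) (xZ (k := k) ℬ EN mS) (xZ_grHom ℬ EN mS)
    φ hP (xData_tor 𝒜 EM mR hmR') (xData_tor ℬ EN mS hmS') (convIdeal mT) hmT'
    (xData_lc 𝒜 EM mR hmR') (xData_lc ℬ EN mS hmS')
    (xZ_ker 𝒜 EM mR hmR') (xZ_ker ℬ EN mS hmS') (xZ_coker 𝒜 EM mR hmR') (xZ_coker ℬ EN mS hmS')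
    (convRes EP) (r' + s' + 1)
  let g : GrEquiv T (EP.Hgr mT (r' + s' + 1 + 2))
      ((segCx 𝒯 ψ hT (xData (k := k) 𝒜 EM mR) (xData (k := k) ℬ EN mS)).Hq (r' + s' + 1)).gr :=
    ⟨g0.e, fun e x => g0.mem_iff e x⟩
  obtain ⟨gX⟩ := ebar_main' (convRes EM) (convIdeal mR) r'
  obtain ⟨gY⟩ := ebar_main' (convRes EN) (convIdeal mS) s'
  let RX : CohReal (xData (k := k) 𝒜 EM mR) (r' + 1) (EM.Hgr mR (r' + 2)) :=
    xReal 𝒜 EM mR r' gX
  let RY : CohReal (xData (k := k) ℬ EN mS) (s' + 1) (EN.Hgr mS (s' + 2)) :=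
    xReal ℬ EN mS s' gY
  have hn : r' + s' + 1 + 1 = (r' + 1) + (s' + 1) := by omega
  have hvan : ∀ i j : ℕ, i + j = r' + s' + 1 + 1 → ¬ (i = r' + 1 ∧ j = s' + 1) →
      (∀ x, (xData (k := k) 𝒜 EM mR).hodge.π ((xData (k := k) 𝒜 EM mR).c i x) = 0) ∨
      (∀ y, (xData (k := k) ℬ EN mS).hodge.π ((xData (k := k) ℬ EN mS).c j y) = 0) := by
    intro i j hij hne
    rcases Nat.lt_or_ge i (r' + 1) with hlt | hge
    · right
      obtain ⟨j', rfl⟩ : ∃ j', j = j' + 1 := ⟨j - 1, by omega⟩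
      exact harm_c_eq_zero ℬ EN mS h0S j' (fun e => hN (j' + 2) e (by omega))
    · left
      obtain ⟨i', rfl⟩ : ∃ i', i = i' + 1 := ⟨i - 1, by omega⟩
      exact harm_c_eq_zero 𝒜 EM mR h0R i' (fun e => hM (i' + 2) e (by omega))
  have hsm : ∀ (c : k) (x : EP.H mT (r' + s' + 1 + 2)),
      phiH 𝒯 ψ hT RX RY (r' + s' + 1) (g.e (c • x)) =
        c • phiH 𝒯 ψ hT RX RY (r' + s' + 1) (g.e x) := by
    intro c x
    rw [← algebraMap_smul T c x]
    have h1 : g.e (algebraMap k T c • x) = algebraMap k T c • g.e x := map_smul g.e _ x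
    rw [h1, phiH_algebraMap_smul]
  refine ⟨{ toFun := fun x => phiH 𝒯 ψ hT RX RY (r' + s' + 1) (g.e x)
            map_add' := fun x y => by
              have h1 : g.e (x + y) = g.e x + g.e y := map_add g.e x y
              rw [h1, map_add]
            map_smul' := fun c x => hsm c x }, ?_, ?_, ?_⟩
  · intro x y hxy
    exact g.e.injective (phiH_injective 𝒯 ψ hT RX RY (r' + s' + 1) hn hvan hxy)
  · intro e
    ext v
    constructor
    · rintro ⟨x, hx, rfl⟩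
      exact phiH_mem 𝒯 ψ hT RX RY (r' + s' + 1) hn e ((g.mem_iff e x).mp hx)
    · intro hv
      obtain ⟨y, hy, rfl⟩ := exists_phiH_eq 𝒯 ψ hT RX RY (r' + s' + 1) hn e hv
      refine ⟨g.e.symm y, (g.mem_iff e _).mpr ?_, ?_⟩
      · rw [LinearEquiv.apply_symm_apply]
        exact hy
      · show phiH 𝒯 ψ hT RX RY (r' + s' + 1) (g.e (g.e.symm y)) = _
        rw [LinearEquiv.apply_symm_apply]
  · intro t p
    show phiH 𝒯 ψ hT RX RY (r' + s' + 1) (g.e (t • p)) =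
      GrSeg.act k R S _ _ (ψ t) (phiH 𝒯 ψ hT RX RY (r' + s' + 1) (g.e p))
    have h1 : g.e (t • p) = t • g.e p := map_smul g.e t p
    rw [h1, phiH_smul]

end Groth.Agent.Lib.Helper87.Kun
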