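import Groth.Agent.Lib.Helper87.Kun42

/-!
# Realizations from augmentations; the Segre presentation from two realizations (helper87)

* `augReal`: an augmentation `M ≅ ker (D : X^0 → X^1)` realizes the `0`-th cohomology by `M`.
* `exists_isSegreMod_of_real`: if only the bidegree `(i₀, j₀)` is harmonic in total degree
  `n + 1 = i₀ + j₀`, any graded module isomorphic to `H^{n+1}` of the Segre total complex is the
  Segre product of the two realized cohomology modules.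
-/

set_option autoImplicit false
universe u

namespace Groth.Agent.Lib.Helper87.Kun

open DirectSum TensorProduct GrLC
open Groth.Agent.Lib.Helper99 Groth.Agent.Lib.Helper39 Groth.Agent.Lib.Helper39.GrBridge
  Groth.Agent.Lib.Helper39.GrKoszul Groth.Agent.Lib.Helper87.SegOne Groth.Agent.Lib.Helper60

section AugReal

variable {k : Type u} [Field k] {R : Type u} [CommRing R] [Algebra k R]
  {𝒜 : ℤ → Submodule k R} [GradedAlgebra 𝒜]
  {X : Type u} [AddCommGroup X] [Module R X] [Module k X] [IsScalarTower k R X]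
  {𝒳 : ℤ → AddSubgroup X} [DirectSum.Decomposition 𝒳] [SetLike.GradedSMul 𝒜 𝒳]
  {CX : CxData 𝒜 𝒳}
  {M : Type u} [AddCommGroup M] [Module R M] [Module k M] [IsScalarTower k R M]
  {ℳ : ℤ → AddSubgroup M} [DirectSum.Decomposition ℳ] [SetLike.GradedSMul 𝒜 ℳ]
  (A : AugData CX ℳ)

/-- a cocycle of degree `0` is harmonic -/
theorem π_of_c0_of_D {x : X} (hc : CX.c 0 x = x) (hD : CX.D x = 0) : CX.hodge.π x = x := by
  have h1 := CX.hodge.toHodge.decomp (z := x) hD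
  have h2 : CX.c 0 x = CX.c 0 (CX.hodge.π x) + CX.c 0 (CX.D (CX.hodge.s x)) := by
    rw [← map_add]
    exact congrArg (CX.c 0) h1
  rw [CX.c0D, add_zero, hc, ← CX.π_c, hc] at h2
  exact h2.symm

theorem aug_π_c0_mem (x : X) : CX.hodge.π (CX.c 0 x) ∈ LinearMap.range A.ε := by
  refine A.exact _ ?_ (CX.hodge.Dπ _)
  rw [← CX.π_c, CX.cc]

theorem aug_mem_of_ε_mem {e : ℤ} {m : M} (h : A.ε m ∈ 𝒳 e) : m ∈ ℳ e :=
  IsGrHom.mem_of_injective ℳ 𝒳 A.ε_gr A.ε_inj h

include A in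
/-- the realization of the `0`-th cohomology given by an augmentation -/
theorem nonempty_augReal : Nonempty (CohReal CX 0 ℳ) := by
  obtain ⟨ρ, hρ⟩ := LinearMap.exists_leftInverse_of_injective (A.ε.restrictScalars k)
    (LinearMap.ker_eq_bot.mpr A.ε_inj)
  have hρ' : ∀ m, ρ (A.ε m) = m := fun m => LinearMap.congr_fun hρ m
  refine ⟨{
    cls := ρ ∘ₗ CX.hodge.π ∘ₗ (CX.c 0).restrictScalars k
    cls_D := fun w => ?_
    cls_π := fun x => ?_
    cls_c := fun x => ?_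
    cls_smul := fun r x hx => ?_
    cls_inj := fun x hπ hc hx => ?_
    cls_mem := fun e x => ?_
    cls_surj := fun e h hh => ?_ }⟩
  · show ρ (CX.hodge.π (CX.c 0 (CX.D w))) = 0
    rw [CX.c0D, map_zero, map_zero]
  · show ρ (CX.hodge.π (CX.c 0 (CX.hodge.π x))) = ρ (CX.hodge.π (CX.c 0 x))
    rw [← CX.π_c, CX.hodge.ππ]
  · show ρ (CX.hodge.π (CX.c 0 (CX.c 0 x))) = ρ (CX.hodge.π (CX.c 0 x))
    rw [CX.cc]
  · show ρ (CX.hodge.π (CX.c 0 (r • x))) = r • ρ (CX.hodge.π (CX.c 0 x))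
    have hD0 : CX.D (CX.c 0 x) = 0 := by rw [CX.cD, hx, map_zero]
    have h1 : CX.hodge.π (CX.c 0 x) = CX.c 0 x := π_of_c0_of_D (CX.cc 0 x) hD0
    have h2 : CX.hodge.π (CX.c 0 (r • x)) = CX.c 0 (r • x) := by
      refine π_of_c0_of_D (CX.cc 0 _) ?_
      rw [CX.cD, map_smul, hx, smul_zero, map_zero]
    obtain ⟨m, hm⟩ := A.exact (CX.c 0 x) (CX.cc 0 x) hD0
    rw [h1, h2, map_smul, ← hm, ← map_smul, hρ', hρ']
  · show x = 0
    have hx' : ρ (CX.hodge.π (CX.c 0 x)) = 0 := hx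
    rw [hc, hπ] at hx'
    have hD : CX.D x = 0 := by rw [← hπ]; exact CX.hodge.Dπ x
    obtain ⟨m, hm⟩ := A.exact x hc hD
    rw [← hm, hρ'] at hx'
    rw [← hm, hx', map_zero]
  · show ρ (CX.hodge.π (CX.c 0 (CX.gr.P (0, e) x))) ∈ ℳ e
    have h0 : CX.c 0 (CX.gr.P (0, e) x) = CX.gr.P (0, e) x := CX.c_P_same e 0 x
    rw [h0, CX.hodge.πP]
    have h1 : CX.gr.P (0, e) (CX.hodge.π x) ∈ LinearMap.range A.ε := by
      refine A.exact _ (CX.c_P_same e 0 _) ?_
      rw [← CX.hodge.πP]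
      exact CX.hodge.Dπ _
    obtain ⟨m, hm⟩ := h1
    rw [← hm, hρ']
    refine aug_mem_of_ε_mem A ?_
    rw [hm]
    exact CX.P_mem (0, e) _
  · refine ⟨A.ε h, ?_, A.D0 h, ?_⟩
    · rw [CX.gr_P]
      show CX.c 0 (prK 𝒜 𝒳 e (A.ε h)) = A.ε h
      rw [prK_of_mem (A.ε_gr e h hh), A.c0]
    · show ρ (CX.hodge.π (CX.c 0 (A.ε h))) = h
      rw [A.c0, π_of_c0_of_D (A.c0 h) (A.D0 h), hρ']

end AugReal

section Assemble

variable {k : Type u} [Field k] {R S T : Type u} [CommRing R] [CommRing S] [CommRing T]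
  [Algebra k R] [Algebra k S] [Algebra k T]
  {𝒜 : ℤ → Submodule k R} [GradedAlgebra 𝒜] {ℬ : ℤ → Submodule k S} [GradedAlgebra ℬ]
  (𝒯 : ℤ → Submodule k T) [GradedAlgebra 𝒯]
  (ψ : T →ₐ[k] R ⊗[k] S) (hT : GrSeg.IsSegreRing 𝒜 ℬ 𝒯 ψ)
  {X Y : Type u} [AddCommGroup X] [Module R X] [Module k X] [IsScalarTower k R X]
  [AddCommGroup Y] [Module S Y] [Module k Y] [IsScalarTower k S Y]
  {𝒳 : ℤ → AddSubgroup X} [DirectSum.Decomposition 𝒳] [SetLike.GradedSMul 𝒜 𝒳]
  {𝒴 : ℤ → AddSubgroup Y} [DirectSum.Decomposition 𝒴] [SetLike.GradedSMul ℬ 𝒴]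
  {CX : CxData 𝒜 𝒳} {CY : CxData ℬ 𝒴} {i₀ j₀ : ℕ}
  {HX HY : Type u} [AddCommGroup HX] [Module R HX] [Module k HX] [IsScalarTower k R HX]
  [AddCommGroup HY] [Module S HY] [Module k HY] [IsScalarTower k S HY]
  {ℋX : ℤ → AddSubgroup HX} {ℋY : ℤ → AddSubgroup HY}
  (RX : CohReal CX i₀ ℋX) (RY : CohReal CY j₀ ℋY)
  {P : Type u} [AddCommGroup P] [Module T P] [Module k P] [IsScalarTower k T P]
  {𝒬 : ℤ → AddSubgroup P} [DirectSum.Decomposition 𝒬]

attribute [local instance] toSubGradedRing toSubDecomposition toSubGradedSMul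

include RX RY in
/-- the Segre presentation of a module isomorphic to the cohomology of the Segre total complex
in a total degree with a single harmonic bidegree -/
theorem exists_isSegreMod_of_real (n : ℕ) (hn : n + 1 = i₀ + j₀)
    (hvan : ∀ i j : ℕ, i + j = n + 1 → ¬ (i = i₀ ∧ j = j₀) →
      (∀ x, CX.hodge.π (CX.c i x) = 0) ∨ (∀ y, CY.hodge.π (CY.c j y) = 0))
    (g : GrEquiv T 𝒬 ((segCx 𝒯 ψ hT CX CY).Hq n).gr) :
    ∃ φ' : P →ₗ[k] HX ⊗[k] HY, GrSeg.IsSegreMod ψ ℋX ℋY 𝒬 φ' := by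
  have hsm : ∀ (c : k) (x : P), phiH 𝒯 ψ hT RX RY n (g.e (c • x)) =
      c • phiH 𝒯 ψ hT RX RY n (g.e x) := by
    intro c x
    rw [← algebraMap_smul T c x]
    have h1 : g.e (algebraMap k T c • x) = algebraMap k T c • g.e x := map_smul g.e _ x
    rw [h1, phiH_algebraMap_smul]
  refine ⟨{ toFun := fun x => phiH 𝒯 ψ hT RX RY n (g.e x)
            map_add' := fun x y => by
              have h1 : g.e (x + y) = g.e x + g.e y := map_add g.e x y
              rw [h1, map_add]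
            map_smul' := fun c x => hsm c x }, ?_, ?_, ?_⟩
  · intro x y hxy
    exact g.e.injective (phiH_injective 𝒯 ψ hT RX RY n hn hvan hxy)
  · intro e
    ext v
    constructor
    · rintro ⟨x, hx, rfl⟩
      exact phiH_mem 𝒯 ψ hT RX RY n hn e ((g.mem_iff e x).mp hx)
    · intro hv
      obtain ⟨y, hy, rfl⟩ := exists_phiH_eq 𝒯 ψ hT RX RY n hn e hv
      refine ⟨g.e.symm y, (g.mem_iff e _).mpr ?_, ?_⟩
      · rw [LinearEquiv.apply_symm_apply]
        exact hy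
      · show phiH 𝒯 ψ hT RX RY n (g.e (g.e.symm y)) = _
        rw [LinearEquiv.apply_symm_apply]
  · intro t p
    show phiH 𝒯 ψ hT RX RY n (g.e (t • p)) =
      GrSeg.act k R S _ _ (ψ t) (phiH 𝒯 ψ hT RX RY n (g.e p))
    have h1 : g.e (t • p) = t • g.e p := map_smul g.e t p
    rw [h1, phiH_smul]

end Assemble

end Groth.Agent.Lib.Helper87.Kun
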