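import Groth.Agent.S13224
import Groth.Agent.Lib.Helper60.LocalCohLocalize
import Groth.Agent.Lib.Helper87.Kun46
import Groth.Agent.Lib.Helper87.Kun44

/-!
# `H^q_{T_+}(M # N) ≅ H^q_m(M) # N` for `q ≥ 2` when `N` has no local cohomology (helper87)
-/

set_option autoImplicit false
universe u

namespace Groth.Agent.Lib.Helper87.Kun

open DirectSum TensorProduct GrLC
open Groth.Agent.Lib.Helper99 Groth.Agent.Lib.Helper39 Groth.Agent.Lib.Helper39.GrBridge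
  Groth.Agent.Lib.Helper39.GrKoszul Groth.Agent.Lib.Helper87.SegOne Groth.Agent.Lib.Helper60

section Vanish

variable {ι : Type} [AddCommGroup ι] [DecidableEq ι] [Module.Free ℤ ι] [Module.Finite ℤ ι]
  {R : Type u} [CommRing R] [IsNoetherianRing R] {𝒜 : ι → AddSubgroup R} [GradedRing 𝒜]
  {M : Type u} [AddCommGroup M] [Module R M] {ℳ : ι → AddSubgroup M} [DirectSum.Decomposition ℳ]
  [SetLike.GradedSMul 𝒜 ℳ]

/-- a module on which an element of `a` acts bijectively has no graded local cohomology -/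
theorem H_subsingleton_of_smul_bijective (E : StarInjRes 𝒜 ℳ) (a : HomogeneousIdeal 𝒜) (f : R)
    (hf : f ∈ a.toIdeal) (hbij : Function.Bijective (fun x : M => f • x)) (q : ℕ) :
    Subsingleton (E.H a q) := by
  obtain ⟨e⟩ := Groth.Agent.S13224.result R 𝒜 a M ℳ E q
  haveI : Subsingleton (LocCoh.H a.toIdeal q M) :=
    lc_subsingleton_of_smul_bijective a.toIdeal q M f hf hbij
  exact e.injective.subsingleton

end Vanish

attribute [local instance] toSubGradedRing toSubDecomposition toSubGradedSMul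

/-- **`H^q_{T_+}(M # N) ≅ H^q_m(M) # N` for `q ≥ 2`**, when `N` has no local cohomology. -/
theorem segre_bij_ge_two (k : Type u) [Field k] (R : Type u) [CommRing R] [Nontrivial R]
    [Algebra k R]
    (𝒜 : ℤ → Submodule k R) [GradedAlgebra 𝒜] (hposR : ∀ n : ℤ, n < 0 → 𝒜 n = ⊥)
    [Algebra.FiniteType k R] (S : Type u) [CommRing S]
    [Nontrivial S] [Algebra k S] (ℬ : ℤ → Submodule k S) [GradedAlgebra ℬ]
    (h0S : ℬ 0 = Submodule.span k {(1 : S)})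
    [Algebra.FiniteType k S] (T : Type u) [CommRing T] [Algebra k T] (𝒯 : ℤ → Submodule k T)
    [GradedAlgebra 𝒯] (ψ : T →ₐ[k] TensorProduct k R S) (hT : GrSeg.IsSegreRing 𝒜 ℬ 𝒯 ψ)
    (mR : HomogeneousIdeal 𝒜)
    (hmR : mR.toIdeal = Ideal.span (⋃ n ∈ Set.Ioi (0 : ℤ), (𝒜 n : Set R)))
    (mS : HomogeneousIdeal ℬ)
    (hmS : mS.toIdeal = Ideal.span (⋃ n ∈ Set.Ioi (0 : ℤ), (ℬ n : Set S)))
    (mT : HomogeneousIdeal 𝒯)
    (hmT : mT.toIdeal = Ideal.span (⋃ n ∈ Set.Ioi (0 : ℤ), (𝒯 n : Set T)))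
    (M : Type u) [AddCommGroup M] [Module R M] [Module k M] [IsScalarTower k R M]
    (ℳ : ℤ → AddSubgroup M) [DirectSum.Decomposition ℳ] [SetLike.GradedSMul 𝒜 ℳ]
    (EM : GrLC.StarInjRes 𝒜 ℳ)
    (N : Type u) [AddCommGroup N] [Module S N] [Module k N] [IsScalarTower k S N]
    (𝒩 : ℤ → AddSubgroup N) [DirectSum.Decomposition 𝒩] [SetLike.GradedSMul ℬ 𝒩]
    (EN : GrLC.StarInjRes ℬ 𝒩) (hNvan : ∀ q : ℕ, Subsingleton (EN.H mS q))
    (P : Type u) [AddCommGroup P] [Module T P] [Module k P] [IsScalarTower k T P]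
    (𝒬 : ℤ → AddSubgroup P) [DirectSum.Decomposition 𝒬] [SetLike.GradedSMul 𝒯 𝒬]
    (φ : P →ₗ[k] TensorProduct k M N) (hP : GrSeg.IsSegreMod ψ ℳ 𝒩 𝒬 φ)
    (EP : GrLC.StarInjRes 𝒯 𝒬) (q' : ℕ)
    [Module k (EM.H mR (q' + 2))] [IsScalarTower k R (EM.H mR (q' + 2))]
    [Module k (EP.H mT (q' + 2))] [IsScalarTower k T (EP.H mT (q' + 2))]
    [DirectSum.Decomposition (EP.Hgr mT (q' + 2))] :
    ∃ φ' : EP.H mT (q' + 2) →ₗ[k] TensorProduct k (EM.H mR (q' + 2)) N,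
      GrSeg.IsSegreMod ψ (EM.Hgr mR (q' + 2)) 𝒩 (EP.Hgr mT (q' + 2)) φ' := by
  classical
  haveI : IsNoetherianRing R := Algebra.FiniteType.isNoetherianRing k R
  haveI : IsNoetherianRing S := Algebra.FiniteType.isNoetherianRing k S
  haveI : IsNoetherianRing (R ⊗[k] S) := Algebra.FiniteType.isNoetherianRing R (R ⊗[k] S)
  haveI : Nontrivial (R ⊗[k] S) :=
    Algebra.TensorProduct.nontrivial_of_algebraMap_injective_of_flat_left (R := k) (A := R)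
      (B := S) (algebraMap k S).injective
  haveI : Nontrivial T := by
    by_contra hcon
    rw [not_nontrivial_iff_subsingleton] at hcon
    have h1 : ψ 1 = ψ 0 := congrArg ψ (Subsingleton.elim _ _)
    rw [map_one, map_zero] at h1
    exact one_ne_zero h1
  haveI : IsNoetherianRing T := isNoetherianRing_segre 𝒜 ℬ 𝒯 hposR ψ hT.1 hT.2
  have hmR' : mR.toIdeal = irr 𝒜 := hmR
  have hmS' : mS.toIdeal = irr ℬ := hmS
  have hmT' : (convIdeal mT).toIdeal = irr 𝒯 := hmT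
  obtain ⟨g0⟩ := seg_main' 𝒯 ψ hT (zAug (k := k) 𝒜 (xCx 𝒜 EM mR)) (zAug (k := k) ℬ (xCx ℬ EN mS))
    (xZ (k := k) 𝒜 EM mR) (xZ_grHom 𝒜 EM mR) (xZ (k := k) ℬ EN mS) (xZ_grHom ℬ EN mS)
    φ hP (xData_tor 𝒜 EM mR hmR') (xData_tor ℬ EN mS hmS') (convIdeal mT) hmT'
    (xData_lc 𝒜 EM mR hmR') (xData_lc ℬ EN mS hmS')
    (xZ_ker 𝒜 EM mR hmR') (xZ_ker ℬ EN mS hmS') (xZ_coker 𝒜 EM mR hmR') (xZ_coker ℬ EN mS hmS')
    (convRes EP) q'
  let g : GrEquiv T (EP.Hgr mT (q' + 2))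
      ((segCx 𝒯 ψ hT (xData (k := k) 𝒜 EM mR) (xData (k := k) ℬ EN mS)).Hq q').gr :=
    ⟨g0.e, fun e x => g0.mem_iff e x⟩
  obtain ⟨gX⟩ := ebar_main' (convRes EM) (convIdeal mR) q'
  let RX : CohReal (xData (k := k) 𝒜 EM mR) (q' + 1) (EM.Hgr mR (q' + 2)) :=
    xReal 𝒜 EM mR q' gX
  obtain ⟨RY⟩ := nonempty_augReal (xAug (k := k) ℬ EN mS (hNvan 0) (hNvan 1))
  have hn : q' + 1 = (q' + 1) + 0 := by omega
  have hvan : ∀ i j : ℕ, i + j = q' + 1 → ¬ (i = q' + 1 ∧ j = 0) →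
      (∀ x, (xData (k := k) 𝒜 EM mR).hodge.π ((xData (k := k) 𝒜 EM mR).c i x) = 0) ∨
      (∀ y, (xData (k := k) ℬ EN mS).hodge.π ((xData (k := k) ℬ EN mS).c j y) = 0) := by
    intro i j hij hne
    right
    obtain ⟨j', rfl⟩ : ∃ j', j = j' + 1 := ⟨j - 1, by omega⟩
    refine harm_c_eq_zero ℬ EN mS h0S j' (fun e => ?_)
    rw [eq_bot_iff]
    intro x _
    rw [Submodule.mem_bot]
    exact @Subsingleton.elim _ (hNvan (j' + 2)) _ _
  exact exists_isSegreMod_of_real 𝒯 ψ hT RX RY q' hn hvan g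

end Groth.Agent.Lib.Helper87.Kun
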