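import Groth.Agent.Lib.Helper87.Kun32

/-!
# Graded local cohomology in degrees `0` and `1` from a map with torsion kernel and cokernel
(helper87)

Let `f : P → Q` be a homogeneous map whose kernel and cokernel are `a`-torsion, and assume
`H^0_a(Q) = H^1_a(Q) = 0`.  Then `H^0_a(P) ≅ ker f` and `H^1_a(P) ≅ coker f`, as graded modules.
-/

set_option autoImplicit false
universe u

namespace Groth.Agent.Lib.Helper87.Kun

open DirectSum GrLC Groth.Agent.Lib.Helper39 Groth.Agent.Lib.Helper39.GrLes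
  Groth.Agent.Lib.Helper39.Ver Groth.Agent.Lib.Helper39.GrTop Groth.Agent.Lib.Helper39.GrKoszul

section Low
variable {ι : Type} [AddCommGroup ι] [DecidableEq ι] [Module.Free ℤ ι] [Module.Finite ℤ ι]
  {R : Type u} [CommRing R] [IsNoetherianRing R] {𝒜 : ι → AddSubgroup R} [GradedRing 𝒜]

/-- `H^1_a(P) ≅ coker f`, bundled form -/
theorem nonempty_grEquiv_h1_coker' (a : HomogeneousIdeal 𝒜) (P Q : GMod.{u} 𝒜)
    (f : P.carrier →ₗ[R] Q.carrier) (hf : IsGrHom P.gr Q.gr f)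
    (hker : ∀ x : P.carrier, f x = 0 → ∃ k : ℕ, ∀ r ∈ a.toIdeal ^ k, r • x = 0)
    (hcok : ∀ y : Q.carrier, ∃ k : ℕ, ∀ r ∈ a.toIdeal ^ k, r • y ∈ LinearMap.range f)
    (EP : StarInjRes 𝒜 P.gr) (EQ : StarInjRes 𝒜 Q.gr)
    (h0 : Subsingleton (EQ.H a 0)) (h1 : Subsingleton (EQ.H a 1)) :
    Nonempty (GrEquiv R (EP.Hgr a 1) (cokG f hf).gr) := by
  have S1 : GrSES (kerG f hf).gr P.gr (ranG f hf).gr (kerIncl f hf) (ranProj f hf) :=
    { i_grHom := isGrHom_subtype P.gr (LinearMap.ker f)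
      p_grHom := fun g x hx => hf g x hx
      i_inj := Subtype.val_injective
      p_surj := LinearMap.surjective_rangeRestrict _
      exact := by
        show LinearMap.ker f.rangeRestrict = LinearMap.range (LinearMap.ker f).subtype
        rw [LinearMap.ker_rangeRestrict, Submodule.range_subtype] }
  have S2 : GrSES (ranG f hf).gr Q.gr (cokG f hf).gr (ranIncl f hf) (cokProj f hf) :=
    gsub_gquot_ses Q (LinearMap.range f) (IsGrHom.range_isHomogeneous P.gr Q.gr hf)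
  have hKt : ∀ x : (kerG f hf).carrier, ∃ k : ℕ, ∀ r ∈ a.toIdeal ^ k, r • x = 0 := by
    intro x
    obtain ⟨k, hk⟩ := hker x.1 x.2
    exact ⟨k, fun r hr => Subtype.ext (hk r hr)⟩
  have hCt : ∀ y : (cokG f hf).carrier, ∃ k : ℕ, ∀ r ∈ a.toIdeal ^ k, r • y = 0 := by
    intro y
    obtain ⟨y, rfl⟩ := Submodule.mkQ_surjective (LinearMap.range f) y
    obtain ⟨k, hk⟩ := hcok y
    refine ⟨k, fun r hr => ?_⟩
    show r • (LinearMap.range f).mkQ y = 0
    rw [← map_smul, Submodule.mkQ_apply, Submodule.Quotient.mk_eq_zero]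
    exact hk r hr
  have hK : ∀ i : ℕ, 1 ≤ i → Subsingleton ((someRes (kerG f hf)).H a i) :=
    fun i hi => H_subsingleton_of_torsion a (someRes (kerG f hf)) hKt i hi
  obtain ⟨g1⟩ := nonempty_grEquiv_proj S1 (someRes (kerG f hf)) EP
    (someRes (ranG f hf)) a 1 (hK 1 le_rfl) (hK (1 + 1) (by omega))
  obtain ⟨g3⟩ := nonempty_grEquiv_h0_of_torsion (someRes (cokG f hf)) a hCt
  obtain ⟨δ, hδ, -, ex2, ex3⟩ := exists_les S2 (someRes (ranG f hf)) EQ (someRes (cokG f hf)) a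
  have hbij : Function.Bijective (δ 0) := by
    constructor
    · rw [injective_iff_map_eq_zero]
      intro y hy
      obtain ⟨x, rfl⟩ := (ex2 0 y).mp hy
      rw [@Subsingleton.elim _ h0 x 0, map_zero]
    · intro z
      exact (ex3 0 z).mp (@Subsingleton.elim _ h1 _ _)
  have g2 : GrEquiv R ((someRes (cokG f hf)).Hgr a 0) ((someRes (ranG f hf)).Hgr a (0 + 1)) :=
    GrEquiv.ofBijective (δ 0) (hδ 0) hbij (Hgr_isInternal (someRes (cokG f hf)) a 0)
      (Hgr_isInternal (someRes (ranG f hf)) a (0 + 1))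
  exact ⟨g1.trans (g2.symm.trans g3.symm)⟩

/-- `H^1_a(P)` as the cokernel, bundled form -/
theorem exists_h1_proj' (a : HomogeneousIdeal 𝒜) (P Q : GMod.{u} 𝒜)
    (f : P.carrier →ₗ[R] Q.carrier) (hf : IsGrHom P.gr Q.gr f)
    (hker : ∀ x : P.carrier, f x = 0 → ∃ k : ℕ, ∀ r ∈ a.toIdeal ^ k, r • x = 0)
    (hcok : ∀ y : Q.carrier, ∃ k : ℕ, ∀ r ∈ a.toIdeal ^ k, r • y ∈ LinearMap.range f)
    (EP : StarInjRes 𝒜 P.gr) (EQ : StarInjRes 𝒜 Q.gr)
    (h0 : Subsingleton (EQ.H a 0)) (h1 : Subsingleton (EQ.H a 1)) :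
    ∃ pr : Q.carrier →ₗ[R] EP.H a 1, Function.Surjective pr ∧
      (∀ u, pr u = 0 ↔ u ∈ LinearMap.range f) ∧
      (∀ (n : ι) (c : EP.H a 1), c ∈ EP.Hgr a 1 n ↔ ∃ u ∈ Q.gr n, pr u = c) := by
  obtain ⟨e⟩ := nonempty_grEquiv_h1_coker' a P Q f hf hker hcok EP EQ h0 h1
  have hz : ∀ u, cokProj f hf u = 0 ↔ u ∈ LinearMap.range f :=
    fun u => Submodule.Quotient.mk_eq_zero (LinearMap.range f)
  have hsurj : Function.Surjective (cokProj f hf) := Submodule.mkQ_surjective (LinearMap.range f)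
  have hgr : ∀ (n : ι) (c : (cokG f hf).carrier),
      c ∈ (cokG f hf).gr n ↔ ∃ u ∈ Q.gr n, cokProj f hf u = c := fun n c => Iff.rfl
  refine ⟨e.e.symm.toLinearMap ∘ₗ cokProj f hf, ?_, ?_, ?_⟩
  · exact e.e.symm.surjective.comp hsurj
  · intro u
    show e.e.symm (cokProj f hf u) = 0 ↔ _
    rw [LinearEquiv.map_eq_zero_iff, hz]
  · intro n c
    rw [e.mem_iff n c, hgr]
    constructor
    · rintro ⟨u, hu, huc⟩
      refine ⟨u, hu, ?_⟩
      show e.e.symm (cokProj f hf u) = c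
      rw [huc, LinearEquiv.symm_apply_apply]
    · rintro ⟨u, hu, rfl⟩
      refine ⟨u, hu, ?_⟩
      show cokProj f hf u = e.e (e.e.symm (cokProj f hf u))
      rw [LinearEquiv.apply_symm_apply]

variable {P Q : Type u} [AddCommGroup P] [Module R P] [AddCommGroup Q] [Module R Q]
  {𝓟 : ι → AddSubgroup P} [DirectSum.Decomposition 𝓟] [SetLike.GradedSMul 𝒜 𝓟]
  {𝓠 : ι → AddSubgroup Q} [DirectSum.Decomposition 𝓠] [SetLike.GradedSMul 𝒜 𝓠]

/-- **`H^1_a(P)` as the cokernel**: a surjection `Q → H^1_a(P)` with kernel the image of `f`,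
matching the pieces. -/
theorem exists_h1_proj (a : HomogeneousIdeal 𝒜) (f : P →ₗ[R] Q) (hf : IsGrHom 𝓟 𝓠 f)
    (hker : ∀ x : P, f x = 0 → ∃ k : ℕ, ∀ r ∈ a.toIdeal ^ k, r • x = 0)
    (hcok : ∀ y : Q, ∃ k : ℕ, ∀ r ∈ a.toIdeal ^ k, r • y ∈ LinearMap.range f)
    (EP : StarInjRes 𝒜 𝓟) (EQ : StarInjRes 𝒜 𝓠)
    (h0 : Subsingleton (EQ.H a 0)) (h1 : Subsingleton (EQ.H a 1)) :
    ∃ pr : Q →ₗ[R] EP.H a 1, Function.Surjective pr ∧
      (∀ u, pr u = 0 ↔ u ∈ LinearMap.range f) ∧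
      (∀ (n : ι) (c : EP.H a 1), c ∈ EP.Hgr a 1 n ↔ ∃ u ∈ 𝓠 n, pr u = c) :=
  exists_h1_proj' a (GMod.of 𝒜 P 𝓟) (GMod.of 𝒜 Q 𝓠) f hf hker hcok EP EQ h0 h1

omit [Module.Free ℤ ι] [Module.Finite ℤ ι] [IsNoetherianRing R] in
/-- **`H^0_a(P)` as the kernel**: an injection `H^0_a(P) → P` with image the kernel of `f`,
matching the pieces. -/
theorem exists_h0_incl (a : HomogeneousIdeal 𝒜) (f : P →ₗ[R] Q)
    (hker : ∀ x : P, f x = 0 → ∃ k : ℕ, ∀ r ∈ a.toIdeal ^ k, r • x = 0)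
    (EP : StarInjRes 𝒜 𝓟) (hQ : gam a.toIdeal Q = ⊥) :
    ∃ j : EP.H a 0 →ₗ[R] P, Function.Injective j ∧
      (∀ p, f p = 0 ↔ p ∈ LinearMap.range j) ∧
      (∀ (n : ι) (y : EP.H a 0), y ∈ EP.Hgr a 0 n ↔ j y ∈ 𝓟 n) := by
  let e : gam a.toIdeal P ≃ₗ[R] EP.H a 0 :=
    LinearEquiv.ofBijective (Ver.h0 EP a) ⟨h0_injective EP a, h0_surjective EP a⟩
  have he : ∀ x, e x = Ver.h0 EP a x := fun _ => rfl
  refine ⟨(gam a.toIdeal P).subtype ∘ₗ e.symm.toLinearMap, ?_, ?_, ?_⟩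
  · exact (Submodule.subtype_injective _).comp e.symm.injective
  · intro p
    constructor
    · intro hp
      exact ⟨e ⟨p, hker p hp⟩, by
        show ((e.symm (e ⟨p, hker p hp⟩) : gam a.toIdeal P) : P) = p
        rw [LinearEquiv.symm_apply_apply]⟩
    · rintro ⟨y, rfl⟩
      have h1 : f ((e.symm y : gam a.toIdeal P) : P) ∈ gam a.toIdeal Q :=
        gam_map a.toIdeal f (e.symm y).2
      rw [hQ, Submodule.mem_bot] at h1
      exact h1
  · intro n y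
    constructor
    · intro hy
      obtain ⟨x, hx, hxy⟩ := exists_of_mem_Hgr_zero EP a hy
      have h1 : e.symm y = x := by
        rw [← hxy, ← he, LinearEquiv.symm_apply_apply]
      show ((e.symm y : gam a.toIdeal P) : P) ∈ 𝓟 n
      rw [h1]
      exact hx
    · intro hy
      have h1 : y = Ver.h0 EP a (e.symm y) := by
        rw [← he, LinearEquiv.apply_symm_apply]
      rw [h1]
      exact h0_mem_Hgr EP a hy

end Low

end Groth.Agent.Lib.Helper87.Kun
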