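import Groth.Agent.Lib.Helper87.Kun36
import Mathlib.RingTheory.Flat.Basic

/-!
# The kernel of a Segre product of maps (helper87)

For homogeneous `f : M → M'` and injective homogeneous `g : N → N'`, the kernel of
`f # g : M # N → M' # N'` is the Segre product `(ker f) # N`.
-/

set_option autoImplicit false
universe u

namespace Groth.Agent.Lib.Helper87.Kun

open DirectSum TensorProduct GrLC
open Groth.Agent.Lib.Helper99 Groth.Agent.Lib.Helper39 Groth.Agent.Lib.Helper39.GrBridge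
  Groth.Agent.Lib.Helper39.GrKoszul Groth.Agent.Lib.Helper87.SegOne Groth.Agent.Lib.Helper60

/-- the pieces of a graded module over a graded algebra are stable under the scalars -/
theorem piece_smul_mem {k : Type u} [Field k] {T' : Type u} [CommRing T'] [Algebra k T']
    (𝒯 : ℤ → Submodule k T') [GradedAlgebra 𝒯]
    {P : Type u} [AddCommGroup P] [Module T' P] [Module k P] [IsScalarTower k T' P]
    {𝒬 : ℤ → AddSubgroup P} [SetLike.GradedSMul 𝒯 𝒬] (c : k) {n : ℤ} {p : P} (hp : p ∈ 𝒬 n) :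
    c • p ∈ 𝒬 n := by
  rw [← algebraMap_smul T' c p]
  have h0 : algebraMap k T' c ∈ 𝒯 0 := SetLike.algebraMap_mem_graded 𝒯 c
  have := SetLike.GradedSMul.smul_mem (A := 𝒯) (B := 𝒬) h0 hp
  rw [vadd_eq_add, zero_add] at this
  exact this

section SegKer

variable {k : Type u} [Field k] {R S T : Type u} [CommRing R] [CommRing S] [CommRing T]
  [Algebra k R] [Algebra k S] [Algebra k T]
  {𝒜 : ℤ → Submodule k R} [GradedAlgebra 𝒜] {ℬ : ℤ → Submodule k S} [GradedAlgebra ℬ]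
  (𝒯 : ℤ → Submodule k T) [GradedAlgebra 𝒯]
  (ψ : T →ₐ[k] R ⊗[k] S) (hT : GrSeg.IsSegreRing 𝒜 ℬ 𝒯 ψ)
  {M N P M' N' : Type u} [AddCommGroup M] [Module R M] [Module k M] [IsScalarTower k R M]
  [AddCommGroup N] [Module S N] [Module k N] [IsScalarTower k S N]
  [AddCommGroup P] [Module T P] [Module k P] [IsScalarTower k T P]
  [AddCommGroup M'] [Module R M'] [Module k M'] [IsScalarTower k R M']
  [AddCommGroup N'] [Module S N'] [Module k N'] [IsScalarTower k S N']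
  {ℳ : ℤ → AddSubgroup M} [DirectSum.Decomposition ℳ] [SetLike.GradedSMul 𝒜 ℳ]
  {𝒩 : ℤ → AddSubgroup N} [DirectSum.Decomposition 𝒩] [SetLike.GradedSMul ℬ 𝒩]
  {𝒬 : ℤ → AddSubgroup P} [DirectSum.Decomposition 𝒬] [SetLike.GradedSMul 𝒯 𝒬]
  {ℳ' : ℤ → AddSubgroup M'} [DirectSum.Decomposition ℳ'] [SetLike.GradedSMul 𝒜 ℳ']
  {𝒩' : ℤ → AddSubgroup N'} [DirectSum.Decomposition 𝒩'] [SetLike.GradedSMul ℬ 𝒩']
  (f : M →ₗ[R] M') (hf : IsGrHom ℳ ℳ' f) (g : N →ₗ[S] N') (hg : IsGrHom 𝒩 𝒩' g)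
  (φ : P →ₗ[k] M ⊗[k] N) (hP : GrSeg.IsSegreMod ψ ℳ 𝒩 𝒬 φ)

/-- the kernel of `f ⊗ g` for injective `g` -/
theorem mem_range_of_mapE_eq_zero (hgi : Function.Injective g)
    {H₀ : Type u} [AddCommGroup H₀] [Module R H₀] [Module k H₀] [IsScalarTower k R H₀]
    (ι₀ : H₀ →ₗ[R] M) (hι₀r : ∀ x, f x = 0 ↔ x ∈ LinearMap.range ι₀)
    {v : M ⊗[k] N} (hv : mapE (k := k) f g v = 0) :
    v ∈ LinearMap.range (mapE (k := k) ι₀ (LinearMap.id : N →ₗ[S] N)) := by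
  have hinj : Function.Injective (TensorProduct.map (LinearMap.id : M' →ₗ[k] M')
      (g.restrictScalars k)) :=
    TensorProduct.map_injective_of_flat_flat _ _ Function.injective_id hgi
  have hcomp : mapE (k := k) f g = TensorProduct.map (LinearMap.id : M' →ₗ[k] M')
      (g.restrictScalars k) ∘ₗ (f.restrictScalars k).rTensor N := by
    show TensorProduct.map (f.restrictScalars k) (g.restrictScalars k) = _
    rw [LinearMap.rTensor, ← TensorProduct.map_comp, LinearMap.id_comp, LinearMap.comp_id]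
  have h1 : (f.restrictScalars k).rTensor N v = 0 := by
    apply hinj
    rw [map_zero, ← LinearMap.comp_apply, ← hcomp]
    exact hv
  have hex : Function.Exact (ι₀.restrictScalars k) (f.restrictScalars k) := fun x => hι₀r x
  have h2 := (Module.Flat.rTensor_exact N hex v).mp h1
  obtain ⟨w, hw⟩ := h2
  exact ⟨w, hw⟩

include hf in
/-- **The kernel of a Segre product of maps.** -/
theorem exists_isSegreMod_ker (hgi : Function.Injective g)
    {H₀ : Type u} [AddCommGroup H₀] [Module R H₀] [Module k H₀] [IsScalarTower k R H₀]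
    {ℋ₀ : ℤ → AddSubgroup H₀} [DirectSum.Decomposition ℋ₀] [SetLike.GradedSMul 𝒜 ℋ₀]
    (ι₀ : H₀ →ₗ[R] M) (hι₀ : Function.Injective ι₀)
    (hι₀r : ∀ x, f x = 0 ↔ x ∈ LinearMap.range ι₀)
    (hℋ₀ : ∀ (n : ℤ) (h : H₀), h ∈ ℋ₀ n ↔ ι₀ h ∈ ℳ n)
    {A : Type u} [AddCommGroup A] [Module T A] [Module k A] [IsScalarTower k T A]
    {𝒜A : ℤ → AddSubgroup A} [DirectSum.Decomposition 𝒜A]
    (j : A →ₗ[T] P) (hj : Function.Injective j)
    (hjr : ∀ p, segComp 𝒯 ψ hT f hf g hg φ hP p = 0 ↔ p ∈ LinearMap.range j)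
    (h𝒜A : ∀ (n : ℤ) (a : A), a ∈ 𝒜A n ↔ j a ∈ 𝒬 n) :
    ∃ φ' : A →ₗ[k] H₀ ⊗[k] N, GrSeg.IsSegreMod ψ ℋ₀ 𝒩 𝒜A φ' := by
  classical
  let Θ : H₀ ⊗[k] N →ₗ[k] M ⊗[k] N := mapE (k := k) ι₀ (LinearMap.id : N →ₗ[S] N)
  have hΘ : Function.Injective Θ :=
    TensorProduct.map_injective_of_flat_flat _ _ hι₀ Function.injective_id
  have hι₀gr : IsGrHom ℋ₀ ℳ ι₀ := fun n h hh => (hℋ₀ n h).mp hh
  have hidgr : IsGrHom 𝒩 𝒩 (LinearMap.id : N →ₗ[S] N) := fun _ _ h => h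
  have hmem : ∀ a : A, φ (j a) ∈ LinearMap.range Θ := by
    intro a
    have h1 : segComp 𝒯 ψ hT f hf g hg φ hP (j a) = 0 := (hjr (j a)).mpr ⟨a, rfl⟩
    have h2 : mapE (k := k) f g (φ (j a)) = 0 := by
      rw [← segVal_segComp 𝒯 ψ hT f hf g hg φ hP, h1, map_zero]
    exact mem_range_of_mapE_eq_zero f g hgi ι₀ hι₀r h2
  let φ₀ : A →ₗ[k] LinearMap.range Θ :=
    LinearMap.codRestrict (LinearMap.range Θ) (φ ∘ₗ j.restrictScalars k) hmem
  let φ' : A →ₗ[k] H₀ ⊗[k] N := (LinearEquiv.ofInjective Θ hΘ).symm.toLinearMap ∘ₗ φ₀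
  have hφ' : ∀ a, Θ (φ' a) = φ (j a) := by
    intro a
    have h1 : LinearEquiv.ofInjective Θ hΘ (φ' a) = φ₀ a :=
      (LinearEquiv.ofInjective Θ hΘ).apply_symm_apply (φ₀ a)
    have h2 := congrArg Subtype.val h1
    exact h2
  refine ⟨φ', ?_, ?_, ?_⟩
  · intro a a' haa
    apply hj
    apply hP.injective
    rw [← hφ', ← hφ', haa]
  · intro n
    ext v
    constructor
    · rintro ⟨a, ha, rfl⟩
      have h1 : φ (j a) ∈ GrSeg.segrePiece k ℳ 𝒩 n :=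
        phi_mem ℳ 𝒩 𝒬 ψ φ hP ((h𝒜A n a).mp ha)
      have h2 : Θ (prMN 𝒜 ℬ ℋ₀ 𝒩 n n (φ' a)) = Θ (φ' a) := by
        show mapE (k := k) ι₀ (LinearMap.id : N →ₗ[S] N) (prMN 𝒜 ℬ ℋ₀ 𝒩 n n (φ' a)) = _
        rw [prMN_mapE ι₀ hι₀gr (LinearMap.id : N →ₗ[S] N) hidgr]
        show prMN 𝒜 ℬ ℳ 𝒩 n n (Θ (φ' a)) = Θ (φ' a)
        rw [hφ']
        exact prMN_of_mem 𝒜 ℬ ℳ 𝒩 h1
      have h3 : prMN 𝒜 ℬ ℋ₀ 𝒩 n n (φ' a) = φ' a := hΘ h2
      have h4 := prMN_mem 𝒜 ℬ ℋ₀ 𝒩 n n (φ' a)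
      rw [h3] at h4
      exact h4
    · intro hv
      have key : ∃ a ∈ 𝒜A n, φ' a = v := by
        induction hv using Submodule.span_induction with
        | mem v hv =>
          obtain ⟨h, hh, y, hy, rfl⟩ := hv
          have h1 : ι₀ h ⊗ₜ[k] y ∈ GrSeg.segrePiece k ℳ 𝒩 n :=
            Submodule.subset_span ⟨_, (hℋ₀ n h).mp hh, y, hy, rfl⟩
          obtain ⟨p, hp, hpx⟩ := exists_phi_eq ℳ 𝒩 𝒬 ψ φ hP h1
          have h2 : segComp 𝒯 ψ hT f hf g hg φ hP p = 0 := by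
            apply segVal_injective
            rw [segVal_segComp, hpx, mapE_tmul, (hι₀r (ι₀ h)).mpr ⟨h, rfl⟩,
              TensorProduct.zero_tmul, map_zero]
          obtain ⟨a, rfl⟩ := (hjr p).mp h2
          refine ⟨a, (h𝒜A n a).mpr hp, ?_⟩
          apply hΘ
          rw [hφ', hpx]
          rfl
        | zero => exact ⟨0, AddSubgroup.zero_mem _, map_zero _⟩
        | add v v' _ _ hv hv' =>
          obtain ⟨a, ha, rfl⟩ := hv
          obtain ⟨a', ha', rfl⟩ := hv'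
          exact ⟨a + a', AddSubgroup.add_mem _ ha ha', map_add _ _ _⟩
        | smul c v _ hv =>
          obtain ⟨a, ha, rfl⟩ := hv
          refine ⟨c • a, (h𝒜A n _).mpr ?_, map_smul _ _ _⟩
          have h1 : j (c • a) = c • j a := by
            rw [← algebraMap_smul T c a, map_smul, algebraMap_smul]
          rw [h1]
          exact piece_smul_mem 𝒯 c ((h𝒜A n a).mp ha)
      obtain ⟨a, ha, rfl⟩ := key
      exact ⟨a, ha, rfl⟩
  · intro t a
    apply hΘ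
    rw [hφ', map_smul, hP.map_smul]
    show _ = mapE (k := k) ι₀ (LinearMap.id : N →ₗ[S] N) (GrSeg.act k R S H₀ N (ψ t) (φ' a))
    rw [mapE_act]
    show _ = GrSeg.act k R S M N (ψ t) (Θ (φ' a))
    rw [hφ']

end SegKer

end Groth.Agent.Lib.Helper87.Kun
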