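import Groth.Agent.Lib.Helper87.Kun49

/-!
# The cokernel of a Segre product of maps (helper87)

For homogeneous `f : M → M'` and bijective homogeneous `g : N → N'`, the cokernel of
`f # g : M # N → M' # N'` is the Segre product `(coker f) # N`.
-/

set_option autoImplicit false
universe u

namespace Groth.Agent.Lib.Helper87.Kun

open DirectSum TensorProduct GrLC
open Groth.Agent.Lib.Helper99 Groth.Agent.Lib.Helper39 Groth.Agent.Lib.Helper39.GrBridge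
  Groth.Agent.Lib.Helper39.GrKoszul Groth.Agent.Lib.Helper87.SegOne Groth.Agent.Lib.Helper60

section SegCoker

variable {k : Type u} [Field k] {R S T : Type u} [CommRing R] [CommRing S] [CommRing T]
  [Algebra k R] [Algebra k S] [Algebra k T]
  {𝒜 : ℤ → Submodule k R} [GradedAlgebra 𝒜] {ℬ : ℤ → Submodule k S} [GradedAlgebra ℬ]
  (𝒯 : ℤ → Submodule k T) [GradedAlgebra 𝒯]
  (ψ : T →ₐ[k] R ⊗[k] S) (hT : GrSeg.IsSegreRing 𝒜 ℬ 𝒯 ψ)
  {M N P M' N' : Type u} [AddCommGroup M] [Module R M] [Module k M] [IsScalarTower k R M]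
  [AddCommGroup N] [Module S N] [Module k N] [IsScalarTower k S N]
  [AddCommGroup P] [Module T P] [Module k P] [IsScalarTower k T P]
  [AddCommGroup M'] [Module R M'] [Module k M'] [IsScalarTower k R M']
  [AddCommGroup N'] [Module S N'] [Module k N'] [IsScalarTower k S N']
  {ℳ : ℤ → AddSubgroup M} [DirectSum.Decomposition ℳ] [SetLike.GradedSMul 𝒜 ℳ]
  {𝒩 : ℤ → AddSubgroup N} [DirectSum.Decomposition 𝒩] [SetLike.GradedSMul ℬ 𝒩]
  {𝒬 : ℤ → AddSubgroup P} [DirectSum.Decomposition 𝒬] [SetLike.GradedSMul 𝒯 𝒬]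
  {ℳ' : ℤ → AddSubgroup M'} [DirectSum.Decomposition ℳ'] [SetLike.GradedSMul 𝒜 ℳ']
  {𝒩' : ℤ → AddSubgroup N'} [DirectSum.Decomposition 𝒩'] [SetLike.GradedSMul ℬ 𝒩']
  (f : M →ₗ[R] M') (hf : IsGrHom ℳ ℳ' f) (g : N →ₗ[S] N') (hg : IsGrHom 𝒩 𝒩' g)
  (φ : P →ₗ[k] M ⊗[k] N) (hP : GrSeg.IsSegreMod ψ ℳ 𝒩 𝒬 φ)

/-- the kernel of `π ⊗ γ` for surjective `π` with kernel the image of `f` and bijective `γ`
inverse to `g` -/
theorem mem_range_mapE_of_mapE_eq_zero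
    {H₁ : Type u} [AddCommGroup H₁] [Module R H₁] [Module k H₁] [IsScalarTower k R H₁]
    (π₁ : M' →ₗ[R] H₁) (hπ₁s : Function.Surjective π₁)
    (hπ₁ : ∀ z, π₁ z = 0 ↔ z ∈ LinearMap.range f)
    (γ : N' →ₗ[S] N) (hγ : Function.Bijective γ) (hγg : ∀ y, g (γ y) = y)
    {v : M' ⊗[k] N'} (hv : mapE (k := k) π₁ γ v = 0) :
    v ∈ LinearMap.range (mapE (k := k) f g) := by
  have hk := TensorProduct.map_ker
    (LinearMap.exact_subtype_ker_map (π₁.restrictScalars k)) hπ₁s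
    (LinearMap.exact_subtype_ker_map (γ.restrictScalars k)) hγ.2
  have hv' : v ∈ LinearMap.ker (TensorProduct.map (π₁.restrictScalars k)
      (γ.restrictScalars k)) := LinearMap.mem_ker.mpr hv
  rw [hk] at hv'
  refine (sup_le ?_ ?_ : _ ≤ LinearMap.range (mapE (k := k) f g)) hv'
  · rintro _ ⟨z, rfl⟩
    induction z using TensorProduct.induction_on with
    | zero => rw [map_zero]; exact zero_mem _
    | tmul x y =>
      have hy : (y : N') = 0 := by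
        have h1 := y.2
        rw [LinearMap.mem_ker] at h1
        exact hγ.1 (h1.trans (map_zero γ).symm)
      rw [LinearMap.lTensor_tmul, Submodule.subtype_apply, hy, TensorProduct.tmul_zero]
      exact zero_mem _
    | add z z' hz hz' => rw [map_add]; exact add_mem hz hz'
  · rintro _ ⟨z, rfl⟩
    induction z using TensorProduct.induction_on with
    | zero => rw [map_zero]; exact zero_mem _
    | tmul x y =>
      have hx : π₁ (x : M') = 0 := by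
        have h1 := x.2
        rw [LinearMap.mem_ker] at h1
        exact h1
      obtain ⟨m, hm⟩ := (hπ₁ _).mp hx
      refine ⟨m ⊗ₜ[k] γ y, ?_⟩
      rw [mapE_tmul, hm, hγg, LinearMap.rTensor_tmul, Submodule.subtype_apply]
    | add z z' hz hz' => rw [map_add]; exact add_mem hz hz'

include hf in
/-- **The cokernel of a Segre product of maps.** -/
theorem exists_isSegreMod_coker (hgb : Function.Bijective g)
    {H₁ : Type u} [AddCommGroup H₁] [Module R H₁] [Module k H₁] [IsScalarTower k R H₁]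
    {ℋ₁ : ℤ → AddSubgroup H₁}
    (π₁ : M' →ₗ[R] H₁) (hπ₁s : Function.Surjective π₁)
    (hπ₁ : ∀ z, π₁ z = 0 ↔ z ∈ LinearMap.range f)
    (hℋ₁ : ∀ (n : ℤ) (h : H₁), h ∈ ℋ₁ n ↔ ∃ z ∈ ℳ' n, π₁ z = h)
    {C : Type u} [AddCommGroup C] [Module T C] [Module k C] [IsScalarTower k T C]
    {𝒞 : ℤ → AddSubgroup C} [DirectSum.Decomposition 𝒞]
    (pr : segSub 𝒜 ℬ 𝒯 ψ hT ℳ' 𝒩' →ₗ[T] C) (hprs : Function.Surjective pr)
    (hpr0 : ∀ u, pr u = 0 ↔ u ∈ LinearMap.range (segComp 𝒯 ψ hT f hf g hg φ hP))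
    (h𝒞 : ∀ (n : ℤ) (c : C), c ∈ 𝒞 n ↔ ∃ u ∈ segGr 𝒜 ℬ 𝒯 ψ hT ℳ' 𝒩' n, pr u = c) :
    ∃ φ' : C →ₗ[k] H₁ ⊗[k] N, GrSeg.IsSegreMod ψ ℋ₁ 𝒩 𝒞 φ' := by
  classical
  let eg : N ≃ₗ[S] N' := LinearEquiv.ofBijective g hgb
  let γ : N' →ₗ[S] N := eg.symm.toLinearMap
  have hγg : ∀ y, g (γ y) = y := fun y => eg.apply_symm_apply y
  have hgγ : ∀ y, γ (g y) = y := fun y => eg.symm_apply_apply y
  have hγb : Function.Bijective γ := eg.symm.bijective
  have hγgr : ∀ (n : ℤ) (y : N'), y ∈ 𝒩' n → γ y ∈ 𝒩 n := by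
    intro n y hy
    refine IsGrHom.mem_of_injective 𝒩 𝒩' hg hgb.1 ?_
    rw [hγg]
    exact hy
  let Ψ : segSub 𝒜 ℬ 𝒯 ψ hT ℳ' 𝒩' →ₗ[k] H₁ ⊗[k] N :=
    mapE (k := k) π₁ γ ∘ₗ segVal 𝒜 ℬ 𝒯 ψ hT ℳ' 𝒩'
  have hΨ : ∀ u, Ψ u = mapE (k := k) π₁ γ (segVal 𝒜 ℬ 𝒯 ψ hT ℳ' 𝒩' u) := fun _ => rfl
  -- the composite `(π₁ ⊗ γ) ∘ (f ⊗ g)` vanishes
  have hzero : ∀ w : M ⊗[k] N, mapE (k := k) π₁ γ (mapE (k := k) f g w) = 0 := by
    intro w
    induction w using TensorProduct.induction_on with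
    | zero => rw [map_zero, map_zero]
    | tmul m n =>
      rw [mapE_tmul, mapE_tmul, (hπ₁ (f m)).mpr ⟨m, rfl⟩, TensorProduct.zero_tmul]
    | add w w' hw hw' => rw [map_add, map_add, hw, hw', add_zero]
  have hK : ∀ u, Ψ u = 0 ↔ u ∈ LinearMap.range (segComp 𝒯 ψ hT f hf g hg φ hP) := by
    intro u
    constructor
    · intro hu
      rw [hΨ] at hu
      obtain ⟨w, hw⟩ := mem_range_mapE_of_mapE_eq_zero f g π₁ hπ₁s hπ₁ γ hγb hγg hu
      have h1 : segVal 𝒜 ℬ 𝒯 ψ hT ℳ' 𝒩' u ∈ segAll (k := k) ℳ' 𝒩' := segVal_mem 𝒜 ℬ 𝒯 ψ hT ℳ' 𝒩' u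
      have h2 : mapE (k := k) f g (diagPr 𝒜 ℬ ℳ 𝒩 w) = segVal 𝒜 ℬ 𝒯 ψ hT ℳ' 𝒩' u := by
        rw [← diagPr_mapE f hf g hg, hw, diagPr_of_mem 𝒜 ℬ ℳ' 𝒩' h1]
      obtain ⟨p, hp⟩ := exists_phi_eq_of_mem_segAll ψ φ hP (diagPr_mem 𝒜 ℬ ℳ 𝒩 w)
      refine ⟨p, ?_⟩
      apply segVal_injective
      rw [segVal_segComp, hp, h2]
    · rintro ⟨p, rfl⟩
      rw [hΨ, segVal_segComp, hzero]
  -- descend to the quotient
  let prk : segSub 𝒜 ℬ 𝒯 ψ hT ℳ' 𝒩' →ₗ[k] C := pr.restrictScalars k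
  have hprk : ∀ u, prk u = pr u := fun _ => rfl
  let e := LinearMap.quotKerEquivOfSurjective prk hprs
  have hle : LinearMap.ker prk ≤ LinearMap.ker Ψ := by
    intro u hu
    rw [LinearMap.mem_ker] at hu ⊢
    exact (hK u).mpr ((hpr0 u).mp hu)
  let φ' : C →ₗ[k] H₁ ⊗[k] N := (LinearMap.ker prk).liftQ Ψ hle ∘ₗ e.symm.toLinearMap
  have hφ' : ∀ u, φ' (pr u) = Ψ u := by
    intro u
    have h1 : e.symm (pr u) = (LinearMap.ker prk).mkQ u := by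
      rw [LinearEquiv.symm_apply_eq]
      rfl
    show (LinearMap.ker prk).liftQ Ψ hle (e.symm (pr u)) = Ψ u
    rw [h1]
    rfl
  refine ⟨φ', ?_, ?_, ?_⟩
  · rw [injective_iff_map_eq_zero]
    intro c hc
    obtain ⟨u, rfl⟩ := hprs c
    rw [hφ'] at hc
    exact (hpr0 u).mpr ((hK u).mp hc)
  · intro n
    ext v
    constructor
    · rintro ⟨c, hc, rfl⟩
      obtain ⟨u, hu, rfl⟩ := (h𝒞 n c).mp hc
      rw [hφ', hΨ]
      have h1 : segVal 𝒜 ℬ 𝒯 ψ hT ℳ' 𝒩' u ∈ GrSeg.segrePiece k ℳ' 𝒩' n := hu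
      have key : ∀ z ∈ GrSeg.segrePiece k ℳ' 𝒩' n,
          mapE (k := k) π₁ γ z ∈ GrSeg.segrePiece k ℋ₁ 𝒩 n := by
        intro z hz
        induction hz using Submodule.span_induction with
        | mem z hz =>
          obtain ⟨m, hm, y, hy, rfl⟩ := hz
          rw [mapE_tmul]
          exact Submodule.subset_span ⟨π₁ m, (hℋ₁ n _).mpr ⟨m, hm, rfl⟩, γ y, hγgr n y hy, rfl⟩
        | zero => rw [map_zero]; exact Submodule.zero_mem _
        | add z z' _ _ hz hz' => rw [map_add]; exact Submodule.add_mem _ hz hz'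
        | smul a z _ hz => rw [map_smul]; exact Submodule.smul_mem _ a hz
      exact key _ h1
    · intro hv
      have key : ∃ c ∈ 𝒞 n, φ' c = v := by
        induction hv using Submodule.span_induction with
        | mem v hv =>
          obtain ⟨h, hh, y, hy, rfl⟩ := hv
          obtain ⟨z, hz, rfl⟩ := (hℋ₁ n h).mp hh
          have h1 : z ⊗ₜ[k] g y ∈ GrSeg.segrePiece k ℳ' 𝒩' n :=
            Submodule.subset_span ⟨z, hz, g y, hg n y hy, rfl⟩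
          have h2 : z ⊗ₜ[k] g y ∈ segAll (k := k) ℳ' 𝒩' := Submodule.mem_iSup_of_mem n h1
          refine ⟨pr (segMk 𝒜 ℬ 𝒯 ψ hT ℳ' 𝒩' _ h2), (h𝒞 n _).mpr ⟨_, ?_, rfl⟩, ?_⟩
          · exact h1
          · rw [hφ', hΨ, segVal_segMk, mapE_tmul, hgγ]
        | zero => exact ⟨0, AddSubgroup.zero_mem _, map_zero _⟩
        | add v v' _ _ hv hv' =>
          obtain ⟨c, hc, rfl⟩ := hv
          obtain ⟨c', hc', rfl⟩ := hv'
          exact ⟨c + c', AddSubgroup.add_mem _ hc hc', map_add _ _ _⟩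
        | smul a v _ hv =>
          obtain ⟨c, hc, rfl⟩ := hv
          obtain ⟨u, hu, rfl⟩ := (h𝒞 n c).mp hc
          refine ⟨a • pr u, (h𝒞 n _).mpr ⟨a • u, ?_, ?_⟩, map_smul _ _ _⟩
          · have h1 : segVal 𝒜 ℬ 𝒯 ψ hT ℳ' 𝒩' u ∈ GrSeg.segrePiece k ℳ' 𝒩' n := hu
            show segVal 𝒜 ℬ 𝒯 ψ hT ℳ' 𝒩' (a • u) ∈ GrSeg.segrePiece k ℳ' 𝒩' n
            rw [map_smul]
            exact Submodule.smul_mem _ a h1
          · exact map_smul prk a u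
      obtain ⟨c, hc, rfl⟩ := key
      exact ⟨c, hc, rfl⟩
  · intro t c
    obtain ⟨u, rfl⟩ := hprs c
    rw [← map_smul, hφ', hφ', hΨ, hΨ, segVal_smul, mapE_act]

end SegCoker

end Groth.Agent.Lib.Helper87.Kun
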