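import Groth.Agent.Lib.Helper87.Kun47
import Groth.Agent.Lib.Helper87.Kun48
import Groth.Agent.Lib.Helper87.Kun50
import Groth.Agent.Lib.Helper87.Kun37
import Groth.Agent.Lib.Helper39.GrRegVanish

/-!
# `H^q_{T_+}(M # N) ≅ H^q_m(M) # N` for `q = 0, 1` when `N` has no local cohomology (helper87)
-/

set_option autoImplicit false
universe u

namespace Groth.Agent.Lib.Helper87.Kun

open DirectSum TensorProduct GrLC
open Groth.Agent.Lib.Helper99 Groth.Agent.Lib.Helper39 Groth.Agent.Lib.Helper39.GrBridge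
  Groth.Agent.Lib.Helper39.GrKoszul Groth.Agent.Lib.Helper87.SegOne Groth.Agent.Lib.Helper60
  Groth.Agent.Lib.Helper39.Ver

section XZBij

variable {k : Type u} [Field k] {R : Type u} [CommRing R] [Algebra k R] [IsNoetherianRing R]
  (𝒜 : ℤ → Submodule k R) [GradedAlgebra 𝒜]
  {M : Type u} [AddCommGroup M] [Module R M]
  {ℳ : ℤ → AddSubgroup M} [DirectSum.Decomposition ℳ] [SetLike.GradedSMul 𝒜 ℳ]
  (EM : StarInjRes 𝒜 ℳ) (mR : HomogeneousIdeal 𝒜)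

attribute [local instance] toSubGradedRing toSubDecomposition toSubGradedSMul

/-- the ideal transform has no torsion -/
theorem gam_ZK_eq_bot :
    gam (convIdeal mR).toIdeal (ZK k (xCx 𝒜 EM mR)) = ⊥ :=
  (H_zero_subsingleton_iff (someRes ((xCx 𝒜 EM mR).Z 0)) (convIdeal mR)).mp
    (CoCx.Z_H0 (ebar_totAcyc (convRes EM) (convIdeal mR)) 0 (someRes ((xCx 𝒜 EM mR).Z 0)))

/-- `H^1_m(M)` as the cokernel of the map to the ideal transform -/
theorem exists_xZ_h1 (hmR : mR.toIdeal = irr 𝒜) :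
    ∃ pr : ZK k (xCx 𝒜 EM mR) →ₗ[R] EM.H mR 1, Function.Surjective pr ∧
      (∀ u, pr u = 0 ↔ u ∈ LinearMap.range (xZ (k := k) 𝒜 EM mR)) ∧
      (∀ (n : ℤ) (c : EM.H mR 1), c ∈ EM.Hgr mR 1 n ↔
        ∃ u ∈ zKGr k (xCx 𝒜 EM mR) n, pr u = c) := by
  have hmR' : (convIdeal mR).toIdeal = irr 𝒜 := hmR
  obtain ⟨pr, h1, h2, h3⟩ := exists_h1_proj (𝓟 := toSub ℳ) (𝓠 := zKGr k (xCx 𝒜 EM mR))
    (convIdeal mR) (xZ (k := k) 𝒜 EM mR)
    (fun g x hx => xZ_grHom 𝒜 EM mR g x hx)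
    (by rw [hmR']; exact xZ_ker 𝒜 EM mR hmR) (by rw [hmR']; exact xZ_coker 𝒜 EM mR hmR)
    (convRes EM) (someRes ((xCx 𝒜 EM mR).Z 0))
    (CoCx.Z_H0 (ebar_totAcyc (convRes EM) (convIdeal mR)) 0 _)
    (CoCx.Z_H1 (ebar_totAcyc (convRes EM) (convIdeal mR)) 0 _)
  exact ⟨pr, h1, h2, fun n c => h3 n c⟩

/-- `H^0_m(M)` as the kernel of the map to the ideal transform -/
theorem exists_xZ_h0 (hmR : mR.toIdeal = irr 𝒜) :
    ∃ j : EM.H mR 0 →ₗ[R] M, Function.Injective j ∧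
      (∀ p, xZ (k := k) 𝒜 EM mR p = 0 ↔ p ∈ LinearMap.range j) ∧
      (∀ (n : ℤ) (y : EM.H mR 0), y ∈ EM.Hgr mR 0 n ↔ j y ∈ ℳ n) := by
  have hmR' : (convIdeal mR).toIdeal = irr 𝒜 := hmR
  obtain ⟨j, h1, h2, h3⟩ := exists_h0_incl (𝓟 := toSub ℳ) (convIdeal mR) (xZ (k := k) 𝒜 EM mR)
    (by rw [hmR']; exact xZ_ker 𝒜 EM mR hmR) (convRes EM) (gam_ZK_eq_bot 𝒜 EM mR)
  exact ⟨j, h1, h2, fun n y => h3 n y⟩

/-- a module without `H^0` and `H^1` is its own ideal transform -/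
theorem xZ_bijective (hmR : mR.toIdeal = irr 𝒜) (h0 : Subsingleton (EM.H mR 0))
    (h1 : Subsingleton (EM.H mR 1)) : Function.Bijective (xZ (k := k) 𝒜 EM mR) := by
  constructor
  · rw [injective_iff_map_eq_zero]
    intro x hx
    obtain ⟨j, -, hj2, -⟩ := exists_xZ_h0 (k := k) 𝒜 EM mR hmR
    obtain ⟨y, rfl⟩ := (hj2 x).mp hx
    rw [Subsingleton.elim y 0, map_zero]
  · intro z
    obtain ⟨pr, -, hp2, -⟩ := exists_xZ_h1 (k := k) 𝒜 EM mR hmR
    exact (hp2 z).mp (Subsingleton.elim _ _)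

omit [IsNoetherianRing R] in
/-- the pieces of graded local cohomology are compatible with the grading of the ring -/
theorem Hgr_gradedSMul (q : ℕ) : SetLike.GradedSMul 𝒜 (EM.Hgr mR q) where
  smul_mem := by
    intro i j a b ha hb
    have h := GrRegVanish.smul_mem_Hgr (convRes EM) (convIdeal mR) q (x := a) (d := i)
      (show a ∈ toSub 𝒜 i from ha) (y := b) (n := j) hb
    rw [vadd_eq_add, add_comm]
    exact h

end XZBij

end Groth.Agent.Lib.Helper87.Kun
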