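import Groth.Agent.Lib.Helper87.Kun51

/-!
# Low degrees of the local cohomology of a Segre product (helper87)

`seg_low`: for `P = M # N` mapping to `M' # N'` (augmentation modules of two complexes) with
torsion kernel and cokernel, `H^1_{T_+}(P)` is the cokernel and `H^0_{T_+}(P)` the kernel of
`f # g`.
-/

set_option autoImplicit false
universe u

namespace Groth.Agent.Lib.Helper87.Kun

open DirectSum TensorProduct GrLC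
open Groth.Agent.Lib.Helper99 Groth.Agent.Lib.Helper39 Groth.Agent.Lib.Helper39.GrBridge
  Groth.Agent.Lib.Helper39.GrKoszul Groth.Agent.Lib.Helper87.SegOne Groth.Agent.Lib.Helper60
  Groth.Agent.Lib.Helper39.Ver

section Core

variable {k : Type u} [Field k] {R S T : Type u} [CommRing R] [CommRing S] [CommRing T]
  [Algebra k R] [Algebra k S] [Algebra k T]
  {𝒜 : ℤ → Submodule k R} [GradedAlgebra 𝒜] {ℬ : ℤ → Submodule k S} [GradedAlgebra ℬ]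
  (𝒯 : ℤ → Submodule k T) [GradedAlgebra 𝒯]
  (ψ : T →ₐ[k] R ⊗[k] S) (hT : GrSeg.IsSegreRing 𝒜 ℬ 𝒯 ψ)
  {X Y : Type u} [AddCommGroup X] [Module R X] [Module k X] [IsScalarTower k R X]
  [AddCommGroup Y] [Module S Y] [Module k Y] [IsScalarTower k S Y]
  {𝒳 : ℤ → AddSubgroup X} [DirectSum.Decomposition 𝒳] [SetLike.GradedSMul 𝒜 𝒳]
  {𝒴 : ℤ → AddSubgroup Y} [DirectSum.Decomposition 𝒴] [SetLike.GradedSMul ℬ 𝒴]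
  {CX : CxData 𝒜 𝒳} {CY : CxData ℬ 𝒴}
  {M N P M' N' : Type u} [AddCommGroup M] [Module R M] [Module k M] [IsScalarTower k R M]
  [AddCommGroup N] [Module S N] [Module k N] [IsScalarTower k S N]
  [AddCommGroup P] [Module T P] [Module k P] [IsScalarTower k T P]
  [AddCommGroup M'] [Module R M'] [Module k M'] [IsScalarTower k R M']
  [AddCommGroup N'] [Module S N'] [Module k N'] [IsScalarTower k S N']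
  {ℳ : ℤ → AddSubgroup M} [DirectSum.Decomposition ℳ] [SetLike.GradedSMul 𝒜 ℳ]
  {𝒩 : ℤ → AddSubgroup N} [DirectSum.Decomposition 𝒩] [SetLike.GradedSMul ℬ 𝒩]
  {𝒬 : ℤ → AddSubgroup P} [DirectSum.Decomposition 𝒬] [SetLike.GradedSMul 𝒯 𝒬]
  {ℳ' : ℤ → AddSubgroup M'} [DirectSum.Decomposition ℳ'] [SetLike.GradedSMul 𝒜 ℳ']
  {𝒩' : ℤ → AddSubgroup N'} [DirectSum.Decomposition 𝒩'] [SetLike.GradedSMul ℬ 𝒩']
  (AX : AugData CX ℳ') (AY : AugData CY 𝒩')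
  (f : M →ₗ[R] M') (hf : IsGrHom ℳ ℳ' f) (g : N →ₗ[S] N') (hg : IsGrHom 𝒩 𝒩' g)
  (φ : P →ₗ[k] M ⊗[k] N) (hP : GrSeg.IsSegreMod ψ ℳ 𝒩 𝒬 φ)
  (hTX : ∀ (i : ℕ) (x : X), CX.c (i + 1) x = x → CX.D x = 0 →
    ∃ n : ℕ, ∀ r ∈ irr 𝒜 ^ n, r • x ∈ LinearMap.range CX.D)
  (hTY : ∀ (i : ℕ) (y : Y), CY.c (i + 1) y = y → CY.D y = 0 →
    ∃ n : ℕ, ∀ r ∈ irr ℬ ^ n, r • y ∈ LinearMap.range CY.D)

attribute [local instance] toSubGradedRing toSubDecomposition toSubGradedSMul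

include hTX hTY AX AY in
/-- **Low degrees for Segre products**: `H^1` is the cokernel and `H^0` the kernel of the map to
the Segre product of the augmentation modules. -/
theorem seg_low [IsNoetherianRing R] [IsNoetherianRing S] [IsNoetherianRing T]
    [IsNoetherianRing (R ⊗[k] S)] (a : HomogeneousIdeal (toSub 𝒯)) (ha : a.toIdeal = irr 𝒯)
    (hX : ∀ (B : Type u) (p : ℕ), Subsingleton (LocCoh.H (irr 𝒜) p (B →₀ X)))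
    (hY : ∀ (B : Type u) (p : ℕ), Subsingleton (LocCoh.H (irr ℬ) p (B →₀ Y)))
    (hkf : ∀ x, f x = 0 → ∃ n : ℕ, ∀ r ∈ irr 𝒜 ^ n, r • x = 0)
    (hkg : ∀ y, g y = 0 → ∃ n : ℕ, ∀ r ∈ irr ℬ ^ n, r • y = 0)
    (hcf : ∀ x' : M', ∃ n : ℕ, ∀ r ∈ irr 𝒜 ^ n, r • x' ∈ LinearMap.range f)
    (hcg : ∀ y' : N', ∃ n : ℕ, ∀ r ∈ irr ℬ ^ n, r • y' ∈ LinearMap.range g)
    (EP : StarInjRes (toSub 𝒯) (toSub 𝒬)) :
    (∃ pr : segSub 𝒜 ℬ 𝒯 ψ hT ℳ' 𝒩' →ₗ[T] EP.H a 1, Function.Surjective pr ∧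
      (∀ u, pr u = 0 ↔ u ∈ LinearMap.range (segComp 𝒯 ψ hT f hf g hg φ hP)) ∧
      (∀ (n : ℤ) (c : EP.H a 1), c ∈ EP.Hgr a 1 n ↔
        ∃ u ∈ segGr 𝒜 ℬ 𝒯 ψ hT ℳ' 𝒩' n, pr u = c)) ∧
    (∃ j : EP.H a 0 →ₗ[T] P, Function.Injective j ∧
      (∀ p, segComp 𝒯 ψ hT f hf g hg φ hP p = 0 ↔ p ∈ LinearMap.range j) ∧
      (∀ (n : ℤ) (y : EP.H a 0), y ∈ EP.Hgr a 0 n ↔ j y ∈ 𝒬 n)) := by
  letI := segDecomposition 𝒜 ℬ 𝒯 ψ hT ℳ' 𝒩'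
  haveI := segGradedSMul 𝒜 ℬ 𝒯 ψ hT ℳ' 𝒩'
  have hP' := isSegreMod_segVal 𝒜 ℬ 𝒯 ψ hT ℳ' 𝒩'
  let EP' : StarInjRes (toSub 𝒯) (toSub (segGr 𝒜 ℬ 𝒯 ψ hT ℳ' 𝒩')) :=
    someRes (GMod.of (toSub 𝒯) (segSub 𝒜 ℬ 𝒯 ψ hT ℳ' 𝒩') (toSub (segGr 𝒜 ℬ 𝒯 ψ hT ℳ' 𝒩')))
  obtain ⟨h0', h1', -⟩ := seg_main 𝒯 ψ hT AX AY (segVal 𝒜 ℬ 𝒯 ψ hT ℳ' 𝒩') hP' hTX hTY a ha hX hY EP'
  have hgr : IsGrHom (toSub 𝒬) (toSub (segGr 𝒜 ℬ 𝒯 ψ hT ℳ' 𝒩'))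
      (segComp 𝒯 ψ hT f hf g hg φ hP) := segComp_grHom 𝒯 ψ hT f hf g hg φ hP
  have hker : ∀ x : P, segComp 𝒯 ψ hT f hf g hg φ hP x = 0 →
      ∃ n : ℕ, ∀ r ∈ a.toIdeal ^ n, r • x = 0 := by
    rw [ha]
    exact segComp_ker 𝒯 ψ hT f hf g hg φ hP hkf hkg
  have hcok : ∀ y : segSub 𝒜 ℬ 𝒯 ψ hT ℳ' 𝒩', ∃ n : ℕ, ∀ r ∈ a.toIdeal ^ n,
      r • y ∈ LinearMap.range (segComp 𝒯 ψ hT f hf g hg φ hP) := by
    rw [ha]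
    exact segComp_coker 𝒯 ψ hT f hf g hg φ hP hcf hcg
  refine ⟨?_, ?_⟩
  · obtain ⟨pr, h1, h2, h3⟩ := exists_h1_proj (𝓟 := toSub 𝒬)
      (𝓠 := toSub (segGr 𝒜 ℬ 𝒯 ψ hT ℳ' 𝒩')) a (segComp 𝒯 ψ hT f hf g hg φ hP) hgr hker hcok
      EP EP' h0' h1'
    exact ⟨pr, h1, h2, fun n c => h3 n c⟩
  · obtain ⟨j, h1, h2, h3⟩ := exists_h0_incl (𝓟 := toSub 𝒬) a (segComp 𝒯 ψ hT f hf g hg φ hP)
      hker EP ((H_zero_subsingleton_iff EP' a).mp h0')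
    exact ⟨j, h1, h2, fun n y => h3 n y⟩

end Core

end Groth.Agent.Lib.Helper87.Kun
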