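import Groth.Agent.Lib.Helper87.Kun52

/-!
# `H^q_{T_+}(M # N) ≅ H^q_m(M) # N` when a form of positive degree acts bijectively on `N`
(helper87)
-/

set_option autoImplicit false
universe u

namespace Groth.Agent.Lib.Helper87.Kun

open DirectSum TensorProduct GrLC
open Groth.Agent.Lib.Helper99 Groth.Agent.Lib.Helper39 Groth.Agent.Lib.Helper39.GrBridge
  Groth.Agent.Lib.Helper39.GrKoszul Groth.Agent.Lib.Helper87.SegOne Groth.Agent.Lib.Helper60
  Groth.Agent.Lib.Helper39.Ver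

/-- the trivial Segre presentation -/
theorem exists_isSegreMod_of_subsingleton {k : Type u} [Field k] {R S T : Type u} [CommRing R]
    [CommRing S] [CommRing T] [Algebra k R] [Algebra k S] [Algebra k T]
    (ψ : T →ₐ[k] R ⊗[k] S)
    {H N P : Type u} [AddCommGroup H] [Module R H] [Module k H] [IsScalarTower k R H]
    [AddCommGroup N] [Module S N] [Module k N] [IsScalarTower k S N]
    [AddCommGroup P] [Module T P] [Module k P] [IsScalarTower k T P]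
    (ℋ : ℤ → AddSubgroup H) (𝒩 : ℤ → AddSubgroup N) (𝒬 : ℤ → AddSubgroup P)
    [DirectSum.Decomposition 𝒬] [Subsingleton P] [Subsingleton (H ⊗[k] N)] :
    ∃ φ' : P →ₗ[k] H ⊗[k] N, GrSeg.IsSegreMod ψ ℋ 𝒩 𝒬 φ' := by
  refine ⟨0, fun x y _ => Subsingleton.elim x y, fun n => ?_, fun t p => Subsingleton.elim _ _⟩
  ext v
  constructor
  · rintro ⟨p, _, rfl⟩
    rw [LinearMap.zero_apply]
    exact Submodule.zero_mem _
  · intro _
    exact ⟨0, AddSubgroup.zero_mem _, Subsingleton.elim _ _⟩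

attribute [local instance] toSubGradedRing toSubDecomposition toSubGradedSMul

/-- **`H^q_{T_+}(M # N) ≅ H^q_m(M) # N`** for every `q`, when a homogeneous element of positive
degree acts bijectively on `N`. -/
theorem segre_bij (k : Type u) [Field k] (R : Type u) [CommRing R] [Algebra k R]
    (𝒜 : ℤ → Submodule k R) [GradedAlgebra 𝒜] (hposR : ∀ n : ℤ, n < 0 → 𝒜 n = ⊥)
    [Algebra.FiniteType k R] (S : Type u)
    [CommRing S] [Algebra k S] (ℬ : ℤ → Submodule k S) [GradedAlgebra ℬ]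
    (h0S : ℬ 0 = Submodule.span k {(1 : S)})
    [Algebra.FiniteType k S] (T : Type u) [CommRing T] [Algebra k T] (𝒯 : ℤ → Submodule k T)
    [GradedAlgebra 𝒯] (ψ : T →ₐ[k] TensorProduct k R S) (hT : GrSeg.IsSegreRing 𝒜 ℬ 𝒯 ψ)
    (mR : HomogeneousIdeal 𝒜)
    (hmR : mR.toIdeal = Ideal.span (⋃ n ∈ Set.Ioi (0 : ℤ), (𝒜 n : Set R)))
    (mT : HomogeneousIdeal 𝒯)
    (hmT : mT.toIdeal = Ideal.span (⋃ n ∈ Set.Ioi (0 : ℤ), (𝒯 n : Set T)))
    (M : Type u) [AddCommGroup M] [Module R M] [Module k M] [IsScalarTower k R M]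
    (ℳ : ℤ → AddSubgroup M) [DirectSum.Decomposition ℳ] [SetLike.GradedSMul 𝒜 ℳ]
    (EM : GrLC.StarInjRes 𝒜 ℳ)
    (N : Type u) [AddCommGroup N] [Module S N] [Module k N] [IsScalarTower k S N]
    (𝒩 : ℤ → AddSubgroup N) [DirectSum.Decomposition 𝒩] [SetLike.GradedSMul ℬ 𝒩]
    (e : ℕ) (he : 0 < e) (g : S) (hg : g ∈ ℬ (e : ℤ))
    (hgN : Function.Bijective (fun y : N => g • y))
    (P : Type u) [AddCommGroup P] [Module T P] [Module k P] [IsScalarTower k T P]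
    (𝒬 : ℤ → AddSubgroup P) [DirectSum.Decomposition 𝒬] [SetLike.GradedSMul 𝒯 𝒬]
    (φ : P →ₗ[k] TensorProduct k M N) (hP : GrSeg.IsSegreMod ψ ℳ 𝒩 𝒬 φ)
    (EP : GrLC.StarInjRes 𝒯 𝒬) (q : ℕ)
    [Module k (EM.H mR q)] [IsScalarTower k R (EM.H mR q)]
    [Module k (EP.H mT q)] [IsScalarTower k T (EP.H mT q)]
    [DirectSum.Decomposition (EP.Hgr mT q)] :
    ∃ φ' : EP.H mT q →ₗ[k] TensorProduct k (EM.H mR q) N,
      GrSeg.IsSegreMod ψ (EM.Hgr mR q) 𝒩 (EP.Hgr mT q) φ' := by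
  classical
  -- degenerate cases
  rcases subsingleton_or_nontrivial R with hR | hR
  · haveI : Subsingleton (R ⊗[k] S) := Module.subsingleton R _
    haveI : Subsingleton T := hT.1.subsingleton
    haveI : Subsingleton (EP.H mT q) := Module.subsingleton T _
    haveI : Subsingleton (EM.H mR q) := Module.subsingleton R _
    haveI : Subsingleton (EM.H mR q ⊗[k] N) := by
      refine ⟨fun x y => ?_⟩
      have key : ∀ z : EM.H mR q ⊗[k] N, z = 0 := by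
        intro z
        induction z using TensorProduct.induction_on with
        | zero => rfl
        | tmul a b => rw [Subsingleton.elim a 0, TensorProduct.zero_tmul]
        | add z z' hz hz' => rw [hz, hz', add_zero]
      rw [key x, key y]
    exact exists_isSegreMod_of_subsingleton ψ _ _ _
  rcases subsingleton_or_nontrivial S with hS | hS
  · haveI : Subsingleton (R ⊗[k] S) := by
      refine subsingleton_of_zero_eq_one ?_
      have h1 : (1 : R ⊗[k] S) = (1 : R) ⊗ₜ[k] (1 : S) := rfl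
      rw [h1, Subsingleton.elim (1 : S) 0, TensorProduct.tmul_zero]
    haveI : Subsingleton T := hT.1.subsingleton
    haveI : Subsingleton (EP.H mT q) := Module.subsingleton T _
    haveI : Subsingleton N := Module.subsingleton S _
    haveI : Subsingleton (EM.H mR q ⊗[k] N) := by
      refine ⟨fun x y => ?_⟩
      have key : ∀ z : EM.H mR q ⊗[k] N, z = 0 := by
        intro z
        induction z using TensorProduct.induction_on with
        | zero => rfl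
        | tmul a b => rw [Subsingleton.elim b 0, TensorProduct.tmul_zero]
        | add z z' hz hz' => rw [hz, hz', add_zero]
      rw [key x, key y]
    exact exists_isSegreMod_of_subsingleton ψ _ _ _
  -- the main case
  haveI : IsNoetherianRing R := Algebra.FiniteType.isNoetherianRing k R
  haveI : IsNoetherianRing S := Algebra.FiniteType.isNoetherianRing k S
  haveI : IsNoetherianRing (R ⊗[k] S) := Algebra.FiniteType.isNoetherianRing R (R ⊗[k] S)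
  haveI : Nontrivial (R ⊗[k] S) :=
    Algebra.TensorProduct.nontrivial_of_algebraMap_injective_of_flat_left (R := k) (A := R)
      (B := S) (algebraMap k S).injective
  haveI : Nontrivial T := by
    by_contra hcon
    rw [not_nontrivial_iff_subsingleton] at hcon
    have h1 : ψ 1 = ψ 0 := congrArg ψ (Subsingleton.elim _ _)
    rw [map_one, map_zero] at h1
    exact one_ne_zero h1
  haveI : IsNoetherianRing T := isNoetherianRing_segre 𝒜 ℬ 𝒯 hposR ψ hT.1 hT.2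
  let mS : HomogeneousIdeal ℬ := irrH ℬ
  have hmS : mS.toIdeal = Ideal.span (⋃ n ∈ Set.Ioi (0 : ℤ), (ℬ n : Set S)) := rfl
  obtain ⟨EN⟩ := exists_starInjRes (𝒜 := ℬ) (𝒬 := 𝒩)
  have hgm : g ∈ (convIdeal mS).toIdeal := by
    show g ∈ Ideal.span (⋃ n ∈ Set.Ioi (0 : ℤ), (ℬ n : Set S))
    refine Ideal.subset_span ?_
    simp only [Set.mem_iUnion, Set.mem_Ioi, SetLike.mem_coe, exists_prop]
    exact ⟨(e : ℤ), by exact_mod_cast he, hg⟩
  have hNvan : ∀ i : ℕ, Subsingleton (EN.H mS i) := fun i =>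
    H_subsingleton_of_smul_bijective (convRes EN) (convIdeal mS) g hgm hgN i
  have hmR' : mR.toIdeal = irr 𝒜 := hmR
  have hmS' : mS.toIdeal = irr ℬ := hmS
  have hmT' : (convIdeal mT).toIdeal = irr 𝒯 := hmT
  have hgNb : Function.Bijective (xZ (k := k) ℬ EN mS) :=
    xZ_bijective ℬ EN mS hmS' (hNvan 0) (hNvan 1)
  rcases q with _ | _ | q'
  · -- `q = 0`
    obtain ⟨-, j, hj, hjr, hjg⟩ := seg_low 𝒯 ψ hT (zAug (k := k) 𝒜 (xCx 𝒜 EM mR))
      (zAug (k := k) ℬ (xCx ℬ EN mS))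
      (xZ (k := k) 𝒜 EM mR) (xZ_grHom 𝒜 EM mR) (xZ (k := k) ℬ EN mS) (xZ_grHom ℬ EN mS)
      φ hP (xData_tor 𝒜 EM mR hmR') (xData_tor ℬ EN mS hmS') (convIdeal mT) hmT'
      (xData_lc 𝒜 EM mR hmR') (xData_lc ℬ EN mS hmS')
      (xZ_ker 𝒜 EM mR hmR') (xZ_ker ℬ EN mS hmS') (xZ_coker 𝒜 EM mR hmR')
      (xZ_coker ℬ EN mS hmS') (convRes EP)
    obtain ⟨ι₀, hι₀, hι₀r, hℋ₀⟩ := exists_xZ_h0 (k := k) 𝒜 EM mR hmR'
    letI : DirectSum.Decomposition (EM.Hgr mR 0) :=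
      (Hgr_isInternal (convRes EM) (convIdeal mR) 0).chooseDecomposition
    haveI : SetLike.GradedSMul 𝒜 (EM.Hgr mR 0) := Hgr_gradedSMul 𝒜 EM mR 0
    exact exists_isSegreMod_ker 𝒯 ψ hT (xZ (k := k) 𝒜 EM mR) (xZ_grHom 𝒜 EM mR)
      (xZ (k := k) ℬ EN mS) (xZ_grHom ℬ EN mS) φ hP hgNb.1
      (H₀ := EM.H mR 0) (ℋ₀ := EM.Hgr mR 0) ι₀ hι₀ hι₀r hℋ₀
      (A := EP.H mT 0) (𝒜A := EP.Hgr mT 0) j hj hjr (fun n a => hjg n a)
  · -- `q = 1`
    obtain ⟨⟨pr, hprs, hpr0, hprg⟩, -⟩ := seg_low 𝒯 ψ hT (zAug (k := k) 𝒜 (xCx 𝒜 EM mR))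
      (zAug (k := k) ℬ (xCx ℬ EN mS))
      (xZ (k := k) 𝒜 EM mR) (xZ_grHom 𝒜 EM mR) (xZ (k := k) ℬ EN mS) (xZ_grHom ℬ EN mS)
      φ hP (xData_tor 𝒜 EM mR hmR') (xData_tor ℬ EN mS hmS') (convIdeal mT) hmT'
      (xData_lc 𝒜 EM mR hmR') (xData_lc ℬ EN mS hmS')
      (xZ_ker 𝒜 EM mR hmR') (xZ_ker ℬ EN mS hmS') (xZ_coker 𝒜 EM mR hmR')
      (xZ_coker ℬ EN mS hmS') (convRes EP)
    obtain ⟨π₁, hπ₁s, hπ₁, hℋ₁⟩ := exists_xZ_h1 (k := k) 𝒜 EM mR hmR'
    exact exists_isSegreMod_coker 𝒯 ψ hT (xZ (k := k) 𝒜 EM mR) (xZ_grHom 𝒜 EM mR)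
      (xZ (k := k) ℬ EN mS) (xZ_grHom ℬ EN mS) φ hP hgNb
      (H₁ := EM.H mR (0 + 1)) (ℋ₁ := EM.Hgr mR (0 + 1)) π₁ hπ₁s hπ₁ hℋ₁
      (C := EP.H mT (0 + 1)) (𝒞 := EP.Hgr mT (0 + 1)) pr hprs hpr0 (fun n c => hprg n c)
  · -- `q ≥ 2`
    exact segre_bij_ge_two k R 𝒜 hposR S ℬ h0S T 𝒯 ψ hT mR hmR mS hmS mT hmT M ℳ EM N 𝒩 EN hNvan
      P 𝒬 φ hP EP q'

end Groth.Agent.Lib.Helper87.Kun
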