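import Groth.Agent.Lib.Helper87.Kun2

/-!
# The direct sum of a sequence of graded modules (helper87)

`bigG X` for `X : ℕ → GMod 𝒜`: the graded module `⨁ i, X i`, with the inclusions `lofG`, the
projections `compG` and the assembled maps `bigMap`.
-/

set_option autoImplicit false
universe u

namespace Groth.Agent.Lib.Helper87.Kun

open DirectSum GrLC

section Big

variable {ι : Type} [DecidableEq ι] [AddCommGroup ι] {R : Type u} [CommRing R] {σ : Type u}
  [SetLike σ R] [AddSubgroupClass σ R] {𝒜 : ι → σ} [GradedRing 𝒜] (X : ℕ → GMod.{u} 𝒜)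

/-- the pieces of the direct sum -/
def bigGr (e : ι) : AddSubgroup (⨁ i, (X i).carrier) where
  carrier := {x | ∀ i, x i ∈ (X i).gr e}
  add_mem' hx hy i := by
    rw [DirectSum.add_apply]
    exact add_mem (hx i) (hy i)
  zero_mem' i := by
    rw [DirectSum.zero_apply]
    exact zero_mem _
  neg_mem' hx i := by
    rw [show (-_ : ⨁ i, (X i).carrier) i = - _ from rfl]
    exact neg_mem (hx i)

theorem mem_bigGr {e : ι} {x : ⨁ i, (X i).carrier} : x ∈ bigGr X e ↔ ∀ i, x i ∈ (X i).gr e :=
  Iff.rfl

theorem of_mem_bigGr {e : ι} {i : ℕ} {xi : (X i).carrier} (h : xi ∈ (X i).gr e) :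
    DirectSum.of (fun i => (X i).carrier) i xi ∈ bigGr X e := by
  intro j
  by_cases hj : i = j
  · subst hj
    rw [DirectSum.of_eq_same]
    exact h
  · rw [DirectSum.of_eq_of_ne _ _ _ (Ne.symm hj)]
    exact zero_mem _

/-- the inclusion of a piece -/
def pieceIncl (i : ℕ) (e : ι) : (X i).gr e →+ bigGr X e where
  toFun x := ⟨DirectSum.of (fun i => (X i).carrier) i x, of_mem_bigGr X x.2⟩
  map_zero' := Subtype.ext (map_zero _)
  map_add' x y := Subtype.ext (map_add _ _ _)

/-- decomposition of one summand -/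
def compDec (i : ℕ) : (X i).carrier →+ ⨁ e, bigGr X e :=
  (DirectSum.toAddMonoid fun e =>
    (DirectSum.of (fun e => bigGr X e) e).comp (pieceIncl X i e)).comp
    (DirectSum.decomposeAddEquiv (X i).gr).toAddMonoidHom

theorem compDec_of_mem {i : ℕ} {e : ι} {xi : (X i).carrier} (h : xi ∈ (X i).gr e) :
    compDec X i xi = DirectSum.of (fun e => bigGr X e) e
      ⟨DirectSum.of (fun i => (X i).carrier) i xi, of_mem_bigGr X h⟩ := by
  show DirectSum.toAddMonoid _ (DirectSum.decompose (X i).gr xi) = _
  rw [DirectSum.decompose_of_mem _ h, DirectSum.toAddMonoid_of]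
  rfl

/-- the decomposition map -/
def bigDec : (⨁ i, (X i).carrier) →+ ⨁ e, bigGr X e := DirectSum.toAddMonoid (compDec X)

theorem bigDec_of (i : ℕ) (xi : (X i).carrier) :
    bigDec X (DirectSum.of (fun i => (X i).carrier) i xi) = compDec X i xi :=
  DirectSum.toAddMonoid_of _ _ _

theorem bigDec_of_mem {e : ι} {x : ⨁ i, (X i).carrier} (hx : x ∈ bigGr X e) :
    bigDec X x = DirectSum.of (fun e => bigGr X e) e ⟨x, hx⟩ := by
  classical
  have h1 : bigDec X x = ∑ i ∈ DFinsupp.support x,
      DirectSum.of (fun e => bigGr X e) e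
        ⟨DirectSum.of (fun i => (X i).carrier) i (x i), of_mem_bigGr X (hx i)⟩ := by
    conv_lhs => rw [← DirectSum.sum_support_of x]
    rw [map_sum]
    refine Finset.sum_congr rfl fun i _ => ?_
    rw [bigDec_of, compDec_of_mem X (hx i)]
  rw [h1, ← map_sum]
  congr 1
  apply Subtype.ext
  rw [AddSubgroup.val_finset_sum]
  exact DirectSum.sum_support_of x

/-- the decomposition of the direct sum -/
def bigDecomposition : DirectSum.Decomposition (bigGr X) :=
  DirectSum.Decomposition.ofAddHom (bigGr X) (bigDec X)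
    (by
      apply DirectSum.addHom_ext
      intro i xi
      show DirectSum.coeAddMonoidHom (bigGr X) (bigDec X (DirectSum.of _ i xi)) =
        DirectSum.of _ i xi
      rw [bigDec_of]
      induction xi using DirectSum.Decomposition.inductionOn (X i).gr with
      | zero => simp
      | @homogeneous e m =>
        rw [compDec_of_mem X m.2, DirectSum.coeAddMonoidHom_of]
      | add a b ha hb => rw [map_add, map_add, ha, hb, map_add])
    (by
      apply DirectSum.addHom_ext
      intro e y
      show bigDec X (DirectSum.coeAddMonoidHom (bigGr X) (DirectSum.of _ e y)) =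
        DirectSum.of _ e y
      rw [DirectSum.coeAddMonoidHom_of, bigDec_of_mem X y.2])

theorem bigGradedSMul : SetLike.GradedSMul 𝒜 (bigGr X) where
  smul_mem := by
    intro a b r x hr hx i
    rw [show (r • x : ⨁ i, (X i).carrier) i = r • x i from rfl]
    exact SetLike.GradedSMul.smul_mem (A := 𝒜) (B := (X i).gr) hr (hx i)

/-- the direct sum of a sequence of graded modules -/
noncomputable def bigG : GMod.{u} 𝒜 :=
  { carrier := ⨁ i, (X i).carrier
    gr := bigGr X
    dec := bigDecomposition X
    gsmul := bigGradedSMul X }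

/-- the inclusions -/
noncomputable def lofG (i : ℕ) : (X i).carrier →ₗ[R] (bigG X).carrier :=
  DirectSum.lof R ℕ (fun i => (X i).carrier) i

/-- the projections -/
noncomputable def compG (i : ℕ) : (bigG X).carrier →ₗ[R] (X i).carrier :=
  DirectSum.component R ℕ (fun i => (X i).carrier) i

theorem compG_lofG (i : ℕ) (x : (X i).carrier) : compG X i (lofG X i x) = x :=
  DirectSum.component.lof_self R _ _

theorem compG_lofG_ne {i j : ℕ} (h : i ≠ j) (x : (X i).carrier) : compG X j (lofG X i x) = 0 := by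
  show DirectSum.component R ℕ (fun i => (X i).carrier) j
    (DirectSum.lof R ℕ (fun i => (X i).carrier) i x) = 0
  rw [DirectSum.component.of, dif_neg h]

theorem lofG_grHom (i : ℕ) : IsGrHom (X i).gr (bigG X).gr (lofG X i) :=
  fun _ _ hx => of_mem_bigGr X hx

theorem compG_grHom (i : ℕ) : IsGrHom (bigG X).gr (X i).gr (compG X i) :=
  fun _ _ hx => hx i

theorem big_ext {x y : (bigG X).carrier} (h : ∀ i, compG X i x = compG X i y) : x = y :=
  DFinsupp.ext h

theorem big_induction {motive : (bigG X).carrier → Prop} (h0 : motive 0)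
    (hof : ∀ i x, motive (lofG X i x)) (hadd : ∀ x y, motive x → motive y → motive (x + y))
    (x : (bigG X).carrier) : motive x :=
  DirectSum.induction_on x h0 hof hadd

theorem big_hom_ext {N : Type*} [AddCommGroup N] [Module R N] {f g : (bigG X).carrier →ₗ[R] N}
    (h : ∀ i x, f (lofG X i x) = g (lofG X i x)) : f = g :=
  DirectSum.linearMap_ext R fun i => LinearMap.ext (h i)

variable {X} {Y : ℕ → GMod.{u} 𝒜}

/-- assemble a family of maps -/
noncomputable def bigMap (φ : ℕ → ℕ) (f : ∀ i, (X i).carrier →ₗ[R] (Y (φ i)).carrier) :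
    (bigG X).carrier →ₗ[R] (bigG Y).carrier :=
  DirectSum.toModule R ℕ _ fun i => lofG Y (φ i) ∘ₗ f i

theorem bigMap_lofG (φ : ℕ → ℕ) (f : ∀ i, (X i).carrier →ₗ[R] (Y (φ i)).carrier) (i : ℕ)
    (x : (X i).carrier) : bigMap φ f (lofG X i x) = lofG Y (φ i) (f i x) :=
  DirectSum.toModule_lof R _ _

theorem bigMap_grHom (φ : ℕ → ℕ) (f : ∀ i, (X i).carrier →ₗ[R] (Y (φ i)).carrier)
    (hf : ∀ i, IsGrHom (X i).gr (Y (φ i)).gr (f i)) :
    IsGrHom (bigG X).gr (bigG Y).gr (bigMap φ f) := by
  classical
  intro e x hx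
  have h1 : x = ∑ i ∈ DFinsupp.support (show ⨁ i, (X i).carrier from x), lofG X i (compG X i x) :=
    (DirectSum.sum_support_of (show ⨁ i, (X i).carrier from x)).symm
  rw [h1, map_sum]
  refine AddSubgroup.sum_mem _ fun i _ => ?_
  rw [bigMap_lofG]
  exact lofG_grHom Y _ e _ (hf i e _ (hx i))

end Big

end Groth.Agent.Lib.Helper87.Kun
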