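import Groth.Agent.Lib.Helper60.LocalCohBC
import Groth.Agent.Lib.Helper60.LocalCohSum
import Groth.Agent.Lib.Helper60.LocalCohPrincipal
import Groth.Agent.Lib.Helper60.LocalCohAdditive
import Groth.Agent.Lib.Helper60.MayerVietorisLC

/-!
# Vanishing of local cohomology: transport, Mayer–Vietoris, change of rings (helper87)
-/

set_option autoImplicit false
universe u

namespace Groth.Agent.Lib.Helper87.Kun

open Groth.Agent.Lib.Helper60 CategoryTheory

section Transport

variable {R : Type u} [CommRing R]

/-- local cohomology of a module embedded as a retract -/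
theorem lc_subsingleton_of_retract (J : Ideal R) (p : ℕ) {M N : Type u} [AddCommGroup M]
    [Module R M] [AddCommGroup N] [Module R N] (i : M →ₗ[R] N) (r : N →ₗ[R] M)
    (hri : ∀ x, r (i x) = x) (hN : Subsingleton (LocCoh.H J p N)) :
    Subsingleton (LocCoh.H J p M) := by
  refine ⟨fun a b => ?_⟩
  suffices H : ∀ y : LocCoh.H J p M, y = 0 by rw [H a, H b]
  intro y
  have hid : 𝟙 (ModuleCat.of R M) = ModuleCat.ofHom i ≫ ModuleCat.ofHom r := by
    apply ModuleCat.hom_ext
    apply LinearMap.ext
    intro x
    exact (hri x).symm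
  rw [← lcMap_id_apply J p y, hid, lcMap_comp_apply,
    Subsingleton.elim (((localCohomology J p).map (ModuleCat.ofHom i)).hom y) 0, map_zero]

theorem lc_subsingleton_of_linearEquiv (J : Ideal R) (p : ℕ) {M N : Type u} [AddCommGroup M]
    [Module R M] [AddCommGroup N] [Module R N] (e : M ≃ₗ[R] N)
    (hN : Subsingleton (LocCoh.H J p N)) : Subsingleton (LocCoh.H J p M) :=
  lc_subsingleton_of_retract J p e.toLinearMap e.symm.toLinearMap e.symm_apply_apply hN

theorem lc_subsingleton_of_subsingleton (J : Ideal R) (p : ℕ) (M : Type u) [AddCommGroup M]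
    [Module R M] [Subsingleton M] : Subsingleton (LocCoh.H J p M) := by
  refine ⟨fun a b => ?_⟩
  suffices H : ∀ y : LocCoh.H J p M, y = 0 by rw [H a, H b]
  intro y
  have hid : 𝟙 (ModuleCat.of R M) = 0 := by
    apply ModuleCat.hom_ext
    apply LinearMap.ext
    intro x
    exact Subsingleton.elim _ _
  rw [← lcMap_id_apply J p y, hid, lcMap_zero_hom]

end Transport

section MVVanish

variable {A : Type u} [CommRing A] [IsNoetherianRing A]

/-- if a module has no local cohomology for `I` and for `J`, it has none for `I ⊓ J` -/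
theorem lc_inf_subsingleton (I J : Ideal A) (Z : Type u) [AddCommGroup Z] [Module A Z]
    (hI : ∀ p, Subsingleton (LocCoh.H I p Z)) (hJ : ∀ p, Subsingleton (LocCoh.H J p Z)) (p : ℕ) :
    Subsingleton (LocCoh.H (I ⊓ J) p Z) := by
  have htor : Subsingleton (DRing.torsionSub J Z) :=
    (lcH0Equiv J (ModuleCat.of A Z)).symm.injective.subsingleton
  have hsup : Subsingleton (LocCoh.H (I ⊔ J) (p + 1) Z) :=
    lc_sup_subsingleton_of_acyclic I J p Z (fun q _ => hJ q)
      (lc_subsingleton_of_subsingleton I (p + 1) _)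
  refine ⟨fun a b => ?_⟩
  suffices H : ∀ y : LocCoh.H (I ⊓ J) p Z, y = 0 by rw [H a, H b]
  intro x
  have h0 : MV.delta I J (ModuleCat.of A Z) p x = 0 := Subsingleton.elim _ _
  obtain ⟨y, z, hyz⟩ := (MV.exact_at_inf I J (ModuleCat.of A Z) p x).mp h0
  haveI := hI p
  haveI := hJ p
  rw [← hyz, Subsingleton.elim y 0, Subsingleton.elim z 0, map_zero, map_zero, sub_zero]

/-- change the ideal up to radical -/
theorem lc_subsingleton_of_radical (K K' : Ideal A) (h1 : K ≤ K') (h2 : K' ≤ K.radical) (p : ℕ)
    (Z : Type u) [AddCommGroup Z] [Module A Z] (hK' : Subsingleton (LocCoh.H K' p Z)) :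
    Subsingleton (LocCoh.H K p Z) := by
  obtain ⟨b, hb⟩ := Ideal.exists_pow_le_of_le_radical_of_fg h2 (IsNoetherian.noetherian K')
  exact lc_subsingleton_of_pow_le K K' 1 b (by rw [pow_one]; exact h1) hb p (ModuleCat.of A Z)

end MVVanish

section BC

variable {R A : Type u} [CommRing R] [CommRing A] [IsNoetherianRing R] [IsNoetherianRing A]

/-- independence of the base: local cohomology along a ring homomorphism -/
theorem lc_subsingleton_map_iff (f : R →+* A) (m : Ideal R) (p : ℕ) (Z : Type u)
    [AddCommGroup Z] [Module A Z] :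
    Subsingleton (LocCoh.H (m.map f) p Z) ↔
      Subsingleton (@LocCoh.H R _ m p Z _ (Module.compHom Z f)) := by
  letI := f.toAlgebra
  letI : Module R Z := Module.compHom Z f
  haveI : IsScalarTower R A Z := IsScalarTower.of_algebraMap_smul fun r x => rfl
  obtain ⟨φ, -⟩ := exists_lc_baseChange (R := R) (R' := A) m p Z
  exact ⟨fun h => φ.symm.injective.subsingleton, fun h => φ.injective.subsingleton⟩

end BC

end Groth.Agent.Lib.Helper87.Kun
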