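import Groth.Agent.Lib.Helper87.Kun3
import Groth.Agent.Lib.Helper87.Kun4
import Groth.Agent.Lib.Helper87.Kun8

/-!
# Segre products of modules without local cohomology have no local cohomology (helper87)

If `H^p_{R_+}(X ⊗_k V) = 0` and `H^p_{S_+}(Y ⊗_k V) = 0` for all `p` and all `k`-vector spaces `V`,
then `H^p_{T_+}(X # Y) = 0` for all `p` (`seg_lc_subsingleton`).
-/

set_option autoImplicit false
universe u v w

namespace Groth.Agent.Lib.Helper87.Kun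

open DirectSum TensorProduct
open Groth.Agent.Lib.Helper99 Groth.Agent.Lib.Helper87.SegOne Groth.Agent.Lib.Helper60

section Sel

variable {k : Type u} [Field k] {V : Type v} [AddCommGroup V] [Module k V] {Λ : Type w}
  (G : ProjGr k V Λ)

open Classical in
/-- the projector onto the pieces with index in `D` -/
noncomputable def ProjGr.sel (D : Set Λ) : V →ₗ[k] V where
  toFun x := ∑ᶠ l, (if l ∈ D then G.P l x else 0)
  map_add' x y := by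
    have hx : (Function.support fun l => if l ∈ D then G.P l x else 0).Finite :=
      (G.finite_support x).subset fun l hl => by
        intro h
        apply hl
        show (if l ∈ D then G.P l x else 0) = 0
        rw [show G.P l x = 0 from h, ite_self]
    have hy : (Function.support fun l => if l ∈ D then G.P l y else 0).Finite :=
      (G.finite_support y).subset fun l hl => by
        intro h
        apply hl
        show (if l ∈ D then G.P l y else 0) = 0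
        rw [show G.P l y = 0 from h, ite_self]
    rw [← finsum_add_distrib hx hy]
    congr 1
    ext l
    split_ifs
    · rw [map_add]
    · rw [add_zero]
  map_smul' c x := by
    rw [RingHom.id_apply, smul_finsum]
    congr 1
    ext l
    split_ifs
    · rw [map_smul]
    · rw [smul_zero]

open Classical in
theorem ProjGr.sel_hom (D : Set Λ) {l : Λ} {x : V} (hx : G.P l x = x) :
    G.sel D x = if l ∈ D then x else 0 := by
  show ∑ᶠ m, (if m ∈ D then G.P m x else 0) = _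
  rw [finsum_eq_single _ l, hx]
  intro m hm
  rw [← hx, G.orth m l hm, ite_self]

open Classical in
theorem ProjGr.sel_comm (D : Set Λ) (f : V →ₗ[k] V) (τ : Λ → Λ) (hτD : ∀ l, τ l ∈ D ↔ l ∈ D)
    (hf : ∀ l x, f (G.P l x) = G.P (τ l) (f x)) (x : V) : G.sel D (f x) = f (G.sel D x) := by
  refine G.induction (motive := fun x => G.sel D (f x) = f (G.sel D x)) (by simp)
    (fun x y hx hy => by rw [map_add, map_add, hx, hy, map_add, map_add]) (fun l x hx => ?_) x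
  have h1 : G.P (τ l) (f x) = f x := by rw [← hf, hx]
  rw [G.sel_hom D h1, G.sel_hom D hx]
  by_cases hl : l ∈ D
  · rw [if_pos hl, if_pos ((hτD l).mpr hl)]
  · rw [if_neg hl, if_neg (fun h => hl ((hτD l).mp h)), map_zero]

open Classical in
theorem ProjGr.sel_mem (D : Set Λ) (N : Submodule k V) (hN : ∀ l ∈ D, ∀ x, G.P l x ∈ N) (x : V) :
    G.sel D x ∈ N := by
  show ∑ᶠ m, (if m ∈ D then G.P m x else 0) ∈ N
  refine finsum_induction (· ∈ N) N.zero_mem (fun _ _ => N.add_mem) fun l => ?_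
  split_ifs with h
  · exact hN l h x
  · exact N.zero_mem

end Sel

section Seg

variable {k : Type u} [Field k] {R S T : Type u} [CommRing R] [CommRing S] [CommRing T]
  [Algebra k R] [Algebra k S] [Algebra k T]
  (𝒜 : ℤ → Submodule k R) [GradedAlgebra 𝒜] (ℬ : ℤ → Submodule k S) [GradedAlgebra ℬ]
  (𝒯 : ℤ → Submodule k T) [GradedAlgebra 𝒯]
  (ψ : T →ₐ[k] R ⊗[k] S) (hT : GrSeg.IsSegreRing 𝒜 ℬ 𝒯 ψ)
  {X Y : Type u} [AddCommGroup X] [Module R X] [Module k X] [IsScalarTower k R X]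
  [AddCommGroup Y] [Module S Y] [Module k Y] [IsScalarTower k S Y]
  (𝒳 : ℤ → AddSubgroup X) [DirectSum.Decomposition 𝒳] [SetLike.GradedSMul 𝒜 𝒳]
  (𝒴 : ℤ → AddSubgroup Y) [DirectSum.Decomposition 𝒴] [SetLike.GradedSMul ℬ 𝒴]

theorem prMN_lM {E : ℤ} {a : R} (ha : a ∈ 𝒜 E) (d e : ℤ) (x : X ⊗[k] Y) :
    prMN 𝒜 ℬ 𝒳 𝒴 d e (lM k Y a x) = lM k Y a (prMN 𝒜 ℬ 𝒳 𝒴 (d - E) e x) := by
  induction x using TensorProduct.induction_on with
  | zero => simp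
  | tmul m n =>
    simp only [prMN, lM_tmul, TensorProduct.map_tmul, prK_apply]
    rw [coe_decompose_smul_of_left_mem 𝒜 𝒳 ha m d]
  | add x x' hx hx' => simp only [map_add, hx, hx']

theorem prMN_act {e : ℤ} {u : R ⊗[k] S} (hu : u ∈ GrSeg.segrePiece k 𝒜 ℬ e) (m n : ℤ)
    (z : X ⊗[k] Y) :
    GrSeg.act k R S X Y u (prMN 𝒜 ℬ 𝒳 𝒴 m n z) =
      prMN 𝒜 ℬ 𝒳 𝒴 (m + e) (n + e) (GrSeg.act k R S X Y u z) := by
  induction hu using Submodule.span_induction with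
  | mem u hu =>
    obtain ⟨a, ha, b, hb, rfl⟩ := hu
    rw [act_tmul_eq, act_tmul_eq, prMN_lM 𝒜 ℬ 𝒳 𝒴 ha, prMN_lN 𝒜 ℬ 𝒳 𝒴 hb, add_sub_cancel_right,
      add_sub_cancel_right]
  | zero => simp
  | add u v _ _ hu hv => rw [map_add, LinearMap.add_apply, LinearMap.add_apply, hu, hv, map_add]
  | smul c u _ hu => rw [map_smul, LinearMap.smul_apply, LinearMap.smul_apply, hu, map_smul]

/-- the bigrading of `X ⊗ Y` -/
noncomputable def tensGr : ProjGr k (X ⊗[k] Y) (ℤ × ℤ) where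
  P l := prMN 𝒜 ℬ 𝒳 𝒴 l.1 l.2
  same l x := prMN_of_mem 𝒜 ℬ 𝒳 𝒴 (prMN_mem 𝒜 ℬ 𝒳 𝒴 l.1 l.2 x)
  orth l m hlm x := by
    refine prMN_of_mem_ne 𝒜 ℬ 𝒳 𝒴 ?_ (prMN_mem 𝒜 ℬ 𝒳 𝒴 m.1 m.2 x)
    by_contra h
    push Not at h
    exact hlm (Prod.ext h.1.symm h.2.symm)
  span z := by
    classical
    induction z using TensorProduct.induction_on with
    | zero => exact Submodule.zero_mem _
    | tmul x y =>
      rw [← DirectSum.sum_support_decompose 𝒳 x, ← DirectSum.sum_support_decompose 𝒴 y,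
        TensorProduct.sum_tmul]
      refine Submodule.sum_mem _ fun m _ => ?_
      rw [TensorProduct.tmul_sum]
      refine Submodule.sum_mem _ fun n _ => ?_
      refine Submodule.mem_iSup_of_mem (m, n) ⟨_, prMN_of_mem 𝒜 ℬ 𝒳 𝒴 ?_⟩
      exact Submodule.subset_span ⟨_, SetLike.coe_mem _, _, SetLike.coe_mem _, rfl⟩
    | add z z' hz hz' => exact Submodule.add_mem _ hz hz'

/-- the projection of `X ⊗ Y` onto the diagonal part -/
noncomputable def diagPr : X ⊗[k] Y →ₗ[k] X ⊗[k] Y :=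
  (tensGr 𝒜 ℬ 𝒳 𝒴).sel {l | l.1 = l.2}

theorem diagPr_mem (z : X ⊗[k] Y) : diagPr 𝒜 ℬ 𝒳 𝒴 z ∈ segAll (k := k) 𝒳 𝒴 := by
  refine (tensGr 𝒜 ℬ 𝒳 𝒴).sel_mem _ _ (fun l hl x => ?_) z
  have h1 : l.1 = l.2 := hl
  have h2 : (tensGr 𝒜 ℬ 𝒳 𝒴).P l x ∈ piece2 (k := k) 𝒳 𝒴 l.1 l.2 := prMN_mem 𝒜 ℬ 𝒳 𝒴 l.1 l.2 x
  rw [← h1] at h2
  exact Submodule.mem_iSup_of_mem l.1 h2

theorem diagPr_of_mem {z : X ⊗[k] Y} (hz : z ∈ segAll (k := k) 𝒳 𝒴) : diagPr 𝒜 ℬ 𝒳 𝒴 z = z := by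
  classical
  induction hz using Submodule.iSup_induction' with
  | mem n z hz =>
    have h1 : (tensGr 𝒜 ℬ 𝒳 𝒴).P (n, n) z = z := prMN_of_mem 𝒜 ℬ 𝒳 𝒴 hz
    show (tensGr 𝒜 ℬ 𝒳 𝒴).sel _ z = z
    rw [(tensGr 𝒜 ℬ 𝒳 𝒴).sel_hom _ h1,
      if_pos (show ((n, n) : ℤ × ℤ) ∈ {l : ℤ × ℤ | l.1 = l.2} from rfl)]
  | zero => exact map_zero _
  | add z z' _ _ hz hz' => rw [map_add, hz, hz']

include hT in
theorem diagPr_act (t : T) (z : X ⊗[k] Y) :
    diagPr 𝒜 ℬ 𝒳 𝒴 (GrSeg.act k R S X Y (ψ t) z) =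
      GrSeg.act k R S X Y (ψ t) (diagPr 𝒜 ℬ 𝒳 𝒴 z) := by
  classical
  induction t using DirectSum.Decomposition.inductionOn 𝒯 with
  | zero => simp
  | @homogeneous e t =>
    have hu := psi_mem 𝒜 ℬ 𝒯 ψ hT t.2
    exact (tensGr 𝒜 ℬ 𝒳 𝒴).sel_comm _ (GrSeg.act k R S X Y (ψ t)) (fun l => (l.1 + e, l.2 + e))
      (fun l => by
        show l.1 + e = l.2 + e ↔ l.1 = l.2
        exact add_left_inj e)
      (fun l x => prMN_act 𝒜 ℬ 𝒳 𝒴 hu l.1 l.2 x) z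
  | add t t' ht ht' =>
    rw [map_add, map_add, LinearMap.add_apply, LinearMap.add_apply, map_add, ht, ht']

/-- the retraction of `X ⊗ Y` onto `X # Y` -/
noncomputable def segRetr : Amb ψ X Y →ₗ[T] segSub 𝒜 ℬ 𝒯 ψ hT 𝒳 𝒴 where
  toFun z := ⟨diagPr 𝒜 ℬ 𝒳 𝒴 z, diagPr_mem 𝒜 ℬ 𝒳 𝒴 z⟩
  map_add' z z' := Subtype.ext (map_add _ _ _)
  map_smul' t z := Subtype.ext (diagPr_act 𝒜 ℬ 𝒯 ψ hT 𝒳 𝒴 t z)

theorem segRetr_subtype (z : segSub 𝒜 ℬ 𝒯 ψ hT 𝒳 𝒴) :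
    segRetr 𝒜 ℬ 𝒯 ψ hT 𝒳 𝒴 ((segSub 𝒜 ℬ 𝒯 ψ hT 𝒳 𝒴).subtype z) = z :=
  Subtype.ext (diagPr_of_mem 𝒜 ℬ 𝒳 𝒴 z.2)

end Seg

section Ideals

variable {k : Type u} [Field k] {R S T : Type u} [CommRing R] [CommRing S] [CommRing T]
  [Algebra k R] [Algebra k S] [Algebra k T]
  (𝒜 : ℤ → Submodule k R) [GradedAlgebra 𝒜] (ℬ : ℤ → Submodule k S) [GradedAlgebra ℬ]
  (𝒯 : ℤ → Submodule k T) [GradedAlgebra 𝒯]
  (ψ : T →ₐ[k] R ⊗[k] S) (hT : GrSeg.IsSegreRing 𝒜 ℬ 𝒯 ψ)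

/-- the irrelevant ideal -/
def irr : Ideal R := Ideal.span (⋃ n ∈ Set.Ioi (0 : ℤ), (𝒜 n : Set R))

/-- the left inclusion as a ring homomorphism -/
noncomputable def inclL : R →+* R ⊗[k] S :=
  (Algebra.TensorProduct.includeLeft : R →ₐ[k] R ⊗[k] S).toRingHom

/-- the right inclusion as a ring homomorphism -/
noncomputable def inclR : S →+* R ⊗[k] S :=
  (Algebra.TensorProduct.includeRight : S →ₐ[k] R ⊗[k] S).toRingHom

theorem inclL_apply (r : R) : inclL (k := k) (S := S) r = r ⊗ₜ[k] (1 : S) := rfl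

theorem inclR_apply (s : S) : inclR (k := k) (R := R) s = (1 : R) ⊗ₜ[k] s := rfl

theorem mem_irr_of_mem {n : ℤ} (hn : 0 < n) {a : R} (ha : a ∈ 𝒜 n) : a ∈ irr 𝒜 :=
  Ideal.subset_span (Set.mem_biUnion (Set.mem_Ioi.mpr hn) ha)

theorem tmul_mem_inf {n : ℤ} (hn : 0 < n) {a : R} (ha : a ∈ 𝒜 n) {b : S} (hb : b ∈ ℬ n) :
    a ⊗ₜ[k] b ∈ (irr 𝒜).map (inclL (k := k) (S := S)) ⊓ (irr ℬ).map (inclR (k := k) (R := R)) := by
  have h : a ⊗ₜ[k] b = inclL (k := k) (S := S) a * inclR (k := k) (R := R) b := by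
    rw [inclL_apply, inclR_apply, Algebra.TensorProduct.tmul_mul_tmul, mul_one, one_mul]
  rw [h]
  exact ⟨Ideal.mul_mem_right _ _ (Ideal.mem_map_of_mem _ (mem_irr_of_mem 𝒜 hn ha)),
    Ideal.mul_mem_left _ _ (Ideal.mem_map_of_mem _ (mem_irr_of_mem ℬ hn hb))⟩

include hT in
theorem map_irr_le_inf : (irr 𝒯).map (ψ : T →+* R ⊗[k] S) ≤
    (irr 𝒜).map (inclL (k := k) (S := S)) ⊓ (irr ℬ).map (inclR (k := k) (R := R)) := by
  rw [Ideal.map_le_iff_le_comap, irr, Ideal.span_le]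
  intro t ht
  obtain ⟨n, hn, htn⟩ := Set.mem_iUnion₂.mp ht
  have h1 := psi_mem 𝒜 ℬ 𝒯 ψ hT htn
  suffices H : ∀ u ∈ GrSeg.segrePiece k 𝒜 ℬ n, u ∈ (irr 𝒜).map (inclL (k := k) (S := S)) ⊓
      (irr ℬ).map (inclR (k := k) (R := R)) from H _ h1
  intro u hu
  induction hu using Submodule.span_induction with
  | mem u hu =>
    obtain ⟨a, ha, b, hb, rfl⟩ := hu
    exact tmul_mem_inf 𝒜 ℬ hn ha hb
  | zero => exact Submodule.zero_mem _
  | add u v _ _ hu hv => exact Submodule.add_mem _ hu hv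
  | smul c u _ hu => exact Submodule.smul_of_tower_mem _ c hu

include hT in
theorem tmul_mem_radical {e f : ℤ} (he : 0 < e) (hf : 0 < f) {a : R} (ha : a ∈ 𝒜 e) {b : S}
    (hb : b ∈ ℬ f) : a ⊗ₜ[k] b ∈ ((irr 𝒯).map (ψ : T →+* R ⊗[k] S)).radical := by
  refine ⟨e.toNat + f.toNat, ?_⟩
  have h1 : a ^ f.toNat ∈ 𝒜 (e * f) := by
    have := SetLike.pow_mem_graded f.toNat ha
    rwa [nsmul_eq_mul, Int.toNat_of_nonneg hf.le, mul_comm] at this
  have h2 : b ^ e.toNat ∈ ℬ (e * f) := by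
    have := SetLike.pow_mem_graded e.toNat hb
    rwa [nsmul_eq_mul, Int.toNat_of_nonneg he.le] at this
  obtain ⟨t, ht, htt⟩ := exists_t 𝒜 ℬ 𝒯 ψ hT h1 h2
  have h3 : (a ⊗ₜ[k] b) ^ (e.toNat + f.toNat) =
      ψ t * ((a ^ e.toNat) ⊗ₜ[k] (b ^ f.toNat)) := by
    rw [htt, Algebra.TensorProduct.tmul_pow, Algebra.TensorProduct.tmul_mul_tmul, ← pow_add,
      ← pow_add, add_comm f.toNat e.toNat]
  rw [h3]
  exact Ideal.mul_mem_right _ _
    (Ideal.mem_map_of_mem _ (mem_irr_of_mem 𝒯 (mul_pos he hf) ht))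

include hT in
theorem inf_le_radical : (irr 𝒜).map (inclL (k := k) (S := S)) ⊓
    (irr ℬ).map (inclR (k := k) (R := R)) ≤ ((irr 𝒯).map (ψ : T →+* R ⊗[k] S)).radical := by
  have hmul : (irr 𝒜).map (inclL (k := k) (S := S)) * (irr ℬ).map (inclR (k := k) (R := R)) ≤
      ((irr 𝒯).map (ψ : T →+* R ⊗[k] S)).radical := by
    rw [irr, irr, Ideal.map_span, Ideal.map_span, Ideal.span_mul_span', Ideal.span_le]
    rintro _ ⟨_, ⟨a, ha, rfl⟩, _, ⟨b, hb, rfl⟩, rfl⟩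
    obtain ⟨e, he, hae⟩ := Set.mem_iUnion₂.mp ha
    obtain ⟨f, hf, hbf⟩ := Set.mem_iUnion₂.mp hb
    have h : inclL (k := k) (S := S) a * inclR (k := k) (R := R) b = a ⊗ₜ[k] b := by
      rw [inclL_apply, inclR_apply, Algebra.TensorProduct.tmul_mul_tmul, mul_one, one_mul]
    show inclL (k := k) (S := S) a * inclR (k := k) (R := R) b ∈ _
    rw [h]
    exact tmul_mem_radical 𝒜 ℬ 𝒯 ψ hT he hf hae hbf
  intro x hx
  have h2 : x * x ∈ ((irr 𝒯).map (ψ : T →+* R ⊗[k] S)).radical :=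
    hmul (Ideal.mul_mem_mul hx.1 hx.2)
  rw [← pow_two] at h2
  exact Ideal.radical_isRadical _ ⟨2, h2⟩

end Ideals

end Groth.Agent.Lib.Helper87.Kun
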