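import Mathlib
import Groth.Prelude.Def_W4c1nerontoraddGraph

/-!
# The multidegree on the total blow-up graph
-/

set_option autoImplicit false
universe u

namespace Groth.Agent.Lib.Helper87

open LabGraph

section

variable {V E : Type u} [Fintype V] [Fintype E] [DecidableEq V] [DecidableEq E]

theorem pathVert_eq_inr (ends : E → V × V) (l : E → ℕ) (e e₀ : E) (j : ℕ) (j₀ : Fin (l e₀ - 1)) :
    pathVert ends l e j = Sum.inr ⟨e₀, j₀⟩ ↔ e = e₀ ∧ j = j₀.val + 1 := by
  unfold pathVert
  split_ifs with h0 h
  · simp only [reduceCtorEq, false_iff, not_and]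
    intro _; omega
  · simp only [Sum.inr.injEq, Sigma.mk.inj_iff]
    constructor
    · rintro ⟨rfl, hh⟩
      have h1 := eq_of_heq hh
      refine ⟨rfl, ?_⟩
      have h2 := congrArg Fin.val h1
      simp only at h2
      omega
    · rintro ⟨rfl, hj⟩
      refine ⟨rfl, ?_⟩
      apply heq_of_eq
      apply Fin.ext
      simp only
      omega
  · simp only [reduceCtorEq, false_iff, not_and]
    rintro rfl
    have := j₀.isLt
    omega

theorem pathVert_eq_inl (ends : E → V × V) (l : E → ℕ) (e : E) (j : ℕ) (v : V) :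
    pathVert ends l e j = Sum.inl v ↔
      (j = 0 ∧ (ends e).1 = v) ∨ (j ≠ 0 ∧ l e ≤ j ∧ (ends e).2 = v) := by
  unfold pathVert
  split_ifs with h0 h
  · simp [h0]
  · simp only [reduceCtorEq, false_iff]
    rintro (⟨h1, _⟩ | ⟨_, h2, _⟩)
    · exact h0 h1
    · omega
  · simp only [Sum.inl.injEq]
    constructor
    · intro hv
      exact Or.inr ⟨h0, by omega, hv⟩
    · rintro (⟨h1, _⟩ | ⟨_, _, h2⟩)
      · exact absurd h1 h0
      · exact h2

theorem pathVert_zero (ends : E → V × V) (l : E → ℕ) (e : E) :
    pathVert ends l e 0 = Sum.inl (ends e).1 := by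
  simp [pathVert]

theorem pathVert_top (ends : E → V × V) (l : E → ℕ) (hl : ∀ e, 0 < l e) (e : E) :
    pathVert ends l e (l e) = Sum.inl (ends e).2 := by
  have := hl e
  unfold pathVert
  rw [dif_neg (by omega), dif_neg (by omega)]

theorem pathVert_mid (ends : E → V × V) (l : E → ℕ) (e : E) (j : Fin (l e - 1)) :
    pathVert ends l e (j.val + 1) = Sum.inr ⟨e, j⟩ := by
  rw [pathVert_eq_inr]
  exact ⟨rfl, rfl⟩

theorem mdeg_blow (ends : E → V × V) (l : E → ℕ) (ψ : BlVert V E l → ℤ) (w : BlVert V E l) :
    mdeg (blEnds ends l) (fun _ => 1) ψ w =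
      ∑ e : E, ∑ k ∈ Finset.range (l e),
        ((if pathVert ends l e k = w then
            ψ (pathVert ends l e (k + 1)) - ψ (pathVert ends l e k) else 0) +
         (if pathVert ends l e (k + 1) = w then
            ψ (pathVert ends l e k) - ψ (pathVert ends l e (k + 1)) else 0)) := by
  unfold mdeg
  rw [Fintype.sum_sigma]
  apply Finset.sum_congr rfl
  intro e _
  rw [← Fin.sum_univ_eq_sum_range (fun k =>
    ((if pathVert ends l e k = w then
            ψ (pathVert ends l e (k + 1)) - ψ (pathVert ends l e k) else 0) +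
         (if pathVert ends l e (k + 1) = w then
            ψ (pathVert ends l e k) - ψ (pathVert ends l e (k + 1)) else 0)))]
  apply Finset.sum_congr rfl
  intro k _
  simp [blEnds]

/-- The multidegree at a new vertex is the second difference along the path. -/
theorem mdeg_blow_inr (ends : E → V × V) (l : E → ℕ) (ψ : BlVert V E l → ℤ) (e₀ : E)
    (j₀ : Fin (l e₀ - 1)) :
    mdeg (blEnds ends l) (fun _ => 1) ψ (Sum.inr ⟨e₀, j₀⟩) =
      ψ (pathVert ends l e₀ (j₀.val + 2)) + ψ (pathVert ends l e₀ j₀.val)
        - 2 * ψ (pathVert ends l e₀ (j₀.val + 1)) := by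
  rw [mdeg_blow]
  have hj := j₀.isLt
  rw [Finset.sum_eq_single e₀]
  · simp only [pathVert_eq_inr, true_and]
    rw [Finset.sum_add_distrib, Finset.sum_ite_eq', Finset.sum_congr rfl
      (g := fun k => if k = j₀.val then
        ψ (pathVert ends l e₀ k) - ψ (pathVert ends l e₀ (k + 1)) else 0)
      (fun k _ => by simp only [add_left_inj]), Finset.sum_ite_eq']
    rw [if_pos (by simp only [Finset.mem_range]; omega), if_pos (by simp only [Finset.mem_range]; omega)]
    ring
  · intro e _ hne
    apply Finset.sum_eq_zero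
    intro k _
    simp [pathVert_eq_inr, hne]
  · intro h; exact absurd (Finset.mem_univ _) h

/-- The multidegree at an old vertex. -/
theorem mdeg_blow_inl (ends : E → V × V) (l : E → ℕ) (hl : ∀ e, 0 < l e) (ψ : BlVert V E l → ℤ)
    (v : V) :
    mdeg (blEnds ends l) (fun _ => 1) ψ (Sum.inl v) =
      ∑ e : E, ((if (ends e).1 = v then
          ψ (pathVert ends l e 1) - ψ (pathVert ends l e 0) else 0) +
        (if (ends e).2 = v then
          ψ (pathVert ends l e (l e - 1)) - ψ (pathVert ends l e (l e)) else 0)) := by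
  rw [mdeg_blow]
  apply Finset.sum_congr rfl
  intro e _
  have hle := hl e
  rw [Finset.sum_add_distrib]
  congr 1
  · rw [Finset.sum_congr rfl (g := fun k => if k = 0 then
        (if (ends e).1 = v then ψ (pathVert ends l e (k + 1)) - ψ (pathVert ends l e k) else 0)
        else 0)]
    · rw [Finset.sum_ite_eq', if_pos (by simp only [Finset.mem_range]; omega)]
    · intro k hk
      have hk' : k < l e := Finset.mem_range.mp hk
      simp only [pathVert_eq_inl]
      by_cases h0 : k = 0
      · subst h0
        simp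
      · have : ¬ ((k = 0 ∧ (ends e).1 = v) ∨ (k ≠ 0 ∧ l e ≤ k ∧ (ends e).2 = v)) := by
          rintro (⟨h1, _⟩ | ⟨_, h2, _⟩)
          · exact h0 h1
          · omega
        rw [if_neg this, if_neg h0]
  · rw [Finset.sum_congr rfl (g := fun k => if k = l e - 1 then
        (if (ends e).2 = v then ψ (pathVert ends l e k) - ψ (pathVert ends l e (k + 1)) else 0)
        else 0)]
    · rw [Finset.sum_ite_eq', if_pos (by simp only [Finset.mem_range]; omega)]
      have : l e - 1 + 1 = l e := by omega
      rw [this]
    · intro k hk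
      have hk' : k < l e := Finset.mem_range.mp hk
      simp only [pathVert_eq_inl]
      by_cases h0 : k = l e - 1
      · have h1 : l e ≤ k + 1 := by omega
        by_cases hv : (ends e).2 = v
        · rw [if_pos (Or.inr ⟨by omega, h1, hv⟩), if_pos h0, if_pos hv]
        · rw [if_pos h0, if_neg hv, if_neg]
          rintro (⟨h2, _⟩ | ⟨_, _, h3⟩)
          · omega
          · exact hv h3
      · rw [if_neg h0, if_neg]
        rintro (⟨h2, _⟩ | ⟨_, h3, _⟩)
        · omega
        · omega

end

end Groth.Agent.Lib.Helper87
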