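import Mathlib
import Groth.Prelude.Def_W4c1nerontoraddGraph

/-!
# Cycles with coefficients in a ring on a finite labelled multigraph

`bdK` is the boundary with coefficients in a commutative ring; an edge set without leaves supports a
nonzero cycle (rank count); the support of a cycle has no leaves; an edge set without leaves contains
a circuit in the sense of `LabGraph.IsCircuit`.
-/

set_option autoImplicit false
universe u

namespace Groth.Agent.Lib.Helper87

open LabGraph

section

variable {V E : Type u} [Fintype V] [Fintype E] [DecidableEq V] [DecidableEq E]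

/-- The boundary of an edge vector with coefficients in a commutative ring. -/
def bdK (K : Type*) [CommRing K] (ends : E → V × V) (γ : E → K) (v : V) : K :=
  ∑ e : E, ((if (ends e).2 = v then γ e else 0) - (if (ends e).1 = v then γ e else 0))

theorem bdK_int (ends : E → V × V) (γ : E → ℤ) (v : V) :
    bdK ℤ ends γ v = LabGraph.boundary ends γ v := rfl

theorem sum_bdK (K : Type*) [CommRing K] (ends : E → V × V) (γ : E → K) :
    ∑ v, bdK K ends γ v = 0 := by
  unfold bdK
  rw [Finset.sum_comm]
  apply Finset.sum_eq_zero
  intro e _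
  rw [Finset.sum_sub_distrib]
  simp

theorem sum_endCount (ends : E → V × V) (S : Finset E) :
    ∑ v, endCount ends S v = 2 * S.card := by
  unfold endCount
  rw [Finset.sum_comm]
  simp [Finset.sum_add_distrib, mul_comm]

/-- The boundary as a linear map. -/
def bdKLin (K : Type*) [CommRing K] (ends : E → V × V) : (E → K) →ₗ[K] (V → K) where
  toFun f v := bdK K ends f v
  map_add' f g := by
    ext v
    simp only [bdK, Pi.add_apply, ← Finset.sum_add_distrib]
    apply Finset.sum_congr rfl
    intro e _
    split_ifs <;> ring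
  map_smul' c f := by
    ext v
    simp only [bdK, Pi.smul_apply, smul_eq_mul, RingHom.id_apply, Finset.mul_sum]
    apply Finset.sum_congr rfl
    intro e _
    split_ifs <;> ring

/-- Extension by zero of a function on a finset of edges. -/
def extLin (K : Type*) [CommRing K] (S : Finset E) : (S → K) →ₗ[K] (E → K) where
  toFun f e := if h : e ∈ S then f ⟨e, h⟩ else 0
  map_add' f g := by
    ext e
    by_cases h : e ∈ S <;> simp [h]
  map_smul' c f := by
    ext e
    by_cases h : e ∈ S <;> simp [h]

theorem exists_cycle_of_no_leaf (K : Type*) [CommRing K] [Nontrivial K] (ends : E → V × V)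
    (S : Finset E) (hS : S.Nonempty) (hleaf : ∀ v, endCount ends S v ≠ 1) :
    ∃ f : E → K, f ≠ 0 ∧ (∀ e, e ∉ S → f e = 0) ∧ ∀ v, bdK K ends f v = 0 := by
  classical
  set T : Finset V := Finset.univ.filter (fun v => endCount ends S v ≠ 0) with hT
  have hcard : T.card ≤ S.card := by
    have h1 : ∑ v ∈ T, endCount ends S v = 2 * S.card := by
      rw [← sum_endCount ends S]
      apply Finset.sum_subset (Finset.subset_univ _)
      intro v _ hv
      simpa [hT] using hv
    have h2 : ∑ _v ∈ T, 2 ≤ ∑ v ∈ T, endCount ends S v := by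
      apply Finset.sum_le_sum
      intro v hv
      have h0 : endCount ends S v ≠ 0 := by simpa [hT] using hv
      have h1 := hleaf v
      omega
    simp only [Finset.sum_const, smul_eq_mul] at h2
    omega
  obtain ⟨e₁, he₁⟩ := hS
  have hv₀ : (ends e₁).1 ∈ T := by
    simp only [hT, Finset.mem_filter, Finset.mem_univ, true_and]
    unfold endCount
    intro h0
    rw [Finset.sum_eq_zero_iff] at h0
    have := h0 e₁ he₁
    simp at this
  set v₀ := (ends e₁).1 with hv₀def
  let res : (V → K) →ₗ[K] (↥(T.erase v₀) → K) :=
    LinearMap.funLeft K K (fun v => (v : V))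
  let Φ : (S → K) →ₗ[K] (↥(T.erase v₀) → K) := res ∘ₗ bdKLin K ends ∘ₗ extLin K S
  have hninj : ¬ Function.Injective Φ := by
    intro hinj
    have h := LinearMap.finrank_le_finrank_of_injective hinj
    rw [Module.finrank_fintype_fun_eq_card, Module.finrank_fintype_fun_eq_card, Fintype.card_coe,
      Fintype.card_coe, Finset.card_erase_of_mem hv₀] at h
    have : 0 < T.card := Finset.card_pos.mpr ⟨_, hv₀⟩
    omega
  have hker : LinearMap.ker Φ ≠ ⊥ := fun h => hninj (LinearMap.ker_eq_bot.mp h)
  obtain ⟨f, hfker, hf0⟩ := Submodule.exists_mem_ne_zero_of_ne_bot hker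
  have hΦ : Φ f = 0 := hfker
  refine ⟨extLin K S f, ?_, ?_, ?_⟩
  · intro h
    apply hf0
    ext e
    have := congrFun h e.1
    simpa [extLin, e.2] using this
  · intro e he
    simp [extLin, he]
  · have hoff : ∀ v, v ∉ T → bdK K ends (extLin K S f) v = 0 := by
      intro v hv
      have h0 : endCount ends S v = 0 := by simpa [hT] using hv
      unfold endCount at h0
      rw [Finset.sum_eq_zero_iff] at h0
      unfold bdK
      apply Finset.sum_eq_zero
      intro e _
      by_cases he : e ∈ S
      · have := h0 e he
        have h1 : (ends e).1 ≠ v := by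
          intro h; simp [h] at this
        have h2 : (ends e).2 ≠ v := by
          intro h; simp [h] at this
        simp [h1, h2]
      · simp [extLin, he]
    have hon : ∀ v, v ∈ T.erase v₀ → bdK K ends (extLin K S f) v = 0 := by
      intro v hv
      have := congrFun hΦ ⟨v, hv⟩
      simpa [Φ, res, bdKLin, LinearMap.funLeft] using this
    have hne : ∀ v, v ≠ v₀ → bdK K ends (extLin K S f) v = 0 := by
      intro v hv
      by_cases hvT : v ∈ T
      · exact hon v (Finset.mem_erase.mpr ⟨hv, hvT⟩)
      · exact hoff v hvT
    intro v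
    by_cases hv : v = v₀
    · have hsum := sum_bdK K ends (extLin K S f)
      rw [Finset.sum_eq_single v₀ (fun b _ hb => hne b hb) (fun h => absurd (Finset.mem_univ _) h)] at hsum
      rw [hv]; exact hsum
    · exact hne v hv

/-- The support of a cycle has no leaf. -/
theorem no_leaf_of_cycle (K : Type*) [CommRing K] [DecidableEq K] (ends : E → V × V) (γ : E → K)
    (hγ : ∀ v, bdK K ends γ v = 0) (v : V) :
    endCount ends (Finset.univ.filter (fun e => γ e ≠ 0)) v ≠ 1 := by
  classical
  intro h1
  set S := Finset.univ.filter (fun e => γ e ≠ 0) with hS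
  set a : E → ℕ := fun e => (if (ends e).1 = v then 1 else 0) + (if (ends e).2 = v then 1 else 0) with ha
  have hsum : ∑ e ∈ S, a e = 1 := h1
  obtain ⟨e₀, he₀, hne₀⟩ : ∃ e ∈ S, a e ≠ 0 := by
    apply Finset.exists_ne_zero_of_sum_ne_zero
    rw [hsum]; exact one_ne_zero
  have hsplit := Finset.add_sum_erase S a he₀
  rw [hsum] at hsplit
  have ha1 : a e₀ = 1 := by omega
  have hrest : ∑ e ∈ S.erase e₀, a e = 0 := by omega
  rw [Finset.sum_eq_zero_iff] at hrest
  have hb := hγ v
  unfold bdK at hb
  rw [Finset.sum_eq_single e₀] at hb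
  · have hγ0 : γ e₀ ≠ 0 := by simpa [hS] using he₀
    simp only [ha] at ha1
    by_cases c1 : (ends e₀).1 = v <;> by_cases c2 : (ends e₀).2 = v
    · simp [c1, c2] at ha1
    · simp [c1, c2] at hb; exact hγ0 hb
    · simp [c1, c2] at hb; exact hγ0 hb
    · simp [c1, c2] at ha1
  · intro e _ hne
    by_cases heS : e ∈ S
    · have := hrest e (Finset.mem_erase.mpr ⟨hne, heS⟩)
      simp only [ha] at this
      have h1 : (ends e).1 ≠ v := by
        intro h; simp [h] at this
      have h2 : (ends e).2 ≠ v := by
        intro h; simp [h] at this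
      simp [h1, h2]
    · have : γ e = 0 := by simpa [hS] using heS
      simp [this]
  · intro h; exact absurd (Finset.mem_univ _) h

theorem zmod_two_key (x : ZMod 2) (a b : Prop) [Decidable a] [Decidable b] :
    (if x ≠ 0 then (((if a then 1 else 0) + (if b then 1 else 0) : ℕ) : ZMod 2) else 0) =
      (if b then x else 0) - (if a then x else 0) := by
  have hx : x = 0 ∨ x = 1 := by
    fin_cases x
    · left; rfl
    · right; rfl
  have h2 : (2 : ZMod 2) = 0 := by decide
  have h3 : (-1 : ZMod 2) = 1 := by decide
  rcases hx with rfl | rfl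
  · simp
  · by_cases ha : a <;> by_cases hb : b <;> simp [ha, hb, h2, h3]

theorem endCount_cast_zmod_two (ends : E → V × V) (f : E → ZMod 2) (v : V) :
    ((endCount ends (Finset.univ.filter (fun e => f e ≠ 0)) v : ℕ) : ZMod 2) = bdK (ZMod 2) ends f v := by
  unfold endCount bdK
  rw [Nat.cast_sum, Finset.sum_filter]
  apply Finset.sum_congr rfl
  intro e _
  exact zmod_two_key (f e) _ _

/-- An edge set without leaves contains a circuit. -/
theorem exists_isCircuit_subset (ends : E → V × V) (S : Finset E) (hS : S.Nonempty)
    (hleaf : ∀ v, endCount ends S v ≠ 1) : ∃ C, C ⊆ S ∧ IsCircuit ends C := by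
  classical
  obtain ⟨f, hf0, hfS, hfbd⟩ := exists_cycle_of_no_leaf (ZMod 2) ends S hS hleaf
  set C' := Finset.univ.filter (fun e => f e ≠ 0) with hC'
  have hC'S : C' ⊆ S := by
    intro e he
    by_contra hne
    have : f e ≠ 0 := by simpa [hC'] using he
    exact this (hfS e hne)
  have hC'ne : C'.Nonempty := by
    by_contra hemp
    rw [Finset.not_nonempty_iff_eq_empty] at hemp
    apply hf0
    ext e
    simp only [Pi.zero_apply]
    by_contra hne
    have : e ∈ C' := by simp [hC', hne]
    rw [hemp] at this
    simp at this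
  have hC'even : ∀ v, Even (endCount ends C' v) := by
    intro v
    rw [← ZMod.natCast_eq_zero_iff_even, endCount_cast_zmod_two, hfbd]
  set Fam := S.powerset.filter (fun C => C.Nonempty ∧ ∀ v, Even (endCount ends C v)) with hFam
  have hFamne : Fam.Nonempty := ⟨C', by simp [hFam, hC'S, hC'ne, hC'even]⟩
  obtain ⟨C, hCmem, hCmin⟩ := Finset.exists_min_image Fam Finset.card hFamne
  have hC : C ⊆ S ∧ C.Nonempty ∧ ∀ v, Even (endCount ends C v) := by
    simpa [hFam] using hCmem
  refine ⟨C, hC.1, hC.2.1, hC.2.2, ?_⟩
  intro C'' hsub hne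
  by_contra hcon
  push Not at hcon
  have hmem : C'' ∈ Fam := by
    simp only [hFam, Finset.mem_filter, Finset.mem_powerset]
    exact ⟨hsub.1.trans hC.1, hne, fun v => by simpa using hcon v⟩
  have := hCmin C'' hmem
  have := Finset.card_lt_card hsub
  omega

end

end Groth.Agent.Lib.Helper87
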