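import Mathlib
import Groth.Prelude.Def_W4c1nerontoraddGraph
import Groth.Agent.Lib.Helper87.LabGraphCycle1

/-!
# Circuit-coprime labelled graphs: potentials modulo the labels, and orthogonality to cycles
-/

set_option autoImplicit false
universe u

namespace Groth.Agent.Lib.Helper87

open LabGraph

section

variable {V E : Type u} [Fintype V] [Fintype E] [DecidableEq V] [DecidableEq E]

/-- A nonzero cycle modulo `p` supported on edges whose labels are divisible by `p` contradicts
circuit-coprimality. -/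
theorem not_coprime_of_zmod_cycle (ends : E → V × V) (l : E → ℕ) (p : ℕ) [Fact p.Prime]
    (γ : E → ZMod p) (hγ : γ ≠ 0) (hbd : ∀ v, bdK (ZMod p) ends γ v = 0)
    (hl : ∀ e, γ e ≠ 0 → p ∣ l e) : ¬ IsCircuitCoprime ends l := by
  intro hcop
  set S := Finset.univ.filter (fun e => γ e ≠ 0) with hS
  have hSne : S.Nonempty := by
    by_contra hemp
    rw [Finset.not_nonempty_iff_eq_empty] at hemp
    apply hγ
    ext e
    simp only [Pi.zero_apply]
    by_contra hne
    have : e ∈ S := by simp [hS, hne]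
    rw [hemp] at this
    simp at this
  obtain ⟨C, hCS, hC⟩ := exists_isCircuit_subset ends S hSne (no_leaf_of_cycle (ZMod p) ends γ hbd)
  have h1 := hcop C hC
  have h2 : p ∣ C.gcd l := by
    apply Finset.dvd_gcd
    intro e he
    have : e ∈ S := hCS he
    apply hl
    simpa [hS] using this
  rw [h1] at h2
  exact (Fact.out : p.Prime).one_lt.ne' (Nat.dvd_one.mp h2)

theorem zmod_surj (ends : E → V × V) (l : E → ℕ) (hcop : IsCircuitCoprime ends l) (p : ℕ)
    [Fact p.Prime] (c : E → ZMod p) :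
    ∃ (φ : V → ZMod p) (y : E → ZMod p),
      ∀ e, c e = φ (ends e).2 - φ (ends e).1 + (l e : ZMod p) * y e := by
  classical
  let Ψ : ((V → ZMod p) × (E → ZMod p)) →ₗ[ZMod p] (E → ZMod p) :=
    { toFun := fun a e => a.1 (ends e).2 - a.1 (ends e).1 + (l e : ZMod p) * a.2 e
      map_add' := by
        intro a b; ext e; simp only [Prod.fst_add, Prod.snd_add, Pi.add_apply]; ring
      map_smul' := by
        intro r a; ext e
        simp only [Prod.smul_fst, Prod.smul_snd, Pi.smul_apply, smul_eq_mul, RingHom.id_apply]; ring }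
  have hΨ : ∀ a e, Ψ a e = a.1 (ends e).2 - a.1 (ends e).1 + (l e : ZMod p) * a.2 e := fun _ _ => rfl
  have hsurj : LinearMap.range Ψ = ⊤ := by
    by_contra hne
    obtain ⟨f, hf0, hle⟩ := Submodule.exists_le_ker_of_lt_top _ (lt_top_iff_ne_top.mpr hne)
    set γ : E → ZMod p := fun e => f (fun j => if e = j then 1 else 0) with hγ
    have hf : ∀ z : E → ZMod p, f z = ∑ e, z e * γ e := by
      intro z
      rw [LinearMap.pi_apply_eq_sum_univ f z]
      simp [hγ, smul_eq_mul]
    have hfΨ : ∀ a, f (Ψ a) = 0 := fun a => LinearMap.mem_ker.mp (hle (LinearMap.mem_range_self Ψ a))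
    have hγ0 : γ ≠ 0 := by
      intro h0
      apply hf0
      apply LinearMap.ext
      intro z
      rw [hf z, h0]
      simp
    have hlγ : ∀ e, (l e : ZMod p) * γ e = 0 := by
      intro e
      have := hfΨ (0, Pi.single e 1)
      rw [hf] at this
      rw [Finset.sum_eq_single e] at this
      · simpa [hΨ] using this
      · intro e' _ hne'
        simp [hΨ, Pi.single_apply, hne']
      · intro h; exact absurd (Finset.mem_univ _) h
    have hbd : ∀ v, bdK (ZMod p) ends γ v = 0 := by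
      intro v
      have := hfΨ (Pi.single v 1, 0)
      rw [hf] at this
      rw [← this]
      unfold bdK
      apply Finset.sum_congr rfl
      intro e _
      simp only [hΨ, Pi.single_apply, Pi.zero_apply, mul_zero, add_zero]
      split_ifs <;> ring
    refine not_coprime_of_zmod_cycle ends l p γ hγ0 hbd ?_ hcop
    intro e he
    have := hlγ e
    rcases mul_eq_zero.mp this with h | h
    · exact (ZMod.natCast_eq_zero_iff (l e) p).mp h
    · exact absurd h he
  have : c ∈ LinearMap.range Ψ := by rw [hsurj]; trivial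
  obtain ⟨a, ha⟩ := this
  exact ⟨a.1, a.2, fun e => by rw [← ha, hΨ]⟩

theorem prime_step (ends : E → V × V) (l : E → ℕ) (hcop : IsCircuitCoprime ends l) (p : ℕ)
    (hp : p.Prime) (c : E → ℤ) :
    ∃ (φ : V → ℤ) (y w : E → ℤ),
      ∀ e, c e = φ (ends e).2 - φ (ends e).1 + (l e : ℤ) * y e + (p : ℤ) * w e := by
  have := Fact.mk hp
  obtain ⟨φ', y', h⟩ := zmod_surj ends l hcop p (fun e => (c e : ZMod p))
  have hdiv : ∀ e, (p : ℤ) ∣ c e - (((φ' (ends e).2).val : ℤ) - ((φ' (ends e).1).val : ℤ) +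
      (l e : ℤ) * ((y' e).val : ℤ)) := by
    intro e
    rw [← ZMod.intCast_zmod_eq_zero_iff_dvd]
    push_cast
    rw [ZMod.natCast_zmod_val, ZMod.natCast_zmod_val, ZMod.natCast_zmod_val, h e]
    ring
  choose w hw using hdiv
  refine ⟨fun v => ((φ' v).val : ℤ), fun e => ((y' e).val : ℤ), w, fun e => ?_⟩
  have := hw e
  linarith

theorem step_all (ends : E → V × V) (l : E → ℕ) (hcop : IsCircuitCoprime ends l) :
    ∀ m : ℕ, 0 < m → ∀ c : E → ℤ, ∃ (φ : V → ℤ) (y w : E → ℤ),
      ∀ e, c e = φ (ends e).2 - φ (ends e).1 + (l e : ℤ) * y e + (m : ℤ) * w e := by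
  intro m
  induction m using Nat.strong_induction_on with
  | _ m ih =>
    intro hm c
    by_cases h1 : m = 1
    · subst h1
      exact ⟨0, 0, c, by intro e; simp⟩
    · obtain ⟨p, hp, hpm⟩ := Nat.exists_prime_and_dvd h1
      obtain ⟨m', rfl⟩ := hpm
      have hm' : 0 < m' := Nat.pos_of_ne_zero (by rintro rfl; simp at hm)
      have hlt : m' < p * m' := by
        have := hp.two_le
        nlinarith
      obtain ⟨φ₁, y₁, w₁, h₁⟩ := prime_step ends l hcop p hp c
      obtain ⟨φ₂, y₂, w₂, h₂⟩ := ih m' hlt hm' w₁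
      refine ⟨fun v => φ₁ v + p * φ₂ v, fun e => y₁ e + p * y₂ e, w₂, ?_⟩
      intro e
      rw [h₁ e, h₂ e]
      push_cast
      ring

/-- In a circuit-coprime graph every integer edge vector is a coboundary modulo the labels. -/
theorem exists_potential_of_coprime (ends : E → V × V) (l : E → ℕ) (hl : ∀ e, 0 < l e)
    (hcop : IsCircuitCoprime ends l) (c : E → ℤ) :
    ∃ (φ : V → ℤ) (y : E → ℤ), ∀ e, c e = φ (ends e).2 - φ (ends e).1 + (l e : ℤ) * y e := by
  have hm : 0 < ∏ e, l e := Finset.prod_pos (fun e _ => hl e)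
  obtain ⟨φ, y, w, h⟩ := step_all ends l hcop _ hm c
  have hdvd : ∀ e, l e ∣ ∏ e, l e := fun e => Finset.dvd_prod_of_mem l (Finset.mem_univ e)
  choose k hk using hdvd
  refine ⟨φ, fun e => y e + k e * w e, fun e => ?_⟩
  rw [h e]
  have : ((∏ e, l e : ℕ) : ℤ) = (l e : ℤ) * (k e : ℤ) := by exact_mod_cast hk e
  rw [this]
  ring

theorem sum_mul_diff (ends : E → V × V) (γ : E → ℤ) (φ : V → ℤ) :
    ∑ e, γ e * (φ (ends e).2 - φ (ends e).1) = ∑ v, φ v * boundary ends γ v := by
  unfold boundary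
  simp_rw [Finset.mul_sum]
  rw [Finset.sum_comm]
  apply Finset.sum_congr rfl
  intro e _
  simp [mul_sub, Finset.sum_sub_distrib, mul_comm]

theorem orth_of_potential (ends : E → V × V) (l : E → ℕ) (x y : E → ℤ) (φ : V → ℤ)
    (h : ∀ e, x e = φ (ends e).2 - φ (ends e).1 + (l e : ℤ) * y e) (γ : E → ℤ)
    (hγ : ∀ v, boundary ends γ v = 0) : ∑ e, γ e * (x e - (l e : ℤ) * y e) = 0 := by
  have : ∑ e, γ e * (x e - (l e : ℤ) * y e) = ∑ e, γ e * (φ (ends e).2 - φ (ends e).1) := by
    apply Finset.sum_congr rfl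
    intro e _
    rw [h e]; ring
  rw [this, sum_mul_diff]
  apply Finset.sum_eq_zero
  intro v _
  rw [hγ v, mul_zero]

theorem coprime_of_orth (ends : E → V × V) (l : E → ℕ)
    (h : ∀ x : E → ℤ, ∃ y : E → ℤ, ∀ γ : E → ℤ, (∀ v : V, boundary ends γ v = 0) →
      ∑ e : E, γ e * (x e - (l e : ℤ) * y e) = 0) : IsCircuitCoprime ends l := by
  classical
  intro C hC
  by_contra hne
  obtain ⟨p, hp, hpd⟩ := Nat.exists_prime_and_dvd hne
  have hpl : ∀ e ∈ C, p ∣ l e := fun e he => hpd.trans (Finset.gcd_dvd he)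
  have hleaf : ∀ v, endCount ends C v ≠ 1 := by
    intro v h1
    have := hC.2.1 v
    rw [h1] at this
    exact (by decide : ¬ Even 1) this
  obtain ⟨γ, hγ0, hγC, hγbd⟩ := exists_cycle_of_no_leaf ℤ ends C hC.1 hleaf
  obtain ⟨e₁, he₁⟩ := hC.1
  obtain ⟨γ', hγ', hgcd⟩ := Finset.extract_gcd γ
    (⟨e₁, Finset.mem_univ _⟩ : (Finset.univ : Finset E).Nonempty)
  have hg0 : Finset.univ.gcd γ ≠ 0 := by
    intro h0
    apply hγ0
    ext e
    have := hγ' e (Finset.mem_univ e)
    rw [h0, zero_mul] at this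
    simpa using this
  have hγ'bd : ∀ v, boundary ends γ' v = 0 := by
    intro v
    have h1 : boundary ends γ v = Finset.univ.gcd γ * boundary ends γ' v := by
      unfold boundary
      rw [Finset.mul_sum]
      apply Finset.sum_congr rfl
      intro e _
      rw [hγ' e (Finset.mem_univ e)]
      split_ifs <;> ring
    have h2 : boundary ends γ v = 0 := hγbd v
    rw [h1] at h2
    exact (mul_eq_zero.mp h2).resolve_left hg0
  have hγ'C : ∀ e, e ∉ C → γ' e = 0 := by
    intro e he
    have := hγ' e (Finset.mem_univ e)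
    rw [hγC e he] at this
    exact (mul_eq_zero.mp this.symm).resolve_left hg0
  obtain ⟨e₀, he₀⟩ : ∃ e₀, ¬ (p : ℤ) ∣ γ' e₀ := by
    by_contra hall
    push Not at hall
    have h1 : (p : ℤ) ∣ Finset.univ.gcd γ' := Finset.dvd_gcd (fun e _ => hall e)
    rw [hgcd] at h1
    have h2 := Int.le_of_dvd one_pos h1
    have h3 := hp.two_le
    omega
  obtain ⟨y, hy⟩ := h (Pi.single e₀ 1)
  have h0 := hy γ' hγ'bd
  have hsum : γ' e₀ = ∑ e, γ' e * ((l e : ℤ) * y e) := by
    have h3 : ∑ e, γ' e * ((Pi.single e₀ 1 : E → ℤ) e - (l e : ℤ) * y e) =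
        γ' e₀ - ∑ e, γ' e * ((l e : ℤ) * y e) := by
      simp [mul_sub, Finset.sum_sub_distrib, Pi.single_apply]
    linarith
  apply he₀
  rw [hsum]
  apply Finset.dvd_sum
  intro e _
  by_cases he : e ∈ C
  · exact Dvd.dvd.mul_left (Dvd.dvd.mul_right (Int.natCast_dvd_natCast.mpr (hpl e he)) _) _
  · rw [hγ'C e he]; simp

theorem isCircuitCoprime_iff_orth (ends : E → V × V) (l : E → ℕ) (hl : ∀ e, 0 < l e) :
    IsCircuitCoprime ends l ↔
      ∀ x : E → ℤ, ∃ y : E → ℤ, ∀ γ : E → ℤ, (∀ v : V, boundary ends γ v = 0) →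
        ∑ e : E, γ e * (x e - (l e : ℤ) * y e) = 0 := by
  constructor
  · intro hcop x
    obtain ⟨φ, y, h⟩ := exists_potential_of_coprime ends l hl hcop x
    exact ⟨y, fun γ hγ => orth_of_potential ends l x y φ h γ hγ⟩
  · exact coprime_of_orth ends l

end

end Groth.Agent.Lib.Helper87
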