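import Mathlib
import Groth.Prelude.Def_W4c1nerontoraddGraph
import Groth.Agent.Lib.Helper87.LabGraphCycle2
import Groth.Agent.Lib.Helper87.LabGraphBlow1

/-!
# Blow-up graphs: harmonic functions on paths, Cartier labellings, circuit-coprimality
-/

set_option autoImplicit false
universe u

namespace Groth.Agent.Lib.Helper87

open LabGraph

theorem linear_of_second_diff (q : ℕ → ℤ) (n : ℕ)
    (h : ∀ j, j + 2 ≤ n → q (j + 2) + q j - 2 * q (j + 1) = 0) :
    ∀ j, j ≤ n → q j = q 0 + (j : ℤ) * (q 1 - q 0) := by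
  intro j
  induction j using Nat.twoStepInduction with
  | zero => intro _; simp
  | one => intro _; simp
  | more j ih0 ih1 =>
    intro hj
    have h0 := ih0 (by omega)
    have h1 := ih1 (by omega)
    have h2 := h j hj
    push_cast at h0 h1 ⊢
    linear_combination h2 + 2 * h1 - h0

section

variable {V E : Type u} [Fintype V] [Fintype E] [DecidableEq V] [DecidableEq E]

/-- A labelling of the blow-up graph which is harmonic at the new vertices restricts to a Cartier
labelling of the original graph with the same multidegree. -/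
theorem cartier_of_blow (ends : E → V × V) (l : E → ℕ) (hl : ∀ e, 0 < l e)
    (α : V → ℤ) (ψ : BlVert V E l → ℤ)
    (hψ : ∀ w : BlVert V E l,
      mdeg (blEnds ends l) (fun _ => 1) ψ w = Sum.elim α (fun _ => (0 : ℤ)) w) :
    ∃ φ : V → ℤ, IsCartier ends l φ ∧ ∀ v : V, mdeg ends l φ v = α v := by
  have hlin : ∀ e j, j ≤ l e → ψ (pathVert ends l e j) =
      ψ (pathVert ends l e 0) + (j : ℤ) * (ψ (pathVert ends l e 1) - ψ (pathVert ends l e 0)) := by
    intro e
    apply linear_of_second_diff (fun j => ψ (pathVert ends l e j)) (l e)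
    intro j hj
    have := hψ (Sum.inr ⟨e, ⟨j, by omega⟩⟩)
    rw [mdeg_blow_inr] at this
    simpa using this
  have htop : ∀ e, ψ (Sum.inl (ends e).2) = ψ (Sum.inl (ends e).1) +
      (l e : ℤ) * (ψ (pathVert ends l e 1) - ψ (pathVert ends l e 0)) := by
    intro e
    have := hlin e (l e) le_rfl
    rwa [pathVert_top ends l hl, pathVert_zero] at this
  refine ⟨fun v => ψ (Sum.inl v), ?_, ?_⟩
  · intro e
    refine ⟨-(ψ (pathVert ends l e 1) - ψ (pathVert ends l e 0)), ?_⟩
    simp only
    rw [htop e]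
    ring
  · intro v
    have hv := hψ (Sum.inl v)
    rw [mdeg_blow_inl ends l hl] at hv
    simp only [Sum.elim_inl] at hv
    rw [← hv]
    unfold mdeg
    apply Finset.sum_congr rfl
    intro e _
    have hle := hl e
    have hne : (l e : ℤ) ≠ 0 := by exact_mod_cast hle.ne'
    have h1 : (ψ (Sum.inl (ends e).2) - ψ (Sum.inl (ends e).1)) / (l e : ℤ) =
        ψ (pathVert ends l e 1) - ψ (pathVert ends l e 0) := by
      rw [htop e, add_sub_cancel_left, Int.mul_ediv_cancel_left _ hne]
    have h2 : (ψ (Sum.inl (ends e).1) - ψ (Sum.inl (ends e).2)) / (l e : ℤ) =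
        ψ (pathVert ends l e (l e - 1)) - ψ (pathVert ends l e (l e)) := by
      rw [hlin e (l e - 1) (by omega), hlin e (l e) le_rfl, htop e]
      have hc : ((l e - 1 : ℕ) : ℤ) = (l e : ℤ) - 1 := by
        rw [Nat.cast_sub (by omega)]; simp
      rw [hc]
      have : ψ (Sum.inl (ends e).1) - (ψ (Sum.inl (ends e).1) +
          (l e : ℤ) * (ψ (pathVert ends l e 1) - ψ (pathVert ends l e 0))) =
          (l e : ℤ) * (-(ψ (pathVert ends l e 1) - ψ (pathVert ends l e 0))) := by ring
      rw [this, Int.mul_ediv_cancel_left _ hne]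
      ring
    simp only [h1, h2]

/-- The second antiderivative used to solve the discrete Poisson equation on a path. -/
def pathG (b : ℕ → ℤ) (j : ℕ) : ℤ := ∑ k ∈ Finset.range j, ∑ i ∈ Finset.range (k + 1), b i

theorem pathG_zero (b : ℕ → ℤ) : pathG b 0 = 0 := by simp [pathG]

theorem pathG_second_diff (b : ℕ → ℤ) (j : ℕ) :
    pathG b (j + 2) + pathG b j - 2 * pathG b (j + 1) = b (j + 1) := by
  unfold pathG
  rw [Finset.sum_range_succ (n := j + 1), Finset.sum_range_succ (n := j),
    Finset.sum_range_succ (n := j + 1) (f := b)]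
  ring

theorem blow_of_coprime (ends : E → V × V) (l : E → ℕ) (hl : ∀ e, 0 < l e)
    (hcop : IsCircuitCoprime ends l) (β : BlVert V E l → ℤ) :
    ∃ (ψ : BlVert V E l → ℤ) (α : V → ℤ), ∀ w : BlVert V E l,
      mdeg (blEnds ends l) (fun _ => 1) ψ w + β w = Sum.elim α (fun _ => (0 : ℤ)) w := by
  classical
  set b : E → ℕ → ℤ := fun e i => if 0 < i ∧ i < l e then -β (pathVert ends l e i) else 0 with hb
  obtain ⟨φ, y, hφ⟩ := exists_potential_of_coprime ends l hl hcop (fun e => pathG (b e) (l e))
  set P : E → ℕ → ℤ := fun e j => φ (ends e).1 - (j : ℤ) * y e + pathG (b e) j with hP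
  set ψ : BlVert V E l → ℤ := Sum.elim φ (fun x => P x.1 (x.2.val + 1)) with hψ
  have hq : ∀ e j, j ≤ l e → ψ (pathVert ends l e j) = P e j := by
    intro e j hj
    have hle := hl e
    by_cases h0 : j = 0
    · subst h0
      rw [pathVert_zero]
      simp [hψ, hP, pathG_zero]
    · by_cases h1 : j = l e
      · subst h1
        rw [pathVert_top ends l hl]
        simp only [hψ, hP, Sum.elim_inl]
        have := hφ e
        linarith
      · have hj' : j - 1 < l e - 1 := by omega
        have := pathVert_mid ends l e ⟨j - 1, hj'⟩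
        simp only at this
        have hjj : j - 1 + 1 = j := by omega
        rw [hjj] at this
        rw [this]
        simp only [hψ, Sum.elim_inr, hjj]
  refine ⟨ψ, fun v => mdeg (blEnds ends l) (fun _ => 1) ψ (Sum.inl v) + β (Sum.inl v), ?_⟩
  rintro (v | ⟨e₀, j₀⟩)
  · simp
  · have hj := j₀.isLt
    rw [mdeg_blow_inr, hq e₀ _ (by omega), hq e₀ _ (by omega), hq e₀ _ (by omega)]
    simp only [Sum.elim_inr]
    have h2 := pathG_second_diff (b e₀) j₀.val
    have hb1 : b e₀ (j₀.val + 1) = -β (Sum.inr ⟨e₀, j₀⟩) := by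
      simp only [hb]
      rw [if_pos ⟨by omega, by omega⟩, pathVert_mid]
    rw [hb1] at h2
    simp only [hP]
    push_cast
    linear_combination h2

theorem coprime_of_blow (ends : E → V × V) (l : E → ℕ) (hl : ∀ e, 0 < l e)
    (H : ∀ β : BlVert V E l → ℤ, ∃ (ψ : BlVert V E l → ℤ) (α : V → ℤ), ∀ w : BlVert V E l,
      mdeg (blEnds ends l) (fun _ => 1) ψ w + β w = Sum.elim α (fun _ => (0 : ℤ)) w) :
    IsCircuitCoprime ends l := by
  classical
  apply coprime_of_orth
  intro x
  set β : BlVert V E l → ℤ :=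
    Sum.elim (fun _ => 0) (fun p => if p.2.val + 2 = l p.1 then -x p.1 else 0) with hβ
  obtain ⟨ψ, α, hψ⟩ := H β
  have hdiff : ∀ e j, j + 2 ≤ l e →
      ψ (pathVert ends l e (j + 2)) + ψ (pathVert ends l e j) - 2 * ψ (pathVert ends l e (j + 1)) =
        if j + 2 = l e then x e else 0 := by
    intro e j hj
    have := hψ (Sum.inr ⟨e, ⟨j, by omega⟩⟩)
    rw [mdeg_blow_inr] at this
    simp only [hβ, Sum.elim_inr] at this
    split_ifs at this ⊢ with hc
    · linarith
    · linarith
  have key : ∀ e, 2 ≤ l e → x e = ψ (Sum.inl (ends e).2) - ψ (Sum.inl (ends e).1) +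
      (l e : ℤ) * (-(ψ (pathVert ends l e 1) - ψ (pathVert ends l e 0))) := by
    intro e he
    have hlin := linear_of_second_diff (fun j => ψ (pathVert ends l e j)) (l e - 1) (by
      intro j hj
      have := hdiff e j (by omega)
      rw [if_neg (by omega)] at this
      exact this)
    have h1 := hlin (l e - 1) le_rfl
    have h2 := hlin (l e - 2) (by omega)
    have h3 := hdiff e (l e - 2) (by omega)
    rw [if_pos (by omega)] at h3
    have e1 : l e - 2 + 2 = l e := by omega
    have e2 : l e - 2 + 1 = l e - 1 := by omega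
    rw [e1, e2] at h3
    rw [pathVert_top ends l hl] at h3
    have hc1 : ((l e - 1 : ℕ) : ℤ) = (l e : ℤ) - 1 := by
      rw [Nat.cast_sub (by omega)]; simp
    have hc2 : ((l e - 2 : ℕ) : ℤ) = (l e : ℤ) - 2 := by
      rw [Nat.cast_sub (by omega)]; simp
    rw [hc1] at h1
    rw [hc2] at h2
    rw [pathVert_zero] at h1 h2 ⊢
    linear_combination (-1 : ℤ) * h3 - 2 * h1 + h2
  refine ⟨fun e => if l e = 1 then x e - (ψ (Sum.inl (ends e).2) - ψ (Sum.inl (ends e).1))
    else -(ψ (pathVert ends l e 1) - ψ (pathVert ends l e 0)), ?_⟩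
  apply orth_of_potential ends l x _ (fun v => ψ (Sum.inl v))
  intro e
  have hle := hl e
  by_cases h1 : l e = 1
  · simp only [h1, if_true]
    push_cast
    ring
  · rw [if_neg h1]
    exact key e (by omega)

theorem blow_iff_coprime (ends : E → V × V) (l : E → ℕ) (hl : ∀ e, 0 < l e) :
    (∀ β : BlVert V E l → ℤ, ∃ (ψ : BlVert V E l → ℤ) (α : V → ℤ), ∀ w : BlVert V E l,
      mdeg (blEnds ends l) (fun _ => 1) ψ w + β w = Sum.elim α (fun _ => (0 : ℤ)) w) ↔
      IsCircuitCoprime ends l :=
  ⟨coprime_of_blow ends l hl, fun h β => blow_of_coprime ends l hl h β⟩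

end

end Groth.Agent.Lib.Helper87
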