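import Mathlib.RingTheory.Ideal.UFD
import Mathlib.RingTheory.Polynomial.UniqueFactorization
import Mathlib.Algebra.Polynomial.Laurent
import Mathlib.Algebra.Polynomial.Degree.Units
import Mathlib.Algebra.Polynomial.Degree.Domain

/-!
# Unique factorization in `A`, `A[X]` and `A[T;T⁻¹]`; units of `A[T;T⁻¹]` (helper87)
-/

set_option autoImplicit false
universe u

namespace Groth.Agent.Lib.Helper87.LaurentUFD

open Polynomial LaurentPolynomial

variable {A : Type u} [CommRing A] [IsDomain A]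

/-- If `A[X]` is a UFD then so is `A`. -/
theorem ufd_of_ufd_polynomial (h : UniqueFactorizationMonoid A[X]) :
    UniqueFactorizationMonoid A := by
  rw [UniqueFactorizationMonoid.iff_exists_prime_mem_of_isPrime]
  intro I hI hIp
  obtain ⟨a, haI, ha0⟩ := (Submodule.ne_bot_iff I).mp hI
  have hCa : (Polynomial.C a : A[X]) ≠ 0 := by
    rw [Ne, Polynomial.C_eq_zero]
    exact ha0
  obtain ⟨f, hfp, hfa⟩ := UniqueFactorizationMonoid.exists_prime_factors (Polynomial.C a) hCa
  have hJ : (I.map (Polynomial.C : A →+* A[X])).IsPrime := Ideal.isPrime_map_C_of_isPrime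
  have hmem : f.prod ∈ I.map (Polynomial.C : A →+* A[X]) := by
    obtain ⟨v, hv⟩ := hfa.symm
    rw [← hv]
    exact Ideal.mul_mem_right _ _ (Ideal.mem_map_of_mem _ haI)
  obtain ⟨b, hbf, hbJ⟩ := (hJ.multiset_prod_mem_iff_exists_mem f).mp hmem
  have hbdvd : b ∣ Polynomial.C a := (Multiset.dvd_prod hbf).trans hfa.dvd
  have hdeg : b.natDegree = 0 := by
    have := Polynomial.natDegree_le_of_dvd hbdvd hCa
    rw [Polynomial.natDegree_C] at this
    omega
  have hb : b = Polynomial.C (b.coeff 0) := Polynomial.eq_C_of_natDegree_eq_zero hdeg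
  refine ⟨b.coeff 0, ?_, ?_⟩
  · exact Ideal.mem_map_C_iff.mp hbJ 0
  · have := hfp b hbf
    rw [hb] at this
    exact Polynomial.prime_C_iff.mp this

/-- If `A[T;T⁻¹]` is a UFD then so is `A` (`A` Noetherian). -/
theorem ufd_of_ufd_laurent [IsNoetherianRing A] (h : UniqueFactorizationMonoid A[T;T⁻¹]) :
    UniqueFactorizationMonoid A := by
  apply ufd_of_ufd_polynomial
  exact (UniqueFactorizationMonoid.iff_of_isLocalizationAway_of_prime Polynomial.prime_X
    A[T;T⁻¹]).mpr h

omit [IsDomain A] in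
/-- If `A` is a UFD then so is `A[T;T⁻¹]`. -/
theorem ufd_laurent [UniqueFactorizationMonoid A] : UniqueFactorizationMonoid A[T;T⁻¹] :=
  UniqueFactorizationMonoid.of_isLocalization (Submonoid.powers (Polynomial.X : A[X])) A[T;T⁻¹]

/-- The factors of `T^{-j}` in `A[T;T⁻¹]` are unit multiples of powers of `T`. -/
theorem eq_C_mul_T_of_mul_eq_T (x y : A[T;T⁻¹]) (j : ℕ) (h : x * y = T (-(j : ℤ))) :
    ∃ (c : A) (i : ℤ), IsUnit c ∧ x = LaurentPolynomial.C c * T i := by
  obtain ⟨n, p, hp⟩ := exists_T_pow x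
  obtain ⟨k, q, hq⟩ := exists_T_pow y
  have e1 : toLaurent (p * q * Polynomial.X ^ j) = toLaurent (Polynomial.X ^ (n + k)) := by
    rw [map_mul, map_mul, hp, hq, Polynomial.toLaurent_X_pow, Polynomial.toLaurent_X_pow]
    calc x * T n * (y * T k) * T j = (x * y) * (T n * T k * T j) := by ring
      _ = T (-(j : ℤ)) * (T n * T k * T j) := by rw [h]
      _ = T (((n + k : ℕ)) : ℤ) := by
        rw [← T_add, ← T_add, ← T_add]
        congr 1
        push_cast
        ring
  have e2 : p * q * Polynomial.X ^ j = Polynomial.X ^ (n + k) := Polynomial.toLaurent_injective e1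
  have hdvd : p ∣ Polynomial.X ^ (n + k) := ⟨q * Polynomial.X ^ j, by rw [← e2]; ring⟩
  obtain ⟨i, -, hi⟩ := (dvd_prime_pow Polynomial.prime_X _).mp hdvd
  obtain ⟨v, hv⟩ := hi
  obtain ⟨r, hr, hrv⟩ := Polynomial.isUnit_iff.mp v.isUnit
  obtain ⟨s, hs⟩ := hr.exists_right_inv
  have hp2 : p = Polynomial.C s * Polynomial.X ^ i := by
    have h3 : p * Polynomial.C r * Polynomial.C s = Polynomial.X ^ i * Polynomial.C s := by
      rw [hrv, hv]
    rw [mul_assoc, ← Polynomial.C_mul, hs, Polynomial.C_1, mul_one] at h3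
    rw [h3]
    ring
  refine ⟨s, (i : ℤ) - n, IsUnit.of_mul_eq_one r (by rw [mul_comm]; exact hs), ?_⟩
  have hx : x = toLaurent p * T (-(n : ℤ)) := by
    rw [hp, mul_T_assoc, add_neg_cancel, T_zero, mul_one]
  rw [hx, hp2, map_mul, Polynomial.toLaurent_C, Polynomial.toLaurent_X_pow, mul_T_assoc,
    sub_eq_add_neg]

end Groth.Agent.Lib.Helper87.LaurentUFD
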