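import Mathlib
import Groth.Prelude.Def_W4c5adicflatcomplDec
import Groth.Agent.Lib.Helper87.FlatKer
import Groth.Agent.Lib.Helper87.AdicSum
import Groth.Agent.S17540
import Groth.Agent.S17553

/-!
For a complete module `M` over a complete local ring `A` there is a surjection from a module of
decaying functions `Z → A` onto `M` which is injective modulo the maximal ideal.
-/

set_option autoImplicit false

namespace Groth.Agent.Lib.Helper87

open W4c5adicflatcompl IsLocalRing

universe u

theorem exists_surj_decaying {A : Type u} [CommRing A] [IsNoetherianRing A] [IsLocalRing A]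
    [IsAdicComplete (maximalIdeal A) A]
    (M : Type u) [AddCommGroup M] [Module A M] [IsAdicComplete (maximalIdeal A) M] :
    ∃ (Z : Type u) (φ : decaying (maximalIdeal A) Z A →ₗ[A] M), Function.Surjective φ ∧
      ∀ g, φ g ∈ (maximalIdeal A • ⊤ : Submodule A M) →
        g ∈ (maximalIdeal A • ⊤ : Submodule A (decaying (maximalIdeal A) Z A)) := by
  classical
  set 𝔪 := maximalIdeal A with h𝔪
  have hI : 𝔪.FG := IsNoetherian.noetherian 𝔪
  let _ : Field (A ⧸ 𝔪) := Ideal.Quotient.field 𝔪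
  let k := A ⧸ 𝔪
  let Q := M ⧸ (𝔪 • ⊤ : Submodule A M)
  have hsmul : ∀ (a : A) (q : Q), (Ideal.Quotient.mk 𝔪 a : k) • q = a • q := by
    intro a q
    obtain ⟨x, rfl⟩ := Submodule.Quotient.mk_surjective _ q
    rfl
  let b := Module.Basis.ofVectorSpace k Q
  let Z := Module.Basis.ofVectorSpaceIndex k Q
  choose m hm using fun z : Z => Submodule.Quotient.mk_surjective (𝔪 • ⊤ : Submodule A M) (b z)
  have hindep : ∀ (S : Finset Z) (c : Z → A), (∑ z ∈ S, c z • m z) ∈ (𝔪 • ⊤ : Submodule A M) →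
      ∀ z ∈ S, c z ∈ 𝔪 := by
    intro S c hc z hz
    have h0 : ∑ z ∈ S, (Ideal.Quotient.mk 𝔪 (c z) : k) • b z = 0 := by
      have := (Submodule.Quotient.mk_eq_zero (𝔪 • ⊤ : Submodule A M)).2 hc
      rw [← Submodule.mkQ_apply, map_sum] at this
      rw [← this]
      refine Finset.sum_congr rfl fun z _ => ?_
      rw [hsmul, map_smul, Submodule.mkQ_apply, hm]
    have := linearIndependent_iff'.1 b.linearIndependent S
      (fun z => (Ideal.Quotient.mk 𝔪 (c z) : k)) h0 z hz
    exact Ideal.Quotient.eq_zero_iff_mem.1 this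
  have hspan : Submodule.span A (Set.range m) ⊔ 𝔪 • ⊤ = ⊤ := by
    rw [sup_comm, ← Submodule.map_mkQ_eq_top, Submodule.map_span, ← Set.range_comp]
    have h1 : (⇑(𝔪 • ⊤ : Submodule A M).mkQ ∘ m) = b := by
      funext z
      exact hm z
    rw [h1]
    have h2 := Submodule.restrictScalars_span A k (Ideal.Quotient.mk_surjective (I := 𝔪))
      (Set.range b) (M := Q)
    rw [← h2, b.span_eq]
    rfl
  obtain ⟨φ, hφ⟩ := Groth.Agent.S17553.result 𝔪 Z M m
  have hφsum : ∀ g : decaying 𝔪 Z A, IsAdicSum 𝔪 (fun z => (g : Z → A) z • m z) (φ g) :=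
    fun g n => hφ g n
  have hsurj : Function.Surjective φ := by
    intro x
    obtain ⟨g, hgdec, hg⟩ := Groth.Agent.S17540.aux 𝔪 M Z m hspan x
    exact ⟨⟨g, hgdec⟩, IsAdicSum.unique (hφsum ⟨g, hgdec⟩) hg⟩
  refine ⟨Z, φ, hsurj, ?_⟩
  intro g hg
  obtain ⟨S, hS1, hS2⟩ := hφ g 1
  rw [pow_one] at hS1 hS2
  have hS3 : ∑ z ∈ S, (g : Z → A) z • m z ∈ (𝔪 • ⊤ : Submodule A M) := by
    have := Submodule.sub_mem _ hg hS2
    simpa using this
  have hall : ∀ z, (g : Z → A) z ∈ 𝔪 := by
    intro z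
    by_cases hz : z ∈ S
    · exact hindep S _ hS3 z hz
    · have := hS1 z hz
      exact hindep {z} (fun z => (g : Z → A) z) (by simpa using this) z (by simp)
  have := mem_smul_top_of_forall (I := 𝔪) (n := 1) (by simpa using hI) g
    (fun z => by rw [pow_one, smul_eq_mul, Ideal.mul_top]; exact hall z)
  simpa using this

end Groth.Agent.Lib.Helper87
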