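import Mathlib

/-!
# Logarithmic connections with non-resonant residues: algebraic preliminaries (helper87)

Evaluation of vectors of polynomials, interpolation at points with unit differences, and
invertibility of `f - n` from the characteristic polynomial.
-/

set_option autoImplicit false
universe u

namespace Groth.Agent.Lib.Helper87.LogConn

open Polynomial

section Basic

variable {R : Type u} [CommRing R] {d r : ℕ}

/-- Evaluation of a vector of polynomials at a point. -/
def ev (a : R) (v : Fin d → R[X]) : Fin d → R := fun j => (v j).eval a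

theorem ev_add (a : R) (v w : Fin d → R[X]) : ev a (v + w) = ev a v + ev a w := by
  funext j; simp [ev]

theorem ev_sub (a : R) (v w : Fin d → R[X]) : ev a (v - w) = ev a v - ev a w := by
  funext j; simp [ev]

theorem ev_zero (a : R) : ev a (0 : Fin d → R[X]) = 0 := by
  funext j; simp [ev]

theorem ev_smul (a : R) (p : R[X]) (v : Fin d → R[X]) : ev a (p • v) = p.eval a • ev a v := by
  funext j; simp [ev]

theorem ev_const (a : R) (m : Fin d → R) : ev a (fun j => C (m j)) = m := by
  funext j; simp [ev]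

theorem ev_sum {ι : Type*} (a : R) (s : Finset ι) (f : ι → (Fin d → R[X])) :
    ev a (∑ i ∈ s, f i) = ∑ i ∈ s, ev a (f i) := by
  funext j; simp [ev, Finset.sum_apply, eval_finset_sum]

/-- Every vector of polynomials is a finite sum of `X ^ n • (constant vector)`. -/
theorem exists_decomp (v : Fin d → R[X]) : ∃ (N : ℕ) (m : ℕ → Fin d → R),
    v = ∑ n ∈ Finset.range N, (X ^ n : R[X]) • (fun j => C (m n j)) := by
  refine ⟨(Finset.univ.sup fun j => (v j).natDegree) + 1, fun n j => (v j).coeff n, ?_⟩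
  funext j
  rw [Finset.sum_apply]
  simp only [Pi.smul_apply, smul_eq_mul]
  have hdeg : (v j).natDegree < (Finset.univ.sup fun j => (v j).natDegree) + 1 :=
    Nat.lt_succ_of_le (Finset.le_sup (f := fun j => (v j).natDegree) (Finset.mem_univ j))
  conv_lhs => rw [(v j).as_sum_range' _ hdeg]
  refine Finset.sum_congr rfl fun n _ => ?_
  rw [← C_mul_X_pow_eq_monomial, mul_comm]

/-- The constant `c_i = ∏_{k ≠ i} (θ_i - θ_k)`. -/
def cc (θ : Fin r → R) (i : Fin r) : R := ∏ k ∈ Finset.univ.erase i, (θ i - θ k)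

theorem isUnit_cc (θ : Fin r → R) (hθ : ∀ i k, i ≠ k → IsUnit (θ i - θ k)) (i : Fin r) :
    IsUnit (cc θ i) := by
  unfold cc
  refine Finset.prod_induction _ IsUnit (fun _ _ => IsUnit.mul) isUnit_one fun k hk => ?_
  exact hθ i k (Finset.ne_of_mem_erase hk).symm

theorem eval_prod_X_sub_C (θ : Fin r → R) (i : Fin r) :
    (∏ k, (X - C (θ k))).eval (θ i) = 0 := by
  rw [eval_prod]
  exact Finset.prod_eq_zero (Finset.mem_univ i) (by simp)

theorem eval_derivative_prod (θ : Fin r → R) (i : Fin r) :
    (derivative (∏ k, (X - C (θ k)))).eval (θ i) = cc θ i := by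
  classical
  rw [← Finset.mul_prod_erase Finset.univ _ (Finset.mem_univ i), derivative_mul, eval_add,
    eval_mul, eval_mul, derivative_X_sub_C, eval_one, one_mul, eval_sub, eval_X, eval_C, sub_self,
    zero_mul, add_zero, eval_prod]
  simp [cc]

/-- If a polynomial vanishes at all `θ_i` (pairwise unit differences) it is divisible by
`∏ (X - θ_i)`. -/
theorem prod_dvd_of_forall_eval_eq_zero (θ : Fin r → R)
    (hθ : ∀ i k, i ≠ k → IsUnit (θ i - θ k)) (p : R[X]) (hp : ∀ i, p.eval (θ i) = 0) :
    (∏ i, (X - C (θ i))) ∣ p := by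
  apply Fintype.prod_dvd_of_coprime
  · intro i k hik
    exact isCoprime_X_sub_C_of_isUnit_sub (hθ i k hik)
  · intro i
    exact dvd_iff_isRoot.mpr (hp i)

theorem exists_eq_smul_of_ev_eq_zero (θ : Fin r → R)
    (hθ : ∀ i k, i ≠ k → IsUnit (θ i - θ k)) (u : Fin d → R[X])
    (h : ∀ i, ev (θ i) u = 0) : ∃ u' : Fin d → R[X], u = (∏ i, (X - C (θ i))) • u' := by
  have h1 : ∀ j, (∏ i, (X - C (θ i))) ∣ u j := by
    intro j
    apply prod_dvd_of_forall_eval_eq_zero θ hθ
    intro i
    exact congrFun (h i) j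
  choose q hq using h1
  exact ⟨q, funext fun j => by rw [Pi.smul_apply, smul_eq_mul]; exact hq j⟩

/-- Interpolation of vectors at the points `θ_i`. -/
theorem exists_ev_eq (θ : Fin r → R) (hθ : ∀ i k, i ≠ k → IsUnit (θ i - θ k))
    (m : Fin r → (Fin d → R)) : ∃ u : Fin d → R[X], ∀ i, ev (θ i) u = m i := by
  classical
  choose c hc using fun i => (isUnit_cc θ hθ i).exists_left_inv
  refine ⟨∑ i, (C (c i) * ∏ k ∈ Finset.univ.erase i, (X - C (θ k))) • (fun j => C (m i j)), ?_⟩
  intro i'
  rw [ev_sum]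
  simp only [ev_smul, ev_const, eval_mul, eval_C, eval_prod, eval_sub, eval_X]
  rw [Finset.sum_eq_single i']
  · have : c i' * ∏ k ∈ Finset.univ.erase i', (θ i' - θ k) = 1 := hc i'
    rw [this, one_smul]
  · intro i _ hne
    have : ∏ k ∈ Finset.univ.erase i, (θ i' - θ k) = 0 :=
      Finset.prod_eq_zero (Finset.mem_erase.mpr ⟨hne.symm, Finset.mem_univ i'⟩) (sub_self _)
    rw [this, mul_zero, zero_smul]
  · intro h; exact absurd (Finset.mem_univ i') h

end Basic

section CayleyHamilton

variable {R : Type u} [CommRing R] [Algebra ℂ R] {d : ℕ}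

/-- If the characteristic polynomial of `f` comes from `χ ∈ ℂ[X]` with `χ(n) ≠ 0`, then `f - n` is
invertible. -/
theorem exists_inverse_sub_natCast (f : (Fin d → R) →ₗ[R] (Fin d → R)) (χ : ℂ[X])
    (hχ : f.charpoly = χ.map (algebraMap ℂ R)) (n : ℕ) (hn : χ.eval (n : ℂ) ≠ 0) :
    ∃ g : (Fin d → R) →ₗ[R] (Fin d → R),
      (f - (n : R) • LinearMap.id) ∘ₗ g = LinearMap.id ∧
        g ∘ₗ (f - (n : R) • LinearMap.id) = LinearMap.id := by
  set a : ℂ := χ.eval (n : ℂ) with ha
  set q : ℂ[X] := χ /ₘ (X - C (n : ℂ)) with hq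
  have h1 : C a + (X - C (n : ℂ)) * q = χ := by
    have := modByMonic_add_div χ (X - C (n : ℂ))
    rwa [modByMonic_X_sub_C_eq_C_eval] at this
  have h2 : f.charpoly = C (algebraMap ℂ R a) + (X - C (n : R)) * q.map (algebraMap ℂ R) := by
    rw [hχ, ← h1]
    simp [Polynomial.map_add, Polynomial.map_mul, Polynomial.map_sub]
  have h3 := LinearMap.aeval_self_charpoly f
  rw [h2] at h3
  simp only [map_add, map_mul, map_sub, aeval_X, aeval_C] at h3
  set G : Module.End R (Fin d → R) := aeval f (q.map (algebraMap ℂ R)) with hG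
  have hcomm : (f - algebraMap R (Module.End R (Fin d → R)) (n : R)) * G =
      G * (f - algebraMap R (Module.End R (Fin d → R)) (n : R)) := by
    have e1 : f - algebraMap R (Module.End R (Fin d → R)) (n : R) = aeval f (X - C (n : R)) := by
      simp
    rw [e1, hG, ← map_mul, ← map_mul, mul_comm]
  have hfn : f - (n : R) • LinearMap.id = f - algebraMap R (Module.End R (Fin d → R)) (n : R) := by
    rw [Algebra.algebraMap_eq_smul_one]
    rfl
  have hainv : algebraMap ℂ R a⁻¹ * algebraMap ℂ R a = 1 := by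
    rw [← map_mul, inv_mul_cancel₀ hn, map_one]
  generalize algebraMap ℂ R a = b at h3 hainv
  generalize algebraMap ℂ R a⁻¹ = b' at hainv
  -- (f - n) * G = - b
  have h4 : (f - algebraMap R (Module.End R (Fin d → R)) (n : R)) * G =
      - (b • (1 : Module.End R (Fin d → R))) := by
    rw [eq_neg_iff_add_eq_zero, add_comm, ← Algebra.algebraMap_eq_smul_one]
    exact h3
  refine ⟨(-b') • G, ?_, ?_⟩
  · rw [hfn]
    change (f - algebraMap R (Module.End R (Fin d → R)) (n : R)) * ((-b') • G) = 1
    rw [mul_smul_comm, h4, smul_neg, neg_smul, neg_neg, smul_smul, hainv, one_smul]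
  · rw [hfn]
    change ((-b') • G) * (f - algebraMap R (Module.End R (Fin d → R)) (n : R)) = 1
    rw [smul_mul_assoc, ← hcomm, h4, smul_neg, neg_smul, neg_neg, smul_smul, hainv, one_smul]

end CayleyHamilton

end Groth.Agent.Lib.Helper87.LogConn
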