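import Mathlib
import Groth.Agent.Lib.Helper87.LogConn1

/-!
# Logarithmic connections with non-resonant residues: the two main statements (helper87)

`M[X, 1/Θ] = D(M[X, 1/Θ]) + M[X]`, and `D f ∈ M[X] → f ∈ M[X]`.
-/

set_option autoImplicit false
universe u

namespace Groth.Agent.Lib.Helper87.LogConn

open Polynomial

section Main

variable {R : Type u} [CommRing R] [Algebra ℂ R] {d r : ℕ} (θ : Fin r → R)
  (hθ : ∀ i k, i ≠ k → IsUnit (θ i - θ k))
  (Θ : R[X]) (hΘ : Θ = ∏ i, (X - C (θ i)))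
  (D₀ : (Fin d → R[X]) →+ (Fin d → R[X]))
  (hD₀ : ∀ (p : R[X]) (v : Fin d → R[X]), D₀ (p • v) = (Θ * derivative p) • v + p • D₀ v)
  (Res : Fin r → ((Fin d → R) →ₗ[R] (Fin d → R)))
  (hRes : ∀ (i : Fin r) (m : Fin d → R) (j : Fin d),
      (D₀ (fun j => C (m j)) j).eval (θ i) =
        (∏ k ∈ Finset.univ.erase i, (θ i - θ k)) * Res i m j)
  (hχ : ∀ i : Fin r, ∃ χ : ℂ[X], (Res i).charpoly = χ.map (algebraMap ℂ R) ∧
      ∀ n : ℤ, n ≠ 0 → χ.eval (n : ℂ) ≠ 0)

include hΘ hD₀ hRes in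
theorem ev_D₀ (i : Fin r) (v : Fin d → R[X]) :
    ev (θ i) (D₀ v) = cc θ i • Res i (ev (θ i) v) := by
  obtain ⟨N, m, rfl⟩ := exists_decomp v
  rw [map_sum, ev_sum, ev_sum, map_sum, Finset.smul_sum]
  refine Finset.sum_congr rfl fun n _ => ?_
  rw [hD₀, ev_add, ev_smul, ev_smul, ev_smul, ev_const, eval_mul, hΘ, eval_prod_X_sub_C, zero_mul,
    zero_smul, zero_add, eval_pow, eval_X, map_smul, smul_comm]
  congr 1
  funext j
  exact hRes i (m n) j

/-- The operator `u ↦ D₀ u - N Θ' u`, which computes `Θ^N D (Θ^{-N} u)`. -/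
noncomputable def T (Θ : R[X]) (D₀ : (Fin d → R[X]) →+ (Fin d → R[X])) (N : ℕ) (u : Fin d → R[X]) :
    Fin d → R[X] :=
  D₀ u - (C (N : R) * derivative Θ) • u

include hΘ hD₀ hRes in
theorem ev_T (i : Fin r) (N : ℕ) (u : Fin d → R[X]) :
    ev (θ i) (T Θ D₀ N u) =
      cc θ i • ((Res i - (N : R) • LinearMap.id : (Fin d → R) →ₗ[R] (Fin d → R)) (ev (θ i) u)) := by
  rw [T, ev_sub, ev_D₀ θ Θ hΘ D₀ hD₀ Res hRes, ev_smul, eval_mul, eval_C, hΘ, eval_derivative_prod]
  simp only [LinearMap.sub_apply, LinearMap.smul_apply, LinearMap.id_coe, id_eq, smul_sub]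
  rw [smul_smul, mul_comm]

variable {L : Type u} [CommRing L] [Algebra R[X] L]

/-- The inclusion `R[X]^d → L^d`. -/
noncomputable def inc (v : Fin d → R[X]) : Fin d → L := fun j => algebraMap R[X] L (v j)

theorem inc_add (v w : Fin d → R[X]) : (inc (v + w) : Fin d → L) = inc v + inc w := by
  funext j; simp [inc]

theorem inc_sub (v w : Fin d → R[X]) : (inc (v - w) : Fin d → L) = inc v - inc w := by
  funext j; simp [inc]

theorem inc_smul (p : R[X]) (v : Fin d → R[X]) : (inc (p • v) : Fin d → L) = p • inc v := by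
  funext j; simp [inc, Algebra.smul_def]

theorem inc_injective (hinj : Function.Injective (algebraMap R[X] L)) :
    Function.Injective (inc : (Fin d → R[X]) → (Fin d → L)) := by
  intro v w h
  funext j
  exact hinj (congrFun h j)

theorem smul_cancel (hunit : IsUnit (algebraMap R[X] L Θ)) {w w' : Fin d → L}
    (h : Θ • w = Θ • w') : w = w' := by
  funext j
  have := congrFun h j
  simp only [Pi.smul_apply, Algebra.smul_def] at this
  exact hunit.mul_left_cancel this

variable (D : (Fin d → L) →+ (Fin d → L))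
  (hD : ∀ (p : R[X]) (w : Fin d → L), D (p • w) = (Θ * derivative p) • w + p • D w)
  (hDD₀ : ∀ v : Fin d → R[X], D (inc v) = inc (D₀ v))

include hD hDD₀ in
theorem pow_smul_D (N : ℕ) (w : Fin d → L) (u : Fin d → R[X]) (h : Θ ^ N • w = inc u) :
    Θ ^ N • D w = inc (T Θ D₀ N u) := by
  have e1 := hD (Θ ^ N) w
  rw [h, hDD₀] at e1
  have e2 : Θ * derivative (Θ ^ N) = (C (N : R) * derivative Θ) * Θ ^ N := by
    cases N with
    | zero => simp
    | succ N =>
      rw [derivative_pow, Nat.add_sub_cancel, pow_succ]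
      ring
  rw [e2, mul_smul, h] at e1
  rw [T, inc_sub, inc_smul, e1]
  abel

include hθ hΘ hD₀ hRes hχ hD hDD₀ in
theorem exists_D_add_inc_of_pow_smul (hunit : IsUnit (algebraMap R[X] L Θ)) (N : ℕ) :
    ∀ (w : Fin d → L) (u : Fin d → R[X]), Θ ^ N • w = inc u →
      ∃ (w' : Fin d → L) (v : Fin d → R[X]), w = D w' + inc v := by
  induction N with
  | zero =>
    intro w u h
    refine ⟨0, u, ?_⟩
    rw [pow_zero, one_smul] at h
    rw [map_zero, zero_add, h]
  | succ N ih =>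
    intro w u h
    have hinv : ∀ i, ∃ g : (Fin d → R) →ₗ[R] (Fin d → R),
        (Res i - ((N + 1 : ℕ) : R) • LinearMap.id) ∘ₗ g = LinearMap.id ∧
          g ∘ₗ (Res i - ((N + 1 : ℕ) : R) • LinearMap.id) = LinearMap.id := by
      intro i
      obtain ⟨χ, h1, h2⟩ := hχ i
      refine exists_inverse_sub_natCast (Res i) χ h1 (N + 1) ?_
      have := h2 ((N + 1 : ℕ) : ℤ) (by exact_mod_cast Nat.succ_ne_zero N)
      simpa using this
    choose g hg1 _ using hinv
    choose c hc using fun i => (isUnit_cc θ hθ i).exists_left_inv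
    obtain ⟨u', hu'⟩ := exists_ev_eq θ hθ (fun i => g i (c i • ev (θ i) u))
    have hker : ∀ i, ev (θ i) (u - T Θ D₀ (N + 1) u') = 0 := by
      intro i
      rw [ev_sub, ev_T θ Θ hΘ D₀ hD₀ Res hRes, hu' i]
      have := LinearMap.congr_fun (hg1 i) (c i • ev (θ i) u)
      rw [LinearMap.comp_apply, LinearMap.id_apply] at this
      rw [this, smul_smul, mul_comm, hc, one_smul, sub_self]
    obtain ⟨u'', hu''⟩ := exists_eq_smul_of_ev_eq_zero θ hθ _ hker
    obtain ⟨ν, hν⟩ := hunit.exists_left_inv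
    have hw₁ : Θ ^ (N + 1) • (fun j => ν ^ (N + 1) * (inc u' : Fin d → L) j) = inc u' := by
      funext j
      simp only [Pi.smul_apply, Algebra.smul_def, map_pow]
      rw [← mul_assoc, ← mul_pow, mul_comm _ ν, hν, one_pow, one_mul]
    have h2 := pow_smul_D Θ D₀ D hD hDD₀ (N + 1) _ u' hw₁
    have h3 : Θ ^ N • (w - D (fun j => ν ^ (N + 1) * (inc u' : Fin d → L) j)) = inc u'' := by
      apply smul_cancel Θ hunit
      rw [smul_smul, ← pow_succ', smul_sub, h, h2, ← inc_sub, hu'', ← hΘ, inc_smul]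
    obtain ⟨w₂, v, hw⟩ := ih _ u'' h3
    refine ⟨(fun j => ν ^ (N + 1) * (inc u' : Fin d → L) j) + w₂, v, ?_⟩
    rw [map_add, add_assoc, ← hw]
    abel

include hθ hΘ hD₀ hRes hχ hD hDD₀ in
theorem exists_eq_inc_of_pow_smul (hunit : IsUnit (algebraMap R[X] L Θ))
    (hinj : Function.Injective (algebraMap R[X] L)) (N : ℕ) :
    ∀ (f : Fin d → L) (u : Fin d → R[X]), Θ ^ N • f = inc u →
      (∃ v : Fin d → R[X], D f = inc v) → ∃ v : Fin d → R[X], f = inc v := by
  induction N with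
  | zero =>
    intro f u h _
    rw [pow_zero, one_smul] at h
    exact ⟨u, h⟩
  | succ N ih =>
    intro f u h hv
    obtain ⟨v, hv⟩ := hv
    have h2 := pow_smul_D Θ D₀ D hD hDD₀ (N + 1) f u h
    rw [hv, ← inc_smul] at h2
    have h3 : Θ ^ (N + 1) • v = T Θ D₀ (N + 1) u := inc_injective hinj h2
    have hinv : ∀ i, ∃ g : (Fin d → R) →ₗ[R] (Fin d → R),
        (Res i - ((N + 1 : ℕ) : R) • LinearMap.id) ∘ₗ g = LinearMap.id ∧
          g ∘ₗ (Res i - ((N + 1 : ℕ) : R) • LinearMap.id) = LinearMap.id := by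
      intro i
      obtain ⟨χ, h1, h2⟩ := hχ i
      refine exists_inverse_sub_natCast (Res i) χ h1 (N + 1) ?_
      have := h2 ((N + 1 : ℕ) : ℤ) (by exact_mod_cast Nat.succ_ne_zero N)
      simpa using this
    choose g _ hg2 using hinv
    choose c hc using fun i => (isUnit_cc θ hθ i).exists_left_inv
    have hker : ∀ i, ev (θ i) u = 0 := by
      intro i
      have e1 : ev (θ i) (T Θ D₀ (N + 1) u) = 0 := by
        rw [← h3, ev_smul, eval_pow, hΘ, eval_prod_X_sub_C, zero_pow (Nat.succ_ne_zero N),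
          zero_smul]
      rw [ev_T θ Θ hΘ D₀ hD₀ Res hRes] at e1
      have e2 : (Res i - ((N + 1 : ℕ) : R) • LinearMap.id : (Fin d → R) →ₗ[R] (Fin d → R)) (ev (θ i) u) = 0 := by
        have := congrArg (fun x => c i • x) e1
        simp only [smul_smul, hc, one_smul, smul_zero] at this
        exact this
      have e3 := LinearMap.congr_fun (hg2 i) (ev (θ i) u)
      rw [LinearMap.comp_apply, e2, map_zero, LinearMap.id_apply] at e3
      exact e3.symm
    obtain ⟨u', hu'⟩ := exists_eq_smul_of_ev_eq_zero θ hθ u hker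
    have h4 : Θ ^ N • f = inc u' := by
      apply smul_cancel Θ hunit
      rw [smul_smul, ← pow_succ', h, hu', ← hΘ, inc_smul]
    exact ih f u' h4 ⟨v, hv⟩

end Main

end Groth.Agent.Lib.Helper87.LogConn
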