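import Mathlib

/-!
helper87: triangularization of nilpotent endomorphisms / matrices over a field
(strictly lower triangular form), for S14377.
-/

set_option autoImplicit false
universe u

namespace Groth.Agent.Lib.Helper87.NilCone

open Module

variable {k : Type u} [Field k]

/-- A nilpotent endomorphism of a finite-dimensional vector space admits a basis in which it is
strictly lower triangular. -/
theorem exists_basis_lower : ∀ (n : ℕ) (V : Type u) [AddCommGroup V] [Module k V]
    [FiniteDimensional k V], Module.finrank k V = n → ∀ (A : V →ₗ[k] V), IsNilpotent A →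
    ∃ b : Basis (Fin n) k V, ∀ j : Fin n, A (b j) ∈ Submodule.span k (b '' {i | j < i}) := by
  intro n
  induction n with
  | zero =>
    intro V _ _ _ hn A _
    exact ⟨Module.finBasisOfFinrankEq k V hn, fun j => Fin.elim0 j⟩
  | succ n ih =>
    intro V _ _ _ hn A hA
    have hnt : Nontrivial V := Module.nontrivial_of_finrank_pos (R := k) (by omega)
    -- the range of `A` is a proper subspace
    have hrange : LinearMap.range A < ⊤ := by
      rw [lt_top_iff_ne_top]
      intro htop
      obtain ⟨m, hm⟩ := hA
      have hsurj : Function.Surjective A := LinearMap.range_eq_top.mp htop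
      have hsurj' : Function.Surjective ⇑(A ^ m) := by
        rw [Module.End.coe_pow]
        exact hsurj.iterate m
      obtain ⟨v, hv⟩ := exists_ne (0 : V)
      obtain ⟨w, hw⟩ := hsurj' v
      rw [hm] at hw
      exact hv hw.symm
    obtain ⟨φ, hφ0, hφ⟩ := Submodule.exists_le_ker_of_lt_top _ hrange
    have hmaps : ∀ x ∈ LinearMap.ker φ, A x ∈ LinearMap.ker φ :=
      fun x _ => hφ (LinearMap.mem_range_self A x)
    obtain ⟨y, hy⟩ : ∃ y, φ y ≠ 0 := by
      by_contra hcon
      push Not at hcon
      exact hφ0 (LinearMap.ext hcon)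
    have hφsurj : Function.Surjective φ := by
      intro c
      exact ⟨(c / φ y) • y, by rw [map_smul, smul_eq_mul, div_mul_cancel₀ _ hy]⟩
    have hfr : Module.finrank k (LinearMap.ker φ) = n := by
      have h1 := LinearMap.finrank_range_add_finrank_ker φ
      rw [LinearMap.range_eq_top.mpr hφsurj, finrank_top, Module.finrank_self, hn] at h1
      omega
    have hA' : IsNilpotent (A.restrict hmaps) := by
      obtain ⟨m, hm⟩ := hA
      refine ⟨m, ?_⟩
      rw [Module.End.pow_restrict]
      ext x
      simp [hm]
    obtain ⟨b', hb'⟩ := ih (LinearMap.ker φ) hfr (A.restrict hmaps) hA'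
    have hli : ∀ (c : k), ∀ x ∈ LinearMap.ker φ, c • y + x = 0 → c = 0 := by
      intro c x hx hc
      have := congrArg φ hc
      rw [map_add, map_smul, LinearMap.mem_ker.mp hx, add_zero, map_zero, smul_eq_mul] at this
      exact (mul_eq_zero.mp this).resolve_right hy
    have hsp : ∀ z : V, ∃ c : k, z + c • y ∈ LinearMap.ker φ := by
      intro z
      refine ⟨-(φ z / φ y), ?_⟩
      rw [LinearMap.mem_ker, map_add, map_smul, smul_eq_mul, neg_mul, div_mul_cancel₀ _ hy,
        add_neg_cancel]
    refine ⟨Basis.mkFinCons y b' hli hsp, ?_⟩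
    have hcoe := Basis.coe_mkFinCons y b' hli hsp
    intro j
    refine Fin.cases ?_ (fun j' => ?_) j
    · -- `A y` lies in `ker φ`, spanned by the `b' i`
      have h1 : A y ∈ LinearMap.ker φ := hφ (LinearMap.mem_range_self A y)
      have h2 : (⟨A y, h1⟩ : LinearMap.ker φ) ∈ Submodule.span k (Set.range b') := by
        rw [b'.span_eq]; trivial
      have h3 := Submodule.mem_map_of_mem (f := (LinearMap.ker φ).subtype) h2
      rw [Submodule.map_span] at h3
      rw [hcoe, Fin.cons_zero]
      refine Submodule.span_mono ?_ h3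
      rintro _ ⟨_, ⟨i, rfl⟩, rfl⟩
      refine ⟨i.succ, Fin.succ_pos i, ?_⟩
      rw [Fin.cons_succ]
      rfl
    · have h2 := hb' j'
      have h3 := Submodule.mem_map_of_mem (f := (LinearMap.ker φ).subtype) h2
      rw [Submodule.map_span] at h3
      rw [hcoe, Fin.cons_succ]
      refine Submodule.span_mono ?_ h3
      rintro _ ⟨_, ⟨i, hi, rfl⟩, rfl⟩
      refine ⟨i.succ, Fin.succ_lt_succ_iff.mpr hi, ?_⟩
      rw [Fin.cons_succ]
      rfl

end Groth.Agent.Lib.Helper87.NilCone
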