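import Groth.Agent.Lib.Helper87.NilCone1

/-!
helper87: matrix form of the triangularization of nilpotent matrices (S14377).
-/

set_option autoImplicit false
universe u

namespace Groth.Agent.Lib.Helper87.NilCone

open Module Matrix

variable {k : Type u} [Field k]

/-- A nilpotent matrix over a field is of the form `P * L * adjugate P` with `L` strictly lower
triangular. -/
theorem exists_mul_lower_mul_adjugate {n : ℕ} (A : Matrix (Fin n) (Fin n) k)
    (hA : IsNilpotent A) :
    ∃ (P L : Matrix (Fin n) (Fin n) k), (∀ i j, i ≤ j → L i j = 0) ∧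
      A = P * L * P.adjugate := by
  classical
  have hA' : IsNilpotent (Matrix.toLin' A) := hA.map (Matrix.toLinAlgEquiv' (R := k) (n := Fin n))
  obtain ⟨b, hb⟩ := exists_basis_lower (k := k) n (Fin n → k) (by simp) (Matrix.toLin' A) hA'
  set std := Pi.basisFun k (Fin n) with hstd
  set P := std.toMatrix b with hP
  set Q := b.toMatrix std with hQ
  set L := LinearMap.toMatrix b b (Matrix.toLin' A) with hL
  have hPQ : P * Q = 1 := by
    rw [hP, hQ]
    exact Basis.toMatrix_mul_toMatrix_flip std b
  have hAeq : A = P * L * Q := by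
    rw [hP, hL, hQ, basis_toMatrix_mul_linearMap_toMatrix_mul_basis_toMatrix,
      LinearMap.toMatrix_eq_toMatrix', LinearMap.toMatrix'_toLin']
  have hLlow : ∀ i j, i ≤ j → L i j = 0 := by
    intro i j hij
    rw [hL, LinearMap.toMatrix_apply]
    have h1 := Basis.repr_support_subset_of_mem_span b _ (hb j)
    by_contra hne
    have h2 : i ∈ ((b.repr ((Matrix.toLin' A) (b j))).support : Set (Fin n)) := by
      rw [Finset.mem_coe, Finsupp.mem_support_iff]
      exact hne
    have h3 : j < i := h1 h2
    exact absurd hij (not_le.mpr h3)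
  have hdet : IsUnit P.det := Matrix.isUnit_det_of_right_inverse hPQ
  have hQinv : Q = P⁻¹ := (Matrix.inv_eq_right_inv hPQ).symm
  have hdet0 : P.det ≠ 0 := hdet.ne_zero
  refine ⟨P, (P.det)⁻¹ • L, ?_, ?_⟩
  · intro i j hij
    rw [Matrix.smul_apply, hLlow i j hij, smul_zero]
  · rw [hAeq, hQinv, Matrix.inv_def, Ring.inverse_eq_inv']
    simp only [Matrix.mul_smul, Matrix.smul_mul]

end Groth.Agent.Lib.Helper87.NilCone
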