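import Groth.Agent.Lib.Helper87.NilCone2

/-!
helper87: matrix lemmas for the nilpotent cone (S14377): strictly lower triangular matrices
are nilpotent, `G * L * adjugate G` is nilpotent, characteristic polynomials with vanishing
lower coefficients.
-/

set_option autoImplicit false
universe u

namespace Groth.Agent.Lib.Helper87.NilCone

open Module Matrix Polynomial

variable {R : Type*} [CommRing R] {n : ℕ}

/-- If the coefficients of degree `< n` of the characteristic polynomial vanish, it is `X ^ n`. -/
theorem charpoly_eq_X_pow_of_coeff_eq_zero [Nontrivial R] (M : Matrix (Fin n) (Fin n) R)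
    (h : ∀ i, i < n → M.charpoly.coeff i = 0) : M.charpoly = X ^ n := by
  have hdeg : M.charpoly.natDegree = n := by
    rw [Matrix.charpoly_natDegree_eq_dim, Fintype.card_fin]
  have hmon : M.charpoly.Monic := Matrix.charpoly_monic M
  ext i
  rw [coeff_X_pow]
  rcases lt_trichotomy i n with hi | hi | hi
  · rw [h i hi, if_neg (ne_of_lt hi)]
  · rw [if_pos hi, hi]
    have := hmon.coeff_natDegree
    rwa [hdeg] at this
  · rw [if_neg (ne_of_gt hi)]
    exact coeff_eq_zero_of_natDegree_lt (by rw [hdeg]; exact hi)

/-- A strictly lower triangular matrix has characteristic polynomial `X ^ n`. -/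
theorem charpoly_of_strictLower (L : Matrix (Fin n) (Fin n) R)
    (h : ∀ i j, i ≤ j → L i j = 0) : L.charpoly = X ^ n := by
  rw [← Matrix.charpoly_transpose]
  have hup : (Lᵀ).IsUpperTriangular := by
    intro i j hij
    rw [Matrix.transpose_apply]
    exact h j i (le_of_lt hij)
  rw [Matrix.charpoly_of_isUpperTriangular _ hup]
  have : ∀ i : Fin n, (X - C (Lᵀ i i) : R[X]) = X := by
    intro i
    rw [Matrix.transpose_apply, h i i le_rfl, map_zero, sub_zero]
  simp only [this, Finset.prod_const, Finset.card_univ, Fintype.card_fin]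

theorem strictLower_pow_eq_zero (L : Matrix (Fin n) (Fin n) R)
    (h : ∀ i j, i ≤ j → L i j = 0) : L ^ n = 0 := by
  have h1 := Matrix.aeval_self_charpoly L
  rw [charpoly_of_strictLower L h, map_pow, aeval_X] at h1
  exact h1

theorem mul_mul_adjugate_pow (G L : Matrix (Fin n) (Fin n) R) (m : ℕ) :
    (G * L * G.adjugate) ^ (m + 1) = G.det ^ m • (G * L ^ (m + 1) * G.adjugate) := by
  induction m with
  | zero => simp
  | succ m ih =>
    rw [pow_succ, ih]
    have h1 : G * L ^ (m + 1) * G.adjugate * (G * L * G.adjugate) =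
        G * L ^ (m + 1) * (G.adjugate * G) * L * G.adjugate := by
      simp only [Matrix.mul_assoc]
    rw [Matrix.smul_mul, h1, Matrix.adjugate_mul]
    simp only [Matrix.mul_smul, Matrix.smul_mul, Matrix.mul_one, smul_smul]
    rw [← pow_succ, Matrix.mul_assoc G (L ^ (m + 1)) L, ← pow_succ]

theorem isNilpotent_mul_mul_adjugate (G L : Matrix (Fin n) (Fin n) R)
    (h : ∀ i j, i ≤ j → L i j = 0) : IsNilpotent (G * L * G.adjugate) := by
  refine ⟨n + 1, ?_⟩
  rw [mul_mul_adjugate_pow, pow_succ, strictLower_pow_eq_zero L h]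
  simp

theorem charpoly_mul_mul_adjugate [IsDomain R] (G L : Matrix (Fin n) (Fin n) R)
    (h : ∀ i j, i ≤ j → L i j = 0) : (G * L * G.adjugate).charpoly = X ^ n := by
  have h1 := Matrix.isNilpotent_charpoly_sub_pow_of_isNilpotent
    (isNilpotent_mul_mul_adjugate G L h)
  rw [Fintype.card_fin] at h1
  exact sub_eq_zero.mp h1.eq_zero

/-- A matrix over a field whose characteristic polynomial has vanishing lower coefficients is
nilpotent. -/
theorem isNilpotent_of_charpoly_coeff [Nontrivial R] (M : Matrix (Fin n) (Fin n) R)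
    (h : ∀ i, i < n → M.charpoly.coeff i = 0) : IsNilpotent M := by
  refine ⟨n, ?_⟩
  have h1 := Matrix.aeval_self_charpoly M
  rw [charpoly_eq_X_pow_of_coeff_eq_zero M h, map_pow, aeval_X] at h1
  exact h1

/-- A diagonal matrix over a domain whose characteristic polynomial has vanishing lower
coefficients is zero. -/
theorem diagonal_eq_zero_of_charpoly_coeff [IsDomain R] (d : Fin n → R)
    (h : ∀ i, i < n → (Matrix.diagonal d).charpoly.coeff i = 0) (i : Fin n) : d i = 0 := by
  have h1 := charpoly_eq_X_pow_of_coeff_eq_zero _ h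
  rw [Matrix.charpoly_diagonal] at h1
  have h2 := congrArg (Polynomial.eval (d i)) h1
  rw [eval_prod, eval_pow, eval_X] at h2
  have h3 : ∏ j : Fin n, Polynomial.eval (d i) (X - C (d j)) = 0 := by
    apply Finset.prod_eq_zero (Finset.mem_univ i)
    simp
  rw [h3] at h2
  exact pow_eq_zero_iff (n := n) (by
    intro hn; subst hn; exact Fin.elim0 i) |>.mp h2.symm

end Groth.Agent.Lib.Helper87.NilCone
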