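import Groth.Agent.Lib.Helper87.NilCone3

/-!
helper87: the parametrization `(G, L) ↦ G * L * adjugate G` of the nilpotent cone and the
primality of the radical of the ideal of the nilpotent cone (S14377).
-/

set_option autoImplicit false
universe u

namespace Groth.Agent.Lib.Helper87.NilCone

open Module Matrix MvPolynomial

variable (k : Type u) [Field k] (n : ℕ)

/-- Index type of the parametrizing polynomial ring. -/
abbrev Idx := (Fin n × Fin n) ⊕ (Fin n × Fin n)

/-- The generic matrix `G`. -/
noncomputable def Gmat : Matrix (Fin n) (Fin n) (MvPolynomial (Idx n) k) :=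
  Matrix.of fun i j => X (Sum.inl (i, j))

/-- The generic strictly lower triangular matrix `L`. -/
noncomputable def Lmat : Matrix (Fin n) (Fin n) (MvPolynomial (Idx n) k) :=
  Matrix.of fun i j => if j < i then X (Sum.inr (i, j)) else 0

theorem Lmat_lower : ∀ i j, i ≤ j → Lmat k n i j = 0 := by
  intro i j hij
  simp only [Lmat, Matrix.of_apply]
  rw [if_neg (not_lt.mpr hij)]

/-- The generic matrix of the form `G * L * adjugate G`. -/
noncomputable def Mmat : Matrix (Fin n) (Fin n) (MvPolynomial (Idx n) k) :=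
  Gmat k n * Lmat k n * (Gmat k n).adjugate

/-- The parametrization. -/
noncomputable def ψ : MvPolynomial (Fin n × Fin n) k →ₐ[k] MvPolynomial (Idx n) k :=
  aeval fun p => Mmat k n p.1 p.2

theorem map_ψ : (Matrix.mvPolynomialX (Fin n) (Fin n) k).map (ψ k n) = Mmat k n := by
  ext i j
  simp [ψ, Matrix.mvPolynomialX_apply]

/-- The coefficients of the characteristic polynomial below degree `n` are killed by `ψ`. -/
theorem ψ_coeff (i : ℕ) (hi : i < n) :
    ψ k n ((Matrix.charpoly (Matrix.mvPolynomialX (Fin n) (Fin n) k)).coeff i) = 0 := by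
  have h1 := Matrix.charpoly_map (Matrix.mvPolynomialX (Fin n) (Fin n) k) (ψ k n).toRingHom
  have h2 : (Matrix.mvPolynomialX (Fin n) (Fin n) k).map (ψ k n).toRingHom = Mmat k n :=
    map_ψ k n
  rw [h2] at h1
  have h3 : (Mmat k n).charpoly = Polynomial.X ^ n :=
    charpoly_mul_mul_adjugate (Gmat k n) (Lmat k n) (Lmat_lower k n)
  rw [h3] at h1
  have h4 := congrArg (fun p => Polynomial.coeff p i) h1
  simp only [Polynomial.coeff_map, Polynomial.coeff_X_pow] at h4
  rw [if_neg (ne_of_lt hi)] at h4
  exact h4.symm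

/-- The point of the parameter space attached to a pair of matrices. -/
def pt (P L : Matrix (Fin n) (Fin n) k) : Idx n → k :=
  Sum.elim (fun p => P p.1 p.2) (fun p => L p.1 p.2)

theorem map_eval_Mmat (P L : Matrix (Fin n) (Fin n) k) (hL : ∀ i j, i ≤ j → L i j = 0) :
    (Mmat k n).map (eval (pt k n P L)) = P * L * P.adjugate := by
  have hG : (Gmat k n).map (eval (pt k n P L)) = P := by
    ext i j
    simp [Gmat, pt]
  have hLm : (Lmat k n).map (eval (pt k n P L)) = L := by
    ext i j
    simp only [Lmat, Matrix.map_apply, Matrix.of_apply]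
    split_ifs with h
    · simp [pt]
    · rw [map_zero, hL i j (not_lt.mp h)]
  have h1 : (Mmat k n).map (eval (pt k n P L)) =
      (eval (pt k n P L)).mapMatrix (Mmat k n) := rfl
  rw [h1, Mmat, map_mul, map_mul, RingHom.map_adjugate]
  simp only [RingHom.mapMatrix_apply, hG, hLm]

theorem eval_ψ (P L : Matrix (Fin n) (Fin n) k) (hL : ∀ i j, i ≤ j → L i j = 0)
    (f : MvPolynomial (Fin n × Fin n) k) :
    eval (pt k n P L) (ψ k n f) =
      eval (fun p : Fin n × Fin n => (P * L * P.adjugate) p.1 p.2) f := by
  have h : (eval (pt k n P L)).comp (ψ k n).toRingHom =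
      eval (fun p : Fin n × Fin n => (P * L * P.adjugate) p.1 p.2) := by
    apply MvPolynomial.ringHom_ext
    · intro c
      simp [ψ]
    · intro p
      have := congrFun (congrFun (map_eval_Mmat k n P L hL) p.1) p.2
      simp only [Matrix.map_apply] at this
      simp [ψ, this]
  exact congrFun (congrArg DFunLike.coe h) f

variable [IsAlgClosed k]

/-- The ideal of the nilpotent cone. -/
noncomputable def nilIdeal : Ideal (MvPolynomial (Fin n × Fin n) k) :=
  Ideal.span (Set.range (fun i : Fin n =>
    (Matrix.charpoly (Matrix.mvPolynomialX (Fin n) (Fin n) k)).coeff (i : ℕ)))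

theorem nilIdeal_le_ker : nilIdeal k n ≤ RingHom.ker (ψ k n).toRingHom := by
  rw [nilIdeal, Ideal.span_le]
  rintro _ ⟨i, rfl⟩
  exact ψ_coeff k n i i.2

theorem ker_le_radical : RingHom.ker (ψ k n).toRingHom ≤ (nilIdeal k n).radical := by
  intro f hf
  rw [← MvPolynomial.vanishingIdeal_zeroLocus_eq_radical (K := k), mem_vanishingIdeal_iff]
  intro a ha
  rw [mem_zeroLocus_iff] at ha
  -- the matrix attached to the point `a`
  set A : Matrix (Fin n) (Fin n) k := Matrix.of fun i j => a (i, j) with hA
  have hmapA : (Matrix.mvPolynomialX (Fin n) (Fin n) k).map (eval a) = A := by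
    ext i j
    simp [Matrix.mvPolynomialX_apply, hA]
  have hcoeff : ∀ i, i < n → A.charpoly.coeff i = 0 := by
    intro i hi
    rw [← hmapA, Matrix.charpoly_map, Polynomial.coeff_map]
    have := ha _ (Ideal.subset_span ⟨⟨i, hi⟩, rfl⟩)
    rwa [MvPolynomial.aeval_eq_eval] at this
  obtain ⟨P, L, hL, hPL⟩ := exists_mul_lower_mul_adjugate A (isNilpotent_of_charpoly_coeff A hcoeff)
  have h1 := eval_ψ k n P L hL f
  have hf0 : ψ k n f = 0 := hf
  rw [hf0, map_zero, ← hPL] at h1
  rw [MvPolynomial.aeval_eq_eval]
  have h2 : (fun p : Fin n × Fin n => A p.1 p.2) = a := by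
    funext p
    simp [hA]
  rw [h2] at h1
  exact h1.symm

theorem radical_eq_ker : (nilIdeal k n).radical = RingHom.ker (ψ k n).toRingHom := by
  apply le_antisymm
  · have hprime : (RingHom.ker (ψ k n).toRingHom).IsPrime := RingHom.ker_isPrime _
    exact hprime.radical_le_iff.mpr (nilIdeal_le_ker k n)
  · exact ker_le_radical k n

theorem radical_isPrime : (nilIdeal k n).radical.IsPrime := by
  rw [radical_eq_ker]
  exact RingHom.ker_isPrime _

end Groth.Agent.Lib.Helper87.NilCone
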