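import Groth.Agent.Lib.Helper87.NilCone4
import Groth.Agent.Lib.Helper55.Catenary
import Groth.Agent.Lib.Helper55.ZeroLocusDim

/-!
helper87: irreducibility and dimension of the nilpotent cone (S14377).
-/

set_option autoImplicit false
universe u

namespace Groth.Agent.Lib.Helper87.NilCone

open Module Matrix MvPolynomial Groth.Agent.Lib.Helper55

variable (k : Type u) [Field k] [IsAlgClosed k] (n : ℕ)

theorem irreducibleSpace_quotient :
    IrreducibleSpace (PrimeSpectrum (MvPolynomial (Fin n × Fin n) k ⧸ nilIdeal k n)) := by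
  rw [PrimeSpectrum.irreducibleSpace_iff_isPrime_nilradical]
  have h := Ideal.map_radical_of_surjective (f := Ideal.Quotient.mk (nilIdeal k n))
    Ideal.Quotient.mk_surjective (I := nilIdeal k n) (by rw [Ideal.mk_ker])
  rw [Ideal.map_quotient_self] at h
  have h2 : nilradical (MvPolynomial (Fin n × Fin n) k ⧸ nilIdeal k n) =
      (nilIdeal k n).radical.map (Ideal.Quotient.mk (nilIdeal k n)) := by
    rw [h]; rfl
  rw [h2]
  haveI := radical_isPrime k n
  exact Ideal.map_isPrime_of_surjective Ideal.Quotient.mk_surjective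
    (by rw [Ideal.mk_ker]; exact Ideal.le_radical)

/-- The maximal ideal of the origin. -/
noncomputable def origin : Ideal (MvPolynomial (Fin n × Fin n) k) :=
  RingHom.ker (eval (0 : Fin n × Fin n → k))

theorem origin_isMaximal : (origin k n).IsMaximal :=
  RingHom.ker_isMaximal_of_surjective _ (fun c => ⟨C c, by simp⟩)

theorem nilIdeal_le_origin : nilIdeal k n ≤ origin k n := by
  rw [nilIdeal, Ideal.span_le]
  rintro _ ⟨i, rfl⟩
  show eval 0 _ = 0
  have hmap : (Matrix.mvPolynomialX (Fin n) (Fin n) k).map (eval (0 : Fin n × Fin n → k)) =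
      (0 : Matrix (Fin n) (Fin n) k) := by
    ext a b
    simp [Matrix.mvPolynomialX_apply]
  have h1 := Matrix.charpoly_map (Matrix.mvPolynomialX (Fin n) (Fin n) k)
    (eval (0 : Fin n × Fin n → k))
  rw [hmap, charpoly_of_strictLower (0 : Matrix (Fin n) (Fin n) k) (fun _ _ _ => rfl)] at h1
  have h2 := congrArg (fun p => Polynomial.coeff p (i : ℕ)) h1
  simp only [Polynomial.coeff_map, Polynomial.coeff_X_pow] at h2
  rw [if_neg (ne_of_lt i.2)] at h2
  exact h2.symm

theorem radical_le_origin : (nilIdeal k n).radical ≤ origin k n :=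
  (origin_isMaximal k n).isPrime.radical_le_iff.mpr (nilIdeal_le_origin k n)

/-- A prime containing the nilpotent cone ideal and the off-diagonal variables contains the
origin ideal. -/
theorem origin_le_of_offDiag (Q : Ideal (MvPolynomial (Fin n × Fin n) k)) [Q.IsPrime]
    (hI : nilIdeal k n ≤ Q)
    (hoff : ∀ p : Fin n × Fin n, p.1 ≠ p.2 → (X p : MvPolynomial (Fin n × Fin n) k) ∈ Q) :
    origin k n ≤ Q := by
  classical
  set θ := Ideal.Quotient.mk Q with hθ
  have hdiag : (Matrix.mvPolynomialX (Fin n) (Fin n) k).map θ =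
      Matrix.diagonal (fun i => θ (X (i, i))) := by
    ext a b
    by_cases hab : a = b
    · subst hab
      simp [Matrix.mvPolynomialX_apply]
    · rw [Matrix.diagonal_apply_ne _ hab, Matrix.map_apply, Matrix.mvPolynomialX_apply]
      exact Ideal.Quotient.eq_zero_iff_mem.mpr (hoff (a, b) hab)
  have hcoeff : ∀ i, i < n →
      (Matrix.diagonal (fun i => θ (X (i, i)))).charpoly.coeff i = 0 := by
    intro i hi
    rw [← hdiag, Matrix.charpoly_map, Polynomial.coeff_map]
    exact Ideal.Quotient.eq_zero_iff_mem.mpr (hI (Ideal.subset_span ⟨⟨i, hi⟩, rfl⟩))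
  have hX : ∀ p : Fin n × Fin n, θ (X p) = 0 := by
    rintro ⟨a, b⟩
    by_cases hab : a = b
    · subst hab
      exact diagonal_eq_zero_of_charpoly_coeff _ hcoeff a
    · exact Ideal.Quotient.eq_zero_iff_mem.mpr (hoff (a, b) hab)
  have halg : Ideal.Quotient.mkₐ k Q =
      (Algebra.ofId k (MvPolynomial (Fin n × Fin n) k ⧸ Q)).comp
        (aeval (0 : Fin n × Fin n → k)) := by
    apply MvPolynomial.algHom_ext
    intro p
    simp only [Ideal.Quotient.mkₐ_eq_mk, AlgHom.comp_apply, aeval_X, Pi.zero_apply, map_zero]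
    exact hX p
  intro f hf
  have hf0 : eval (0 : Fin n × Fin n → k) f = 0 := hf
  have h1 := congrArg (fun φ => φ f) halg
  simp only [Ideal.Quotient.mkₐ_eq_mk, AlgHom.comp_apply] at h1
  rw [MvPolynomial.aeval_eq_eval, hf0, map_zero] at h1
  exact Ideal.Quotient.eq_zero_iff_mem.mp h1

end Groth.Agent.Lib.Helper87.NilCone
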