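import Groth.Agent.Lib.Helper87.NilCone5

/-!
helper87: dimension of the nilpotent cone (S14377).
-/

set_option autoImplicit false
universe u

namespace Groth.Agent.Lib.Helper87.NilCone

open Module Matrix MvPolynomial Groth.Agent.Lib.Helper55

variable (k : Type u) [Field k] [IsAlgClosed k] (n : ℕ)

theorem exists_nat_eq_of_le {a : WithBot ℕ∞} {m : ℕ} (h0 : 0 ≤ a)
    (h1 : a ≤ ((m : ℕ) : WithBot ℕ∞)) : ∃ r : ℕ, a = ((r : ℕ) : WithBot ℕ∞) := by
  induction a using WithBot.recBotCoe with
  | bot => exact absurd h0 (by simp)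
  | coe a =>
    induction a using ENat.recTopCoe with
    | top =>
      exfalso
      have : ((⊤ : ℕ∞) : WithBot ℕ∞) ≤ (((m : ℕ) : ℕ∞) : WithBot ℕ∞) := h1
      rw [WithBot.coe_le_coe] at this
      simp at this
    | coe r => exact ⟨r, rfl⟩

theorem height_radical_le : ((nilIdeal k n).radical).height ≤ (n : ℕ∞) := by
  haveI := radical_isPrime k n
  have hmem : (nilIdeal k n).radical ∈ (nilIdeal k n).minimalPrimes := by
    rw [← Ideal.radical_minimalPrimes, Ideal.minimalPrimes_eq_subsingleton_self]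
    exact Set.mem_singleton _
  have h1 := Ideal.height_le_card_of_mem_minimalPrimes_span (s := Set.range (fun i : Fin n =>
    (Matrix.charpoly (Matrix.mvPolynomialX (Fin n) (Fin n) k)).coeff (i : ℕ)))
    (Set.finite_range _) hmem
  refine h1.trans ?_
  have h2 := Set.ncard_image_le (f := fun i : Fin n =>
    (Matrix.charpoly (Matrix.mvPolynomialX (Fin n) (Fin n) k)).coeff (i : ℕ)) (s := Set.univ)
    Set.finite_univ
  rw [Set.image_univ, Set.ncard_univ, Nat.card_fin] at h2
  exact_mod_cast h2

theorem ringKrullDim_quotient_radical_add :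
    ringKrullDim (MvPolynomial (Fin n × Fin n) k ⧸ (nilIdeal k n).radical) +
      (((nilIdeal k n).radical).height : WithBot ℕ∞) = ((n * n : ℕ) : WithBot ℕ∞) := by
  haveI := radical_isPrime k n
  rw [ringKrullDim_quotient_add_height k (MvPolynomial (Fin n × Fin n) k) (nilIdeal k n).radical,
    MvPolynomial.ringKrullDim_of_isNoetherianRing, ringKrullDim_eq_zero_of_field, zero_add]
  simp

theorem ringKrullDim_quotient_radical_le :
    ringKrullDim (MvPolynomial (Fin n × Fin n) k ⧸ (nilIdeal k n).radical) ≤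
      ((n * n - n : ℕ) : WithBot ℕ∞) := by
  classical
  haveI hp := radical_isPrime k n
  set 𝔭 := (nilIdeal k n).radical with h𝔭
  set B := MvPolynomial (Fin n × Fin n) k ⧸ 𝔭 with hB
  have hsurj : Function.Surjective (Ideal.Quotient.mk 𝔭) := Ideal.Quotient.mk_surjective
  have hker : RingHom.ker (Ideal.Quotient.mk 𝔭) ≤ origin k n := by
    rw [Ideal.mk_ker]; exact radical_le_origin k n
  haveI := origin_isMaximal k n
  have hmax : ((origin k n).map (Ideal.Quotient.mk 𝔭)).IsMaximal :=
    Ideal.IsMaximal.map_of_surjective_of_ker_le hsurj hker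
  haveI hmp : ((origin k n).map (Ideal.Quotient.mk 𝔭)).IsPrime := hmax.isPrime
  have hft : Algebra.FiniteType k B :=
    Algebra.FiniteType.of_surjective (Ideal.Quotient.mkₐ k 𝔭) (Ideal.Quotient.mkₐ_surjective k 𝔭)
  have h1 := ringKrullDim_quotient_add_height k B ((origin k n).map (Ideal.Quotient.mk 𝔭))
  have h2 : ringKrullDim (B ⧸ (origin k n).map (Ideal.Quotient.mk 𝔭)) = 0 := by
    letI := Ideal.Quotient.field ((origin k n).map (Ideal.Quotient.mk 𝔭))
    exact ringKrullDim_eq_zero_of_field _
  rw [h2, zero_add] at h1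
  rw [← h1]
  -- the off-diagonal variables
  set S : Set B := (fun p : Fin n × Fin n => Ideal.Quotient.mk 𝔭 (X p)) ''
    ((Finset.univ : Finset (Fin n)).offDiag : Set (Fin n × Fin n)) with hS
  have hmin : (origin k n).map (Ideal.Quotient.mk 𝔭) ∈ (Ideal.span S).minimalPrimes := by
    refine ⟨⟨hmp, ?_⟩, ?_⟩
    · rw [Ideal.span_le]
      rintro _ ⟨p, -, rfl⟩
      apply Ideal.mem_map_of_mem
      show eval 0 (X p) = 0
      simp
    · rintro Q' ⟨hQ'p, hQ'S⟩ -
      haveI := hQ'p
      rw [Ideal.map_le_iff_le_comap]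
      apply origin_le_of_offDiag k n (Q'.comap (Ideal.Quotient.mk 𝔭))
      · intro f hf
        rw [Ideal.mem_comap]
        have : Ideal.Quotient.mk 𝔭 f = 0 :=
          Ideal.Quotient.eq_zero_iff_mem.mpr (Ideal.le_radical hf)
        rw [this]
        exact zero_mem _
      · intro p hp
        rw [Ideal.mem_comap]
        apply hQ'S
        apply Ideal.subset_span
        refine ⟨p, ?_, rfl⟩
        rw [Finset.mem_coe, Finset.mem_offDiag]
        exact ⟨Finset.mem_univ _, Finset.mem_univ _, hp⟩
  have hfin : S.Finite := (Finset.finite_toSet _).image _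
  have h3 := Ideal.height_le_card_of_mem_minimalPrimes_span hfin hmin
  have h4 : S.ncard ≤ n * n - n := by
    refine (Set.ncard_image_le (Finset.finite_toSet _)).trans ?_
    rw [Set.ncard_coe_finset, Finset.offDiag_card, Finset.card_univ, Fintype.card_fin]
  have h5 : ((origin k n).map (Ideal.Quotient.mk 𝔭)).height ≤ ((n * n - n : ℕ) : ℕ∞) :=
    h3.trans (by exact_mod_cast h4)
  show ((((origin k n).map (Ideal.Quotient.mk 𝔭)).height : ℕ∞) : WithBot ℕ∞) ≤
    (((n * n - n : ℕ) : ℕ∞) : WithBot ℕ∞)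
  exact WithBot.coe_le_coe.mpr h5

theorem ringKrullDim_quotient_radical :
    ringKrullDim (MvPolynomial (Fin n × Fin n) k ⧸ (nilIdeal k n).radical) =
      ((n * n - n : ℕ) : WithBot ℕ∞) := by
  apply le_antisymm (ringKrullDim_quotient_radical_le k n)
  have h1 := ringKrullDim_quotient_radical_add k n
  have h2 := height_radical_le k n
  have h3 := ringKrullDim_quotient_radical_le k n
  obtain ⟨t, ht, htn⟩ := ENat.le_coe_iff.mp h2
  rw [ht] at h1
  -- the dimension is a natural number
  have hnn : (0 : WithBot ℕ∞) ≤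
      ringKrullDim (MvPolynomial (Fin n × Fin n) k ⧸ (nilIdeal k n).radical) := by
    haveI := radical_isPrime k n
    exact ringKrullDim_nonneg_of_nontrivial
  obtain ⟨a, ha⟩ := exists_nat_eq_of_le hnn h3
  rw [ha] at h1 ⊢
  have h1' : a + t = n * n := by exact_mod_cast h1
  have : n * n - n ≤ a := by omega
  exact_mod_cast this

theorem ringKrullDim_quotient :
    ringKrullDim (MvPolynomial (Fin n × Fin n) k ⧸ nilIdeal k n) =
      ((n ^ 2 - n : ℕ) : WithBot ℕ∞) := by
  rw [pow_two, ← ringKrullDim_quotient_radical k n]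
  apply ringKrullDim_quotient_eq_of_zeroLocus_eq
  rw [PrimeSpectrum.zeroLocus_radical]

end Groth.Agent.Lib.Helper87.NilCone
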