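import Groth.Agent.Lib.Helper87.ProjS1a

/-!
helper87: the degree-zero part `A_(f)` of `A_f` has no embedded primes if `A_f` has none
(S14656).
-/

set_option autoImplicit false
universe u

namespace Groth.Agent.Lib.Helper87.ProjS1

open Submodule HomogeneousLocalization DirectSum

variable {A : Type u} [CommRing A] {σ : Type*} [SetLike σ A] [AddSubgroupClass σ A]
  (𝒜 : ℕ → σ) [GradedRing 𝒜]

theorem isNoetherianRing_away [IsNoetherianRing A] (f : A) (m : ℕ) (hf : f ∈ 𝒜 m) :
    IsNoetherianRing (Away 𝒜 f) := by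
  haveI : Algebra.FiniteType (𝒜 0) A := finiteType_zero 𝒜
  haveI : Algebra.FiniteType (𝒜 0) (Away 𝒜 f) := Away.finiteType f m hf
  exact Algebra.FiniteType.isNoetherianRing (𝒜 0) (Away 𝒜 f)

/-- Associated primes of a Noetherian ring without embedded primes are minimal. -/
theorem mem_minimalPrimes_of_isAssociatedPrime {C : Type*} [CommRing C] [IsNoetherianRing C]
    (hC : ∀ P ∈ associatedPrimes C C, ∀ Q ∈ associatedPrimes C C, P ≤ Q → P = Q)
    (Q : Ideal C) (hQ : IsAssociatedPrime Q C) : Q ∈ minimalPrimes C := by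
  haveI := hQ.isPrime
  obtain ⟨Q₀, hQ₀, hle⟩ := Ideal.exists_minimalPrimes_le (I := (⊥ : Ideal C)) (J := Q) bot_le
  have hann : Module.annihilator C C = ⊥ := Module.annihilator_eq_bot.mpr inferInstance
  have hQ₀ass : Q₀ ∈ associatedPrimes C C := by
    apply Module.associatedPrimes.minimalPrimes_annihilator_subset_associatedPrimes C C
    rw [hann]; exact hQ₀
  have := hC Q₀ hQ₀ass Q hQ hle
  rw [← this]
  exact hQ₀

variable {𝒜}

/-- Key step: given a witness `s * (x.val) ^ n = 0` in `A_f` with `s` outside a prime `𝔔`,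
produce a degree-zero witness. -/
theorem exists_away_witness {f : A} {m : ℕ} (hf : f ∈ 𝒜 m) (hm : 0 < m)
    (𝔔 : Ideal (Localization.Away f)) [𝔔.IsPrime] (x : Away 𝒜 f) (n : ℕ)
    (s : Localization.Away f) (hs : s ∉ 𝔔) (hsx : s * x.val ^ n = 0) :
    ∃ y : Away 𝒜 f, y.val ∉ 𝔔 ∧ y * x ^ n = 0 := by
  classical
  obtain ⟨e, c, hc, rfl⟩ := Away.mk_surjective 𝒜 hf x
  obtain ⟨a, ⟨_, N, rfl⟩, rfl⟩ : ∃ (a : A) (t : Submonoid.powers f), s = Localization.mk a t := by
    induction s using Localization.induction_on with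
    | H y => exact ⟨y.1, y.2, rfl⟩
  -- some homogeneous component of `a` gives an element outside `𝔔`
  have hcomp : ∃ j : ℕ, Localization.mk ((decompose 𝒜 a j : A)) (1 : Submonoid.powers f) ∉ 𝔔 := by
    by_contra hcon
    push Not at hcon
    apply hs
    have h1 : Localization.mk a (1 : Submonoid.powers f) ∈ 𝔔 := by
      rw [← DirectSum.sum_support_decompose 𝒜 a]
      have : Localization.mk (∑ i ∈ (decompose 𝒜 a).support, (decompose 𝒜 a i : A))
          (1 : Submonoid.powers f) =
          ∑ i ∈ (decompose 𝒜 a).support, Localization.mk ((decompose 𝒜 a i : A))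
            (1 : Submonoid.powers f) := by
        simp only [Localization.mk_one_eq_algebraMap, map_sum]
      rw [this]
      exact Ideal.sum_mem _ fun i _ => hcon i
    have h2 : Localization.mk a (⟨f ^ N, N, rfl⟩ : Submonoid.powers f) =
        Localization.mk 1 (⟨f ^ N, N, rfl⟩ : Submonoid.powers f) *
          Localization.mk a (1 : Submonoid.powers f) := by
      rw [Localization.mk_mul, one_mul, mul_one]
    rw [h2]
    exact 𝔔.mul_mem_left _ h1
  obtain ⟨j, hj⟩ := hcomp
  -- the relation in `A`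
  rw [Away.val_mk, Localization.mk_pow, Localization.mk_mul, Localization.mk_eq_mk',
    IsLocalization.mk'_eq_zero_iff] at hsx
  obtain ⟨⟨_, M, rfl⟩, hM⟩ := hsx
  have hM' : f ^ M * (a * c ^ n) = 0 := hM
  have hcn : c ^ n ∈ 𝒜 (n • (e • m)) := SetLike.pow_mem_graded n hc
  have hfM : f ^ M ∈ 𝒜 (M • m) := SetLike.pow_mem_graded M hf
  have hhom : f ^ M * c ^ n ∈ 𝒜 (M • m + n • (e • m)) := SetLike.mul_mem_graded hfM hcn
  have hj0 : (decompose 𝒜 a j : A) * (f ^ M * c ^ n) = 0 := by
    have h3 : a * (f ^ M * c ^ n) = 0 := by rw [← hM']; ring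
    have h4 := congrArg (fun z => ((decompose 𝒜 z (j + (M • m + n • (e • m))) :
      𝒜 (j + (M • m + n • (e • m)))) : A)) h3
    simp only [decompose_zero, DirectSum.zero_apply, ZeroMemClass.coe_zero] at h4
    rw [DirectSum.coe_decompose_mul_of_right_mem 𝒜 _ hhom, if_pos (Nat.le_add_left _ _),
      Nat.add_sub_cancel] at h4
    exact h4
  -- the degree-zero witness
  have hajm : (decompose 𝒜 a j : A) ^ m ∈ 𝒜 (j • m) := by
    have := SetLike.pow_mem_graded m (SetLike.coe_mem (decompose 𝒜 a j))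
    rwa [smul_eq_mul, mul_comm, ← smul_eq_mul] at this
  refine ⟨Away.mk 𝒜 hf j ((decompose 𝒜 a j : A) ^ m) hajm, ?_, ?_⟩
  · intro hmem
    rw [Away.val_mk] at hmem
    apply hj
    have h5 : Localization.mk ((decompose 𝒜 a j : A) ^ m) (1 : Submonoid.powers f) ∈ 𝔔 := by
      have : Localization.mk ((decompose 𝒜 a j : A) ^ m) (1 : Submonoid.powers f) =
          Localization.mk (f ^ j) (1 : Submonoid.powers f) *
            Localization.mk ((decompose 𝒜 a j : A) ^ m)
              (⟨f ^ j, j, rfl⟩ : Submonoid.powers f) := by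
        rw [Localization.mk_mul, Localization.mk_eq_mk_iff, Localization.r_iff_exists]
        exact ⟨1, by simp⟩
      rw [this]
      exact 𝔔.mul_mem_left _ hmem
    have h6 : Localization.mk ((decompose 𝒜 a j : A) ^ m) (1 : Submonoid.powers f) =
        (Localization.mk ((decompose 𝒜 a j : A)) (1 : Submonoid.powers f)) ^ m := by
      rw [Localization.mk_pow, one_pow]
    rw [h6] at h5
    exact Ideal.IsPrime.mem_of_pow_mem inferInstance m h5
  · apply HomogeneousLocalization.val_injective
    rw [HomogeneousLocalization.val_mul, HomogeneousLocalization.val_pow, Away.val_mk,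
      Away.val_mk, HomogeneousLocalization.val_zero, Localization.mk_pow, Localization.mk_mul,
      Localization.mk_eq_mk', IsLocalization.mk'_eq_zero_iff]
    refine ⟨⟨f ^ M, M, rfl⟩, ?_⟩
    obtain ⟨m', rfl⟩ : ∃ m', m = m' + 1 := ⟨m - 1, by omega⟩
    show f ^ M * ((decompose 𝒜 a j : A) ^ (m' + 1) * c ^ n) = 0
    calc f ^ M * ((decompose 𝒜 a j : A) ^ (m' + 1) * c ^ n)
        = (decompose 𝒜 a j : A) ^ m' * ((decompose 𝒜 a j : A) * (f ^ M * c ^ n)) := by ring
      _ = 0 := by rw [hj0, mul_zero]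

end Groth.Agent.Lib.Helper87.ProjS1
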