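import Groth.Agent.Lib.Helper87.ProjS1b
import Groth.Agent.Lib.Helper29.SkOneOpen

/-!
helper87: `(S_1)` for the degree-zero localizations `A_(f)` of a Noetherian `(S_1)` graded ring
(S14656).
-/

set_option autoImplicit false
universe u

namespace Groth.Agent.Lib.Helper87.ProjS1

open Submodule HomogeneousLocalization DirectSum Groth.Agent.Lib.Helper29

variable {A : Type u} [CommRing A] {σ : Type*} [SetLike σ A] [AddSubgroupClass σ A]
  (𝒜 : ℕ → σ) [GradedRing 𝒜]

theorem noEmbedded_away [IsNoetherianRing A] {f : A} {m : ℕ} (hf : f ∈ 𝒜 m) (hm : 0 < m)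
    (hC : ∀ P ∈ associatedPrimes (Localization.Away f) (Localization.Away f),
      ∀ Q ∈ associatedPrimes (Localization.Away f) (Localization.Away f), P ≤ Q → P = Q) :
    ∀ P ∈ associatedPrimes (Away 𝒜 f) (Away 𝒜 f),
      ∀ Q ∈ associatedPrimes (Away 𝒜 f) (Away 𝒜 f), P ≤ Q → P = Q := by
  haveI := isNoetherianRing_away 𝒜 f m hf
  intro q' hq' q hq hle
  apply le_antisymm hle
  obtain ⟨𝔔, h𝔔, h𝔔q⟩ := exists_isAssociatedPrime_comap_eq
    (algebraMap (Away 𝒜 f) (Localization.Away f)) (HomogeneousLocalization.val_injective _) q hq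
  have hmin := mem_minimalPrimes_of_isAssociatedPrime hC 𝔔 h𝔔
  haveI := h𝔔.isPrime
  have hmemq : ∀ z : Away 𝒜 f, z ∈ q ↔ z.val ∈ 𝔔 := by
    intro z
    rw [← h𝔔q, Ideal.mem_comap, HomogeneousLocalization.algebraMap_apply]
  intro x hx
  obtain ⟨s, hs, n, hsn⟩ := exists_notMem_mul_pow_eq_zero 𝔔 hmin x.val ((hmemq x).mp hx)
  obtain ⟨y, hy, hyx⟩ := exists_away_witness hf hm 𝔔 x n s hs hsn
  have hq'p : q'.IsPrime := IsAssociatedPrime.isPrime hq'
  have hmem : y * x ^ n ∈ q' := by rw [hyx]; exact zero_mem _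
  rcases hq'p.mem_or_mem hmem with h | h
  · exact absurd ((hmemq y).mp (hle h)) hy
  · exact hq'p.mem_of_pow_mem n h

/-- Localization preserves the absence of embedded primes. -/
theorem noEmbedded_localization [IsNoetherianRing A] (S : Submonoid A)
    (hA : ∀ P ∈ associatedPrimes A A, ∀ Q ∈ associatedPrimes A A, P ≤ Q → P = Q) :
    ∀ P ∈ associatedPrimes (Localization S) (Localization S),
      ∀ Q ∈ associatedPrimes (Localization S) (Localization S), P ≤ Q → P = Q := by
  intro P hP Q hQ hle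
  have h := Module.associatedPrimes.preimage_comap_associatedPrimes_eq_associatedPrimes_of_isLocalizedModule
    S (Localization S) (Algebra.linearMap A (Localization S))
  rw [← h] at hP hQ
  have h1 := hA _ hP _ hQ (Ideal.comap_mono hle)
  rw [← IsLocalization.map_comap S (Localization S) P, ← IsLocalization.map_comap S (Localization S) Q]
  exact congrArg (Ideal.map (algebraMap A (Localization S))) h1

theorem hasSk_one_away {A : Type u} [CommRing A] (𝒜 : ℕ → AddSubgroup A) [GradedRing 𝒜]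
    [IsNoetherianRing A] (hA : LocCoh.HasSk 1 A A) {f : A} {m : ℕ} (hf : f ∈ 𝒜 m) (hm : 0 < m) :
    IsNoetherianRing (Away 𝒜 f) ∧ LocCoh.HasSk 1 (Away 𝒜 f) (Away 𝒜 f) := by
  haveI := isNoetherianRing_away 𝒜 f m hf
  refine ⟨inferInstance, ?_⟩
  rw [hasSk_one_iff_noEmbedded] at hA ⊢
  exact noEmbedded_away 𝒜 hf hm (noEmbedded_localization (Submonoid.powers f) hA)

end Groth.Agent.Lib.Helper87.ProjS1
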