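import Groth.Agent.Lib.Helper87.ProjS1c
import Groth.Agent.Lib.Helper29.FibreDescent
import Groth.Agent.Lib.Helper29.FlatAscent

/-!
helper87: `Proj` of a Noetherian `(S_1)` graded ring is `(S_1)` (S14656).
-/

set_option autoImplicit false
universe u

namespace Groth.Agent.Lib.Helper87.ProjS1

open AlgebraicGeometry CategoryTheory Groth.Agent.Lib.Helper29 HomogeneousLocalization

theorem hasSk_localization_of_hasSk (k : ℕ) (R : Type u) [CommRing R] [IsNoetherianRing R]
    (h : LocCoh.HasSk k R R) (q : Ideal R) [q.IsPrime] :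
    LocCoh.HasSk k (Localization.AtPrime q) (Localization.AtPrime q) := by
  rw [hasSk_localization_iff]
  rw [hasSk_self_iff] at h
  intro Q _ _
  exact h Q

theorem hasSk_stalk_Spec (R : Type u) [CommRing R] [IsNoetherianRing R] (k : ℕ)
    (h : LocCoh.HasSk k R R) (y : PrimeSpectrum R) :
    IsNoetherianRing ((Spec (CommRingCat.of R)).presheaf.stalk y) ∧
      LocCoh.HasSk k ((Spec (CommRingCat.of R)).presheaf.stalk y)
        ((Spec (CommRingCat.of R)).presheaf.stalk y) := by
  let alg : Algebra R ((Spec (CommRingCat.of R)).presheaf.stalk y) :=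
    StructureSheaf.stalkAlgebra R y
  have loc : IsLocalization.AtPrime ((Spec (CommRingCat.of R)).presheaf.stalk y) y.asIdeal :=
    StructureSheaf.IsLocalization.to_stalk R y
  let e := (IsLocalization.algEquiv y.asIdeal.primeCompl (Localization.AtPrime y.asIdeal)
    ((Spec (CommRingCat.of R)).presheaf.stalk y)).toRingEquiv
  have hN : IsNoetherianRing (Localization.AtPrime y.asIdeal) :=
    IsLocalization.isNoetherianRing y.asIdeal.primeCompl _ inferInstance
  refine ⟨isNoetherianRing_of_ringEquiv _ e, ?_⟩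
  exact hasSk_of_ringEquiv e.symm k (hasSk_localization_of_hasSk k R h y.asIdeal)

theorem main (A : Type u) [CommRing A] [IsNoetherianRing A] (𝒜 : ℕ → AddSubgroup A) [GradedRing 𝒜]
    (hA : LocCoh.HasSk 1 A A) (x : Proj 𝒜) :
    LocCoh.HasSk 1 ((Proj 𝒜).presheaf.stalk x) ((Proj 𝒜).presheaf.stalk x) := by
  obtain ⟨i, y, hy⟩ := (Proj.affineOpenCover 𝒜).openCover.exists_eq x
  subst hy
  have h1 : IsIso (((Proj.affineOpenCover 𝒜).openCover.f i).stalkMap y) := inferInstance
  let e1 := (asIso (((Proj.affineOpenCover 𝒜).openCover.f i).stalkMap y)).commRingCatIsoToRingEquiv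
  obtain ⟨hN, hS⟩ := Groth.Agent.Lib.Helper87.ProjS1.hasSk_one_away 𝒜 hA (f := (i.2 : A)) (m := (i.1 : ℕ)) i.2.2 i.1.2
  obtain ⟨hN2, hS2⟩ := hasSk_stalk_Spec (Away 𝒜 (i.2 : A)) 1 hS y
  exact @hasSk_of_ringEquiv _ _ _ _ e1 hN2 1 hS2

end Groth.Agent.Lib.Helper87.ProjS1
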