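import Mathlib

/-!
Helper lemmas for the `Prym5` rows S17409 / S17414 (double points of `G₂ z² + 2 G₃ z + G₄`).
-/

set_option autoImplicit false

namespace Groth.Agent.Lib.Helper87

open MvPolynomial

variable {K : Type*} [Field K]

/-- the ideal of variables -/
noncomputable abbrev mm (σ : Type*) (K : Type*) [Field K] : Ideal (MvPolynomial σ K) :=
  Ideal.span (Set.range (X : σ → MvPolynomial σ K))

lemma mem_mm_iff {σ : Type*} (p : MvPolynomial σ K) :
    p ∈ mm σ K ↔ constantCoeff p = 0 := by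
  have := mem_pow_idealOfVars_iff' (σ := σ) (R := K) 1 p
  rw [pow_one] at this
  show p ∈ idealOfVars σ K ↔ _
  rw [this]
  constructor
  · intro h
    exact h 0 (by simp)
  · intro h x hx
    have hx0 : x = 0 := by
      have : Finsupp.degree x = 0 := by omega
      exact (Finsupp.degree_eq_zero_iff x).1 this
    subst hx0
    exact h

lemma sub_C_mem_mm {σ : Type*} (p : MvPolynomial σ K) :
    p - C (constantCoeff p) ∈ mm σ K := by
  rw [mem_mm_iff]
  simp

/-- the projection `K[x,y,z] → K[x,y]`, `z ↦ 0`. -/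
noncomputable def psi : MvPolynomial (Fin 3) K →ₐ[K] MvPolynomial (Fin 2) K :=
  aeval (fun i : Fin 3 => (Fin.lastCases 0 (fun j => X j) i : MvPolynomial (Fin 2) K))

lemma psi_X_last : psi (K := K) (X (2 : Fin 3)) = 0 := by
  simp only [psi, aeval_X]
  exact Fin.lastCases_last

lemma psi_rename (G : MvPolynomial (Fin 2) K) :
    psi (rename (Fin.castSucc : Fin 2 → Fin 3) G) = G := by
  simp only [psi, aeval_rename]
  have : ((fun i : Fin 3 => (Fin.lastCases 0 (fun j => X j) i : MvPolynomial (Fin 2) K)) ∘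
      (Fin.castSucc : Fin 2 → Fin 3)) = X := by
    funext j
    simp
  rw [this, aeval_X_left]
  rfl

lemma psi_mem (n : ℕ) (p : MvPolynomial (Fin 3) K) (hp : p ∈ mm (Fin 3) K ^ n) :
    psi p ∈ mm (Fin 2) K ^ n := by
  have h1 : Ideal.map (psi (K := K)).toRingHom (mm (Fin 3) K) ≤ mm (Fin 2) K := by
    rw [Ideal.map_span, Ideal.span_le]
    rintro _ ⟨_, ⟨i, rfl⟩, rfl⟩
    induction i using Fin.lastCases with
    | last =>
      have : (psi (K := K)).toRingHom (X (Fin.last 2)) = 0 := psi_X_last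
      rw [this]
      exact Ideal.zero_mem _
    | cast j =>
      have : (psi (K := K)).toRingHom (X (Fin.castSucc j)) = X j := by simp [psi]
      rw [this]
      exact Ideal.subset_span ⟨j, rfl⟩
  have h2 : (psi (K := K)).toRingHom p ∈ Ideal.map (psi (K := K)).toRingHom (mm (Fin 3) K ^ n) :=
    Ideal.mem_map_of_mem _ hp
  rw [Ideal.map_pow] at h2
  exact Ideal.pow_right_mono h1 n h2

lemma rename_mem (n : ℕ) (p : MvPolynomial (Fin 2) K) (hp : p ∈ mm (Fin 2) K ^ n) :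
    rename (Fin.castSucc : Fin 2 → Fin 3) p ∈ mm (Fin 3) K ^ n := by
  have h1 : Ideal.map (rename (R := K) (Fin.castSucc : Fin 2 → Fin 3)).toRingHom (mm (Fin 2) K) ≤
      mm (Fin 3) K := by
    rw [Ideal.map_span, Ideal.span_le]
    rintro _ ⟨_, ⟨i, rfl⟩, rfl⟩
    have : (rename (R := K) (Fin.castSucc : Fin 2 → Fin 3)).toRingHom (X i) = X (Fin.castSucc i) := by
      simp
    rw [this]
    exact Ideal.subset_span ⟨_, rfl⟩
  have h2 : (rename (R := K) (Fin.castSucc : Fin 2 → Fin 3)).toRingHom p ∈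
      Ideal.map (rename (R := K) (Fin.castSucc : Fin 2 → Fin 3)).toRingHom (mm (Fin 2) K ^ n) :=
    Ideal.mem_map_of_mem _ hp
  rw [Ideal.map_pow] at h2
  exact Ideal.pow_right_mono h1 n h2

lemma X_mem_mm {σ : Type*} (i : σ) : (X i : MvPolynomial σ K) ∈ mm σ K :=
  Ideal.subset_span ⟨i, rfl⟩

/-- the quadric `G₂ z² + 2 G₃ z + G₄`. -/
noncomputable def quad (G₂ G₃ G₄ : MvPolynomial (Fin 2) K) : MvPolynomial (Fin 3) K :=
  rename (Fin.castSucc : Fin 2 → Fin 3) G₂ * X (2 : Fin 3) ^ 2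
    + 2 * rename (Fin.castSucc : Fin 2 → Fin 3) G₃ * X (2 : Fin 3)
    + rename (Fin.castSucc : Fin 2 → Fin 3) G₄

lemma psi_quad (G₂ G₃ G₄ : MvPolynomial (Fin 2) K) : psi (quad G₂ G₃ G₄) = G₄ := by
  simp [quad, psi_X_last, psi_rename]

/-- If the quadric lies in `𝔪²` then `G₄ ∈ 𝔪²` and `G₃ ∈ 𝔪`. -/
lemma of_quad_mem_sq (h2 : (2 : K) ≠ 0) (G₂ G₃ G₄ : MvPolynomial (Fin 2) K)
    (h : quad G₂ G₃ G₄ ∈ mm (Fin 3) K ^ 2) :
    G₄ ∈ mm (Fin 2) K ^ 2 ∧ G₃ ∈ mm (Fin 2) K := by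
  have hG4 : G₄ ∈ mm (Fin 2) K ^ 2 := by
    have := psi_mem 2 _ h
    rwa [psi_quad] at this
  refine ⟨hG4, ?_⟩
  set a₃ := constantCoeff G₃ with ha₃
  have hG3' : G₃ - C a₃ ∈ mm (Fin 2) K := sub_C_mem_mm G₃
  have hz : (X (2 : Fin 3) : MvPolynomial (Fin 3) K) ∈ mm (Fin 3) K := X_mem_mm _
  have key : (monomial (Finsupp.single (2 : Fin 3) 1) (2 * a₃) : MvPolynomial (Fin 3) K) =
      quad G₂ G₃ G₄ - rename (Fin.castSucc : Fin 2 → Fin 3) G₄
        - rename (Fin.castSucc : Fin 2 → Fin 3) G₂ * X (2 : Fin 3) ^ 2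
        - 2 * (rename (Fin.castSucc : Fin 2 → Fin 3) (G₃ - C a₃) * X (2 : Fin 3)) := by
    have hm : (monomial (Finsupp.single (2 : Fin 3) 1) (2 * a₃) : MvPolynomial (Fin 3) K) =
        C (2 * a₃) * X 2 := by
      rw [← C_mul_X_eq_monomial]
    rw [hm, quad]
    simp only [map_sub, rename_C, C_mul]
    have : (C 2 : MvPolynomial (Fin 3) K) = 2 := map_ofNat C 2
    rw [this]
    ring
  have hmem : (monomial (Finsupp.single (2 : Fin 3) 1) (2 * a₃) : MvPolynomial (Fin 3) K) ∈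
      mm (Fin 3) K ^ 2 := by
    rw [key]
    refine Ideal.sub_mem _ (Ideal.sub_mem _ (Ideal.sub_mem _ h (rename_mem 2 _ hG4)) ?_) ?_
    · exact Ideal.mul_mem_left _ _ (Ideal.pow_mem_pow hz 2)
    · apply Ideal.mul_mem_left
      rw [sq]
      refine Ideal.mul_mem_mul ?_ hz
      have := rename_mem 1 _ (by simpa using hG3')
      simpa using this
  rw [mem_mm_iff]
  by_contra hne
  have h2a : (2 * a₃ : K) ≠ 0 := mul_ne_zero h2 hne
  have := (monomial_mem_pow_idealOfVars_iff (σ := Fin 3) (R := K) 2 (Finsupp.single (2 : Fin 3) 1) h2a).1 hmem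
  simp at this

/-- Conversely, if `G₄ ∈ 𝔪²` and `G₃ ∈ 𝔪` then the quadric lies in `𝔪²`. -/
lemma quad_mem_sq (G₂ G₃ G₄ : MvPolynomial (Fin 2) K)
    (h4 : G₄ ∈ mm (Fin 2) K ^ 2) (h3 : G₃ ∈ mm (Fin 2) K) :
    quad G₂ G₃ G₄ ∈ mm (Fin 3) K ^ 2 := by
  have hz : (X (2 : Fin 3) : MvPolynomial (Fin 3) K) ∈ mm (Fin 3) K := X_mem_mm _
  unfold quad
  refine Ideal.add_mem _ (Ideal.add_mem _ ?_ ?_) (rename_mem 2 _ h4)
  · exact Ideal.mul_mem_left _ _ (Ideal.pow_mem_pow hz 2)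
  · rw [mul_assoc]
    apply Ideal.mul_mem_left
    rw [sq]
    refine Ideal.mul_mem_mul ?_ hz
    have := rename_mem 1 _ (by simpa using h3)
    simpa using this

end Groth.Agent.Lib.Helper87
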