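import Groth.Agent.Lib.Helper87.SkSelf1
import Groth.Agent.Lib.Helper29.DepthLoc2
import Groth.Agent.Lib.Helper29.DepthLoc3

/-!
# Generic lemmas for `(S_2)` of the Rees algebra (helper87)
-/

set_option autoImplicit false
universe u

namespace Groth.Agent.Lib.Helper87.ReesS2

open IsLocalRing Groth.Agent.Lib.Helper87.SkSelf

section Away

variable {R R' S : Type u} [CommRing R] [CommRing R'] [CommRing S] [Algebra R' S] [Algebra R S]

/-- If `R ⊆ R'` and every element of `R'` is carried into `R` by a power of `g ∈ R`, then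
`R'_g` is the localization of `R` at `g`. -/
theorem isLocalization_away_of_injective (ι : R →+* R') (hι : Function.Injective ι) (g : R)
    [IsLocalization.Away (ι g) S]
    (halg : ∀ r : R, algebraMap R S r = algebraMap R' S (ι r))
    (h : ∀ r' : R', ∃ (N : ℕ) (r : R), ι g ^ N * r' = ι r) : IsLocalization.Away g S := by
  refine (isLocalization_iff _ _).mpr ⟨?_, ?_, ?_⟩
  · rintro ⟨y, k, rfl⟩
    change IsUnit (algebraMap R S (g ^ k))
    rw [halg, map_pow, map_pow]
    exact (IsLocalization.Away.algebraMap_isUnit (ι g)).pow k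
  · intro z
    obtain ⟨⟨r', ⟨_, k, rfl⟩⟩, hz⟩ := IsLocalization.surj (Submonoid.powers (ι g)) z
    obtain ⟨N, r, hr⟩ := h r'
    refine ⟨(r, ⟨g ^ (k + N), k + N, rfl⟩), ?_⟩
    change z * algebraMap R S (g ^ (k + N)) = algebraMap R S r
    rw [halg, halg, ← hr, map_pow, map_pow, pow_add, ← mul_assoc]
    simp only at hz
    rw [map_pow] at hz
    rw [hz, map_mul, map_pow, mul_comm]
  · intro x y hxy
    rw [halg, halg] at hxy
    obtain ⟨⟨_, k, rfl⟩, hc⟩ := (IsLocalization.eq_iff_exists (Submonoid.powers (ι g)) S).mp hxy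
    refine ⟨⟨g ^ k, k, rfl⟩, ?_⟩
    apply hι
    simp only at hc ⊢
    rw [map_mul, map_mul, map_pow]
    exact hc

end Away

section Ass

variable (B : Type u) [CommRing B] [IsNoetherianRing B]

/-- In an `(S_2)` ring, the associated primes of `B/yB` (`y` a nonzerodivisor) have height at
most one. -/
theorem height_le_one_of_mem_associatedPrimes (h : ∀ (Q : Ideal B) [Q.IsPrime], SkSelfAt 2 B Q)
    (y : B) (hy : IsSMulRegular B y) (Q : Ideal B)
    (hQ : Q ∈ associatedPrimes B (QuotSMulTop y B)) : Q.height ≤ 1 := by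
  have hQp : Q.IsPrime := IsAssociatedPrime.isPrime hQ
  have h0 := Groth.Agent.Lib.Helper29.depth_localizedModule_eq_zero_of_mem_associatedPrimes B
    (QuotSMulTop y B) Q hQ
  have hyQ : y ∈ Q := by
    obtain ⟨-, m0, hm0⟩ := isAssociatedPrime_iff.mp hQ
    rw [hm0, Submodule.mem_colon_singleton, Submodule.mem_bot]
    induction m0 using Submodule.Quotient.induction_on with
    | _ b =>
      rw [← Submodule.Quotient.mk_smul, Submodule.Quotient.mk_eq_zero]
      exact Submodule.smul_mem_pointwise_smul b y ⊤ Submodule.mem_top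
  have h1 := Groth.Agent.Lib.Helper29.depth_localizedModule_quotSMulTop_add_one B Q B hyQ hy
  rw [h0, zero_add, Groth.Agent.Lib.Helper29.depth_localizedModule_self] at h1
  have h2 := h Q
  unfold SkSelfAt at h2
  rw [← h1] at h2
  by_contra hcon
  push Not at hcon
  have h3 : (2 : ℕ∞) ≤ Q.height := by
    have := Order.add_one_le_of_lt hcon
    rwa [one_add_one_eq_two] at this
  have h4 : min ((2 : ℕ) : ℕ∞) Q.height = 2 := by
    rw [Nat.cast_ofNat]
    exact min_eq_left h3
  rw [h4] at h2
  exact absurd h2 (by decide)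

/-- In an `(S_1)` ring (here: `(S_2)`), an ideal contains a nonzerodivisor or lies in a prime of
height zero. -/
theorem exists_regular_or_le_height_zero (h : ∀ (Q : Ideal B) [Q.IsPrime], SkSelfAt 2 B Q)
    [Nontrivial B] (I : Ideal B) :
    (∃ x ∈ I, IsSMulRegular B x) ∨ ∃ q : Ideal B, q.IsPrime ∧ I ≤ q ∧ q.height = 0 := by
  by_cases hex : ∃ x ∈ I, IsSMulRegular B x
  · exact Or.inl hex
  · right
    push Not at hex
    obtain ⟨q, hq, hIq⟩ :=
      Groth.Agent.Lib.Helper29.exists_le_mem_associatedPrimes_of_forall_not_isSMulRegular B B I hex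
    have hqp : q.IsPrime := IsAssociatedPrime.isPrime hq
    have h0 := Groth.Agent.Lib.Helper29.depth_localizedModule_eq_zero_of_mem_associatedPrimes B
      B q hq
    rw [Groth.Agent.Lib.Helper29.depth_localizedModule_self] at h0
    have h2 := h q
    unfold SkSelfAt at h2
    rw [h0] at h2
    refine ⟨q, hqp, hIq, ?_⟩
    have h3 : min ((2 : ℕ) : ℕ∞) q.height = 0 := le_antisymm h2 bot_le
    rcases min_eq_iff.mp h3 with ⟨h4, -⟩ | ⟨h4, -⟩
    · exact absurd h4 (by decide)
    · exact h4

end Ass

end Groth.Agent.Lib.Helper87.ReesS2
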