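import Groth.Agent.Lib.Helper87.ReesS2a
import Groth.Agent.Lib.Helper87.ExtReesS2
import Mathlib.RingTheory.Ideal.KrullsHeightTheorem

/-!
# The Rees algebra inside the extended Rees algebra (helper87)
-/

set_option autoImplicit false
universe u

namespace Groth.Agent.Lib.Helper87.ReesS2

open FiltBl LaurentPolynomial Polynomial
open Groth.Agent.Lib.Helper87.ExtRees Groth.Agent.Lib.Helper87.GrHeight

variable {A : Type u} [CommRing A] (𝓕 : FiltBl.IdealFiltration A)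

/-- The constant coefficient. -/
noncomputable def c0 : 𝓕.rees →+* A :=
  (Polynomial.constantCoeff).comp (𝓕.rees.val : 𝓕.rees →+* A[X])

theorem c0_apply (x : 𝓕.rees) : c0 𝓕 x = (x : A[X]).coeff 0 := rfl

/-- The monomial `a Xⁿ` of the Rees algebra. -/
noncomputable def mon (n : ℕ) (a : A) (ha : a ∈ 𝓕.F n) : 𝓕.rees :=
  ⟨Polynomial.monomial n a, fun m => by
    rw [Polynomial.coeff_monomial]
    split_ifs with h
    · subst h; exact ha
    · exact Ideal.zero_mem _⟩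

theorem coe_mon (n : ℕ) (a : A) (ha : a ∈ 𝓕.F n) :
    ((mon 𝓕 n a ha : 𝓕.rees) : A[X]) = Polynomial.monomial n a := rfl

theorem coe_reesToExt_mon (n : ℕ) (a : A) (ha : a ∈ 𝓕.F n) :
    ((reesToExt 𝓕 (mon 𝓕 n a ha) : 𝓕.extRees) : A[T;T⁻¹]) =
      AddMonoidAlgebra.single (n : ℤ) a := by
  rw [coe_reesToExt, coe_mon, Polynomial.toLaurent_C_mul_T, ← LaurentPolynomial.single_eq_C_mul_T]

theorem sum_mon (x : 𝓕.rees) :
    x = ∑ i ∈ (x : A[X]).support.attach, mon 𝓕 i ((x : A[X]).coeff i) (x.2 i) := by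
  apply Subtype.ext
  rw [AddSubmonoidClass.coe_finsetSum]
  simp only [coe_mon]
  rw [Finset.sum_attach (x : A[X]).support (fun i => Polynomial.monomial i ((x : A[X]).coeff i))]
  exact Polynomial.as_sum_support _

theorem mon_mem_ker_c0 (n : ℕ) (hn : n ≠ 0) (a : A) (ha : a ∈ 𝓕.F n) :
    mon 𝓕 n a ha ∈ RingHom.ker (c0 𝓕) := by
  rw [RingHom.mem_ker, c0_apply, coe_mon, Polynomial.coeff_monomial, if_neg hn]

theorem reesToExt_injective : Function.Injective (reesToExt 𝓕) := by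
  intro x y h
  apply Subtype.ext
  apply Polynomial.toLaurent_injective
  have := congrArg (fun z : 𝓕.extRees => (z : A[T;T⁻¹])) h
  simpa [coe_reesToExt] using this

theorem coeff_reesToExt_of_neg (x : 𝓕.rees) (m : ℤ) (hm : m < 0) :
    ((reesToExt 𝓕 x : 𝓕.extRees) : A[T;T⁻¹]).coeff m = 0 := by
  rw [coe_reesToExt]
  by_contra hne
  have h1 : m ∈ (Polynomial.toLaurent (x : A[X])).coeff.support := Finsupp.mem_support_iff.mpr hne
  rw [LaurentPolynomial.support_coeff_toLaurent, Finset.mem_map] at h1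
  obtain ⟨a, -, ha⟩ := h1
  have : (0 : ℤ) ≤ m := by rw [← ha]; exact Int.natCast_nonneg a
  omega

/-- An element of the extended Rees algebra without terms of negative degree lies in the Rees
algebra. -/
theorem exists_reesToExt_eq (x : 𝓕.extRees)
    (h : ∀ m : ℤ, m < 0 → (x : A[T;T⁻¹]).coeff m = 0) : ∃ r : 𝓕.rees, reesToExt 𝓕 r = x := by
  refine ⟨∑ m ∈ (x : A[T;T⁻¹]).coeff.support, mon 𝓕 m.toNat ((x : A[T;T⁻¹]).coeff m) (x.2 m), ?_⟩
  rw [map_sum]
  apply Subtype.ext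
  rw [AddSubmonoidClass.coe_finsetSum]
  conv_rhs => rw [← AddMonoidAlgebra.sum_coeff_single (x : A[T;T⁻¹])]
  rw [Finsupp.sum]
  refine Finset.sum_congr rfl fun m hm => ?_
  rw [coe_reesToExt_mon]
  have hm0 : 0 ≤ m := by
    by_contra hneg
    push Not at hneg
    exact (Finsupp.mem_support_iff.mp hm) (h m hneg)
  rw [Int.toNat_of_nonneg hm0]

/-- A power of a monomial of positive degree carries the extended Rees algebra into the Rees
algebra. -/
theorem exists_pow_mul_eq (n : ℕ) (hn : n ≠ 0) (f : A) (hf : f ∈ 𝓕.F n) (r' : 𝓕.extRees) :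
    ∃ (N : ℕ) (r : 𝓕.rees), reesToExt 𝓕 (mon 𝓕 n f hf) ^ N * r' = reesToExt 𝓕 r := by
  obtain ⟨N, hN⟩ : ∃ N : ℕ, ∀ m ∈ (r' : A[T;T⁻¹]).coeff.support, -(N : ℤ) ≤ m := by
    obtain ⟨M, hM⟩ := ((r' : A[T;T⁻¹]).coeff.support.image (fun m => -m)).exists_le
    refine ⟨M.toNat, fun m hm => ?_⟩
    have := hM (-m) (Finset.mem_image_of_mem _ hm)
    have h2 := Int.self_le_toNat M
    omega
  refine ⟨N, ?_⟩
  obtain ⟨r, hr⟩ := exists_reesToExt_eq 𝓕 (reesToExt 𝓕 (mon 𝓕 n f hf) ^ N * r') (by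
    intro m hm
    rw [Subalgebra.coe_mul, Subalgebra.coe_pow, coe_reesToExt_mon, AddMonoidAlgebra.single_pow,
      AddMonoidAlgebra.coeff_single_mul_apply]
    have h0 : (r' : A[T;T⁻¹]).coeff (-(N • (n : ℤ)) + m) = 0 := by
      by_contra hne
      have h1 := hN _ (Finsupp.mem_support_iff.mpr hne)
      have h2 : (N : ℤ) ≤ N • (n : ℤ) := by
        rw [nsmul_eq_mul]
        have : (1 : ℤ) ≤ n := by
          have := Nat.pos_of_ne_zero hn
          exact_mod_cast this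
        nlinarith [Int.natCast_nonneg N]
      omega
    rw [h0, mul_zero])
  exact ⟨r, hr.symm⟩

section Height

variable (P : Ideal 𝓕.rees) (hP : RingHom.ker (c0 𝓕) ≤ P) (Q : Ideal 𝓕.extRees)
  (hPQ : P ≤ Q.comap (reesToExt 𝓕))

include hP hPQ in
theorem F_one_le_comap : 𝓕.F 1 ≤ Q.comap (algebraMap A 𝓕.extRees) := by
  intro f hf
  rw [Ideal.mem_comap]
  have h1 : reesToExt 𝓕 (mon 𝓕 1 f hf) ∈ Q :=
    hPQ (hP (mon_mem_ker_c0 𝓕 1 one_ne_zero f hf))
  have h2 : algebraMap A 𝓕.extRees f = 𝓕.u * reesToExt 𝓕 (mon 𝓕 1 f hf) := by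
    apply Subtype.ext
    rw [Subalgebra.coe_mul, coe_reesToExt_mon]
    change algebraMap A A[T;T⁻¹] f = T (-1) * _
    rw [LaurentPolynomial.algebraMap_apply, Algebra.algebraMap_self, RingHom.id_apply,
      LaurentPolynomial.single_eq_C_mul_T, LaurentPolynomial.T_mul, mul_assoc,
      ← LaurentPolynomial.T_add]
    simp
  rw [h2]
  exact Ideal.mul_mem_left _ _ h1

include hP hPQ in
theorem comap_map_comap_le :
    ((Q.comap (algebraMap A 𝓕.extRees)).map (algebraMap A A[T;T⁻¹])).comap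
      (algebraMap 𝓕.extRees A[T;T⁻¹]) ≤ Q := by
  intro x hx
  rw [Ideal.mem_comap, algebraMap_extRees_apply, mem_map_iff] at hx
  rw [← sum_comp 𝓕 x]
  refine Ideal.sum_mem _ fun n _ => ?_
  rcases le_or_gt n 0 with hn | hn
  · obtain ⟨k, hk⟩ : ∃ k : ℕ, n = -(k : ℤ) := ⟨(-n).toNat, by omega⟩
    have h2 : (comp 𝓕 x n : 𝓕.extRees) =
        algebraMap A 𝓕.extRees ((x : A[T;T⁻¹]).coeff n) * 𝓕.u ^ k := by
      apply Subtype.ext
      rw [Subalgebra.coe_mul, coe_u_pow, coe_comp, LaurentPolynomial.single_eq_C_mul_T, hk]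
      change _ = algebraMap A A[T;T⁻¹] _ * _
      rw [LaurentPolynomial.algebraMap_apply, Algebra.algebraMap_self, RingHom.id_apply]
    rw [h2]
    exact Ideal.mul_mem_right _ _ (hx n)
  · have hmem : (x : A[T;T⁻¹]).coeff n ∈ 𝓕.F n.toNat := x.2 n
    have h2 : (comp 𝓕 x n : 𝓕.extRees) =
        reesToExt 𝓕 (mon 𝓕 n.toNat ((x : A[T;T⁻¹]).coeff n) hmem) := by
      apply Subtype.ext
      rw [coe_reesToExt_mon, coe_comp, Int.toNat_of_nonneg hn.le]
    rw [h2]
    exact hPQ (hP (mon_mem_ker_c0 𝓕 _ (by omega) _ hmem))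

include hP hPQ in
theorem two_le_height [IsNoetherianRing A] [Q.IsPrime] (hht : 2 ≤ (𝓕.F 1).height) :
    2 ≤ Q.height := by
  have hq : (Q.comap (algebraMap A 𝓕.extRees)).IsPrime := Ideal.comap_isPrime _ _
  have h1 : (2 : ℕ∞) ≤ (Q.comap (algebraMap A 𝓕.extRees)).height :=
    hht.trans (Ideal.height_mono (F_one_le_comap 𝓕 P hP Q hPQ))
  have h2 := height_map (ι := ℤ) (Q.comap (algebraMap A 𝓕.extRees))
  have h3 := IsLocalization.height_under (Submonoid.powers 𝓕.u) (A := A[T;T⁻¹])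
    ((Q.comap (algebraMap A 𝓕.extRees)).map (algebraMap A A[T;T⁻¹]))
  have h4 := Ideal.height_mono (comap_map_comap_le 𝓕 P hP Q hPQ)
  change (Ideal.under 𝓕.extRees _).height ≤ _ at h4
  rw [h3, h2] at h4
  exact h1.trans h4

end Height

end Groth.Agent.Lib.Helper87.ReesS2
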