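import Groth.Agent.Lib.Helper87.ReesS2b
import Groth.Agent.Lib.Helper29.DepthRees
import Groth.Agent.Lib.Helper29.DepthLoc

/-!
# `(S_2)` of the extended Rees algebra implies `(S_2)` of the Rees algebra (helper87)
-/

set_option autoImplicit false
universe u

namespace Groth.Agent.Lib.Helper87.ReesS2

open FiltBl LaurentPolynomial Polynomial RingTheory.Sequence
open scoped Pointwise
open Groth.Agent.Lib.Helper87.ExtRees Groth.Agent.Lib.Helper87.GrHeight
  Groth.Agent.Lib.Helper87.SkSelf

variable {A : Type u} [CommRing A] (𝓕 : FiltBl.IdealFiltration A)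

section Regular

variable (y : A) (hy : IsSMulRegular A y)

include hy in
theorem isSMulRegular_algebraMap_extRees :
    IsSMulRegular 𝓕.extRees (algebraMap A 𝓕.extRees y) := by
  intro a b hab
  apply Subtype.ext
  apply LaurentPolynomial.ext
  intro n
  have h1 := congrArg (fun z : 𝓕.extRees => (z : A[T;T⁻¹]).coeff n) hab
  simp only [smul_eq_mul, Subalgebra.coe_mul] at h1
  change (algebraMap A A[T;T⁻¹] y * (a : A[T;T⁻¹])).coeff n =
    (algebraMap A A[T;T⁻¹] y * (b : A[T;T⁻¹])).coeff n at h1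
  rw [← Algebra.smul_def, ← Algebra.smul_def, AddMonoidAlgebra.coeff_smul,
    AddMonoidAlgebra.coeff_smul, Finsupp.smul_apply, Finsupp.smul_apply] at h1
  exact hy h1

include hy in
theorem isSMulRegular_algebraMap_rees :
    IsSMulRegular 𝓕.rees (algebraMap A 𝓕.rees y) := by
  intro a b hab
  apply Subtype.ext
  apply Polynomial.ext
  intro n
  have h1 := congrArg (fun z : 𝓕.rees => (z : A[X]).coeff n) hab
  simp only [smul_eq_mul, Subalgebra.coe_mul] at h1
  change (algebraMap A A[X] y * (a : A[X])).coeff n =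
    (algebraMap A A[X] y * (b : A[X])).coeff n at h1
  rw [Polynomial.algebraMap_apply, Algebra.algebraMap_self, RingHom.id_apply,
    Polynomial.coeff_C_mul, Polynomial.coeff_C_mul] at h1
  exact hy h1

theorem reesToExt_algebraMap (a : A) :
    reesToExt 𝓕 (algebraMap A 𝓕.rees a) = algebraMap A 𝓕.extRees a := by
  apply Subtype.ext
  rw [coe_reesToExt]
  change Polynomial.toLaurent (algebraMap A A[X] a) = algebraMap A A[T;T⁻¹] a
  rw [Polynomial.algebraMap_apply, Algebra.algebraMap_self, RingHom.id_apply,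
    Polynomial.toLaurent_C, LaurentPolynomial.algebraMap_apply, Algebra.algebraMap_self,
    RingHom.id_apply]

include hy in
/-- Transfer of regularity modulo `y` from the extended Rees algebra to the Rees algebra. -/
theorem isSMulRegular_quot_of_ext (z : 𝓕.rees)
    (hz : IsSMulRegular (QuotSMulTop (algebraMap A 𝓕.extRees y) 𝓕.extRees) (reesToExt 𝓕 z)) :
    IsSMulRegular (QuotSMulTop (algebraMap A 𝓕.rees y) 𝓕.rees) z := by
  rw [isSMulRegular_quotient_iff_mem_of_smul_mem] at hz ⊢
  intro r hr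
  rw [Submodule.mem_smul_pointwise_iff_exists] at hr ⊢
  obtain ⟨r₁, -, hr₁⟩ := hr
  have h1 : reesToExt 𝓕 z • reesToExt 𝓕 r ∈
      algebraMap A 𝓕.extRees y • (⊤ : Submodule 𝓕.extRees 𝓕.extRees) := by
    rw [Submodule.mem_smul_pointwise_iff_exists]
    refine ⟨reesToExt 𝓕 r₁, Submodule.mem_top, ?_⟩
    rw [smul_eq_mul, smul_eq_mul, ← map_mul, ← reesToExt_algebraMap, ← map_mul]
    congr 1
  have h2 := hz _ h1
  rw [Submodule.mem_smul_pointwise_iff_exists] at h2
  obtain ⟨r'', -, hr''⟩ := h2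
  rw [smul_eq_mul] at hr''
  obtain ⟨r₂, hr₂⟩ := exists_reesToExt_eq 𝓕 r'' (by
    intro m hm
    have h3 := coeff_reesToExt_of_neg 𝓕 r m hm
    rw [← hr'', Subalgebra.coe_mul] at h3
    change (algebraMap A A[T;T⁻¹] y * (r'' : A[T;T⁻¹])).coeff m = 0 at h3
    rw [← Algebra.smul_def, AddMonoidAlgebra.coeff_smul, Finsupp.smul_apply] at h3
    apply hy
    change y • _ = y • (0 : A)
    rw [h3, smul_zero])
  refine ⟨r₂, Submodule.mem_top, ?_⟩
  apply reesToExt_injective 𝓕
  rw [smul_eq_mul, map_mul, reesToExt_algebraMap, hr₂, hr'']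

theorem isSMulRegular_mon_one (x : A) (hx1 : x ∈ 𝓕.F 1) (hx : IsSMulRegular A x) :
    IsSMulRegular 𝓕.rees (mon 𝓕 1 x hx1) := by
  intro a b hab
  apply Subtype.ext
  apply Polynomial.ext
  intro n
  have h1 := congrArg (fun z : 𝓕.rees => (z : A[X]).coeff (n + 1)) hab
  simp only [smul_eq_mul, Subalgebra.coe_mul, coe_mon] at h1
  rw [Polynomial.coeff_monomial_mul, Polynomial.coeff_monomial_mul] at h1
  exact hx h1

end Regular

section Krull

variable (P : Ideal 𝓕.rees) [P.IsPrime] (hP : RingHom.ker (c0 𝓕) ≤ P)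

theorem sub_algebraMap_c0_mem_ker (x : 𝓕.rees) :
    x - algebraMap A 𝓕.rees (c0 𝓕 x) ∈ RingHom.ker (c0 𝓕) := by
  rw [RingHom.mem_ker, map_sub, sub_eq_zero, c0_apply, c0_apply]
  change _ = (algebraMap A A[X] _).coeff 0
  rw [Polynomial.algebraMap_apply, Algebra.algebraMap_self, RingHom.id_apply, Polynomial.coeff_C_zero]

theorem mon_one_pow (f : A) (hf : f ∈ 𝓕.F 1) (i : ℕ) (a : A) (ha : a ∈ 𝓕.F i) :
    algebraMap A 𝓕.rees (f ^ i) * mon 𝓕 i a ha = algebraMap A 𝓕.rees a * mon 𝓕 1 f hf ^ i := by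
  apply Subtype.ext
  rw [Subalgebra.coe_mul, Subalgebra.coe_mul, Subalgebra.coe_pow, coe_mon, coe_mon]
  change algebraMap A A[X] (f ^ i) * _ = algebraMap A A[X] a * _
  rw [Polynomial.algebraMap_apply, Polynomial.algebraMap_apply, Algebra.algebraMap_self,
    RingHom.id_apply, RingHom.id_apply, Polynomial.monomial_pow, Polynomial.C_mul_monomial,
    Polynomial.C_mul_monomial, one_mul, mul_comm]

include hP in
/-- Over a minimal prime `p` of `A` not containing `F 1`, the prime `p + R₊` is minimal over a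
principal ideal. -/
theorem mem_minimalPrimes_span (f : A) (hf : f ∈ 𝓕.F 1)
    (hfp : f ∉ P.comap (algebraMap A 𝓕.rees))
    (hmin : P.comap (algebraMap A 𝓕.rees) ∈ minimalPrimes A) :
    P ∈ (Ideal.span {mon 𝓕 1 f hf}).minimalPrimes := by
  refine ⟨⟨inferInstance, ?_⟩, ?_⟩
  · rw [Ideal.span_singleton_le_iff_mem]
    exact hP (mon_mem_ker_c0 𝓕 1 one_ne_zero f hf)
  · rintro P' ⟨hP'prime, hP'span⟩ hP'P
    rw [Ideal.span_singleton_le_iff_mem] at hP'span
    have hp'prime : (P'.comap (algebraMap A 𝓕.rees)).IsPrime := Ideal.comap_isPrime _ _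
    have hp'le : P'.comap (algebraMap A 𝓕.rees) ≤ P.comap (algebraMap A 𝓕.rees) :=
      Ideal.comap_mono hP'P
    have hple : P.comap (algebraMap A 𝓕.rees) ≤ P'.comap (algebraMap A 𝓕.rees) :=
      hmin.2 ⟨hp'prime, bot_le⟩ hp'le
    have hfp' : ∀ i : ℕ, algebraMap A 𝓕.rees (f ^ i) ∉ P' := by
      intro i hmem
      have : f ^ i ∈ P'.comap (algebraMap A 𝓕.rees) := hmem
      exact hfp (hp'le (hp'prime.mem_of_pow_mem i this))
    have hker : RingHom.ker (c0 𝓕) ≤ P' := by
      intro x hx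
      rw [sum_mon 𝓕 x]
      refine Ideal.sum_mem _ fun i _ => ?_
      have h1 := mon_one_pow 𝓕 f hf i.1 ((x : A[X]).coeff i.1) (x.2 i.1)
      have h2 : algebraMap A 𝓕.rees (f ^ i.1) * mon 𝓕 i.1 ((x : A[X]).coeff i.1) (x.2 i.1) ∈ P' := by
        rw [h1]
        rcases Nat.eq_zero_or_pos i.1 with h0 | hpos
        · have hx0 : (x : A[X]).coeff i.1 = 0 := by
            rw [h0]
            have hx' := RingHom.mem_ker.mp hx
            rw [c0_apply] at hx'
            exact hx'
          rw [hx0, map_zero, zero_mul]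
          exact Ideal.zero_mem _
        · exact Ideal.mul_mem_left _ _ (Ideal.pow_mem_of_mem _ hP'span _ hpos)
      exact (hP'prime.mem_or_mem h2).resolve_left (hfp' i.1)
    intro x hx
    have h1 := hker (sub_algebraMap_c0_mem_ker 𝓕 x)
    have h2 : algebraMap A 𝓕.rees (c0 𝓕 x) ∈ P := by
      have := P.sub_mem hx (hP (sub_algebraMap_c0_mem_ker 𝓕 x))
      rwa [sub_sub_cancel] at this
    have h3 : algebraMap A 𝓕.rees (c0 𝓕 x) ∈ P' := hple h2
    have := P'.add_mem h1 h3
    rwa [sub_add_cancel] at this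

end Krull

section Main

variable [IsNoetherianRing A] [Nontrivial A]

/-- **`(S_2)` descends from the extended Rees algebra to the Rees algebra.** -/
theorem hasS2_rees (hfg : Algebra.FiniteType A 𝓕.rees) (hht : 2 ≤ (𝓕.F 1).height)
    (h : LocCoh.HasSk 2 𝓕.extRees 𝓕.extRees) : LocCoh.HasSk 2 𝓕.rees 𝓕.rees := by
  have hN' : IsNoetherianRing 𝓕.extRees := isNoetherianRing_extRees 𝓕 hfg
  have hN : IsNoetherianRing 𝓕.rees := Algebra.FiniteType.isNoetherianRing A _
  obtain ⟨-, hA⟩ := (hasS2_extRees_iff 𝓕 hfg).mp h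
  rw [hasSk_self_iff] at h hA ⊢
  intro P hPprime
  by_cases hle : RingHom.ker (c0 𝓕) ≤ P
  · have hpprime : (P.comap (algebraMap A 𝓕.rees)).IsPrime := Ideal.comap_isPrime _ _
    rcases exists_regular_or_le_height_zero A hA (P.comap (algebraMap A 𝓕.rees)) with
      ⟨y, hyp, hyreg⟩ | ⟨q, hqprime, hpq, hq0⟩
    · -- a nonzerodivisor of `A` in `p`
      have hyR := isSMulRegular_algebraMap_rees 𝓕 y hyreg
      have hyR' := isSMulRegular_algebraMap_extRees 𝓕 y hyreg
      have hex : ∃ z ∈ P, IsSMulRegular (QuotSMulTop (algebraMap A 𝓕.extRees y) 𝓕.extRees)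
          (reesToExt 𝓕 z) := by
        by_contra hcon
        push Not at hcon
        have hsub : (P : Set 𝓕.rees) ⊆ ⋃ Q ∈ associatedPrimes 𝓕.extRees
            (QuotSMulTop (algebraMap A 𝓕.extRees y) 𝓕.extRees),
            ((Q.comap (reesToExt 𝓕) : Ideal 𝓕.rees) : Set 𝓕.rees) := by
          intro z hz
          have hz' : reesToExt 𝓕 z ∈ {r : 𝓕.extRees | IsSMulRegular
              (QuotSMulTop (algebraMap A 𝓕.extRees y) 𝓕.extRees) r}ᶜ := hcon z hz
          rw [← biUnion_associatedPrimes_eq_compl_regular 𝓕.extRees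
            (QuotSMulTop (algebraMap A 𝓕.extRees y) 𝓕.extRees)] at hz'
          simp only [Set.mem_iUnion, SetLike.mem_coe, Ideal.mem_comap] at hz' ⊢
          exact hz'
        obtain ⟨Q, hQ, hPQ⟩ := (Ideal.subset_union_prime_finite
          (associatedPrimes.finite 𝓕.extRees (QuotSMulTop (algebraMap A 𝓕.extRees y) 𝓕.extRees))
          ⊤ ⊤ (fun Q hQ _ _ => (IsAssociatedPrime.isPrime hQ).comap (reesToExt 𝓕))).mp hsub
        have hQp : Q.IsPrime := IsAssociatedPrime.isPrime hQ
        have h1 := height_le_one_of_mem_associatedPrimes 𝓕.extRees h _ hyR' Q hQ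
        have h2 := two_le_height 𝓕 P hle Q hPQ hht
        exact absurd (h2.trans h1) (by decide)
      obtain ⟨z, hzP, hzreg⟩ := hex
      have hzR := isSMulRegular_quot_of_ext 𝓕 y hyreg z hzreg
      have hseq : IsWeaklyRegular 𝓕.rees [algebraMap A 𝓕.rees y, z] :=
        (isWeaklyRegular_cons_iff _ _ _).mpr ⟨hyR, (isWeaklyRegular_singleton_iff _ z).mpr hzR⟩
      have h1 := Groth.Agent.Lib.Helper29.length_le_idealDepth P 𝓕.rees _ hseq (by
        intro r hr
        simp only [List.mem_cons, List.not_mem_nil, or_false] at hr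
        rcases hr with rfl | rfl
        · exact hyp
        · exact hzP)
      have h2 := Groth.Agent.Lib.Helper29.idealDepth_le_depth_localization 𝓕.rees P 𝓕.rees
      rw [Groth.Agent.Lib.Helper29.depth_localizedModule_self] at h2
      unfold SkSelfAt
      refine (min_le_left _ _).trans ?_
      have h3 := h1.trans h2
      simpa using h3
    · -- `p` is a minimal prime
      have hp0 : (P.comap (algebraMap A 𝓕.rees)).height = 0 :=
        le_antisymm ((Ideal.height_mono hpq).trans hq0.le) bot_le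
      have hmin : P.comap (algebraMap A 𝓕.rees) ∈ minimalPrimes A := Ideal.height_eq_zero_iff.mp hp0
      obtain ⟨f, hf, hfp⟩ : ∃ f ∈ 𝓕.F 1, f ∉ P.comap (algebraMap A 𝓕.rees) := by
        by_contra hcon
        push Not at hcon
        have : 𝓕.F 1 ≤ P.comap (algebraMap A 𝓕.rees) := hcon
        have h1 := hht.trans (Ideal.height_mono this)
        rw [hp0] at h1
        exact absurd h1 (by decide)
      have hht1 : P.height ≤ 1 := Ideal.height_le_one_of_isPrincipal_of_mem_minimalPrimes _ P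
        (mem_minimalPrimes_span 𝓕 P hle f hf hfp hmin)
      obtain ⟨x, hx1, hxreg⟩ : ∃ x ∈ 𝓕.F 1, IsSMulRegular A x := by
        rcases exists_regular_or_le_height_zero A hA (𝓕.F 1) with hx | ⟨q', _, hle', h0'⟩
        · exact hx
        · have h1 := hht.trans (Ideal.height_mono hle')
          rw [h0'] at h1
          exact absurd h1 (by decide)
      have hseq : IsWeaklyRegular 𝓕.rees [mon 𝓕 1 x hx1] :=
        (isWeaklyRegular_singleton_iff _ _).mpr (isSMulRegular_mon_one 𝓕 x hx1 hxreg)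
      have h1 := Groth.Agent.Lib.Helper29.length_le_idealDepth P 𝓕.rees _ hseq (by
        intro r hr
        simp only [List.mem_cons, List.not_mem_nil, or_false] at hr
        subst hr
        exact hle (mon_mem_ker_c0 𝓕 1 one_ne_zero x hx1))
      have h2 := Groth.Agent.Lib.Helper29.idealDepth_le_depth_localization 𝓕.rees P 𝓕.rees
      rw [Groth.Agent.Lib.Helper29.depth_localizedModule_self] at h2
      unfold SkSelfAt
      refine (min_le_right _ _).trans (hht1.trans ?_)
      have h3 := h1.trans h2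
      simpa using h3
  · -- `P` does not contain the irrelevant ideal
    obtain ⟨g, hgker, hgP⟩ := Set.not_subset.mp hle
    obtain ⟨i, hiP⟩ : ∃ i : (g : A[X]).support,
        mon 𝓕 i.1 ((g : A[X]).coeff i.1) (g.2 i.1) ∉ P := by
      by_contra hcon
      push Not at hcon
      apply hgP
      change g ∈ P
      rw [sum_mon 𝓕 g]
      exact Ideal.sum_mem _ fun i _ => hcon i
    have hi0 : i.1 ≠ 0 := by
      intro h0
      have h1 := Polynomial.mem_support_iff.mp i.2
      rw [h0] at h1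
      have hg0 := RingHom.mem_ker.mp hgker
      rw [c0_apply] at hg0
      exact h1 hg0
    set g' : 𝓕.rees := mon 𝓕 i.1 ((g : A[X]).coeff i.1) (g.2 i.1) with hg'
    let alg : Algebra 𝓕.rees (Localization.Away (reesToExt 𝓕 g')) :=
      ((algebraMap 𝓕.extRees (Localization.Away (reesToExt 𝓕 g'))).comp (reesToExt 𝓕)).toAlgebra
    have hloc : IsLocalization.Away g' (Localization.Away (reesToExt 𝓕 g')) :=
      isLocalization_away_of_injective (reesToExt 𝓕) (reesToExt_injective 𝓕) g' (fun _ => rfl)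
        (exists_pow_mul_eq 𝓕 i.1 hi0 _ _)
    obtain ⟨Q₁, hQ₁p, hQ₁c⟩ :=
      exists_prime_away (S := Localization.Away (reesToExt 𝓕 g')) g' P hiP
    obtain ⟨e1⟩ := nonempty_ringEquiv_atPrime (Submonoid.powers g') Q₁ P hQ₁c
    have hQp : (Q₁.comap (algebraMap 𝓕.extRees (Localization.Away (reesToExt 𝓕 g')))).IsPrime :=
      Ideal.comap_isPrime _ _
    obtain ⟨e2⟩ := nonempty_ringEquiv_atPrime (Submonoid.powers (reesToExt 𝓕 g')) Q₁
      (Q₁.comap (algebraMap 𝓕.extRees (Localization.Away (reesToExt 𝓕 g')))) rfl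
    exact (skSelfAt_iff_of_ringEquiv 2 P _ (e1.trans e2.symm)).mpr (h _)

end Main

end Groth.Agent.Lib.Helper87.ReesS2
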