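import Groth.Agent.Lib.Helper87.SegOne18
import Mathlib.LinearAlgebra.Dimension.Finrank
import Mathlib.LinearAlgebra.TensorProduct.Basic
import Mathlib.RingTheory.Flat.Basic

/-!
# Segre products of standard graded algebras (helper87)

* `piece_succ_le_mul`: in a standard graded algebra `R_{m+1} = R_m · R_1`;
* `segre_std`: the Segre product of two standard graded algebras is standard graded;
* `finrank_piece`: `dim (R # S)_n = dim R_n · dim S_n`.
-/

set_option autoImplicit false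
universe u

namespace Groth.Agent.Lib.Helper87.SegGor

open DirectSum TensorProduct
open Groth.Agent.Lib.Helper87 Groth.Agent.Lib.Helper87.SegOne

section Std

variable {k : Type u} [Field k] {R : Type u} [CommRing R] [Algebra k R]
  (𝒜 : ℤ → Submodule k R) [GradedAlgebra 𝒜]

/-- in a standard graded algebra `R_{m+1} ⊆ R_m · R_1` -/
theorem piece_succ_le_mul
    (hstd : Ideal.span (⋃ n ∈ Set.Ioi (0 : ℤ), (𝒜 n : Set R)) =
      Ideal.span ((𝒜 1 : Submodule k R) : Set R)) (m : ℤ) (hm : 0 ≤ m) :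
    𝒜 (m + 1) ≤ 𝒜 m * 𝒜 1 := by
  intro a ha
  have h1 : a ∈ irr 𝒜 := mem_irr_of_pos 𝒜 (by omega) ha
  unfold irr at h1
  rw [hstd] at h1
  obtain ⟨n, f, g, hfg⟩ := Submodule.mem_span_set'.mp h1
  have h2 : a = ∑ i, ((decompose 𝒜 (f i) m : 𝒜 m) : R) * (g i : R) := by
    have h3 : ((decompose 𝒜 a (m + 1) : 𝒜 (m + 1)) : R) = a := decompose_of_mem_same 𝒜 ha
    rw [← h3, ← hfg, decompose_sum, DFinsupp.finset_sum_apply, AddSubmonoidClass.coe_finset_sum]
    refine Finset.sum_congr rfl fun i _ => ?_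
    rw [smul_eq_mul]
    exact DirectSum.coe_decompose_mul_add_of_right_mem 𝒜 (i := m) (a := f i) (g i).2
  rw [h2]
  refine Submodule.sum_mem _ fun i _ => ?_
  exact Submodule.mul_mem_mul (SetLike.coe_mem _) (g i).2

end Std

section Segre

variable {k : Type u} [Field k] {R S T : Type u} [CommRing R] [CommRing S] [CommRing T]
  [Algebra k R] [Algebra k S] [Algebra k T]
  (𝒜 : ℤ → Submodule k R) [GradedAlgebra 𝒜] (ℬ : ℤ → Submodule k S) [GradedAlgebra ℬ]
  (𝒯 : ℤ → Submodule k T) [GradedAlgebra 𝒯]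
  (ψ : T →ₐ[k] R ⊗[k] S) (hT : GrSeg.IsSegreRing 𝒜 ℬ 𝒯 ψ)

include hT in
/-- the Segre product of two standard graded algebras is standard graded -/
theorem segre_std
    (hstdR : Ideal.span (⋃ n ∈ Set.Ioi (0 : ℤ), (𝒜 n : Set R)) =
      Ideal.span ((𝒜 1 : Submodule k R) : Set R))
    (hstdS : Ideal.span (⋃ n ∈ Set.Ioi (0 : ℤ), (ℬ n : Set S)) =
      Ideal.span ((ℬ 1 : Submodule k S) : Set S)) :
    Ideal.span (⋃ n ∈ Set.Ioi (0 : ℤ), (𝒯 n : Set T)) =
      Ideal.span ((𝒯 1 : Submodule k T) : Set T) := by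
  apply le_antisymm
  · rw [Ideal.span_le]
    intro t ht
    simp only [Set.mem_iUnion, Set.mem_Ioi] at ht
    obtain ⟨n, hn, htn⟩ := ht
    obtain ⟨m, rfl⟩ : ∃ m : ℤ, n = m + 1 := ⟨n - 1, by ring⟩
    have hm : 0 ≤ m := by omega
    set J : Ideal T := Ideal.span ((𝒯 1 : Submodule k T) : Set T) with hJ
    let W : Submodule k (R ⊗[k] S) := (J.restrictScalars k).map ψ.toLinearMap
    have hW : GrSeg.segrePiece k 𝒜 ℬ (m + 1) ≤ W := by
      refine Submodule.span_le.mpr ?_
      rintro _ ⟨a, ha, b, hb, rfl⟩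
      have ha' := piece_succ_le_mul 𝒜 hstdR m hm ha
      have hb' := piece_succ_le_mul ℬ hstdS m hm hb
      refine Submodule.mul_induction_on ha' ?_ ?_
      · intro r hr a' ha1
        refine Submodule.mul_induction_on hb' ?_ ?_
        · intro s hs b' hb1
          obtain ⟨t', -, ht'⟩ := exists_t 𝒜 ℬ 𝒯 ψ hT hr hs
          obtain ⟨u, hu, hu'⟩ := exists_t 𝒜 ℬ 𝒯 ψ hT ha1 hb1
          refine ⟨t' * u, ?_, ?_⟩
          · exact J.mul_mem_left t' (Ideal.subset_span hu)
          · show ψ (t' * u) = (r * a') ⊗ₜ[k] (s * b')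
            rw [map_mul, ht', hu', Algebra.TensorProduct.tmul_mul_tmul]
        · intro x y hx hy
          rw [TensorProduct.tmul_add]
          exact add_mem hx hy
      · intro x y hx hy
        rw [TensorProduct.add_tmul]
        exact add_mem hx hy
    have h1 : ψ t ∈ GrSeg.segrePiece k 𝒜 ℬ (m + 1) := by
      rw [← hT.2 (m + 1)]
      exact ⟨t, htn, rfl⟩
    obtain ⟨t', ht', htt'⟩ := hW h1
    have h2 : t' = t := hT.1 htt'
    rw [← h2]
    exact ht'
  · apply Ideal.span_mono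
    intro t ht
    simp only [Set.mem_iUnion, Set.mem_Ioi]
    exact ⟨1, one_pos, ht⟩

include hT in
/-- `dim (R # S)_n = dim R_n · dim S_n` -/
theorem finrank_piece (n : ℤ) :
    Module.finrank k (𝒯 n) = Module.finrank k (𝒜 n) * Module.finrank k (ℬ n) := by
  have h1 : GrSeg.segrePiece k 𝒜 ℬ n =
      LinearMap.range (TensorProduct.map (𝒜 n).subtype (ℬ n).subtype) := by
    apply le_antisymm
    · refine Submodule.span_le.mpr ?_
      rintro _ ⟨a, ha, b, hb, rfl⟩
      exact ⟨(⟨a, ha⟩ : 𝒜 n) ⊗ₜ[k] (⟨b, hb⟩ : ℬ n), rfl⟩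
    · rintro _ ⟨z, rfl⟩
      induction z using TensorProduct.induction_on with
      | zero => rw [map_zero]; exact zero_mem _
      | tmul a b => exact Submodule.subset_span ⟨a.1, a.2, b.1, b.2, rfl⟩
      | add z z' hz hz' => rw [map_add]; exact add_mem hz hz'
  have hinj : Function.Injective (TensorProduct.map (𝒜 n).subtype (ℬ n).subtype) :=
    TensorProduct.map_injective_of_flat_flat _ _ (Submodule.injective_subtype _)
      (Submodule.injective_subtype _)
  let e1 : 𝒯 n ≃ₗ[k] (𝒯 n).map ψ.toLinearMap :=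
    Submodule.equivMapOfInjective ψ.toLinearMap hT.1 (𝒯 n)
  let e2 : (𝒯 n).map ψ.toLinearMap ≃ₗ[k]
      LinearMap.range (TensorProduct.map (𝒜 n).subtype (ℬ n).subtype) :=
    LinearEquiv.ofEq _ _ ((hT.2 n).trans h1)
  let e3 : (𝒜 n) ⊗[k] (ℬ n) ≃ₗ[k]
      LinearMap.range (TensorProduct.map (𝒜 n).subtype (ℬ n).subtype) :=
    LinearEquiv.ofInjective _ hinj
  rw [(e1.trans (e2.trans e3.symm)).finrank_eq, Module.finrank_tensorProduct]

end Segre

end Groth.Agent.Lib.Helper87.SegGor
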