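import Groth.Agent.Lib.Helper39.GrAInvHilb2

/-!
# Cohen–Macaulay standard graded rings of dimension one: `H_R(n) + h^1_R(n)` is constant (helper87)

* `dim_one_const`: for a Cohen–Macaulay standard graded ring `R` of dimension one with `R_0`
  Artinian, `ℓ(R_n) + ℓ(H^1_m(R)_n) = e` for all `n ∈ ℤ`, and `ℓ(R_n) = e` for `n ≫ 0`;
* `numerics`: the arithmetic behind "`R # S` Gorenstein of dimension one forces `e(S) = 1`".
-/

set_option autoImplicit false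
universe u

namespace Groth.Agent.Lib.Helper87.SegGor

open DirectSum GrLC Polynomial Groth.Agent.Lib.Helper39 Groth.Agent.Lib.Helper39.GrSerre
  Groth.Agent.Lib.Helper39.HilbPolyAux

section DimOne

variable (R : Type u) [CommRing R] [LocCoh.IsCohenMacaulayRing R] (𝒜 : ℤ → AddSubgroup R)
  [GradedRing 𝒜] (hpos : ∀ n : ℤ, n < 0 → 𝒜 n = ⊥) [IsArtinianRing (GrLC.deg0 𝒜)]
  (m : HomogeneousIdeal 𝒜) (hm : GrLC.IsStarLocal 𝒜 m) (hd : ringKrullDim R = 1)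
  (I : GrLC.StarInjRes 𝒜 𝒜)
  (hstd : Ideal.span (⋃ n ∈ Set.Ioi (0 : ℤ), (𝒜 n : Set R)) =
    Ideal.span ((𝒜 1 : AddSubgroup R) : Set R))

include hpos hm hd hstd in
/-- `ℓ(R_n) + ℓ(H^1_m(R)_n)` is a constant `e`, equal to `ℓ(R_n)` for large `n` -/
theorem dim_one_const : ∃ e : ℕ,
    (∀ n : ℤ, (Module.length (GrLC.deg0 𝒜) (GrLC.comp 𝒜 𝒜 n)).toNat +
      (Module.length (GrLC.deg0 𝒜) (I.Hcomp m 1 n)).toNat = e) ∧
    ∃ N : ℤ, ∀ n : ℤ, N ≤ n → (Module.length (GrLC.deg0 𝒜) (GrLC.comp 𝒜 𝒜 n)).toNat = e := by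
  have hd' : ringKrullDim R = ((1 : ℕ) : WithBot ℕ∞) := by rw [hd]; rfl
  obtain ⟨P, ⟨N, hPN⟩, hmu, hform, -⟩ := GrAInvHilb.hilb_facts R 𝒜 hpos m hm 1 hd' I hstd
  have hdeg : P.degree < ((1 : ℕ) : WithBot ℕ) := (mu_le_iff P 1).mp hmu
  have hdeg' : P.degree ≤ 0 := by
    rw [Nat.cast_one] at hdeg
    exact Nat.WithBot.lt_one_iff_le_zero.mp hdeg
  have hC : P = C (P.coeff 0) := eq_C_of_degree_le_zero hdeg'
  have heval : ∀ x : ℚ, P.eval x = P.coeff 0 := by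
    intro x
    rw [hC, eval_C, coeff_C_zero]
  have hsum : ∀ n : ℤ, (((Module.length (GrLC.deg0 𝒜) (GrLC.comp 𝒜 𝒜 n)).toNat +
      (Module.length (GrLC.deg0 𝒜) (I.Hcomp m 1 n)).toNat : ℕ) : ℚ) = P.coeff 0 := by
    intro n
    have h1 := hform n
    rw [heval] at h1
    unfold hfun at h1
    push_cast
    linarith
  refine ⟨(Module.length (GrLC.deg0 𝒜) (GrLC.comp 𝒜 𝒜 0)).toNat +
      (Module.length (GrLC.deg0 𝒜) (I.Hcomp m 1 0)).toNat, ?_, N, ?_⟩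
  · intro n
    have h1 := hsum n
    rw [← hsum 0] at h1
    exact_mod_cast h1
  · intro n hn
    have h1 := hPN n hn
    rw [heval, ← hsum 0] at h1
    unfold hfun at h1
    exact_mod_cast h1.symm

end DimOne

/-- the arithmetic: if `H_R + h_R = e_R`, `H_S + h_S = e_S`, `H_R H_S + h_T = e_R e_S`,
`h_T(a) = 1` and `e_R ≥ 2` then `e_S = 1` -/
theorem numerics (HR HS hR hS hT : ℤ → ℕ) (eR eS : ℕ)
    (h1 : ∀ n, HR n + hR n = eR) (h2 : ∀ n, HS n + hS n = eS)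
    (h3 : ∀ n, HR n * HS n + hT n = eR * eS)
    (a : ℤ) (h4 : hT a = 1) (h5 : 2 ≤ eR) : eS = 1 := by
  have e1 := h1 a
  have e2 := h2 a
  have e3 := h3 a
  rw [h4, ← e1, ← e2] at e3
  have h6 : hR a * HS a + hS a * (HR a + hR a) = 1 := by
    have : HR a * HS a + 1 = HR a * HS a + (hR a * HS a + hS a * (HR a + hR a)) := by
      rw [e3]; ring
    exact (Nat.add_left_cancel this).symm
  have hy : hS a = 0 := by
    by_contra hne
    have hpos : 1 ≤ hS a := Nat.one_le_iff_ne_zero.mpr hne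
    have : 2 ≤ hS a * (HR a + hR a) := by
      rw [e1]
      calc 2 ≤ eR := h5
        _ = 1 * eR := (one_mul _).symm
        _ ≤ hS a * eR := Nat.mul_le_mul_right _ hpos
    omega
  rw [hy, zero_mul, add_zero] at h6
  have hB : HS a = 1 := Nat.eq_one_of_mul_eq_one_left h6
  rw [← e2, hB, hy]

end Groth.Agent.Lib.Helper87.SegGor
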