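import Groth.Agent.Lib.Helper87.SegGor1
import Groth.Agent.Lib.Helper87.SegOne13
import Groth.Agent.Lib.Helper24.GorenEquiv

/-!
# The Segre product with a polynomial ring in one variable (helper87)

* `bijective_aeval`: a standard graded algebra whose degree one piece is spanned by a
  non-nilpotent element `x` is the polynomial ring `k[x]`;
* `exists_algEquiv_of_poly`: if `S = k[x]` (standard graded by the powers of `x`) then
  `R # S ≃ R` as `k`-algebras;
* `isGorensteinRing_of_ringEquiv`: Gorenstein rings transfer along ring isomorphisms.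
-/

set_option autoImplicit false
universe u

namespace Groth.Agent.Lib.Helper87.SegGor

open DirectSum TensorProduct Polynomial
open Groth.Agent.Lib.Helper87 Groth.Agent.Lib.Helper87.SegOne

section Poly

variable {k : Type u} [Field k] {R : Type u} [CommRing R] [Algebra k R]
  (𝒜 : ℤ → Submodule k R) [GradedAlgebra 𝒜]

/-- a standard graded algebra with `R_1 = k x`, `x` not nilpotent, is `k[x]` -/
theorem bijective_aeval (hposR : ∀ n : ℤ, n < 0 → 𝒜 n = ⊥)
    (h0R : 𝒜 0 = Submodule.span k {(1 : R)})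
    (hstdR : Ideal.span (⋃ n ∈ Set.Ioi (0 : ℤ), (𝒜 n : Set R)) =
      Ideal.span ((𝒜 1 : Submodule k R) : Set R)) {x : R} (hx : x ∈ 𝒜 1)
    (hx1 : ∀ z ∈ 𝒜 1, ∃ c : k, z = c • x) (hxpow0 : ∀ n : ℕ, x ^ n ≠ 0) :
    Function.Bijective (Polynomial.aeval x : k[X] →ₐ[k] R) := by
  classical
  have hpiece := std_piece 𝒜 h0R hstdR hx hx1
  have hsurj : Function.Surjective (Polynomial.aeval x : k[X] →ₐ[k] R) := by
    intro r
    have hcomp : ∀ i : ℤ, ((decompose 𝒜 r) i : R) ∈ (Polynomial.aeval x : k[X] →ₐ[k] R).range := by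
      intro i
      by_cases hi : i < 0
      · have h2 : ((decompose 𝒜 r) i : R) ∈ (⊥ : Submodule k R) := by
          rw [← hposR i hi]
          exact SetLike.coe_mem _
        rw [(Submodule.mem_bot k).mp h2]
        exact Subalgebra.zero_mem _
      · push Not at hi
        obtain ⟨n, rfl⟩ := Int.eq_ofNat_of_zero_le hi
        obtain ⟨c'', hc''⟩ := hpiece n _ (SetLike.coe_mem (decompose 𝒜 r n))
        rw [hc'']
        refine ⟨Polynomial.C c'' * Polynomial.X ^ n, ?_⟩
        simp [Algebra.smul_def]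
    have h3 : r ∈ (Polynomial.aeval x : k[X] →ₐ[k] R).range := by
      rw [← DirectSum.sum_support_decompose 𝒜 r]
      exact Subalgebra.sum_mem _ fun i _ => hcomp i
    exact h3
  have hinj : Function.Injective (Polynomial.aeval x : k[X] →ₐ[k] R) := by
    rw [injective_iff_map_eq_zero]
    intro p hp
    rw [Polynomial.aeval_eq_sum_range] at hp
    ext m
    rw [Polynomial.coeff_zero]
    have h4 : ((decompose 𝒜 (∑ i ∈ Finset.range (p.natDegree + 1), p.coeff i • x ^ i))
        (m : ℤ) : R) = 0 := by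
      rw [hp, decompose_zero]
      rfl
    rw [decompose_sum, DFinsupp.finset_sum_apply, AddSubmonoidClass.coe_finset_sum] at h4
    have hterm : ∀ i : ℕ, ((decompose 𝒜 (p.coeff i • x ^ i)) (m : ℤ) : R) =
        if i = m then p.coeff m • x ^ m else 0 := by
      intro i
      have hmem : p.coeff i • x ^ i ∈ 𝒜 (i : ℤ) :=
        Submodule.smul_mem _ _ (pow_mem_piece 𝒜 hx i)
      split_ifs with h
      · subst h
        exact decompose_of_mem_same 𝒜 hmem
      · exact decompose_of_mem_ne 𝒜 hmem (by exact_mod_cast h)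
    rw [Finset.sum_congr rfl (fun i _ => hterm i), Finset.sum_ite_eq'] at h4
    by_cases hm : m ∈ Finset.range (p.natDegree + 1)
    · rw [if_pos hm] at h4
      rcases smul_eq_zero.mp h4 with h | h
      · exact h
      · exact absurd h (hxpow0 m)
    · apply Polynomial.coeff_eq_zero_of_natDegree_lt
      rw [Finset.mem_range] at hm
      omega
  exact ⟨hinj, hsurj⟩

end Poly

section Iso

variable {k : Type u} [Field k] {R S T : Type u} [CommRing R] [CommRing S] [CommRing T]
  [Algebra k R] [Algebra k S] [Algebra k T]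
  (𝒜 : ℤ → Submodule k R) [GradedAlgebra 𝒜] (ℬ : ℤ → Submodule k S) [GradedAlgebra ℬ]
  (𝒯 : ℤ → Submodule k T) [GradedAlgebra 𝒯]
  (ψ : T →ₐ[k] R ⊗[k] S) (hT : GrSeg.IsSegreRing 𝒜 ℬ 𝒯 ψ)

/-- evaluation of the second factor -/
noncomputable def evalS (ε : S →ₐ[k] k) : R ⊗[k] S →ₐ[k] R :=
  (Algebra.TensorProduct.rid k k R).toAlgHom.comp (Algebra.TensorProduct.map (AlgHom.id k R) ε)

theorem evalS_tmul (ε : S →ₐ[k] k) (a : R) (b : S) :
    evalS (R := R) ε (a ⊗ₜ[k] b) = ε b • a := by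
  unfold evalS
  simp

variable {x : S} (hx : x ∈ ℬ 1)
  (hpiece : ∀ n : ℕ, ∀ z ∈ ℬ (n : ℤ), ∃ c : k, z = c • x ^ n)
  (ε : S →ₐ[k] k) (hε : ε x = 1)

include hpiece hε in
omit [GradedAlgebra 𝒜] [GradedAlgebra ℬ] in
theorem evalS_piece (n : ℕ) (z : R ⊗[k] S) (hz : z ∈ GrSeg.segrePiece k 𝒜 ℬ (n : ℤ)) :
    evalS (R := R) ε z ∈ 𝒜 (n : ℤ) ∧ z = evalS (R := R) ε z ⊗ₜ[k] (x ^ n) := by
  refine Submodule.span_induction ?_ ?_ ?_ ?_ hz
  · rintro _ ⟨a, ha, b, hb, rfl⟩
    obtain ⟨c, rfl⟩ := hpiece n b hb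
    have h1 : evalS (R := R) ε (a ⊗ₜ[k] (c • x ^ n)) = c • a := by
      rw [evalS_tmul, map_smul, map_pow, hε, one_pow, smul_eq_mul, mul_one]
    rw [h1]
    exact ⟨Submodule.smul_mem _ _ ha, (TensorProduct.smul_tmul c a (x ^ n)).symm⟩
  · rw [map_zero, TensorProduct.zero_tmul]
    exact ⟨zero_mem _, rfl⟩
  · intro z z' _ _ hz hz'
    rw [map_add, TensorProduct.add_tmul, ← hz.2, ← hz'.2]
    exact ⟨add_mem hz.1 hz'.1, rfl⟩
  · intro c z _ hz
    rw [map_smul, ← TensorProduct.smul_tmul', ← hz.2]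
    exact ⟨Submodule.smul_mem _ _ hz.1, rfl⟩

include hT hx hpiece hε in
/-- if `S = k[x]` then `R # S ≃ R` -/
theorem exists_algEquiv_of_poly (hposR : ∀ n : ℤ, n < 0 → 𝒜 n = ⊥) :
    Nonempty (T ≃ₐ[k] R) := by
  classical
  have hposT := segre_pos 𝒜 ℬ 𝒯 ψ hT hposR
  let θ : T →ₐ[k] R := (evalS (R := R) ε).comp ψ
  have hθmem : ∀ (n : ℤ) (t : T), t ∈ 𝒯 n → θ t ∈ 𝒜 n := by
    intro n t ht
    by_cases hn : n < 0
    · rw [hposT n hn, Submodule.mem_bot] at ht
      rw [ht, map_zero]
      exact zero_mem _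
    · push Not at hn
      obtain ⟨j, rfl⟩ := Int.eq_ofNat_of_zero_le hn
      have h1 : ψ t ∈ GrSeg.segrePiece k 𝒜 ℬ (j : ℤ) := by
        rw [← hT.2 (j : ℤ)]
        exact ⟨t, ht, rfl⟩
      exact (evalS_piece 𝒜 ℬ hpiece ε hε j (ψ t) h1).1
  have hθinj : ∀ (n : ℤ) (t : T), t ∈ 𝒯 n → θ t = 0 → t = 0 := by
    intro n t ht h0
    by_cases hn : n < 0
    · rw [hposT n hn, Submodule.mem_bot] at ht
      exact ht
    · push Not at hn
      obtain ⟨j, rfl⟩ := Int.eq_ofNat_of_zero_le hn
      have h1 : ψ t ∈ GrSeg.segrePiece k 𝒜 ℬ (j : ℤ) := by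
        rw [← hT.2 (j : ℤ)]
        exact ⟨t, ht, rfl⟩
      have h2 := (evalS_piece 𝒜 ℬ hpiece ε hε j (ψ t) h1).2
      have h3 : evalS (R := R) ε (ψ t) = 0 := h0
      rw [h3, TensorProduct.zero_tmul] at h2
      exact hT.1 (by rw [h2, map_zero])
  have hdec : ∀ (t : T) (n : ℤ), ((decompose 𝒜 (θ t) n : 𝒜 n) : R) =
      θ ((decompose 𝒯 t n : 𝒯 n) : T) := by
    intro t n
    induction t using DirectSum.Decomposition.inductionOn 𝒯 with
    | zero => simp
    | @homogeneous i t =>
      by_cases hin : i = n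
      · subst hin
        rw [decompose_of_mem_same 𝒜 (hθmem i t t.2), decompose_of_mem_same 𝒯 t.2]
      · rw [decompose_of_mem_ne 𝒜 (hθmem i t t.2) hin, decompose_of_mem_ne 𝒯 t.2 hin, map_zero]
    | add t t' ht ht' =>
      rw [map_add, decompose_add, decompose_add, DirectSum.add_apply, DirectSum.add_apply,
        Submodule.coe_add, Submodule.coe_add, ht, ht', map_add]
  have hinj : Function.Injective θ := by
    rw [injective_iff_map_eq_zero]
    intro t ht
    rw [← DirectSum.sum_support_decompose 𝒯 t]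
    refine Finset.sum_eq_zero fun i _ => ?_
    apply hθinj i _ (SetLike.coe_mem _)
    rw [← hdec, ht, decompose_zero]
    rfl
  have hsurj : Function.Surjective θ := by
    intro r
    have hcomp : ∀ i : ℤ, ((decompose 𝒜 r) i : R) ∈ θ.range := by
      intro i
      by_cases hi : i < 0
      · have h2 : ((decompose 𝒜 r) i : R) ∈ (⊥ : Submodule k R) := by
          rw [← hposR i hi]
          exact SetLike.coe_mem _
        rw [(Submodule.mem_bot k).mp h2]
        exact Subalgebra.zero_mem _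
      · push Not at hi
        obtain ⟨j, rfl⟩ := Int.eq_ofNat_of_zero_le hi
        obtain ⟨t, -, ht⟩ := exists_t 𝒜 ℬ 𝒯 ψ hT (SetLike.coe_mem (decompose 𝒜 r j))
          (pow_mem_piece ℬ hx j)
        refine ⟨t, ?_⟩
        show evalS (R := R) ε (ψ t) = _
        rw [ht, evalS_tmul, map_pow, hε, one_pow, one_smul]
    have h3 : r ∈ θ.range := by
      rw [← DirectSum.sum_support_decompose 𝒜 r]
      exact Subalgebra.sum_mem _ fun i _ => hcomp i
    exact h3
  exact ⟨AlgEquiv.ofBijective θ ⟨hinj, hsurj⟩⟩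

end Iso

/-- Gorenstein rings transfer along ring isomorphisms. -/
theorem isGorensteinRing_of_ringEquiv {F G : Type u} [CommRing F] [CommRing G]
    (e : F ≃+* G) (h : LocCoh.IsGorensteinRing F) : LocCoh.IsGorensteinRing G := by
  have hN : IsNoetherianRing G := isNoetherianRing_of_ringEquiv F e
  refine { isGorensteinLocalRing_localization := fun p hp => ?_ }
  have h1 := h.isGorensteinLocalRing_localization (p.comap e)
  exact Groth.Agent.Lib.Helper24.isGorensteinLocalRing_of_ringEquiv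
    (IsLocalization.ringEquivOfRingEquiv
      (Localization.AtPrime (p.comap e)) (Localization.AtPrime p) e
      (e.map_primeCompl_comap_eq p)) h1

end Groth.Agent.Lib.Helper87.SegGor
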