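import Groth.Agent.Lib.Helper87.SegGor2
import Groth.Agent.Lib.Helper87.SegGor3
import Groth.Agent.Lib.Helper39.GrSegGor2
import Groth.Agent.Lib.Helper39.GrAInvPoly4
import Groth.Agent.Lib.Helper87.Kun22

/-!
# Graded algebras over a field, Cohen–Macaulay standard graded of dimension one (helper87)

* `toNat_length_eq_finrank`: over a ring which is a field, `ℓ(V).toNat = finrank V`;
* `pkg`: for `A` standard graded over `k`, Cohen–Macaulay of dimension one: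
  `dim_k A_n + dim H^1_{A_+}(A)_n = e` for all `n`, `dim_k A_n = e` for `n ≫ 0`;
* `exists_poly`: a standard graded algebra with `dim A_n = 1` for `n ≫ 0` and `dim A_1 ≤ 1` is a
  polynomial ring in one variable;
* `finrank_Hcomp_of_gorenstein`: for `T` Gorenstein of dimension one there is `a` with
  `dim H^1_{T_+}(T)_a = 1`.
-/

set_option autoImplicit false
universe u

namespace Groth.Agent.Lib.Helper87.SegGor

open DirectSum TensorProduct GrLC Polynomial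
open Groth.Agent.Lib.Helper87 Groth.Agent.Lib.Helper87.SegOne Groth.Agent.Lib.Helper87.Kun
  Groth.Agent.Lib.Helper39 Groth.Agent.Lib.Helper39.GrBridge Groth.Agent.Lib.Helper39.GrSegCanon

/-- over a commutative ring which is a field, the length is the dimension -/
theorem toNat_length_eq_finrank (K : Type u) [CommRing K] (hK : IsField K) (V : Type u)
    [AddCommGroup V] [Module K V] : (Module.length K V).toNat = Module.finrank K V := by
  letI : Field K := hK.toField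
  rw [Module.length_eq_rank]
  exact Cardinal.toNat_toENat _

section Pkg

variable {k : Type u} [Field k] {A : Type u} [CommRing A] [Nontrivial A] [Algebra k A]
  (𝒜 : ℤ → Submodule k A) [GradedAlgebra 𝒜] (hpos : ∀ n : ℤ, n < 0 → 𝒜 n = ⊥)
  (h0 : 𝒜 0 = Submodule.span k {(1 : A)})
  (hstd : Ideal.span (⋃ n ∈ Set.Ioi (0 : ℤ), (𝒜 n : Set A)) =
    Ideal.span ((𝒜 1 : Submodule k A) : Set A))
  (m : HomogeneousIdeal 𝒜) (hm : m.toIdeal = Ideal.span (⋃ n ∈ Set.Ioi (0 : ℤ), (𝒜 n : Set A)))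
  (I : StarInjRes 𝒜 𝒜)

attribute [local instance] toSubGradedRing toSubDecomposition toSubGradedSMul

include hpos h0 hstd hm in
/-- `dim_k A_n + dim H^1(A)_n` is constant, equal to `dim_k A_n` for large `n` -/
theorem pkg [LocCoh.IsCohenMacaulayRing A] (hd : ringKrullDim A = 1) : ∃ e : ℕ,
    (∀ n : ℤ, Module.finrank k (𝒜 n) + Module.finrank (GrLC.deg0 𝒜) (I.Hcomp m 1 n) = e) ∧
    ∃ N : ℤ, ∀ n : ℤ, N ≤ n → Module.finrank k (𝒜 n) = e := by
  haveI : IsNoetherianRing A := inferInstance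
  have hpos' := toSub_neg 𝒜 hpos
  have h0' : IsField (GrLC.deg0 (toSub 𝒜)) := isField_deg0_of_span_one 𝒜 h0
  have hloc := isStarLocal_sub 𝒜 hpos h0 m hm
  haveI : IsArtinianRing (GrLC.deg0 (toSub 𝒜)) := GrAInvPoly.isArtinianRing_of_isField _ h0'
  have hstd' : Ideal.span (⋃ n ∈ Set.Ioi (0 : ℤ), (toSub 𝒜 n : Set A)) =
      Ideal.span ((toSub 𝒜 1 : AddSubgroup A) : Set A) := hstd
  obtain ⟨e, h1, N, h2⟩ := dim_one_const A (toSub 𝒜) hpos' (convIdeal m) hloc hd (convRes I) hstd'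
  haveI : SetLike.GradedSMul 𝒜 (toSub 𝒜) :=
    ⟨fun {i j x y} hx hy => SetLike.GradedMul.mul_mem (A := 𝒜) hx hy⟩
  have hc1 : ∀ n : ℤ, (Module.length (GrLC.deg0 (toSub 𝒜))
      (GrLC.comp (toSub 𝒜) (toSub 𝒜) n)).toNat = Module.finrank k (𝒜 n) := by
    intro n
    rw [toNat_length_eq_finrank _ h0']
    exact finrank_comp_self 𝒜 h0 n
  have hc2 : ∀ n : ℤ, (Module.length (GrLC.deg0 (toSub 𝒜))
      ((convRes I).Hcomp (convIdeal m) 1 n)).toNat =
        Module.finrank (GrLC.deg0 𝒜) (I.Hcomp m 1 n) := by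
    intro n
    rw [toNat_length_eq_finrank _ h0']
    rfl
  refine ⟨e, fun n => ?_, N, fun n hn => ?_⟩
  · rw [← hc1, ← hc2]
    exact h1 n
  · rw [← hc1]
    exact h2 n hn

end Pkg

section Poly

variable {k : Type u} [Field k] {R : Type u} [CommRing R] [Algebra k R]
  (𝒜 : ℤ → Submodule k R) [GradedAlgebra 𝒜]

/-- a standard graded algebra with `dim R_n = 1` for `n ≫ 0` and `dim R_1 ≤ 1` is `k[x]` -/
theorem exists_poly (hposR : ∀ n : ℤ, n < 0 → 𝒜 n = ⊥)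
    (h0R : 𝒜 0 = Submodule.span k {(1 : R)})
    (hstdR : Ideal.span (⋃ n ∈ Set.Ioi (0 : ℤ), (𝒜 n : Set R)) =
      Ideal.span ((𝒜 1 : Submodule k R) : Set R)) [Algebra.FiniteType k R]
    (N : ℤ) (hN : ∀ n : ℤ, N ≤ n → Module.finrank k (𝒜 n) = 1)
    (h1 : Module.finrank k (𝒜 1) ≤ 1) :
    ∃ x ∈ 𝒜 1, (∀ n : ℕ, ∀ z ∈ 𝒜 (n : ℤ), ∃ c : k, z = c • x ^ n) ∧
      Function.Bijective (Polynomial.aeval x : k[X] →ₐ[k] R) := by
  classical
  haveI hfin : ∀ n : ℤ, Module.Finite k (𝒜 n) :=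
    fun n => Groth.Agent.Lib.Helper99.finite_piece_ring 𝒜 hposR h0R n
  -- `R_1 ≠ 0`
  have hne : Module.finrank k (𝒜 1) ≠ 0 := by
    intro h
    have hbot : 𝒜 1 = ⊥ := Submodule.finrank_eq_zero.mp h
    have hall : ∀ j : ℕ, 𝒜 ((j : ℤ) + 1) = ⊥ := by
      intro j
      rw [eq_bot_iff]
      refine (piece_succ_le_mul 𝒜 hstdR (j : ℤ) (by omega)).trans ?_
      rw [hbot, Submodule.mul_bot]
    have h2 := hN (((N.toNat : ℕ) : ℤ) + 1) (by omega)
    rw [hall, finrank_bot] at h2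
    exact absurd h2 (by decide)
  have h1' : Module.finrank k (𝒜 1) = 1 := by omega
  obtain ⟨⟨x, hx⟩, -, hxspan⟩ := finrank_eq_one_iff'.mp h1'
  have hx1 : ∀ z ∈ 𝒜 1, ∃ c : k, z = c • x := by
    intro z hz
    obtain ⟨c, hc⟩ := hxspan ⟨z, hz⟩
    exact ⟨c, (congrArg Subtype.val hc).symm⟩
  have hpiece := std_piece 𝒜 h0R hstdR hx hx1
  have hxpow0 : ∀ n : ℕ, x ^ n ≠ 0 := by
    intro j hj
    have h2 := hN ((((N.toNat + j : ℕ)) : ℕ) : ℤ) (by omega)
    have hz : x ^ (N.toNat + j) = 0 := by rw [pow_add, hj, mul_zero]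
    have hbot : 𝒜 (((N.toNat + j : ℕ) : ℕ) : ℤ) = ⊥ := by
      rw [eq_bot_iff]
      intro z hz'
      obtain ⟨c, hc⟩ := hpiece _ z hz'
      rw [hc, hz, smul_zero]
      exact zero_mem _
    rw [hbot, finrank_bot] at h2
    exact absurd h2 (by decide)
  exact ⟨x, hx, hpiece, bijective_aeval 𝒜 hposR h0R hstdR hx hx1 hxpow0⟩

end Poly

section Gor

variable {k : Type u} [Field k] {T : Type u} [CommRing T] [Nontrivial T] [Algebra k T]
  (𝒯 : ℤ → Submodule k T) [GradedAlgebra 𝒯] (hposT : ∀ n : ℤ, n < 0 → 𝒯 n = ⊥)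
  (h0T : 𝒯 0 = Submodule.span k {(1 : T)})
  (mT : HomogeneousIdeal 𝒯)
  (hmT : mT.toIdeal = Ideal.span (⋃ n ∈ Set.Ioi (0 : ℤ), (𝒯 n : Set T)))
  (IT : StarInjRes 𝒯 𝒯)

attribute [local instance] toSubGradedRing toSubDecomposition toSubGradedSMul

include hposT h0T hmT in
/-- for a Gorenstein graded algebra of dimension one, `H^1_{T_+}(T)` has a one-dimensional piece
(in degree `a(T)`) -/
theorem finrank_Hcomp_of_gorenstein [LocCoh.IsGorensteinRing T] (hd : ringKrullDim T = 1) :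
    ∃ a : ℤ, Module.finrank (GrLC.deg0 𝒯) (IT.Hcomp mT 1 a) = 1 := by
  haveI : IsNoetherianRing T := inferInstance
  have hd' : ringKrullDim T = ((1 : ℕ) : WithBot ℕ∞) := by rw [hd]; rfl
  obtain ⟨XT, eT, heT⟩ := exists_hull_sub 𝒯 mT
  obtain ⟨a, -, hCT⟩ := gorenstein_canonical 𝒯 hposT h0T mT hmT XT.gr eT heT 1 hd' IT
  have hneg : ∀ n : ℤ, n < 0 → ∀ x ∈ 𝒯 n, x = 0 := by
    intro n hn x hx
    rw [hposT n hn] at hx
    exact (Submodule.mem_bot k).mp hx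
  have h1 := finrank_comp_canonical_sub 𝒯 hneg (isField_deg0_of_span_one 𝒯 h0T) mT hmT XT.gr eT
    heT (shiftSelf 𝒯 a) 1 IT hCT (-a)
  rw [neg_neg] at h1
  refine ⟨a, h1.symm.trans ?_⟩
  haveI : SetLike.GradedSMul 𝒯 (toSub 𝒯) :=
    ⟨fun {i j x y} hx hy => SetLike.GradedMul.mul_mem (A := 𝒯) hx hy⟩
  have h2 : Module.finrank (GrLC.deg0 𝒯) (GrLC.comp 𝒯 (shiftSelf 𝒯 a) (-a)) =
      Module.finrank (GrLC.deg0 𝒯) (GrLC.comp 𝒯 (toSub 𝒯) 0) := by
    have hmem : ∀ x : T, x ∈ GrLC.comp 𝒯 (shiftSelf 𝒯 a) (-a) ↔ x ∈ GrLC.comp 𝒯 (toSub 𝒯) 0 := by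
      intro x
      show x ∈ 𝒯 (-a + a) ↔ x ∈ 𝒯 0
      rw [neg_add_cancel]
    have heq : GrLC.comp 𝒯 (shiftSelf 𝒯 a) (-a) = GrLC.comp 𝒯 (toSub 𝒯) 0 := Submodule.ext hmem
    rw [heq]
  rw [h2, finrank_comp_self 𝒯 h0T 0, h0T]
  exact finrank_span_singleton one_ne_zero

end Gor

end Groth.Agent.Lib.Helper87.SegGor
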