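import Groth.Agent.Lib.Helper87.GrDepth5
import Groth.Agent.Lib.Helper87.GrLocal1
import Groth.Agent.Lib.Helper29.LocTransfer
import Groth.Agent.Lib.Helper29.DepthLoc

/-!
# Cohen–Macaulay modules generize; graded local–global principle (helper87)
-/

set_option autoImplicit false
universe u

namespace Groth.Agent.Lib.Helper87.SegOne

open IsLocalRing

section Generize

variable (R : Type u) [CommRing R] [IsNoetherianRing R]
  (M : Type u) [AddCommGroup M] [Module R M] [Module.Finite R M]

theorem cm_of_eq (Q Q' : Ideal R) [Q.IsPrime] [Q'.IsPrime] (h : Q' = Q)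
    (hcm : LocCoh.IsCohenMacaulayModule (Localization.AtPrime Q')
      (LocalizedModule Q'.primeCompl M)) :
    LocCoh.IsCohenMacaulayModule (Localization.AtPrime Q) (LocalizedModule Q.primeCompl M) := by
  subst h
  exact hcm

theorem nontrivial_of_eq (Q Q' : Ideal R) [Q.IsPrime] [Q'.IsPrime] (h : Q' = Q)
    (hQ : Nontrivial (LocalizedModule Q.primeCompl M)) :
    Nontrivial (LocalizedModule Q'.primeCompl M) := by
  subst h
  exact hQ

/-- Cohen–Macaulayness of a module generizes inside its support. -/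
theorem cm_generize (Q 𝔓 : Ideal R) [Q.IsPrime] [𝔓.IsPrime] (hle : Q ≤ 𝔓)
    (h : LocCoh.IsCohenMacaulayModule (Localization.AtPrime 𝔓) (LocalizedModule 𝔓.primeCompl M))
    (hQ : Nontrivial (LocalizedModule Q.primeCompl M)) :
    LocCoh.IsCohenMacaulayModule (Localization.AtPrime Q) (LocalizedModule Q.primeCompl M) := by
  have hN : IsNoetherianRing (Localization.AtPrime 𝔓) :=
    IsLocalization.isNoetherianRing 𝔓.primeCompl _ inferInstance
  have hdisj : Disjoint (𝔓.primeCompl : Set R) (Q : Set R) := by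
    rw [Set.disjoint_left]
    intro x hx hxq
    exact hx (hle hxq)
  have hprime : (Q.map (algebraMap R (Localization.AtPrime 𝔓))).IsPrime :=
    IsLocalization.isPrime_of_isPrime_disjoint 𝔓.primeCompl _ _ inferInstance hdisj
  have hcomap : (Q.map (algebraMap R (Localization.AtPrime 𝔓))).comap
      (algebraMap R (Localization.AtPrime 𝔓)) = Q :=
    IsLocalization.under_map_of_isPrime_disjoint 𝔓.primeCompl _ inferInstance hdisj
  obtain ⟨hd, hs⟩ := Groth.Agent.Lib.Helper29.depth_and_supportDim_localizedModule_localizedModule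
    𝔓.primeCompl M (Q.map (algebraMap R (Localization.AtPrime 𝔓)))
  have hQ' : Nontrivial (LocalizedModule ((Q.map (algebraMap R (Localization.AtPrime 𝔓))).comap
      (algebraMap R (Localization.AtPrime 𝔓))).primeCompl M) :=
    nontrivial_of_eq R M Q _ hcomap hQ
  have hsupp : (⟨Q.map (algebraMap R (Localization.AtPrime 𝔓)), hprime⟩ :
      PrimeSpectrum (Localization.AtPrime 𝔓)) ∈
      Module.support (Localization.AtPrime 𝔓) (LocalizedModule 𝔓.primeCompl M) := by
    rw [Module.mem_support_iff]
    rw [← Module.supportDim_ne_bot_iff_nontrivial (Localization.AtPrime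
      (Q.map (algebraMap R (Localization.AtPrime 𝔓))))]
    change Module.supportDim _ (LocalizedModule
      (Q.map (algebraMap R (Localization.AtPrime 𝔓))).primeCompl
        (LocalizedModule 𝔓.primeCompl M)) ≠ ⊥
    rw [hs]
    exact (Module.supportDim_ne_bot_iff_nontrivial _ _).mpr hQ'
  have hloc := Groth.Agent.Lib.Helper29.isCohenMacaulayModule_localizedModule
    (Localization.AtPrime 𝔓) (LocalizedModule 𝔓.primeCompl M) h
    ⟨Q.map (algebraMap R (Localization.AtPrime 𝔓)), hprime⟩ hsupp
  unfold LocCoh.IsCohenMacaulayModule at hloc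
  refine cm_of_eq R M Q _ hcomap ?_
  unfold LocCoh.IsCohenMacaulayModule
  rw [← hs, ← hd]
  exact hloc

end Generize

section Graded

variable (R : Type u) [CommRing R] [IsNoetherianRing R] (𝒜 : ℤ → AddSubgroup R) [GradedRing 𝒜]
  (M : Type u) [AddCommGroup M] [Module R M] (ℳ : ℤ → AddSubgroup M)
  [DirectSum.Decomposition ℳ] [SetLike.GradedSMul 𝒜 ℳ] [Module.Finite R M]

include ℳ in
/-- **Graded local–global principle for Cohen–Macaulay modules**: if `𝔪` contains every proper
homogeneous ideal and `M_𝔪` is Cohen–Macaulay, then every localization of `M` is zero or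
Cohen–Macaulay. -/
theorem cm_all_of_cm_irr (𝔪 : Ideal R) [𝔪.IsPrime]
    (hmax : ∀ I : Ideal R, I.IsHomogeneous 𝒜 → I ≠ ⊤ → I ≤ 𝔪)
    (hcm : LocCoh.IsCohenMacaulayModule (Localization.AtPrime 𝔪)
      (LocalizedModule 𝔪.primeCompl M))
    (q : Ideal R) [q.IsPrime] :
    Subsingleton (LocalizedModule q.primeCompl M) ∨
      LocCoh.IsCohenMacaulayModule (Localization.AtPrime q) (LocalizedModule q.primeCompl M) := by
  by_cases hsub : Subsingleton (LocalizedModule q.primeCompl M)
  · exact Or.inl hsub
  right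
  rw [not_subsingleton_iff_nontrivial] at hsub
  have hcoreprime : (Ideal.homogeneousCore 𝒜 q).toIdeal.IsPrime :=
    Ideal.IsPrime.homogeneousCore inferInstance
  have hcorele : (Ideal.homogeneousCore 𝒜 q).toIdeal ≤ q := Ideal.toIdeal_homogeneousCore_le 𝒜 q
  have hcorene : (Ideal.homogeneousCore 𝒜 q).toIdeal ≠ ⊤ := hcoreprime.ne_top
  have hcorem : (Ideal.homogeneousCore 𝒜 q).toIdeal ≤ 𝔪 :=
    hmax _ (Ideal.homogeneousCore 𝒜 q).isHomogeneous hcorene
  obtain ⟨d, hd⟩ := Groth.Agent.Lib.Helper87.GrLocal.exists_height_quotient_core R 𝒜 q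
  obtain ⟨h1, h2⟩ := Groth.Agent.Lib.Helper87.GrDepth.depth_and_supportDim_localization_eq_add
    R 𝒜 M ℳ q d hd
  have h2' := h2 hsub
  have hnt : Nontrivial (LocalizedModule (Ideal.homogeneousCore 𝒜 q).toIdeal.primeCompl M) := by
    rw [← Module.supportDim_ne_bot_iff_nontrivial
      (Localization.AtPrime (Ideal.homogeneousCore 𝒜 q).toIdeal)]
    intro hbot
    rw [hbot, WithBot.bot_add] at h2'
    exact (Module.supportDim_ne_bot_iff_nontrivial _ _).mpr hsub h2'
  have hcore := cm_generize R M _ 𝔪 hcorem hcm hnt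
  unfold LocCoh.IsCohenMacaulayModule at hcore ⊢
  rw [h2', h1, hcore]
  push_cast
  rfl

end Graded

end Groth.Agent.Lib.Helper87.SegOne
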