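import Groth.Agent.Lib.Helper39.GrLes6
import Groth.Agent.Lib.Helper39.GrRegVanish
import Groth.Agent.Lib.Helper39.GrRes
import Groth.Agent.Lib.Helper39.GrBridge

/-!
# The first graded local cohomology of a module with a homogeneous regular parameter (helper87)
-/

set_option autoImplicit false
universe u

namespace Groth.Agent.Lib.Helper87.SegOne

open DirectSum GrLC
open Groth.Agent.Lib.Helper39 Groth.Agent.Lib.Helper39.GrLes Groth.Agent.Lib.Helper39.GrRegVanish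

section C

variable {ι : Type} [AddCommGroup ι] [DecidableEq ι] {R : Type u} [CommRing R]
  {𝒜 : ι → AddSubgroup R} [GradedRing 𝒜]
  {M : Type u} [AddCommGroup M] [Module R M] {ℳ : ι → AddSubgroup M} [DirectSum.Decomposition ℳ]
  [SetLike.GradedSMul 𝒜 ℳ]

/-- `H^0_a(M) = 0` if `a` contains an `M`-regular element -/
theorem H_zero_eq_zero (E : StarInjRes 𝒜 ℳ) (a : HomogeneousIdeal 𝒜) {x : R}
    (hx : x ∈ a.toIdeal) (hreg : IsSMulRegular M x) (y : E.H a 0) : y = 0 := by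
  obtain ⟨z, rfl⟩ := Submodule.mkQ_surjective _ y
  have hz : (z : (E.X 0).carrier) ∈ LinearMap.range E.ε := by
    rw [← E.exact_zero]
    exact z.2.2
  obtain ⟨m, hm⟩ := hz
  obtain ⟨j, hj⟩ := z.2.1
  have hm0 : m = 0 := by
    have h1 : x ^ j • m = 0 := by
      apply E.ε_injective
      rw [map_smul, hm, hj _ (Ideal.pow_mem_pow hx j), map_zero]
    exact (hreg.pow j) (by show x ^ j • m = x ^ j • 0; rw [h1, smul_zero])
  have hz0 : z = 0 := Subtype.ext (by rw [← hm, hm0, map_zero]; rfl)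
  rw [hz0, map_zero]

/-- **Step C.**  The pieces of `H^1_a(M)` in terms of the cokernel of a homogeneous regular
element `x ∈ a`. -/
theorem hcomp_one (E : StarInjRes 𝒜 ℳ) (a : HomogeneousIdeal 𝒜) {e : ι} {x : R}
    (hx : x ∈ 𝒜 e) (hxa : x ∈ a.toIdeal) (hreg : IsSMulRegular M x) (d : ι) :
    (E.Hcomp a 1 d ≠ ⊥ → ∃ j : ℕ, 1 ≤ j ∧ ∃ m₀ ∈ ℳ (d + j • e), ∀ m : M, x • m ≠ m₀) ∧
    (∀ m₀ ∈ ℳ (d + e), (∀ m : M, x • m ≠ m₀) →
      (∃ c : ℕ, ∀ r ∈ a.toIdeal ^ c, ∃ m' : M, x • m' = r • m₀) → E.Hcomp a 1 d ≠ ⊥) := by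
  classical
  set Q : Submodule R M := LinearMap.range (x • (LinearMap.id : M →ₗ[R] M)) with hQ
  have hQhom : Q.IsHomogeneous ℳ := range_smul_isHomogeneous hx
  letI := quotDecomposition ℳ Q hQhom
  haveI := quotGradedSMul 𝒜 ℳ Q
  set F : StarInjRes 𝒜 (quotPieces ℳ Q) := starInjRes (quotPieces ℳ Q) with hF
  obtain ⟨δ, hδ, h1, h2, h3, -⟩ := exists_les_smul hx hreg Q.mkQ (Submodule.mkQ_surjective Q)
    (isGrHom_mkQ ℳ Q) (Submodule.ker_mkQ Q) E F a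
  have hQmem : ∀ m₀ : M, Q.mkQ m₀ = 0 ↔ ∃ m : M, x • m = m₀ := by
    intro m₀
    rw [Submodule.mkQ_apply, Submodule.Quotient.mk_eq_zero, hQ]
    constructor
    · rintro ⟨m, hm⟩
      exact ⟨m, hm⟩
    · rintro ⟨m, hm⟩
      exact ⟨m, hm⟩
  constructor
  · intro hne
    obtain ⟨ξ, hξ, hξ0⟩ := Submodule.exists_mem_ne_zero_of_ne_bot hne
    have hξ' : ξ ∈ E.Hgr a 1 d := hξ
    have hex : ∃ j : ℕ, x ^ j • ξ = 0 := exists_pow_smul_eq_zero E a 1 ξ hxa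
    have hj0 : Nat.find hex ≠ 0 := by
      intro h0
      have := Nat.find_spec hex
      rw [h0, pow_zero, one_smul] at this
      exact hξ0 this
    obtain ⟨j', hj'⟩ := Nat.exists_eq_succ_of_ne_zero hj0
    have hmin : x ^ j' • ξ ≠ 0 := Nat.find_min hex (by omega)
    have hkill : x • (x ^ j' • ξ) = 0 := by
      have := Nat.find_spec hex
      rw [hj', Nat.succ_eq_add_one, pow_succ', mul_smul] at this
      exact this
    have hdeg : x ^ j' • ξ ∈ E.Hgr a 1 (d + j' • e) :=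
      smul_mem_Hgr E a 1 (SetLike.pow_mem_graded j' hx) hξ'
    obtain ⟨ζ, hζ⟩ := (h3 0 (x ^ j' • ξ)).mp hkill
    have hdeg' : x ^ j' • ξ ∈ E.Hgr a (0 + 1) (d + j' • e + e + -e) := by
      rw [add_neg_cancel_right]
      exact hdeg
    obtain ⟨ζ', hζ'deg, hζ'⟩ := exists_mem_of_isInternal_deg (Hgr_isInternal F a 0)
      (Hgr_isInternal E a (0 + 1)) (δ 0) (hδ 0) hdeg' ζ hζ
    have hζ'0 : ζ' ≠ 0 := by
      intro h
      rw [h, map_zero] at hζ'
      exact hmin hζ'.symm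
    obtain ⟨n, hn, hndeg, -, hnζ⟩ := exists_eq_toH_ε F a _ ζ' hζ'deg
    have hn0 : n ≠ 0 := by
      intro h
      apply hζ'0
      rw [← hnζ]
      have : (⟨F.ε n, hn⟩ : F.cocyc a 0) = 0 := Subtype.ext (by
        show F.ε n = 0
        rw [h, map_zero])
      rw [this, map_zero]
    obtain ⟨m₀, hm₀, hm₀n⟩ := hndeg
    refine ⟨j' + 1, by omega, m₀, ?_, ?_⟩
    · have : d + (j' + 1) • e = d + j' • e + e := by rw [succ_nsmul, add_assoc]
      rw [this]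
      exact hm₀
    · intro m hm
      apply hn0
      rw [← hm₀n]
      exact (hQmem m₀).mpr ⟨m, hm⟩
  · intro m₀ hm₀ hm₀x hgam
    set n₀ : M ⧸ Q := Q.mkQ m₀ with hn₀
    have hn₀deg : n₀ ∈ quotPieces ℳ Q (d + e) := mk_mem_quotPieces ℳ Q hm₀
    have hn₀0 : n₀ ≠ 0 := by
      intro h
      obtain ⟨m, hm⟩ := (hQmem m₀).mp h
      exact hm₀x m hm
    obtain ⟨c, hc⟩ := hgam
    have hn₀gam : ∀ r ∈ a.toIdeal ^ c, r • n₀ = 0 := by
      intro r hr
      obtain ⟨m', hm'⟩ := hc r hr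
      rw [hn₀, ← map_smul, ← hm']
      exact (hQmem _).mpr ⟨m', rfl⟩
    have hcoc : F.ε n₀ ∈ F.cocyc a 0 := by
      refine ⟨⟨c, fun r hr => ?_⟩, ?_⟩
      · rw [← map_smul, hn₀gam r hr, map_zero]
      · show F.ε n₀ ∈ LinearMap.ker (F.d 0)
        rw [F.exact_zero]
        exact ⟨n₀, rfl⟩
    set ζ : F.H a 0 := F.toH a 0 ⟨F.ε n₀, hcoc⟩ with hζ
    have hζdeg : ζ ∈ F.Hgr a 0 (d + e) := ⟨⟨F.ε n₀, hcoc⟩, F.ε_grHom (d + e) n₀ hn₀deg, rfl⟩
    have hζ0 : ζ ≠ 0 := by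
      intro h
      rw [hζ, toH_eq_zero_iff] at h
      have h' : F.ε n₀ ∈ (⊥ : Submodule R (F.X 0).carrier) := h
      rw [Submodule.mem_bot] at h'
      exact hn₀0 (F.ε_injective (by rw [h', map_zero]))
    have hξdeg : δ 0 ζ ∈ E.Hgr a (0 + 1) (d + e + -e) := hδ 0 (d + e) ζ hζdeg
    rw [add_neg_cancel_right] at hξdeg
    have hξ0 : δ 0 ζ ≠ 0 := by
      intro h
      obtain ⟨y, hy⟩ := (h2 0 ζ).mp h
      rw [H_zero_eq_zero E a hxa hreg y, map_zero] at hy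
      exact hζ0 hy.symm
    intro hbot
    have : δ 0 ζ ∈ E.Hcomp a 1 d := hξdeg
    rw [hbot, Submodule.mem_bot] at this
    exact hξ0 this

end C

end Groth.Agent.Lib.Helper87.SegOne
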