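import Groth.Agent.Lib.Helper99.GrSegre
import Groth.Agent.Lib.Helper87.GrNoethRel2

/-!
# Graded modules over graded algebras: annihilators, torsion-free homogeneous elements (helper87)
-/

set_option autoImplicit false
universe u

namespace Groth.Agent.Lib.Helper87

open DirectSum MvPolynomial
open Groth.Agent.Lib.Helper99 (coe_decompose_smul_of_mem exists_finset_homogeneous_span)

section ArtDim

/-- a finitely generated module whose support has dimension `≤ 0` over an algebra of finite type
over a field is Artinian -/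
theorem isArtinian_of_dim_zero (k : Type u) [Field k] {R : Type u} [CommRing R] [Algebra k R]
    [Algebra.FiniteType k R] {M : Type u} [AddCommGroup M] [Module R M] [Module k M]
    [IsScalarTower k R M] [Module.Finite R M]
    (h : ringKrullDim (R ⧸ Module.annihilator R M) ≤ 0) : IsArtinian R M := by
  haveI : Algebra.FiniteType k (R ⧸ Module.annihilator R M) :=
    Algebra.FiniteType.of_surjective (Ideal.Quotient.mkₐ k _) (Ideal.Quotient.mkₐ_surjective k _)
  have hfin : Module.Finite k (R ⧸ Module.annihilator R M) := by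
    rw [Module.finite_iff_krullDimLE_zero, Ring.krullDimLE_iff]
    exact_mod_cast h
  letI : Module (R ⧸ Module.annihilator R M) M := Module.quotientAnnihilator
  haveI : IsScalarTower R (R ⧸ Module.annihilator R M) M := inferInstance
  haveI : IsScalarTower k (R ⧸ Module.annihilator R M) M := by
    refine ⟨fun c q m => ?_⟩
    obtain ⟨r, rfl⟩ := Ideal.Quotient.mk_surjective q
    change (c • Ideal.Quotient.mk _ r) • m = c • (Ideal.Quotient.mk _ r • m)
    have h1 : c • Ideal.Quotient.mk (Module.annihilator R M) r =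
        Ideal.Quotient.mk (Module.annihilator R M) (c • r) := rfl
    rw [h1]
    change (c • r) • m = c • (r • m)
    rw [smul_assoc]
  haveI : Module.Finite (R ⧸ Module.annihilator R M) M :=
    Module.Finite.of_restrictScalars_finite R (R ⧸ Module.annihilator R M) M
  haveI : Module.Finite k M := Module.Finite.trans (R ⧸ Module.annihilator R M) M
  haveI : IsArtinian k M := inferInstance
  exact isArtinian_of_tower k inferInstance

end ArtDim

section Ann

variable {k : Type u} [Field k] {R : Type u} [CommRing R] [Algebra k R]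
  (𝒜 : ℤ → Submodule k R) [GradedAlgebra 𝒜]
  {M : Type u} [AddCommGroup M] [Module R M]
  (ℳ : ℤ → AddSubgroup M) [DirectSum.Decomposition ℳ] [SetLike.GradedSMul 𝒜 ℳ]

include ℳ in
/-- the annihilator of a graded module is a homogeneous ideal -/
theorem decompose_mem_annihilator {f : R} (hf : f ∈ Module.annihilator R M) (n : ℤ) :
    (decompose 𝒜 f n : R) ∈ Module.annihilator R M := by
  classical
  rw [Module.mem_annihilator] at hf ⊢
  intro m
  induction m using DirectSum.Decomposition.inductionOn ℳ with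
  | zero => rw [smul_zero]
  | @homogeneous j m =>
    have h := coe_decompose_smul_of_mem 𝒜 ℳ f m.2 (n + j)
    rw [hf, decompose_zero, add_sub_cancel_right] at h
    exact h.symm
  | add m m' hm hm' => rw [smul_add, hm, hm', add_zero]

end Ann

section NonTors

variable {k : Type u} [Field k] {R : Type u} [CommRing R] [Algebra k R]
  (𝒜 : ℤ → Submodule k R) [GradedAlgebra 𝒜]
  {M : Type u} [AddCommGroup M] [Module R M]
  (ℳ : ℤ → AddSubgroup M) [DirectSum.Decomposition ℳ] [SetLike.GradedSMul 𝒜 ℳ]
  {a : ℕ} (y : Fin a → R)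

/-- `m` is torsion-free for the action of `k[X₁,…,X_a]` through `y` -/
def NonTors (m : M) : Prop :=
  ∀ f : MvPolynomial (Fin a) k, (aeval y f : R) • m = 0 → f = 0

/-- the torsion elements form an `R`-submodule -/
def torsSub : Submodule R M where
  carrier := {m | ∃ f : MvPolynomial (Fin a) k, f ≠ 0 ∧ (aeval y f : R) • m = 0}
  add_mem' := by
    rintro m m' ⟨f, hf, hfm⟩ ⟨g, hg, hgm⟩
    refine ⟨f * g, mul_ne_zero hf hg, ?_⟩
    rw [map_mul, smul_add]
    have h1 : ((aeval y f : R) * (aeval y g : R)) • m = 0 := by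
      rw [mul_comm, mul_smul, hfm, smul_zero]
    have h2 : ((aeval y f : R) * (aeval y g : R)) • m' = 0 := by
      rw [mul_smul, hgm, smul_zero]
    rw [h1, h2, add_zero]
  zero_mem' := ⟨1, one_ne_zero, smul_zero _⟩
  smul_mem' := by
    rintro r m ⟨f, hf, hfm⟩
    exact ⟨f, hf, by rw [smul_comm, hfm, smul_zero]⟩

theorem mem_torsSub_iff_not_nonTors (m : M) : m ∈ torsSub (k := k) y ↔ ¬ NonTors (k := k) y m := by
  constructor
  · rintro ⟨f, hf, hfm⟩ h
    exact hf (h f hfm)
  · intro h
    unfold NonTors at h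
    push Not at h
    obtain ⟨f, hfm, hf⟩ := h
    exact ⟨f, hf, hfm⟩

include 𝒜 in
/-- a faithful finitely generated graded module has a torsion-free homogeneous element -/
theorem exists_homogeneous_nonTors [Module.Finite R M]
    (hfaith : ∀ f : MvPolynomial (Fin a) k, (aeval y f : R) ∈ Module.annihilator R M → f = 0) :
    ∃ (p : ℤ) (m : M), m ∈ ℳ p ∧ NonTors (k := k) y m := by
  classical
  -- homogeneous generators
  have htop : (⊤ : Submodule R M) = Submodule.span R {m : M | ∃ n, m ∈ ℳ n} := by
    symm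
    rw [eq_top_iff]
    intro m _
    rw [← DirectSum.sum_support_decompose ℳ m]
    exact Submodule.sum_mem _ fun i _ => Submodule.subset_span ⟨i, SetLike.coe_mem _⟩
  obtain ⟨u, deg, -, hudeg, hu⟩ := exists_finset_homogeneous_span (R := R) ℳ ⊤
    Module.Finite.fg_top {m : M | ∃ n, m ∈ ℳ n} (fun m hm => hm) htop
  by_contra hcon
  push Not at hcon
  have htors : ∀ m ∈ u, ∃ f : MvPolynomial (Fin a) k, f ≠ 0 ∧ (aeval y f : R) • m = 0 := by
    intro m hm
    have := hcon (deg m) m (hudeg m hm)
    exact (mem_torsSub_iff_not_nonTors y m).mpr this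
  choose! f hf0 hfm using htors
  have hF : (∏ m ∈ u, f m) ≠ 0 := Finset.prod_ne_zero_iff.mpr hf0
  apply hF
  apply hfaith
  rw [Module.mem_annihilator]
  intro m
  have hm : m ∈ Submodule.span R (u : Set M) := by rw [← hu]; exact Submodule.mem_top
  induction hm using Submodule.span_induction with
  | mem m hm =>
    rw [← Finset.mul_prod_erase u f hm, mul_comm, map_mul, mul_smul, hfm m hm, smul_zero]
  | zero => rw [smul_zero]
  | add m m' _ _ h h' => rw [smul_add, h, h', add_zero]
  | smul r m _ h => rw [smul_comm, h, smul_zero]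

/-- in a standard graded situation, a torsion-free homogeneous element has a torsion-free multiple
in the next degree -/
theorem exists_nonTors_succ (D : ℤ) (hD : 0 < D) (hy : ∀ i, y i ∈ 𝒜 D) (i₀ : Fin a)
    (hstd : Ideal.span (⋃ n ∈ Set.Ioi (0 : ℤ), (𝒜 n : Set R)) =
      Ideal.span ((𝒜 1 : Submodule k R) : Set R))
    {p : ℤ} {m : M} (hm : m ∈ ℳ p) (hnt : NonTors (k := k) y m) :
    ∃ m' : M, m' ∈ ℳ (p + 1) ∧ NonTors (k := k) y m' := by
  by_contra hcon
  push Not at hcon
  have h1 : ∀ l ∈ ((𝒜 1 : Submodule k R) : Set R), l • m ∈ torsSub (k := k) y := by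
    intro l hl
    rw [mem_torsSub_iff_not_nonTors]
    apply hcon
    have := SetLike.GradedSMul.smul_mem (A := 𝒜) (B := ℳ) hl hm
    rw [vadd_eq_add, add_comm] at this
    exact this
  have h2 : ∀ r ∈ Ideal.span ((𝒜 1 : Submodule k R) : Set R), r • m ∈ torsSub (k := k) y := by
    intro r hr
    induction hr using Submodule.span_induction with
    | mem l hl => exact h1 l hl
    | zero => rw [zero_smul]; exact Submodule.zero_mem _
    | add r r' _ _ h h' => rw [add_smul]; exact Submodule.add_mem _ h h'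
    | smul c r _ h => rw [smul_eq_mul, mul_smul]; exact Submodule.smul_mem _ c h
  have h3 : y i₀ ∈ Ideal.span ((𝒜 1 : Submodule k R) : Set R) := by
    rw [← hstd]
    apply Ideal.subset_span
    simp only [Set.mem_iUnion, Set.mem_Ioi]
    exact ⟨D, hD, hy i₀⟩
  obtain ⟨f, hf, hfm⟩ := h2 (y i₀) h3
  have h4 : (aeval y (f * X i₀) : R) • m = 0 := by
    rw [map_mul, aeval_X, mul_smul]
    exact hfm
  have h5 := hnt _ h4
  rcases mul_eq_zero.mp h5 with h | h
  · exact hf h
  · exact X_ne_zero i₀ h

include 𝒜 in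
/-- torsion-free homogeneous elements in all large degrees -/
theorem exists_nonTors_of_ge [Module.Finite R M] (D : ℤ) (hD : 0 < D) (hy : ∀ i, y i ∈ 𝒜 D)
    (i₀ : Fin a)
    (hstd : Ideal.span (⋃ n ∈ Set.Ioi (0 : ℤ), (𝒜 n : Set R)) =
      Ideal.span ((𝒜 1 : Submodule k R) : Set R))
    (hfaith : ∀ f : MvPolynomial (Fin a) k, (aeval y f : R) ∈ Module.annihilator R M → f = 0) :
    ∃ p₀ : ℤ, ∀ p : ℤ, p₀ ≤ p → ∃ m : M, m ∈ ℳ p ∧ NonTors (k := k) y m := by
  obtain ⟨p₀, m₀, hm₀, hnt₀⟩ := exists_homogeneous_nonTors 𝒜 ℳ y hfaith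
  refine ⟨p₀, fun p hp => ?_⟩
  induction p, hp using Int.le_induction with
  | base => exact ⟨m₀, hm₀, hnt₀⟩
  | succ p _ ih =>
    obtain ⟨m, hm, hnt⟩ := ih
    exact exists_nonTors_succ 𝒜 ℳ y D hD hy i₀ hstd hm hnt

end NonTors

end Groth.Agent.Lib.Helper87
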