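import Groth.Agent.Lib.Helper87.SegreCM5
import Groth.Agent.Lib.Helper87.SegreMod1
import Groth.Agent.Lib.Helper99.GrArt
import Groth.Agent.Lib.Helper39.GrQuot

/-!
# Homogeneous parameters on graded Cohen–Macaulay modules of dimension one (helper87)
-/

set_option autoImplicit false
universe u

namespace Groth.Agent.Lib.Helper87.SegOne

open DirectSum MvPolynomial
open Groth.Agent.Lib.Helper99 Groth.Agent.Lib.Helper39

section Reg

variable {k : Type u} [Field k] {R : Type u} [CommRing R] [Algebra k R]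
  (𝒜 : ℤ → Submodule k R) [GradedAlgebra 𝒜]
  {M : Type u} [AddCommGroup M] [Module R M] [Module k M] [IsScalarTower k R M]
  (ℳ : ℤ → AddSubgroup M) [DirectSum.Decomposition ℳ] [SetLike.GradedSMul 𝒜 ℳ]

/-- a homogeneous element which kills no non-zero homogeneous element is a non-zerodivisor -/
theorem isSMulRegular_of_homogeneous {E : ℤ} {a : R} (ha : a ∈ 𝒜 E)
    (h : ∀ d : ℤ, ∀ m ∈ ℳ d, a • m = 0 → m = 0) : IsSMulRegular M a := by
  classical
  rw [isSMulRegular_iff_right_eq_zero_of_smul]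
  intro m hm
  have hcomp : ∀ d : ℤ, (decompose ℳ m d : M) = 0 := by
    intro d
    apply h d _ (SetLike.coe_mem _)
    have h1 := coe_decompose_smul_of_left_mem 𝒜 ℳ ha m (d + E)
    rw [hm, decompose_zero, add_sub_cancel_right] at h1
    rw [← h1]
    rfl
  rw [← DirectSum.sum_support_decompose ℳ m]
  exact Finset.sum_eq_zero fun d _ => hcomp d

include ℳ in
/-- a homogeneous parameter of a graded Cohen–Macaulay module of dimension one is regular -/
theorem isSMulRegular_sop_one (hpos : ∀ n : ℤ, n < 0 → 𝒜 n = ⊥)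
    (h0 : 𝒜 0 = Submodule.span k {(1 : R)}) [Algebra.FiniteType k R] [Module.Finite R M]
    (hMcm : ∀ (q : Ideal R) [q.IsPrime], Subsingleton (LocalizedModule q.primeCompl M) ∨
      LocCoh.IsCohenMacaulayModule (Localization.AtPrime q) (LocalizedModule q.primeCompl M))
    (D : ℤ) (x : Fin 1 → R) (hx : ∀ i, x i ∈ 𝒜 D)
    (hind : AlgebraicIndependent k
      (fun i => Ideal.Quotient.mk (Module.annihilator R M) (x i)))
    (hint : (MvPolynomial.aeval (fun i => Ideal.Quotient.mk (Module.annihilator R M) (x i)) :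
      MvPolynomial (Fin 1) k →ₐ[k] R ⧸ Module.annihilator R M).toRingHom.IsIntegral) :
    IsSMulRegular M (x 0) := by
  apply isSMulRegular_of_homogeneous 𝒜 ℳ (hx 0)
  intro d m hm hm0
  by_contra hne
  have h1 := nonTors_of_cm 𝒜 ℳ hpos h0 hMcm D x hx hind hint hm hne
  have h2 := h1 (MvPolynomial.X 0) (by rw [MvPolynomial.aeval_X]; exact hm0)
  exact MvPolynomial.X_ne_zero _ h2

omit [DirectSum.Decomposition ℳ] in
theorem quotGradedSMul' (Q : Submodule R M) : SetLike.GradedSMul 𝒜 (quotPieces ℳ Q) where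
  smul_mem := by
    rintro i j a _ ha ⟨y, hy, rfl⟩
    refine ⟨a • y, SetLike.GradedSMul.smul_mem (A := 𝒜) (B := ℳ) ha hy, ?_⟩
    simp

/-- the quotient of `M` by a homogeneous parameter (dimension one) vanishes in high degrees -/
theorem exists_bound_quot (hpos : ∀ n : ℤ, n < 0 → 𝒜 n = ⊥)
    [Algebra.FiniteType k R] [Module.Finite R M]
    {E : ℤ} (x : Fin 1 → R) (hx : ∀ i, x i ∈ 𝒜 E)
    (hint : (MvPolynomial.aeval (fun i => Ideal.Quotient.mk (Module.annihilator R M) (x i)) :
      MvPolynomial (Fin 1) k →ₐ[k] R ⧸ Module.annihilator R M).toRingHom.IsIntegral) :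
    ∃ D₀ : ℤ, ∀ D : ℤ, D₀ < D → ∀ m ∈ ℳ D, ∃ m' ∈ ℳ (D - E), x 0 • m' = m := by
  classical
  set a : R := x 0 with ha
  set Q : Submodule R M := LinearMap.range (LinearMap.lsmul R M a) with hQdef
  have hQ : Q.IsHomogeneous ℳ := by
    rintro j _ ⟨m, rfl⟩
    refine ⟨(decompose ℳ m (j - E) : M), ?_⟩
    rw [LinearMap.lsmul_apply, LinearMap.lsmul_apply]
    exact (coe_decompose_smul_of_left_mem 𝒜 ℳ (hx 0) m j).symm
  letI := quotDecomposition ℳ Q hQ
  haveI := quotGradedSMul' 𝒜 ℳ Q
  -- the quotient is Artinian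
  have hdim : ringKrullDim (R ⧸ Module.annihilator R (M ⧸ Q)) ≤ 0 := by
    have h1 : Ring.KrullDimLE 0 (R ⧸ Module.annihilator R (M ⧸ Q)) := by
      apply Ring.KrullDimLE.mk₀
      intro Q' hQ'
      have hq : (Q'.comap (Ideal.Quotient.mk (Module.annihilator R (M ⧸ Q)))).IsPrime :=
        Ideal.comap_isPrime _ _
      have hle : Module.annihilator R (M ⧸ Q) ≤
          Q'.comap (Ideal.Quotient.mk (Module.annihilator R (M ⧸ Q))) := by
        intro r hr
        rw [Ideal.mem_comap, Ideal.Quotient.eq_zero_iff_mem.mpr hr]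
        exact Q'.zero_mem
      have hann : Module.annihilator R M ≤ Module.annihilator R (M ⧸ Q) := by
        intro r hr
        rw [Module.mem_annihilator] at hr ⊢
        intro z
        obtain ⟨m, rfl⟩ := Q.mkQ_surjective z
        rw [← map_smul, hr m, map_zero]
      have hamem : a ∈ Module.annihilator R (M ⧸ Q) := by
        rw [Module.mem_annihilator]
        intro z
        obtain ⟨m, rfl⟩ := Q.mkQ_surjective z
        rw [← map_smul, Submodule.mkQ_apply, Submodule.Quotient.mk_eq_zero]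
        exact ⟨m, rfl⟩
      have hmax := isMaximal_of_sop_le (k := k) (Module.annihilator R M) x hint
        (Q'.comap (Ideal.Quotient.mk (Module.annihilator R (M ⧸ Q)))) (hann.trans hle)
        (fun i => by
          have : i = 0 := Subsingleton.elim _ _
          rw [this]
          exact hle hamem)
      have hmap := Ideal.IsMaximal.map_of_surjective_of_ker_le
        (f := Ideal.Quotient.mk (Module.annihilator R (M ⧸ Q))) Ideal.Quotient.mk_surjective
        (m := Q'.comap (Ideal.Quotient.mk (Module.annihilator R (M ⧸ Q))))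
        (by rw [Ideal.mk_ker]; exact hle)
      rwa [Ideal.map_comap_of_surjective _ Ideal.Quotient.mk_surjective] at hmap
    exact_mod_cast Ring.krullDimLE_iff.mp h1
  haveI : IsArtinian R (M ⧸ Q) := isArtinian_of_dim_zero k hdim
  obtain ⟨c, hc⟩ := exists_piece_eq_zero_of_gt 𝒜 (quotPieces ℳ Q) hpos
  refine ⟨c, fun D hD m hm => ?_⟩
  have h1 : Q.mkQ m = 0 := hc D hD _ (mk_mem_quotPieces ℳ Q hm)
  rw [Submodule.mkQ_apply, Submodule.Quotient.mk_eq_zero] at h1
  obtain ⟨m'', hm''⟩ := h1
  rw [LinearMap.lsmul_apply] at hm''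
  refine ⟨(decompose ℳ m'' (D - E) : M), SetLike.coe_mem _, ?_⟩
  rw [← coe_decompose_smul_of_left_mem 𝒜 ℳ (hx 0) m'' D, hm'', decompose_of_mem_same ℳ hm]

end Reg

end Groth.Agent.Lib.Helper87.SegOne
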