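import Groth.Agent.Lib.Helper87.SegOne10
import Groth.Agent.Lib.Helper87.SegOne6

/-!
# The first graded local cohomology of a graded module of dimension one over a graded algebra
(helper87)
-/

set_option autoImplicit false
universe u

namespace Groth.Agent.Lib.Helper87.SegOne

open DirectSum GrLC
open Groth.Agent.Lib.Helper99 Groth.Agent.Lib.Helper39 Groth.Agent.Lib.Helper39.GrBridge

section Ge

variable {k : Type u} [Field k] {R : Type u} [CommRing R] [Algebra k R]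
  (𝒜 : ℤ → Submodule k R) [GradedAlgebra 𝒜]
  {M : Type u} [AddCommGroup M] [Module R M] [Module k M] [IsScalarTower k R M]
  (ℳ : ℤ → AddSubgroup M) [DirectSum.Decomposition ℳ] [SetLike.GradedSMul 𝒜 ℳ]

theorem smul_mem_geSub_of_mem_irr (hpos : ∀ n : ℤ, n < 0 → 𝒜 n = ⊥) {s : R} (hs : s ∈ irr 𝒜)
    {D : ℤ} {z : M} (hz : z ∈ geSub 𝒜 ℳ hpos D) : s • z ∈ geSub 𝒜 ℳ hpos (D + 1) := by
  unfold irr at hs
  induction hs using Submodule.span_induction with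
  | mem s hs =>
    simp only [Set.mem_iUnion, Set.mem_Ioi] at hs
    obtain ⟨e, he, hse⟩ := hs
    intro j hj
    rw [coe_decompose_smul_of_left_mem 𝒜 ℳ hse z j, hz (j - e) (by omega), smul_zero]
  | zero => rw [zero_smul]; exact Submodule.zero_mem _
  | add s s' _ _ hs hs' => rw [add_smul]; exact Submodule.add_mem _ hs hs'
  | smul b s _ hs => rw [smul_eq_mul, mul_smul]; exact Submodule.smul_mem _ _ hs

theorem smul_mem_geSub_of_mem_irr_pow (hpos : ∀ n : ℤ, n < 0 → 𝒜 n = ⊥) (c : ℕ) :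
    ∀ {r : R}, r ∈ irr 𝒜 ^ c → ∀ {D : ℤ} {z : M}, z ∈ geSub 𝒜 ℳ hpos D →
      r • z ∈ geSub 𝒜 ℳ hpos (D + c) := by
  induction c with
  | zero =>
    intro r _ D z hz
    rw [Nat.cast_zero, add_zero]
    exact Submodule.smul_mem _ _ hz
  | succ c ih =>
    intro r hr D z hz
    rw [pow_succ] at hr
    refine Submodule.mul_induction_on hr ?_ ?_
    · intro r' hr' s hs
      rw [mul_smul]
      have h1 := smul_mem_geSub_of_mem_irr 𝒜 ℳ hpos hs hz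
      have h2 := ih hr' h1
      have : D + 1 + (c : ℤ) = D + ((c + 1 : ℕ) : ℤ) := by push_cast; ring
      rwa [this] at h2
    · intro x y hx hy
      rw [add_smul]
      exact Submodule.add_mem _ hx hy

/-- if `M/aM` vanishes in high degrees then every homogeneous element of `M` is carried into
`aM` by a power of the irrelevant ideal -/
theorem exists_pow_smul_mem (hpos : ∀ n : ℤ, n < 0 → 𝒜 n = ⊥) {E : ℤ} {a : R}
    (hbound : ∃ D₀ : ℤ, ∀ D : ℤ, D₀ < D → ∀ m ∈ ℳ D, ∃ m' ∈ ℳ (D - E), a • m' = m)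
    {D : ℤ} {m₀ : M} (hm₀ : m₀ ∈ ℳ D) :
    ∃ c : ℕ, ∀ r ∈ irr 𝒜 ^ c, ∃ m' : M, a • m' = r • m₀ := by
  classical
  obtain ⟨D₀, hD₀⟩ := hbound
  refine ⟨(D₀ - D).toNat + 1, fun r hr => ?_⟩
  have hm₀ge : m₀ ∈ geSub 𝒜 ℳ hpos D := by
    intro j hj
    exact decompose_of_mem_ne ℳ hm₀ (by omega)
  have h1 := smul_mem_geSub_of_mem_irr_pow 𝒜 ℳ hpos _ hr hm₀ge
  have h2 : r • m₀ ∈ LinearMap.range (LinearMap.lsmul R M a) := by
    rw [← DirectSum.sum_support_decompose ℳ (r • m₀)]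
    refine Submodule.sum_mem _ fun j _ => ?_
    by_cases hj : j < D + (((D₀ - D).toNat + 1 : ℕ) : ℤ)
    · rw [h1 j hj]
      exact Submodule.zero_mem _
    · have hjD : D₀ < j := by
        have h3 : D₀ - D ≤ ((D₀ - D).toNat : ℤ) := Int.self_le_toNat _
        push_cast at hj
        omega
      obtain ⟨m', -, hm'⟩ := hD₀ j hjD _ (SetLike.coe_mem (decompose ℳ (r • m₀) j))
      exact ⟨m', hm'⟩
  obtain ⟨m', hm'⟩ := h2
  exact ⟨m', hm'⟩

end Ge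

section Conc

variable {k : Type u} [Field k] {R : Type u} [CommRing R] [Algebra k R]
  (𝒜 : ℤ → Submodule k R) [GradedAlgebra 𝒜]
  {M : Type u} [AddCommGroup M] [Module R M] [Module k M] [IsScalarTower k R M]
  (ℳ : ℤ → AddSubgroup M) [DirectSum.Decomposition ℳ] [SetLike.GradedSMul 𝒜 ℳ]

attribute [local instance] toSubGradedRing toSubDecomposition toSubGradedSMul

/-- **Step C, concretely.** -/
theorem hcomp_one_concrete (hpos : ∀ n : ℤ, n < 0 → 𝒜 n = ⊥) (EM : StarInjRes 𝒜 ℳ)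
    (mR : HomogeneousIdeal 𝒜) (hmR : mR.toIdeal = irr 𝒜) {E : ℤ} (hE : 0 < E) {a : R}
    (ha : a ∈ 𝒜 E) (hreg : IsSMulRegular M a)
    (hbound : ∃ D₀ : ℤ, ∀ D : ℤ, D₀ < D → ∀ m ∈ ℳ D, ∃ m' ∈ ℳ (D - E), a • m' = m) (d : ℤ) :
    (EM.Hcomp mR 1 d ≠ ⊥ → ∃ j : ℕ, 1 ≤ j ∧ ∃ m₀ ∈ ℳ (d + (j : ℤ) * E), ∀ m : M, a • m ≠ m₀) ∧
    ((∃ m₀ ∈ ℳ (d + E), ∀ m : M, a • m ≠ m₀) → EM.Hcomp mR 1 d ≠ ⊥) := by
  have hxa : a ∈ (convIdeal mR).toIdeal := by
    rw [convIdeal_toIdeal, hmR]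
    exact mem_irr_of_pos 𝒜 hE ha
  have key := hcomp_one (convRes EM) (convIdeal mR) (e := E) (x := a) ((mem_toSub 𝒜).mpr ha) hxa hreg d
  constructor
  · intro h
    have h' : (convRes EM).Hcomp (convIdeal mR) 1 d ≠ ⊥ := fun hb =>
      h ((convRes_Hcomp_eq_bot_iff EM mR 1 d).mp hb)
    obtain ⟨j, hj, m₀, hm₀, hm₀a⟩ := key.1 h'
    refine ⟨j, hj, m₀, ?_, hm₀a⟩
    rw [nsmul_eq_mul] at hm₀
    exact hm₀
  · rintro ⟨m₀, hm₀, hm₀a⟩ hb
    refine key.2 m₀ hm₀ hm₀a ?_ ((convRes_Hcomp_eq_bot_iff EM mR 1 d).mpr hb)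
    rw [convIdeal_toIdeal, hmR]
    exact exists_pow_smul_mem 𝒜 ℳ hpos hbound hm₀

end Conc

end Groth.Agent.Lib.Helper87.SegOne
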