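import Groth.Agent.Lib.Helper87.SegOne14
import Groth.Agent.Lib.Helper87.SegOne11

/-!
# Segre products with a factor of dimension one: Cohen–Macaulayness in terms of `H^1` (helper87)
-/

set_option autoImplicit false
universe u

namespace Groth.Agent.Lib.Helper87.SegOne

open DirectSum TensorProduct GrLC
open Groth.Agent.Lib.Helper99 Groth.Agent.Lib.Helper39

theorem exists_ne_zero_of_ne_bot {N : Type u} [AddCommGroup N] {H : AddSubgroup N} (h : H ≠ ⊥) :
    ∃ n ∈ H, n ≠ 0 := by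
  by_contra hcon
  push Not at hcon
  apply h
  rw [eq_bot_iff]
  intro n hn
  rw [AddSubgroup.mem_bot]
  exact hcon n hn

theorem ne_bot_of_exists_ne_zero {N : Type u} [AddCommGroup N] {H : AddSubgroup N}
    (h : ∃ n ∈ H, n ≠ 0) : H ≠ ⊥ := by
  obtain ⟨n, hn, hn0⟩ := h
  intro hb
  rw [hb, AddSubgroup.mem_bot] at hn
  exact hn0 hn

/-- **The Segre product of a graded Cohen–Macaulay module of dimension one with a graded
Cohen–Macaulay module of dimension `s`.** -/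
theorem main (k : Type u) [Field k] (R : Type u) [CommRing R] [Algebra k R]
    (𝒜 : ℤ → Submodule k R) [GradedAlgebra 𝒜] (hposR : ∀ n : ℤ, n < 0 → 𝒜 n = ⊥)
    (h0R : 𝒜 0 = Submodule.span k {(1 : R)}) [Algebra.FiniteType k R] (S : Type u) [CommRing S]
    [Algebra k S] (ℬ : ℤ → Submodule k S) [GradedAlgebra ℬ] (hposS : ∀ n : ℤ, n < 0 → ℬ n = ⊥)
    (h0S : ℬ 0 = Submodule.span k {(1 : S)}) [Algebra.FiniteType k S] (T : Type u) [CommRing T]
    [Algebra k T] (𝒯 : ℤ → Submodule k T) [GradedAlgebra 𝒯] (ψ : T →ₐ[k] R ⊗[k] S)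
    (hT : GrSeg.IsSegreRing 𝒜 ℬ 𝒯 ψ) (mR : HomogeneousIdeal 𝒜)
    (hmR : mR.toIdeal = Ideal.span (⋃ n ∈ Set.Ioi (0 : ℤ), (𝒜 n : Set R)))
    (M : Type u) [AddCommGroup M] [Module R M] [Module k M] [IsScalarTower k R M]
    (ℳ : ℤ → AddSubgroup M) [DirectSum.Decomposition ℳ] [SetLike.GradedSMul 𝒜 ℳ]
    [Module.Finite R M] (EM : GrLC.StarInjRes 𝒜 ℳ) (N : Type u) [AddCommGroup N] [Module S N]
    [Module k N]
    [IsScalarTower k S N] (𝒩 : ℤ → AddSubgroup N) [DirectSum.Decomposition 𝒩]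
    [SetLike.GradedSMul ℬ 𝒩] [Module.Finite S N] (P : Type u) [AddCommGroup P] [Module T P]
    [Module k P] [IsScalarTower k T P] (𝒬 : ℤ → AddSubgroup P) [DirectSum.Decomposition 𝒬]
    (φ : P →ₗ[k] M ⊗[k] N) (hP : GrSeg.IsSegreMod ψ ℳ 𝒩 𝒬 φ) [Nontrivial P] (s : ℕ)
    (h1s : 1 ≤ s)
    (hdM : Module.supportDim R M = 1) (hdN : Module.supportDim S N = s)
    (hMcm : ∀ (q : Ideal R) [q.IsPrime], Subsingleton (LocalizedModule q.primeCompl M) ∨
      LocCoh.IsCohenMacaulayModule (Localization.AtPrime q) (LocalizedModule q.primeCompl M))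
    (hNcm : ∀ (q : Ideal S) [q.IsPrime], Subsingleton (LocalizedModule q.primeCompl N) ∨
      LocCoh.IsCohenMacaulayModule (Localization.AtPrime q) (LocalizedModule q.primeCompl N)) :
    (2 ≤ s → ((∀ (q : Ideal T) [q.IsPrime], Subsingleton (LocalizedModule q.primeCompl P) ∨
        LocCoh.IsCohenMacaulayModule (Localization.AtPrime q)
          (LocalizedModule q.primeCompl P)) ↔
      ∀ d : ℤ, EM.Hcomp mR 1 d = ⊥ ∨ 𝒩 d = ⊥)) ∧
    (s = 1 → (∀ (q : Ideal T) [q.IsPrime], Subsingleton (LocalizedModule q.primeCompl P) ∨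
        LocCoh.IsCohenMacaulayModule (Localization.AtPrime q)
          (LocalizedModule q.primeCompl P))) := by
  classical
  obtain ⟨E, a, hE, ha, hareg, hbound, hNshift, hok, hs1, hfail⟩ :=
    core k R 𝒜 hposR h0R S ℬ hposS h0S T 𝒯 ψ hT M ℳ N 𝒩 P 𝒬 φ hP s h1s hdM hdN hMcm hNcm
  have hC := hcomp_one_concrete 𝒜 ℳ hposR EM mR hmR hE ha hareg hbound
  have hNshift' : ∀ (i : ℕ) (d : ℤ), (∃ n ∈ 𝒩 d, n ≠ 0) → ∃ n ∈ 𝒩 (d + (i : ℤ) * E), n ≠ 0 := by
    intro i
    induction i with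
    | zero =>
      intro d h
      rw [Nat.cast_zero, zero_mul, add_zero]
      exact h
    | succ i ih =>
      intro d h
      have h1 := hNshift _ (ih d h)
      have e : d + ((i + 1 : ℕ) : ℤ) * E = d + (i : ℤ) * E + E := by push_cast; ring
      rw [e]
      exact h1
  refine ⟨fun h2s => ⟨fun hpcm d => ?_, fun hcond => ?_⟩, hs1⟩
  · by_contra hcon
    push Not at hcon
    obtain ⟨hH, hN⟩ := hcon
    obtain ⟨j, hj, m₀, hm₀, hm₀a⟩ := (hC d).1 hH
    obtain ⟨j', rfl⟩ : ∃ j', j = j' + 1 := ⟨j - 1, by omega⟩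
    have hN' := hNshift' j' d (exists_ne_zero_of_ne_bot hN)
    have e : d + ((j' + 1 : ℕ) : ℤ) * E = d + (j' : ℤ) * E + E := by push_cast; ring
    rw [e] at hm₀
    exact (hfail ⟨d + (j' : ℤ) * E, hN', m₀, hm₀, hm₀a⟩).2 h2s hpcm
  · apply hok
    intro d hNd m' hm'
    by_contra hcon
    push Not at hcon
    have hm'a : ∀ m : M, a • m ≠ m' := by
      intro m hm
      refine hcon (decompose ℳ m d : M) (SetLike.coe_mem _) ?_
      have h1 := coe_decompose_smul_of_left_mem 𝒜 ℳ ha m (d + E)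
      rw [add_sub_cancel_right, hm, decompose_of_mem_same ℳ hm'] at h1
      exact h1.symm
    have hH := (hC d).2 ⟨m', hm', hm'a⟩
    rcases hcond d with h | h
    · exact hH h
    · exact ne_bot_of_exists_ne_zero hNd h

end Groth.Agent.Lib.Helper87.SegOne
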