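import Groth.Agent.Lib.Helper87.SegOne16

/-!
# Segre products of graded rings with a factor of dimension one: the core statement for rings
(helper87)
-/

set_option autoImplicit false
universe u

namespace Groth.Agent.Lib.Helper87.SegOne

open DirectSum TensorProduct GrLC
open Groth.Agent.Lib.Helper99 Groth.Agent.Lib.Helper39 Groth.Agent.Lib.Helper39.GrBridge
open Groth.Agent.Lib.Helper29

/-- **Core statement for rings.** -/
theorem core_ring (k : Type u) [Field k] (R : Type u) [CommRing R] [Algebra k R]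
    (𝒜 : ℤ → Submodule k R) [GradedAlgebra 𝒜] (hposR : ∀ n : ℤ, n < 0 → 𝒜 n = ⊥)
    (h0R : 𝒜 0 = Submodule.span k {(1 : R)}) [Algebra.FiniteType k R] (S : Type u) [CommRing S]
    [Algebra k S] (ℬ : ℤ → Submodule k S) [GradedAlgebra ℬ] (hposS : ∀ n : ℤ, n < 0 → ℬ n = ⊥)
    (h0S : ℬ 0 = Submodule.span k {(1 : S)}) [Algebra.FiniteType k S] (T : Type u) [CommRing T]
    [Algebra k T] (𝒯 : ℤ → Submodule k T) [GradedAlgebra 𝒯] (ψ : T →ₐ[k] R ⊗[k] S)
    (hψ : Function.Injective ψ)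
    (hdegT : ∀ n : ℤ, (𝒯 n).map ψ.toLinearMap =
      Submodule.span k {x : R ⊗[k] S | ∃ a ∈ 𝒜 n, ∃ b ∈ ℬ n, x = a ⊗ₜ[k] b})
    [LocCoh.IsCohenMacaulayRing R] [LocCoh.IsCohenMacaulayRing S]
    (hr : ringKrullDim R = 1) (s : ℕ) (hs : ringKrullDim S = s) (h1s : 1 ≤ s) :
    ∃ (E : ℤ) (a : R), 0 < E ∧ a ∈ 𝒜 E ∧ IsSMulRegular R a ∧
      ((∀ d : ℤ, (∃ n ∈ ℬ d, n ≠ 0) → ∀ m' ∈ 𝒜 (d + E), ∃ m ∈ 𝒜 d, a * m = m') →
        LocCoh.IsCohenMacaulayRing T) ∧
      ((∃ d : ℤ, (∃ n ∈ ℬ d, n ≠ 0) ∧ ∃ m₀ ∈ 𝒜 (d + E), ∀ m : R, a * m ≠ m₀) →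
        2 ≤ s → ¬ LocCoh.IsCohenMacaulayRing T) := by
  classical
  letI : DirectSum.Decomposition (toSub 𝒜) := toSubDecomposition 𝒜
  letI : DirectSum.Decomposition (toSub ℬ) := toSubDecomposition ℬ
  letI : DirectSum.Decomposition (toSub 𝒯) := toSubDecomposition 𝒯
  haveI : SetLike.GradedSMul 𝒜 (toSub 𝒜) :=
    ⟨fun {i j a b} ha hb => SetLike.GradedMul.mul_mem (A := 𝒜) ha hb⟩
  haveI : SetLike.GradedSMul ℬ (toSub ℬ) :=
    ⟨fun {i j a b} ha hb => SetLike.GradedMul.mul_mem (A := ℬ) ha hb⟩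
  have hT : GrSeg.IsSegreRing 𝒜 ℬ 𝒯 ψ := ⟨hψ, hdegT⟩
  have hP : GrSeg.IsSegreMod ψ (toSub 𝒜) (toSub ℬ) (toSub 𝒯) ψ.toLinearMap :=
    { injective := hψ
      image_piece := fun n => by
        have h1 := hdegT n
        have h2 : (ψ.toLinearMap '' ((toSub 𝒯 n : AddSubgroup T) : Set T)) =
            (((𝒯 n).map ψ.toLinearMap : Submodule k (R ⊗[k] S)) : Set (R ⊗[k] S)) := rfl
        rw [h2, h1]
        rfl
      map_smul := fun t p => by
        rw [act_self]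
        exact map_mul ψ t p }
  have hRnt : Nontrivial R := by
    by_contra hcon
    rw [not_nontrivial_iff_subsingleton] at hcon
    rw [ringKrullDim_eq_bot_of_subsingleton] at hr
    exact absurd hr (by decide)
  have hSnt : Nontrivial S := by
    by_contra hcon
    rw [not_nontrivial_iff_subsingleton] at hcon
    rw [ringKrullDim_eq_bot_of_subsingleton] at hs
    exact absurd hs.symm WithBot.coe_ne_bot
  haveI : Nontrivial (R ⊗[k] S) :=
    Algebra.TensorProduct.nontrivial_of_algebraMap_injective_of_flat_left (R := k) (A := R)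
      (B := S) (algebraMap k S).injective
  haveI : Nontrivial T := by
    by_contra hcon
    rw [not_nontrivial_iff_subsingleton] at hcon
    have h1 : ψ 1 = ψ 0 := congrArg ψ (Subsingleton.elim _ _)
    rw [map_one, map_zero] at h1
    exact one_ne_zero h1
  haveI : IsNoetherianRing T := isNoetherianRing_segre 𝒜 ℬ 𝒯 hposR ψ hψ hdegT
  have hdM : Module.supportDim R R = 1 := by
    rw [Module.supportDim_self_eq_ringKrullDim]; exact hr
  have hdN : Module.supportDim S S = s := by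
    rw [Module.supportDim_self_eq_ringKrullDim]; exact hs
  obtain ⟨E, a, hE, ha, hareg, -, -, hok, -, hfail⟩ :=
    core k R 𝒜 hposR h0R S ℬ hposS h0S T 𝒯 ψ hT R (toSub 𝒜) S (toSub ℬ) T
    (toSub 𝒯) ψ.toLinearMap hP s h1s hdM hdN
    (fun q _ => Or.inr (cmModule_self_of_cmRing R q))
    (fun q _ => Or.inr (cmModule_self_of_cmRing S q))
  refine ⟨E, a, hE, ha, hareg, ?_, ?_⟩
  · intro H'
    apply cmRing_of_cmModule_self T
    apply hok
    intro d hd m' hm'
    exact H' d hd m' hm'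
  · rintro ⟨d, hd, m₀, hm₀, hm₀a⟩ h2s hcm
    refine (hfail ⟨d, hd, m₀, hm₀, hm₀a⟩).2 h2s ?_
    exact fun q _ => Or.inr (cmModule_self_of_cmRing T q)

end Groth.Agent.Lib.Helper87.SegOne
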