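import Groth.Agent.Lib.Helper87.SegOne17
import Mathlib.RingTheory.KrullDimension.Polynomial
import Mathlib.RingTheory.PrincipalIdealDomain
import Mathlib.RingTheory.Polynomial.Basic

/-!
# `R # S` is Cohen–Macaulay iff `R` is a polynomial ring (`dim R = 1`, `dim S ≥ 2`, standard
graded) (helper87)
-/

set_option autoImplicit false
universe u

namespace Groth.Agent.Lib.Helper87.SegOne

open DirectSum TensorProduct Polynomial

section Std

variable {k : Type u} [Field k] {R : Type u} [CommRing R] [Algebra k R]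
  (𝒜 : ℤ → Submodule k R) [GradedAlgebra 𝒜]

/-- in a standard graded algebra whose degree one piece is spanned by `x`, the piece of degree
`n` is spanned by `x ^ n` -/
theorem std_piece (h0 : 𝒜 0 = Submodule.span k {(1 : R)})
    (hstd : Ideal.span (⋃ n ∈ Set.Ioi (0 : ℤ), (𝒜 n : Set R)) =
      Ideal.span ((𝒜 1 : Submodule k R) : Set R)) {x : R} (hx : x ∈ 𝒜 1)
    (h1 : ∀ z ∈ 𝒜 1, ∃ c : k, z = c • x) :
    ∀ n : ℕ, ∀ z ∈ 𝒜 (n : ℤ), ∃ c : k, z = c • x ^ n := by
  intro n
  induction n with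
  | zero =>
    intro z hz
    rw [Nat.cast_zero, h0, Submodule.mem_span_singleton] at hz
    obtain ⟨c, rfl⟩ := hz
    exact ⟨c, by rw [pow_zero]⟩
  | succ n ih =>
    intro z hz
    have hzirr : z ∈ irr 𝒜 := mem_irr_of_pos 𝒜 (by push_cast; omega) hz
    have hle : irr 𝒜 ≤ Ideal.span {x} := by
      unfold irr
      rw [hstd, Ideal.span_le]
      intro g hg
      obtain ⟨c, rfl⟩ := h1 g hg
      rw [SetLike.mem_coe, Ideal.mem_span_singleton']
      exact ⟨algebraMap k R c, by rw [Algebra.smul_def]⟩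
    obtain ⟨w, hw⟩ := Ideal.mem_span_singleton'.mp (hle hzirr)
    have h2 := DirectSum.coe_decompose_mul_add_of_right_mem 𝒜 (i := (n : ℤ)) (a := w) hx
    rw [hw] at h2
    have hz' : z ∈ 𝒜 ((n : ℤ) + 1) := by
      have e : ((n + 1 : ℕ) : ℤ) = (n : ℤ) + 1 := by push_cast; ring
      rwa [e] at hz
    rw [decompose_of_mem_same 𝒜 hz'] at h2
    obtain ⟨c, hc⟩ := ih _ (SetLike.coe_mem (decompose 𝒜 w n))
    refine ⟨c, ?_⟩
    rw [h2, hc, smul_mul_assoc, pow_succ]

theorem pow_mem_piece {x : R} (hx : x ∈ 𝒜 1) (n : ℕ) : x ^ n ∈ 𝒜 (n : ℤ) := by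
  have := SetLike.pow_mem_graded n hx
  rwa [nsmul_eq_mul, mul_one] at this

end Std

theorem exists_nat_ringKrullDim (k : Type u) [Field k] (S : Type u) [CommRing S] [Algebra k S]
    [Algebra.FiniteType k S] [Nontrivial S] : ∃ s : ℕ, ringKrullDim S = s := by
  obtain ⟨n, f, hf⟩ := Algebra.FiniteType.iff_quotient_mvPolynomial''.mp
    (inferInstance : Algebra.FiniteType k S)
  have h1 : ringKrullDim S ≤ ringKrullDim (MvPolynomial (Fin n) k) :=
    ringKrullDim_le_of_surjective f.toRingHom hf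
  rw [MvPolynomial.ringKrullDim_of_isNoetherianRing, ringKrullDim_eq_zero_of_field, zero_add,
    Nat.card_eq_fintype_card, Fintype.card_fin] at h1
  have h2 : ringKrullDim S ≠ ⊥ := by
    intro h
    have h0 : (0 : WithBot ℕ∞) ≤ ringKrullDim S := ringKrullDim_nonneg_of_nontrivial
    rw [h] at h0
    exact absurd h0 (by decide)
  have h3 : ringKrullDim S ≠ ⊤ := by
    intro h
    rw [h] at h1
    exact Groth.Agent.Lib.Helper29.natCast_ne_top_withBot n (top_le_iff.mp h1)
  exact Groth.Agent.Lib.Helper29.exists_nat_eq_of_ne_bot_of_ne_top h2 h3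

/-- **S18664.** -/
theorem segre_cm_iff_polynomial (k : Type u) [Field k] (R : Type u) [CommRing R] [Algebra k R]
    (𝒜 : ℤ → Submodule k R) [GradedAlgebra 𝒜] (hposR : ∀ n : ℤ, n < 0 → 𝒜 n = ⊥)
    (h0R : 𝒜 0 = Submodule.span k {(1 : R)}) [Algebra.FiniteType k R] (S : Type u) [CommRing S]
    [Algebra k S] (ℬ : ℤ → Submodule k S) [GradedAlgebra ℬ] (hposS : ∀ n : ℤ, n < 0 → ℬ n = ⊥)
    (h0S : ℬ 0 = Submodule.span k {(1 : S)}) [Algebra.FiniteType k S] (T : Type u) [CommRing T]
    [Algebra k T] (𝒯 : ℤ → Submodule k T) [GradedAlgebra 𝒯] (ψ : T →ₐ[k] R ⊗[k] S)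
    (hψ : Function.Injective ψ)
    (hdegT : ∀ n : ℤ, (𝒯 n).map ψ.toLinearMap =
      Submodule.span k {x : R ⊗[k] S | ∃ a ∈ 𝒜 n, ∃ b ∈ ℬ n, x = a ⊗ₜ[k] b})
    [LocCoh.IsCohenMacaulayRing R] [LocCoh.IsCohenMacaulayRing S]
    (hstdR : Ideal.span (⋃ n ∈ Set.Ioi (0 : ℤ), (𝒜 n : Set R)) =
      Ideal.span ((𝒜 1 : Submodule k R) : Set R))
    (hr : ringKrullDim R = 1) (hs : 2 ≤ ringKrullDim S) :
    LocCoh.IsCohenMacaulayRing T ↔ Nonempty (R ≃ₐ[k] Polynomial k) := by
  classical
  have hRnt : Nontrivial R := by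
    by_contra hcon
    rw [not_nontrivial_iff_subsingleton] at hcon
    rw [ringKrullDim_eq_bot_of_subsingleton] at hr
    exact absurd hr (by decide)
  have hSnt : Nontrivial S := by
    by_contra hcon
    rw [not_nontrivial_iff_subsingleton] at hcon
    rw [ringKrullDim_eq_bot_of_subsingleton] at hs
    exact absurd hs (by decide)
  obtain ⟨s, hs'⟩ := exists_nat_ringKrullDim k S
  have h2s : 2 ≤ s := by
    rw [hs'] at hs
    exact_mod_cast hs
  obtain ⟨E, a, hE, ha, hareg, hok, hfail⟩ := core_ring k R 𝒜 hposR h0R S ℬ hposS h0S T 𝒯 ψ hψ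
    hdegT hr s hs' (by omega)
  have ha0 : a ≠ 0 := by
    intro h
    have h1 : (1 : R) = 0 := hareg (by show a • (1 : R) = a • 0; rw [h, zero_smul, zero_smul])
    exact one_ne_zero h1
  obtain ⟨E', hE'⟩ : ∃ E' : ℕ, E = E' := ⟨E.toNat, (Int.toNat_of_nonneg hE.le).symm⟩
  have hE'pos : 0 < E' := by
    rw [hE'] at hE
    exact_mod_cast hE
  have hBnonneg : ∀ d : ℤ, (∃ n ∈ ℬ d, n ≠ 0) → 0 ≤ d := by
    rintro d ⟨n, hn, hn0⟩
    by_contra hd
    push Not at hd
    rw [hposS d hd, Submodule.mem_bot] at hn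
    exact hn0 hn
  constructor
  · intro hcm
    have h1 : ∀ m₀ ∈ 𝒜 E, ∃ c : k, m₀ = c • a := by
      intro m₀ hm₀
      by_contra hcon
      refine hfail ⟨0, ⟨1, SetLike.GradedOne.one_mem, one_ne_zero⟩, m₀, by rwa [zero_add], ?_⟩
        h2s hcm
      intro m hm
      apply hcon
      have h2 := DirectSum.coe_decompose_mul_add_of_left_mem 𝒜 (j := 0) (b := m) ha
      rw [hm, add_zero, decompose_of_mem_same 𝒜 hm₀] at h2
      have h3 : ((decompose 𝒜 m) 0 : R) ∈ Submodule.span k {(1 : R)} := by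
        rw [← h0R]
        exact SetLike.coe_mem _
      obtain ⟨c, hc⟩ := Submodule.mem_span_singleton.mp h3
      exact ⟨c, by rw [h2, ← hc, mul_smul_comm, mul_one]⟩
    -- a non-nilpotent element of degree one
    obtain ⟨x, hx, hxnil⟩ : ∃ x ∈ 𝒜 1, ¬ IsNilpotent x := by
      by_contra hcon
      push Not at hcon
      have hle : irr 𝒜 ≤ nilradical R := by
        unfold irr
        rw [hstdR, Ideal.span_le]
        intro g hg
        exact mem_nilradical.mpr (hcon g hg)
      have hanil : IsNilpotent a := mem_nilradical.mp (hle (mem_irr_of_pos 𝒜 hE ha))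
      obtain ⟨n, hn⟩ := hanil
      have h2 : (1 : R) = 0 := (hareg.pow n) (by
        show a ^ n • (1 : R) = a ^ n • 0
        rw [hn, zero_smul, zero_smul])
      exact one_ne_zero h2
    have hxE : x ^ E' ∈ 𝒜 E := by
      rw [hE']
      exact pow_mem_piece 𝒜 hx E'
    obtain ⟨c, hc⟩ := h1 _ hxE
    have hc0 : c ≠ 0 := by
      intro h
      rw [h, zero_smul] at hc
      exact hxnil ⟨E', hc⟩
    have hxEreg : IsSMulRegular R (x ^ E') := by
      rw [hc]
      intro r r' hrr'
      simp only [smul_eq_mul, Algebra.smul_mul_assoc] at hrr'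
      have h2 : a * r = a * r' := by
        have := congrArg (fun z => c⁻¹ • z) hrr'
        simpa [smul_smul, inv_mul_cancel₀ hc0] using this
      exact hareg h2
    have hxreg : IsSMulRegular R x := by
      obtain ⟨E'', rfl⟩ : ∃ E'', E' = E'' + 1 := ⟨E' - 1, by omega⟩
      rw [pow_succ] at hxEreg
      exact IsSMulRegular.of_mul hxEreg
    have hx1 : ∀ z ∈ 𝒜 1, ∃ c : k, z = c • x := by
      intro z hz
      obtain ⟨E'', hE''⟩ : ∃ E'', E' = E'' + 1 := ⟨E' - 1, by omega⟩
      have hmem : x ^ E'' * z ∈ 𝒜 E := by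
        have h2 := SetLike.GradedMul.mul_mem (A := 𝒜) (pow_mem_piece 𝒜 hx E'') hz
        have e : ((E'' : ℤ) + 1) = E := by rw [hE', hE'']; push_cast; ring
        rwa [e] at h2
      obtain ⟨c', hc'⟩ := h1 _ hmem
      have ha' : a = c⁻¹ • x ^ E' := by rw [hc, smul_smul, inv_mul_cancel₀ hc0, one_smul]
      refine ⟨c' * c⁻¹, ?_⟩
      apply (hxreg.pow E'')
      show x ^ E'' • z = x ^ E'' • ((c' * c⁻¹) • x)
      rw [smul_eq_mul, smul_eq_mul, hc', ha', hE'', pow_succ, smul_smul, mul_smul_comm]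
    have hpiece := std_piece 𝒜 h0R hstdR hx hx1
    have hxpow0 : ∀ n : ℕ, x ^ n ≠ 0 := by
      intro n h
      have h2 : (1 : R) = 0 := (hxreg.pow n) (by
        show x ^ n • (1 : R) = x ^ n • 0
        rw [h, zero_smul, zero_smul])
      exact one_ne_zero h2
    have hsurj : Function.Surjective (Polynomial.aeval x : k[X] →ₐ[k] R) := by
      intro r
      have hcomp : ∀ i : ℤ, ((decompose 𝒜 r) i : R) ∈ (Polynomial.aeval x : k[X] →ₐ[k] R).range := by
        intro i
        by_cases hi : i < 0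
        · have h2 : ((decompose 𝒜 r) i : R) ∈ (⊥ : Submodule k R) := by
            rw [← hposR i hi]
            exact SetLike.coe_mem _
          rw [(Submodule.mem_bot k).mp h2]
          exact Subalgebra.zero_mem _
        · push Not at hi
          obtain ⟨n, rfl⟩ := Int.eq_ofNat_of_zero_le hi
          obtain ⟨c'', hc''⟩ := hpiece n _ (SetLike.coe_mem (decompose 𝒜 r n))
          rw [hc'']
          refine ⟨Polynomial.C c'' * Polynomial.X ^ n, ?_⟩
          simp [Algebra.smul_def]
      have h3 : r ∈ (Polynomial.aeval x : k[X] →ₐ[k] R).range := by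
        rw [← DirectSum.sum_support_decompose 𝒜 r]
        exact Subalgebra.sum_mem _ fun i _ => hcomp i
      exact h3
    have hinj : Function.Injective (Polynomial.aeval x : k[X] →ₐ[k] R) := by
      rw [injective_iff_map_eq_zero]
      intro p hp
      rw [Polynomial.aeval_eq_sum_range] at hp
      ext m
      rw [Polynomial.coeff_zero]
      have h4 : ((decompose 𝒜 (∑ i ∈ Finset.range (p.natDegree + 1), p.coeff i • x ^ i))
          (m : ℤ) : R) = 0 := by
        rw [hp, decompose_zero]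
        rfl
      rw [decompose_sum, DFinsupp.finset_sum_apply, AddSubmonoidClass.coe_finset_sum] at h4
      have hterm : ∀ i : ℕ, ((decompose 𝒜 (p.coeff i • x ^ i)) (m : ℤ) : R) =
          if i = m then p.coeff m • x ^ m else 0 := by
        intro i
        have hmem : p.coeff i • x ^ i ∈ 𝒜 (i : ℤ) :=
          Submodule.smul_mem _ _ (pow_mem_piece 𝒜 hx i)
        split_ifs with h
        · subst h
          exact decompose_of_mem_same 𝒜 hmem
        · exact decompose_of_mem_ne 𝒜 hmem (by exact_mod_cast h)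
      rw [Finset.sum_congr rfl (fun i _ => hterm i), Finset.sum_ite_eq'] at h4
      by_cases hm : m ∈ Finset.range (p.natDegree + 1)
      · rw [if_pos hm] at h4
        rcases smul_eq_zero.mp h4 with h | h
        · exact h
        · exact absurd h (hxpow0 m)
      · apply Polynomial.coeff_eq_zero_of_natDegree_lt
        rw [Finset.mem_range] at hm
        omega
    exact ⟨(AlgEquiv.ofBijective (Polynomial.aeval x : k[X] →ₐ[k] R) ⟨hinj, hsurj⟩).symm⟩
  · rintro ⟨e⟩
    haveI : IsPrincipalIdealRing R :=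
      IsPrincipalIdealRing.of_surjective e.symm.toRingEquiv.toRingHom e.symm.surjective
    obtain ⟨f, hf⟩ := (IsPrincipalIdealRing.principal (irr 𝒜)).principal
    have hfirr : f ∈ irr 𝒜 := by
      rw [hf]
      exact Submodule.mem_span_singleton_self f
    set x : R := ((decompose 𝒜 f) 1 : R) with hxdef
    have hx : x ∈ 𝒜 1 := SetLike.coe_mem _
    have hx1 : ∀ z ∈ 𝒜 1, ∃ c : k, z = c • x := by
      intro z hz
      have hzirr : z ∈ irr 𝒜 := mem_irr_of_pos 𝒜 one_pos hz
      rw [hf] at hzirr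
      obtain ⟨g, hg⟩ := Submodule.mem_span_singleton.mp hzirr
      rw [smul_eq_mul] at hg
      have h2 : ((decompose 𝒜 (g * f)) 1 : R) =
          ∑ j ∈ DFinsupp.support (decompose 𝒜 f),
            ((decompose 𝒜 g) (1 - j) : R) * (decompose 𝒜 f j : R) := by
        have hg' : g * f = ∑ j ∈ DFinsupp.support (decompose 𝒜 f),
            g * (decompose 𝒜 f j : R) := by
          rw [← Finset.mul_sum, DirectSum.sum_support_decompose]
        rw [hg', decompose_sum, DFinsupp.finset_sum_apply, AddSubmonoidClass.coe_finset_sum]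
        refine Finset.sum_congr rfl fun j _ => ?_
        have h3 := DirectSum.coe_decompose_mul_add_of_right_mem 𝒜 (i := 1 - j) (a := g)
          (SetLike.coe_mem (decompose 𝒜 f j))
        rw [sub_add_cancel] at h3
        exact h3
      have h4 : ∀ j ∈ DFinsupp.support (decompose 𝒜 f), j ≠ 1 →
          ((decompose 𝒜 g) (1 - j) : R) * (decompose 𝒜 f j : R) = 0 := by
        intro j _ hj1
        rcases lt_trichotomy j 1 with h | h | h
        · have h5 : (decompose 𝒜 f j : R) = 0 := by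
            rcases lt_or_eq_of_le (show j ≤ 0 by omega) with h' | h'
            · have h6 : (decompose 𝒜 f j : R) ∈ (⊥ : Submodule k R) := by
                rw [← hposR j h']
                exact SetLike.coe_mem _
              exact (Submodule.mem_bot k).mp h6
            · rw [h']
              exact decompose_zero_of_mem_irr 𝒜 hposR hfirr
          rw [h5, mul_zero]
        · exact absurd h hj1
        · have h6 : ((decompose 𝒜 g) (1 - j) : R) ∈ (⊥ : Submodule k R) := by
            rw [← hposR (1 - j) (by omega)]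
            exact SetLike.coe_mem _
          rw [(Submodule.mem_bot k).mp h6, zero_mul]
      have h7 : z = ((decompose 𝒜 g) 0 : R) * x := by
        have h8 : ((decompose 𝒜 z) 1 : R) = z := decompose_of_mem_same 𝒜 hz
        rw [← h8, ← hg, h2]
        by_cases h1supp : (1 : ℤ) ∈ DFinsupp.support (decompose 𝒜 f)
        · rw [Finset.sum_eq_single_of_mem 1 h1supp h4, sub_self]
        · rw [Finset.sum_eq_zero (fun j hj => h4 j hj (fun h => h1supp (h ▸ hj)))]
          have h9 : decompose 𝒜 f 1 = 0 := DFinsupp.notMem_support_iff.mp h1supp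
          rw [hxdef, h9]
          simp
      have h10 : ((decompose 𝒜 g) 0 : R) ∈ Submodule.span k {(1 : R)} := by
        rw [← h0R]
        exact SetLike.coe_mem _
      obtain ⟨c, hc⟩ := Submodule.mem_span_singleton.mp h10
      exact ⟨c, by rw [h7, ← hc, smul_mul_assoc, one_mul]⟩
    have hpiece := std_piece 𝒜 h0R hstdR hx hx1
    apply hok
    intro d hd m' hm'
    have hd0 := hBnonneg d hd
    obtain ⟨d', rfl⟩ := Int.eq_ofNat_of_zero_le hd0
    have hm'2 : m' ∈ 𝒜 (((d' + E' : ℕ)) : ℤ) := by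
      have e2 : (((d' + E' : ℕ)) : ℤ) = (d' : ℤ) + E := by rw [hE']; push_cast; ring
      rwa [e2]
    obtain ⟨c', hc'⟩ := hpiece _ m' hm'2
    have ha2 : a ∈ 𝒜 ((E' : ℕ) : ℤ) := by rwa [← hE']
    obtain ⟨c, hc⟩ := hpiece _ a ha2
    have hc0 : c ≠ 0 := by
      intro h
      rw [h, zero_smul] at hc
      exact ha0 hc
    refine ⟨(c⁻¹ * c') • x ^ d', Submodule.smul_mem _ _ (pow_mem_piece 𝒜 hx d'), ?_⟩
    rw [hc', hc, smul_mul_smul_comm, ← pow_add, ← mul_assoc, mul_inv_cancel₀ hc0, one_mul,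
      add_comm]

end Groth.Agent.Lib.Helper87.SegOne
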