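import Groth.Agent.Lib.Helper99.GrSegre2

/-!
# Segre products of modules: factorwise multiplications and bigraded projections (helper87)
-/

set_option autoImplicit false
universe u

namespace Groth.Agent.Lib.Helper87.SegOne

open DirectSum TensorProduct
open Groth.Agent.Lib.Helper99

section Mul

variable {k : Type u} [Field k] {R S : Type u} [CommRing R] [CommRing S] [Algebra k R] [Algebra k S]
  {M N : Type u} [AddCommGroup M] [Module R M] [Module k M] [IsScalarTower k R M]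
  [AddCommGroup N] [Module S N] [Module k N] [IsScalarTower k S N]

variable (k N) in
/-- multiplication by `r : R` on the left factor of `M ⊗ N` -/
noncomputable def lM (r : R) : M ⊗[k] N →ₗ[k] M ⊗[k] N :=
  LinearMap.rTensor N (Algebra.lsmul k k M r)

variable (k M) in
/-- multiplication by `s : S` on the right factor of `M ⊗ N` -/
noncomputable def lN (s : S) : M ⊗[k] N →ₗ[k] M ⊗[k] N :=
  LinearMap.lTensor M (Algebra.lsmul k k N s)

@[simp] theorem lM_tmul (r : R) (m : M) (n : N) : lM k N r (m ⊗ₜ[k] n) = (r • m) ⊗ₜ[k] n := by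
  simp [lM]

@[simp] theorem lN_tmul (s : S) (m : M) (n : N) : lN k M s (m ⊗ₜ[k] n) = m ⊗ₜ[k] (s • n) := by
  simp [lN]

theorem act_tmul_eq (r : R) (s : S) (z : M ⊗[k] N) :
    GrSeg.act k R S M N (r ⊗ₜ[k] s) z = lM k N r (lN k M s z) := by
  induction z using TensorProduct.induction_on with
  | zero => simp
  | tmul m n => rw [GrSeg.act_tmul, lN_tmul, lM_tmul]
  | add z z' hz hz' => rw [map_add, map_add, map_add, hz, hz']

theorem lM_lN_comm (r : R) (s : S) (z : M ⊗[k] N) :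
    lM k N r (lN k M s z) = lN k M s (lM k N r z) := by
  induction z using TensorProduct.induction_on with
  | zero => simp
  | tmul m n => simp
  | add z z' hz hz' => rw [map_add, map_add, map_add, map_add, hz, hz']

theorem lM_injective {r : R} (hr : IsSMulRegular M r) :
    Function.Injective (lM k N r : M ⊗[k] N →ₗ[k] M ⊗[k] N) := by
  apply Module.Flat.rTensor_preserves_injective_linearMap
  intro x y hxy
  exact hr hxy

theorem lN_injective {s : S} (hs : IsSMulRegular N s) :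
    Function.Injective (lN k M s : M ⊗[k] N →ₗ[k] M ⊗[k] N) := by
  apply Module.Flat.lTensor_preserves_injective_linearMap
  intro x y hxy
  exact hs hxy

theorem lN_mul (s s' : S) (z : M ⊗[k] N) : lN k M (s * s') z = lN k M s (lN k M s' z) := by
  induction z using TensorProduct.induction_on with
  | zero => simp
  | tmul m n => simp [mul_smul]
  | add z z' hz hz' => rw [map_add, map_add, map_add, hz, hz']

end Mul

section Pieces

variable {k : Type u} [Field k] {R S T : Type u} [CommRing R] [CommRing S] [CommRing T]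
  [Algebra k R] [Algebra k S] [Algebra k T]
  (𝒜 : ℤ → Submodule k R) [GradedAlgebra 𝒜] (ℬ : ℤ → Submodule k S) [GradedAlgebra ℬ]
  (𝒯 : ℤ → Submodule k T) [GradedAlgebra 𝒯]
  {M N P : Type u} [AddCommGroup M] [Module R M] [Module k M] [IsScalarTower k R M]
  [AddCommGroup N] [Module S N] [Module k N] [IsScalarTower k S N]
  [AddCommGroup P] [Module T P] [Module k P] [IsScalarTower k T P]
  (ℳ : ℤ → AddSubgroup M) [DirectSum.Decomposition ℳ] [SetLike.GradedSMul 𝒜 ℳ]
  (𝒩 : ℤ → AddSubgroup N) [DirectSum.Decomposition 𝒩] [SetLike.GradedSMul ℬ 𝒩]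
  (𝒬 : ℤ → AddSubgroup P) [DirectSum.Decomposition 𝒬]

/-- the span of the tensors `m ⊗ n` with `m ∈ M_d`, `n ∈ N_e` -/
def piece2 (d e : ℤ) : Submodule k (M ⊗[k] N) :=
  Submodule.span k {x : M ⊗[k] N | ∃ a ∈ ℳ d, ∃ b ∈ 𝒩 e, x = a ⊗ₜ[k] b}

omit [DirectSum.Decomposition ℳ] [DirectSum.Decomposition 𝒩] in
theorem piece2_self (d : ℤ) : piece2 (k := k) ℳ 𝒩 d d = GrSeg.segrePiece k ℳ 𝒩 d := rfl

/-- the bigraded projection -/
noncomputable def prMN (d e : ℤ) : M ⊗[k] N →ₗ[k] M ⊗[k] N :=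
  TensorProduct.map (prK 𝒜 ℳ d) (prK ℬ 𝒩 e)

theorem prMN_mem (d e : ℤ) (x : M ⊗[k] N) : prMN 𝒜 ℬ ℳ 𝒩 d e x ∈ piece2 (k := k) ℳ 𝒩 d e := by
  induction x using TensorProduct.induction_on with
  | zero => rw [map_zero]; exact Submodule.zero_mem _
  | tmul m n =>
    refine Submodule.subset_span ⟨_, ?_, _, ?_, rfl⟩
    · rw [prK_apply]; exact SetLike.coe_mem _
    · rw [prK_apply]; exact SetLike.coe_mem _
  | add x x' hx hx' => rw [map_add]; exact Submodule.add_mem _ hx hx'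

theorem prMN_of_mem {d e : ℤ} {x : M ⊗[k] N} (hx : x ∈ piece2 (k := k) ℳ 𝒩 d e) :
    prMN 𝒜 ℬ ℳ 𝒩 d e x = x := by
  induction hx using Submodule.span_induction with
  | mem x hx =>
    obtain ⟨a, ha, b, hb, rfl⟩ := hx
    simp only [prMN, TensorProduct.map_tmul, prK_apply]
    rw [decompose_of_mem_same ℳ ha, decompose_of_mem_same 𝒩 hb]
  | zero => rw [map_zero]
  | add x x' _ _ hx hx' => rw [map_add, hx, hx']
  | smul c x _ hx => rw [map_smul, hx]

theorem prMN_of_mem_ne {d e d' e' : ℤ} (hne : d' ≠ d ∨ e' ≠ e) {x : M ⊗[k] N}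
    (hx : x ∈ piece2 (k := k) ℳ 𝒩 d' e') : prMN 𝒜 ℬ ℳ 𝒩 d e x = 0 := by
  induction hx using Submodule.span_induction with
  | mem x hx =>
    obtain ⟨a, ha, b, hb, rfl⟩ := hx
    simp only [prMN, TensorProduct.map_tmul, prK_apply]
    rcases hne with h | h
    · rw [decompose_of_mem_ne ℳ ha h, TensorProduct.zero_tmul]
    · rw [decompose_of_mem_ne 𝒩 hb h, TensorProduct.tmul_zero]
  | zero => rw [map_zero]
  | add x x' _ _ hx hx' => rw [map_add, hx, hx', add_zero]
  | smul c x _ hx => rw [map_smul, hx, smul_zero]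

theorem prMN_lN {E : ℤ} {y : S} (hy : y ∈ ℬ E) (d e : ℤ) (x : M ⊗[k] N) :
    prMN 𝒜 ℬ ℳ 𝒩 d e (lN k M y x) = lN k M y (prMN 𝒜 ℬ ℳ 𝒩 d (e - E) x) := by
  induction x using TensorProduct.induction_on with
  | zero => simp
  | tmul m n =>
    simp only [prMN, lN_tmul, TensorProduct.map_tmul, prK_apply]
    rw [coe_decompose_smul_of_left_mem ℬ 𝒩 hy n e]
  | add x x' hx hx' => simp only [map_add, hx, hx']

omit [DirectSum.Decomposition ℳ] [DirectSum.Decomposition 𝒩] [SetLike.GradedSMul ℬ 𝒩] in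
theorem eq_zero_of_mem_piece2_right {d e : ℤ} (he : ∀ n ∈ 𝒩 e, n = 0) {x : M ⊗[k] N}
    (hx : x ∈ piece2 (k := k) ℳ 𝒩 d e) : x = 0 := by
  induction hx using Submodule.span_induction with
  | mem x hx =>
    obtain ⟨a, ha, b, hb, rfl⟩ := hx
    rw [he b hb, TensorProduct.tmul_zero]
  | zero => rfl
  | add x x' _ _ hx hx' => rw [hx, hx', add_zero]
  | smul c x _ hx => rw [hx, smul_zero]

omit [DirectSum.Decomposition ℳ] [DirectSum.Decomposition 𝒩] [SetLike.GradedSMul ℬ 𝒩] in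
theorem exists_lM_eq_of_mem_piece2 {d d' e : ℤ} {a : R}
    (hsurj : ∀ m' ∈ ℳ d, ∃ m ∈ ℳ d', a • m = m') {x : M ⊗[k] N}
    (hx : x ∈ piece2 (k := k) ℳ 𝒩 d e) :
    ∃ x' ∈ piece2 (k := k) ℳ 𝒩 d' e, lM k N a x' = x := by
  induction hx using Submodule.span_induction with
  | mem x hx =>
    obtain ⟨m', hm', b, hb, rfl⟩ := hx
    obtain ⟨m, hm, rfl⟩ := hsurj m' hm'
    exact ⟨m ⊗ₜ[k] b, Submodule.subset_span ⟨m, hm, b, hb, rfl⟩, lM_tmul a m b⟩
  | zero => exact ⟨0, Submodule.zero_mem _, map_zero _⟩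
  | add x x' _ _ hx hx' =>
    obtain ⟨z, hz, rfl⟩ := hx
    obtain ⟨z', hz', rfl⟩ := hx'
    exact ⟨z + z', Submodule.add_mem _ hz hz', map_add _ _ _⟩
  | smul c x _ hx =>
    obtain ⟨z, hz, rfl⟩ := hx
    exact ⟨c • z, Submodule.smul_mem _ c hz, map_smul _ _ _⟩

end Pieces

end Groth.Agent.Lib.Helper87.SegOne
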