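import Groth.Agent.Lib.Helper87.SegOne3
import Mathlib.RingTheory.Regular.RegularSequence

/-!
# Regular sequences on a Segre product with one factor of dimension one (helper87)
-/

set_option autoImplicit false
universe u

namespace Groth.Agent.Lib.Helper87.SegOne

open DirectSum TensorProduct RingTheory.Sequence
open Groth.Agent.Lib.Helper99

section Lmem

variable {A : Type u} [CommRing A] {X : Type u} [AddCommGroup X] [Module A X]

theorem mem_take_ofFn {s : ℕ} (f : Fin s → A) (i : ℕ) (r : A) :
    r ∈ (List.ofFn f).take i ↔ ∃ j : Fin s, (j : ℕ) < i ∧ f j = r := by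
  rw [List.mem_take_iff_getElem]
  constructor
  · rintro ⟨j, hj, rfl⟩
    rw [List.length_ofFn] at hj
    refine ⟨⟨j, (lt_min_iff.mp hj).2⟩, (lt_min_iff.mp hj).1, ?_⟩
    rw [List.getElem_ofFn]
  · rintro ⟨j, hj, rfl⟩
    refine ⟨j, ?_, ?_⟩
    · rw [List.length_ofFn]
      exact lt_min hj j.2
    · rw [List.getElem_ofFn]

/-- Membership in `(f 0, …, f (i-1)) X`. -/
theorem mem_ofList_take_smul_top {s : ℕ} (f : Fin s → A) (i : ℕ) (x : X) :
    x ∈ Ideal.ofList ((List.ofFn f).take i) • (⊤ : Submodule A X) ↔
      ∃ c : Fin s → X, x = ∑ j : Fin s, if (j : ℕ) < i then f j • c j else 0 := by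
  classical
  constructor
  · intro hx
    refine Submodule.smul_induction_on hx ?_ ?_
    · intro r hr m _
      have key : ∀ m : X, ∃ c : Fin s → X,
          r • m = ∑ j : Fin s, if (j : ℕ) < i then f j • c j else 0 := by
        unfold Ideal.ofList at hr
        induction hr using Submodule.span_induction with
        | mem r hr =>
          intro m
          obtain ⟨j, hj, rfl⟩ := (mem_take_ofFn f i r).mp hr
          refine ⟨fun j' => if j' = j then m else 0, ?_⟩
          rw [Finset.sum_eq_single j]
          · simp only [if_pos hj, if_true]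
          · intro j' _ hne
            simp only [if_neg hne, smul_zero, ite_self]
          · intro h
            exact absurd (Finset.mem_univ j) h
        | zero =>
          intro m
          exact ⟨fun _ => 0, by simp⟩
        | add r r' _ _ hr hr' =>
          intro m
          obtain ⟨c, hc⟩ := hr m
          obtain ⟨c', hc'⟩ := hr' m
          refine ⟨fun j => c j + c' j, ?_⟩
          rw [add_smul, hc, hc', ← Finset.sum_add_distrib]
          refine Finset.sum_congr rfl fun j _ => ?_
          split_ifs
          · rw [smul_add]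
          · rw [add_zero]
        | smul b r _ hr =>
          intro m
          obtain ⟨c, hc⟩ := hr (b • m)
          refine ⟨c, ?_⟩
          rw [smul_eq_mul, mul_comm, mul_smul, hc]
      exact key m
    · rintro x x' ⟨c, hc⟩ ⟨c', hc'⟩
      refine ⟨fun j => c j + c' j, ?_⟩
      rw [hc, hc', ← Finset.sum_add_distrib]
      refine Finset.sum_congr rfl fun j _ => ?_
      split_ifs
      · rw [smul_add]
      · rw [add_zero]
  · rintro ⟨c, rfl⟩
    refine Submodule.sum_mem _ fun j _ => ?_
    split_ifs with hj
    · refine Submodule.smul_mem_smul ?_ Submodule.mem_top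
      exact Ideal.subset_span ((mem_take_ofFn f i (f j)).mpr ⟨j, hj, rfl⟩)
    · exact Submodule.zero_mem _

end Lmem

section Tensor

variable {k : Type u} [Field k] {S : Type u} [CommRing S] [Algebra k S]
  {M N : Type u} [AddCommGroup M] [Module k M]
  [AddCommGroup N] [Module S N] [Module k N] [IsScalarTower k S N]

theorem isWeaklyRegular_tensor (ys : List S) (h : IsWeaklyRegular N ys) :
    IsWeaklyRegular (N ⊗[k] M) ys := by
  have e := TensorProduct.AlgebraTensorModule.cancelBaseChange k S S N M
  have h1 : IsWeaklyRegular (N ⊗[S] (S ⊗[k] M)) ys := h.isWeaklyRegular_rTensor (M₂ := S ⊗[k] M)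
  exact (e.isWeaklyRegular_congr ys).mp h1

theorem comm_lN (s : S) (z : M ⊗[k] N) :
    TensorProduct.comm k M N (lN k M s z) = s • TensorProduct.comm k M N z := by
  induction z using TensorProduct.induction_on with
  | zero => simp
  | tmul m n => rw [lN_tmul, TensorProduct.comm_tmul, TensorProduct.comm_tmul, TensorProduct.smul_tmul']
  | add z z' hz hz' => rw [map_add, map_add, map_add, smul_add, hz, hz']

/-- Regularity of a sequence on the right factor of `M ⊗ N`, in terms of sums. -/
theorem exists_eq_sum_lN {s : ℕ} (y : Fin s → S) (hyreg : IsWeaklyRegular N (List.ofFn y))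
    (i : Fin s) (z : M ⊗[k] N) (c : Fin s → M ⊗[k] N)
    (h : lN k M (y i) z = ∑ j : Fin s, if (j : ℕ) < (i : ℕ) then lN k M (y j) (c j) else 0) :
    ∃ c' : Fin s → M ⊗[k] N,
      z = ∑ j : Fin s, if (j : ℕ) < (i : ℕ) then lN k M (y j) (c' j) else 0 := by
  have hX := isWeaklyRegular_tensor (M := M) (k := k) _ hyreg
  have hi : (i : ℕ) < (List.ofFn y).length := by rw [List.length_ofFn]; exact i.2
  have h1 := hX.regular_mod_prev (i : ℕ) hi
  rw [isSMulRegular_quotient_iff_mem_of_smul_mem] at h1
  have h2 : (List.ofFn y)[(i : ℕ)] = y i := by rw [List.getElem_ofFn]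
  rw [h2] at h1
  have h3 : y i • TensorProduct.comm k M N z ∈
      Ideal.ofList ((List.ofFn y).take (i : ℕ)) • (⊤ : Submodule S (N ⊗[k] M)) := by
    rw [mem_ofList_take_smul_top]
    refine ⟨fun j => TensorProduct.comm k M N (c j), ?_⟩
    rw [← comm_lN, h, map_sum]
    refine Finset.sum_congr rfl fun j _ => ?_
    split_ifs
    · rw [comm_lN]
    · rw [map_zero]
  have h4 := h1 _ h3
  rw [mem_ofList_take_smul_top] at h4
  obtain ⟨c', hc'⟩ := h4
  refine ⟨fun j => (TensorProduct.comm k M N).symm (c' j), ?_⟩
  apply (TensorProduct.comm k M N).injective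
  rw [hc', map_sum]
  refine Finset.sum_congr rfl fun j _ => ?_
  split_ifs
  · rw [comm_lN, LinearEquiv.apply_symm_apply]
  · rw [map_zero]

end Tensor

end Groth.Agent.Lib.Helper87.SegOne
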