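import Groth.Agent.Lib.Helper87.SegOne4

/-!
# The regular sequence `a ⊗ y_j` on a Segre product (helper87)
-/

set_option autoImplicit false
universe u

namespace Groth.Agent.Lib.Helper87.SegOne

open DirectSum TensorProduct RingTheory.Sequence
open Groth.Agent.Lib.Helper99

section Seg

variable {k : Type u} [Field k] {R S T : Type u} [CommRing R] [CommRing S] [CommRing T]
  [Algebra k R] [Algebra k S] [Algebra k T]
  (𝒜 : ℤ → Submodule k R) [GradedAlgebra 𝒜] (ℬ : ℤ → Submodule k S) [GradedAlgebra ℬ]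
  (𝒯 : ℤ → Submodule k T) [GradedAlgebra 𝒯]
  {M N P : Type u} [AddCommGroup M] [Module R M] [Module k M] [IsScalarTower k R M]
  [AddCommGroup N] [Module S N] [Module k N] [IsScalarTower k S N]
  [AddCommGroup P] [Module T P] [Module k P] [IsScalarTower k T P]
  (ℳ : ℤ → AddSubgroup M) [DirectSum.Decomposition ℳ] [SetLike.GradedSMul 𝒜 ℳ]
  (𝒩 : ℤ → AddSubgroup N) [DirectSum.Decomposition 𝒩] [SetLike.GradedSMul ℬ 𝒩]
  (𝒬 : ℤ → AddSubgroup P) [DirectSum.Decomposition 𝒬]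
  (ψ : T →ₐ[k] R ⊗[k] S) (hT : GrSeg.IsSegreRing 𝒜 ℬ 𝒯 ψ)
  (φ : P →ₗ[k] M ⊗[k] N) (hP : GrSeg.IsSegreMod ψ ℳ 𝒩 𝒬 φ)

include hP in
/-- **A-core.**  If `a` (of degree `E`) is regular on `M`, `y` (all of degree `E`) is a weakly
regular sequence on `N`, and multiplication by `a : M_d → M_{d+E}` is surjective whenever
`N_d ≠ 0`, then the elements `t_j` lifting `a ⊗ y_j` form a weakly regular sequence on the
Segre product `P`. -/
theorem isWeaklyRegular_t {s : ℕ} {E : ℤ} {a : R} (_ha : a ∈ 𝒜 E) (hareg : IsSMulRegular M a)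
    (y : Fin s → S) (hy : ∀ j, y j ∈ ℬ E) (hyreg : IsWeaklyRegular N (List.ofFn y))
    (t : Fin s → T) (ht : ∀ j, ψ (t j) = a ⊗ₜ[k] y j)
    (H' : ∀ d : ℤ, (∃ n ∈ 𝒩 d, n ≠ 0) → ∀ m' ∈ ℳ (d + E), ∃ m ∈ ℳ d, a • m = m') :
    IsWeaklyRegular P (List.ofFn t) := by
  classical
  rw [RingTheory.Sequence.isWeaklyRegular_iff]
  intro i hi
  have hi' : i < s := by rwa [List.length_ofFn] at hi
  rw [isSMulRegular_quotient_iff_mem_of_smul_mem]
  have h2 : (List.ofFn t)[i] = t ⟨i, hi'⟩ := by rw [List.getElem_ofFn]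
  rw [h2]
  intro w hw
  rw [mem_ofList_take_smul_top] at hw
  obtain ⟨c, hc⟩ := hw
  have h3 : lN k M (y ⟨i, hi'⟩) (φ w) =
      ∑ j : Fin s, if (j : ℕ) < i then lN k M (y j) (φ (c j)) else 0 := by
    apply lM_injective (k := k) (N := N) hareg
    rw [← phi_smul ℳ 𝒩 𝒬 ψ φ hP (ht _), hc, map_sum, map_sum]
    refine Finset.sum_congr rfl fun j _ => ?_
    split_ifs
    · rw [phi_smul ℳ 𝒩 𝒬 ψ φ hP (ht j)]
    · rw [map_zero, map_zero]
  obtain ⟨z, hz⟩ := exists_eq_sum_lN y hyreg ⟨i, hi'⟩ (φ w) (fun j => φ (c j)) h3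
  have hcomp : ∀ d : ℤ, (decompose 𝒬 w d : P) ∈
      Ideal.ofList ((List.ofFn t).take i) • (⊤ : Submodule T P) := by
    intro d
    rw [mem_ofList_take_smul_top]
    have h4 : φ (decompose 𝒬 w d : P) = ∑ j : Fin s,
        if (j : ℕ) < i then lN k M (y j) (prMN 𝒜 ℬ ℳ 𝒩 d (d - E) (z j)) else 0 := by
      rw [phi_decompose 𝒜 ℬ ℳ 𝒩 𝒬 ψ φ hP, hz, map_sum]
      refine Finset.sum_congr rfl fun j _ => ?_
      split_ifs
      · rw [prMN_lN 𝒜 ℬ ℳ 𝒩 (hy j)]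
      · rw [map_zero]
    by_cases hne : ∃ n ∈ 𝒩 (d - E), n ≠ 0
    · have hs := H' (d - E) hne
      rw [sub_add_cancel] at hs
      have h5 : ∀ j : Fin s, ∃ p ∈ 𝒬 (d - E),
          lM k N a (φ p) = prMN 𝒜 ℬ ℳ 𝒩 d (d - E) (z j) := by
        intro j
        obtain ⟨x', hx', hx'e⟩ := exists_lM_eq_of_mem_piece2 (k := k) ℳ 𝒩 hs
          (prMN_mem 𝒜 ℬ ℳ 𝒩 d (d - E) (z j))
        obtain ⟨p, hp, hpe⟩ := exists_phi_eq ℳ 𝒩 𝒬 ψ φ hP hx'
        exact ⟨p, hp, by rw [hpe, hx'e]⟩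
      choose p hp hpe using h5
      refine ⟨p, ?_⟩
      apply hP.injective
      rw [h4, map_sum]
      refine Finset.sum_congr rfl fun j _ => ?_
      split_ifs
      · rw [phi_smul ℳ 𝒩 𝒬 ψ φ hP (ht j), lM_lN_comm, hpe]
      · rw [map_zero]
    · push Not at hne
      refine ⟨fun _ => 0, ?_⟩
      apply hP.injective
      rw [h4, map_sum]
      refine Finset.sum_congr rfl fun j _ => ?_
      split_ifs
      · rw [smul_zero, map_zero, eq_zero_of_mem_piece2_right ℳ 𝒩 hne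
          (prMN_mem 𝒜 ℬ ℳ 𝒩 d (d - E) (z j)), map_zero]
      · rw [map_zero]
  rw [← DirectSum.sum_support_decompose 𝒬 w]
  exact Submodule.sum_mem _ fun d _ => hcomp d

end Seg

end Groth.Agent.Lib.Helper87.SegOne
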