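import Groth.Agent.Lib.Helper87.SegOne6
import Groth.Agent.Lib.Helper87.SegOne4
import Groth.Agent.Lib.Helper29.DepthCM
import Mathlib.Algebra.Module.LocalizedModule.Submodule

/-!
# Homogeneous systems of parameters of graded Cohen–Macaulay modules are regular sequences
(helper87)
-/

set_option autoImplicit false
universe u

namespace Groth.Agent.Lib.Helper87.SegOne

open DirectSum MvPolynomial RingTheory.Sequence
open Groth.Agent.Lib.Helper99 Groth.Agent.Lib.Helper39

section Desc

variable {k : Type u} [Field k] {S : Type u} [CommRing S] [Algebra k S]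
  (ℬ : ℤ → Submodule k S) [GradedAlgebra ℬ]
  {N : Type u} [AddCommGroup N] [Module S N] [Module k N] [IsScalarTower k S N]
  (𝒩 : ℤ → AddSubgroup N) [DirectSum.Decomposition 𝒩] [SetLike.GradedSMul ℬ 𝒩]

include 𝒩 in
/-- weak regularity of a sequence of homogeneous elements of the same degree descends from the
localization at the irrelevant ideal -/
theorem isWeaklyRegular_of_localized (hpos : ∀ n : ℤ, n < 0 → ℬ n = ⊥)
    (h0 : ℬ 0 = Submodule.span k {(1 : S)}) [hprime : (irr ℬ).IsPrime] {s : ℕ} {D : ℤ}
    (y : Fin s → S) (hy : ∀ j, y j ∈ ℬ D)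
    (hloc : IsWeaklyRegular (LocalizedModule (irr ℬ).primeCompl N)
      (List.ofFn fun j => algebraMap S (Localization.AtPrime (irr ℬ)) (y j))) :
    IsWeaklyRegular N (List.ofFn y) := by
  classical
  rw [RingTheory.Sequence.isWeaklyRegular_iff]
  intro i hi
  have hi' : i < s := by rwa [List.length_ofFn] at hi
  rw [isSMulRegular_quotient_iff_mem_of_smul_mem]
  have h2 : (List.ofFn y)[i] = y ⟨i, hi'⟩ := by rw [List.getElem_ofFn]
  rw [h2]
  set y' : Fin s → Localization.AtPrime (irr ℬ) :=
    fun j => algebraMap S (Localization.AtPrime (irr ℬ)) (y j) with hy'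
  set ι := LocalizedModule.mkLinearMap (irr ℬ).primeCompl N with hι
  set L : Submodule S N := Ideal.ofList ((List.ofFn y).take i) • ⊤ with hL
  set L' : Submodule (Localization.AtPrime (irr ℬ)) (LocalizedModule (irr ℬ).primeCompl N) :=
    Ideal.ofList ((List.ofFn y').take i) • ⊤ with hL'
  have hLhom : ∀ z ∈ L, ∀ d : ℤ, (decompose 𝒩 z d : N) ∈ L := by
    intro z hz d
    rw [hL, mem_ofList_take_smul_top] at hz ⊢
    obtain ⟨c, rfl⟩ := hz
    refine ⟨fun j => (decompose 𝒩 (c j) (d - D) : N), ?_⟩
    rw [decompose_sum, DFinsupp.finset_sum_apply, AddSubmonoidClass.coe_finset_sum]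
    refine Finset.sum_congr rfl fun j _ => ?_
    split_ifs
    · exact coe_decompose_smul_of_left_mem ℬ 𝒩 (hy j) (c j) d
    · rw [decompose_zero]; rfl
  have hLL' : ∀ z ∈ L, ι z ∈ L' := by
    intro z hz
    rw [hL] at hz
    refine Submodule.smul_induction_on hz ?_ ?_
    · intro r hr n _
      have e : ι (r • n) = algebraMap S (Localization.AtPrime (irr ℬ)) r • ι n := by
        rw [algebraMap_smul, map_smul]
      rw [e]
      refine Submodule.smul_mem_smul ?_ Submodule.mem_top
      have e2 : Ideal.ofList ((List.ofFn y').take i) =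
          (Ideal.ofList ((List.ofFn y).take i)).map
            (algebraMap S (Localization.AtPrime (irr ℬ))) := by
        rw [Ideal.map_ofList, List.map_take, List.map_ofFn]
        rfl
      rw [e2]
      exact Ideal.mem_map_of_mem _ hr
    · intro z z' hz hz'
      rw [map_add]
      exact Submodule.add_mem _ hz hz'
  have hL'le : L' ≤ L.localized' (Localization.AtPrime (irr ℬ)) (irr ℬ).primeCompl ι := by
    rw [hL', Submodule.smul_le]
    intro r hr z _
    unfold Ideal.ofList at hr
    induction hr using Submodule.span_induction generalizing z with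
    | mem r hr =>
      obtain ⟨j, hj, rfl⟩ := (mem_take_ofFn y' i r).mp hr
      induction z using LocalizedModule.induction_on with
      | h n u =>
        rw [Submodule.mem_localized']
        refine ⟨y j • n, ?_, u, ?_⟩
        · refine Submodule.smul_mem_smul ?_ Submodule.mem_top
          exact Ideal.subset_span ((mem_take_ofFn y i (y j)).mpr ⟨j, hj, rfl⟩)
        · rw [← IsLocalizedModule.mk_eq_mk', hy']
          simp only
          rw [algebraMap_smul, LocalizedModule.smul'_mk]
    | zero => rw [zero_smul]; exact Submodule.zero_mem _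
    | add r r' _ _ hr hr' =>
      rw [add_smul]
      exact Submodule.add_mem _ (hr z Submodule.mem_top) (hr' z Submodule.mem_top)
    | smul b r _ hr =>
      rw [smul_eq_mul, mul_smul]
      exact Submodule.smul_mem _ _ (hr z Submodule.mem_top)
  have hL'L : ∀ z : N, ι z ∈ L' → ∃ v : S, v ∉ irr ℬ ∧ v • z ∈ L := by
    intro z hz
    have h1 := hL'le hz
    rw [Submodule.mem_localized'] at h1
    obtain ⟨n, hn, u, hnu⟩ := h1
    rw [IsLocalizedModule.mk'_eq_iff] at hnu
    have h3 : ι n = ι ((u : S) • z) := by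
      rw [hnu, map_smul]
      rfl
    obtain ⟨c, hc⟩ := IsLocalizedModule.exists_of_eq (S := (irr ℬ).primeCompl) h3
    refine ⟨(c : S) * (u : S), ?_, ?_⟩
    · exact ((irr ℬ).primeCompl.mul_mem c.2 u.2)
    · rw [mul_smul]
      have : (c : S) • (u : S) • z = (c : S) • n := hc.symm
      rw [this]
      exact Submodule.smul_mem _ _ hn
  have hreg := hloc.regular_mod_prev i (by rw [List.length_ofFn]; exact hi')
  rw [isSMulRegular_quotient_iff_mem_of_smul_mem] at hreg
  have h2' : (List.ofFn y')[i]'(by rw [List.length_ofFn]; exact hi') = y' ⟨i, hi'⟩ := by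
    rw [List.getElem_ofFn]
  rw [h2'] at hreg
  have hhom : ∀ d : ℤ, ∀ w ∈ 𝒩 d, y ⟨i, hi'⟩ • w ∈ L → w ∈ L := by
    intro d w hwd hw
    have h4 : y' ⟨i, hi'⟩ • ι w ∈ L' := by
      have : y' ⟨i, hi'⟩ • ι w = ι (y ⟨i, hi'⟩ • w) := by
        rw [hy']
        simp only
        rw [algebraMap_smul, map_smul]
      rw [this]
      exact hLL' _ hw
    obtain ⟨v, hv, hvw⟩ := hL'L w (hreg _ h4)
    have h5 := hLhom _ hvw d
    rw [coe_decompose_smul_of_mem ℬ 𝒩 v hwd d, sub_self] at h5
    have h6 : ((decompose ℬ v) 0 : S) ∈ Submodule.span k {(1 : S)} := by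
      rw [← h0]
      exact SetLike.coe_mem _
    rw [Submodule.mem_span_singleton] at h6
    obtain ⟨c, hc⟩ := h6
    have hc0 : c ≠ 0 := by
      intro hc0
      rw [hc0, zero_smul] at hc
      exact hv (mem_irr_of_decompose_zero ℬ hpos hc.symm)
    rw [← hc, smul_assoc, one_smul] at h5
    have h7 : w = c⁻¹ • (c • w) := by rw [smul_smul, inv_mul_cancel₀ hc0, one_smul]
    rw [h7, ← algebraMap_smul S c⁻¹ (c • w)]
    exact Submodule.smul_mem _ _ h5
  intro w hw
  have hcomp : ∀ d : ℤ, (decompose 𝒩 w d : N) ∈ L := by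
    intro d
    apply hhom d _ (SetLike.coe_mem _)
    have h8 := hLhom _ hw (d + D)
    rwa [coe_decompose_smul_of_left_mem ℬ 𝒩 (hy _) w (d + D), add_sub_cancel_right] at h8
  rw [← DirectSum.sum_support_decompose 𝒩 w]
  exact Submodule.sum_mem _ fun d _ => hcomp d

end Desc

end Groth.Agent.Lib.Helper87.SegOne
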