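import Groth.Agent.Lib.Helper87.SegreCM1
import Mathlib.RingTheory.Ideal.HasGoingUp
import Mathlib.RingTheory.Spectrum.Prime.RingHom

/-!
# A chain of primes of maximal length below the irrelevant ideal (helper87)
-/

set_option autoImplicit false
universe u

namespace Groth.Agent.Lib.Helper87

open DirectSum MvPolynomial

section PolyChain

variable (k : Type u) [Field k] (r : ℕ)

/-- kill the first `j` variables -/
noncomputable def evLow (j : ℕ) : MvPolynomial (Fin r) k →ₐ[k] MvPolynomial (Fin r) k :=
  aeval (fun i : Fin r => if (i : ℕ) < j then 0 else X i)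

theorem evLow_X (j : ℕ) (i : Fin r) :
    evLow k r j (X i) = if (i : ℕ) < j then 0 else X i := by
  unfold evLow
  rw [aeval_X]

theorem evLow_comp {j j' : ℕ} (h : j ≤ j') (f : MvPolynomial (Fin r) k) :
    evLow k r j' (evLow k r j f) = evLow k r j' f := by
  have : (evLow k r j').comp (evLow k r j) = evLow k r j' := by
    apply MvPolynomial.algHom_ext
    intro i
    rw [AlgHom.comp_apply, evLow_X, evLow_X]
    by_cases h1 : (i : ℕ) < j
    · rw [if_pos h1, map_zero, if_pos (by omega)]
    · rw [if_neg h1, evLow_X]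
  exact congrArg (fun g => g f) this

theorem evLow_zero (f : MvPolynomial (Fin r) k) : evLow k r 0 f = f := by
  have : evLow k r 0 = AlgHom.id k _ := by
    apply MvPolynomial.algHom_ext
    intro i
    rw [evLow_X, if_neg (by omega)]
    rfl
  rw [this]
  rfl

/-- the primes `(X₀, …, X_{j-1})` -/
noncomputable def polyP (j : ℕ) : PrimeSpectrum (MvPolynomial (Fin r) k) :=
  ⟨RingHom.ker (evLow k r j).toRingHom, RingHom.ker_isPrime _⟩

theorem mem_polyP (j : ℕ) (f : MvPolynomial (Fin r) k) :
    f ∈ (polyP k r j).asIdeal ↔ evLow k r j f = 0 := Iff.rfl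

theorem polyP_mono {j j' : ℕ} (h : j ≤ j') : polyP k r j ≤ polyP k r j' := by
  intro f hf
  rw [mem_polyP] at hf ⊢
  rw [← evLow_comp k r h, hf, map_zero]

theorem polyP_strictMono : StrictMono (fun i : Fin (r + 1) => polyP k r (i : ℕ)) := by
  intro i j hij
  have hij' : (i : ℕ) < (j : ℕ) := hij
  refine lt_of_le_of_ne (polyP_mono k r hij'.le) ?_
  intro heq
  have hi : (i : ℕ) < r := by have := j.2; omega
  have h1 : (X ⟨i, hi⟩ : MvPolynomial (Fin r) k) ∈ (polyP k r (j : ℕ)).asIdeal := by
    rw [mem_polyP, evLow_X, if_pos hij']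
  have heq' : polyP k r (i : ℕ) = polyP k r (j : ℕ) := heq
  rw [← heq', mem_polyP, evLow_X, if_neg (lt_irrefl _)] at h1
  exact MvPolynomial.X_ne_zero _ h1

/-- the chain `0 ⊂ (X₀) ⊂ (X₀, X₁) ⊂ … ⊂ (X₀, …, X_{r-1})` -/
noncomputable def polyChain : LTSeries (PrimeSpectrum (MvPolynomial (Fin r) k)) :=
  LTSeries.mk r (fun i : Fin (r + 1) => polyP k r (i : ℕ)) (polyP_strictMono k r)

theorem X_mem_polyP_last (i : Fin r) :
    (X i : MvPolynomial (Fin r) k) ∈ (polyP k r r).asIdeal := by
  rw [mem_polyP, evLow_X, if_pos i.2]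

end PolyChain

section GoingUp

variable {A B : Type u} [CommRing A] [CommRing B] [Algebra A B] [Algebra.IsIntegral A B]

/-- lifting a chain of primes along an injective integral extension -/
theorem exists_chain_over (hinj : Function.Injective (algebraMap A B))
    (l : LTSeries (PrimeSpectrum A)) :
    ∃ L : Fin (l.length + 1) → PrimeSpectrum B, StrictMono L ∧
      ∀ i, PrimeSpectrum.comap (algebraMap A B) (L i) = l i := by
  have hker : RingHom.ker (algebraMap A B) ≤ l.head.asIdeal := by
    rw [(RingHom.injective_iff_ker_eq_bot _).mp hinj]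
    exact bot_le
  obtain ⟨P, -, hP, hPl⟩ := Ideal.exists_ideal_over_prime_of_isIntegral
    (S := B) l.head.asIdeal (⊥ : Ideal B) hker
  haveI : P.IsPrime := hP
  haveI : P.LiesOver l.head.asIdeal := ⟨hPl.symm⟩
  obtain ⟨L', hlen, -, hL'⟩ := Ideal.exists_ltSeries_of_hasGoingUp l P
  refine ⟨fun i => L' (Fin.cast (by rw [hlen]) i), ?_, ?_⟩
  · intro i j hij
    apply L'.strictMono
    exact hij
  · intro i
    have h1 : (i : ℕ) < (List.map (PrimeSpectrum.comap (algebraMap A B)) L'.toList).length := by
      rw [List.length_map, RelSeries.length_toList, hlen]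
      exact i.2
    have h2 : (i : ℕ) < l.toList.length := by
      rw [RelSeries.length_toList]
      exact i.2
    have h3 : (List.map (PrimeSpectrum.comap (algebraMap A B)) L'.toList)[(i : ℕ)]'h1 =
        l.toList[(i : ℕ)]'h2 := by
      congr 1
    rw [List.getElem_map, RelSeries.toList_getElem, RelSeries.toList_getElem] at h3
    exact h3

end GoingUp

end Groth.Agent.Lib.Helper87
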