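import Groth.Agent.Lib.Helper87.SegreCM2
import Mathlib.RingTheory.IntegralClosure.IsIntegralClosure.Basic

/-!
# Chains of primes below the irrelevant ideal from a homogeneous system of parameters (helper87)
-/

set_option autoImplicit false
universe u

namespace Groth.Agent.Lib.Helper87

open DirectSum MvPolynomial

section Chain

variable {k : Type u} [Field k] {R : Type u} [CommRing R] [Algebra k R]
  (𝒜 : ℤ → Submodule k R) [GradedAlgebra 𝒜]

/-- a prime containing `I` and a system of parameters modulo `I` is maximal -/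
theorem isMaximal_of_sop_le (I : Ideal R) {r : ℕ} (x : Fin r → R)
    (hint : (MvPolynomial.aeval (fun i => Ideal.Quotient.mk I (x i)) :
      MvPolynomial (Fin r) k →ₐ[k] R ⧸ I).toRingHom.IsIntegral)
    (q : Ideal R) [hq : q.IsPrime] (hIq : I ≤ q) (hxq : ∀ i, x i ∈ q) : q.IsMaximal := by
  apply Ideal.Quotient.maximal_of_isField
  haveI : Algebra.IsIntegral k (R ⧸ q) := by
    constructor
    intro z
    obtain ⟨a, rfl⟩ := Ideal.Quotient.mk_surjective z
    obtain ⟨P, hPm, hP⟩ := hint (Ideal.Quotient.mk I a)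
    refine ⟨P.map (MvPolynomial.constantCoeff (R := k) (σ := Fin r)), hPm.map _, ?_⟩
    rw [Polynomial.eval₂_map]
    have hcomp : (algebraMap k (R ⧸ q)).comp (MvPolynomial.constantCoeff (R := k) (σ := Fin r)) =
        (Ideal.Quotient.factor hIq).comp
          (MvPolynomial.aeval (fun i => Ideal.Quotient.mk I (x i)) :
            MvPolynomial (Fin r) k →ₐ[k] R ⧸ I).toRingHom := by
      apply MvPolynomial.ringHom_ext
      · intro c
        simp only [RingHom.comp_apply, MvPolynomial.constantCoeff_C, AlgHom.toRingHom_eq_coe,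
          RingHom.coe_coe, MvPolynomial.aeval_C]
        rw [IsScalarTower.algebraMap_apply k R (R ⧸ I), IsScalarTower.algebraMap_apply k R (R ⧸ q)]
        rfl
      · intro i
        simp only [RingHom.comp_apply, MvPolynomial.constantCoeff_X, map_zero,
          AlgHom.toRingHom_eq_coe, RingHom.coe_coe, MvPolynomial.aeval_X]
        rw [Ideal.Quotient.factor_mk]
        exact (Ideal.Quotient.eq_zero_iff_mem.mpr (hxq i)).symm
    rw [hcomp]
    have h1 := Polynomial.hom_eval₂ P (MvPolynomial.aeval (fun i => Ideal.Quotient.mk I (x i)) :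
            MvPolynomial (Fin r) k →ₐ[k] R ⧸ I).toRingHom (Ideal.Quotient.factor hIq)
      (Ideal.Quotient.mk I a)
    rw [hP, map_zero, Ideal.Quotient.factor_mk] at h1
    exact h1.symm
  exact isField_of_isIntegral_of_isField' (R := k) (S := R ⧸ q) (Field.toIsField k)

/-- a chain of primes of length `r` in `V(I)` below the irrelevant ideal -/
theorem exists_chain_le_irr (hpos : ∀ n : ℤ, n < 0 → 𝒜 n = ⊥)
    (h0 : 𝒜 0 = Submodule.span k {(1 : R)}) (I : Ideal R)
    (hI : ∀ f ∈ I, ∀ n : ℤ, (decompose 𝒜 f n : R) ∈ I) {r : ℕ} (D : ℤ) (x : Fin r → R)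
    (hx : ∀ i, x i ∈ 𝒜 D)
    (hind : AlgebraicIndependent k (fun i => Ideal.Quotient.mk I (x i)))
    (hint : (MvPolynomial.aeval (fun i => Ideal.Quotient.mk I (x i)) :
      MvPolynomial (Fin r) k →ₐ[k] R ⧸ I).toRingHom.IsIntegral) :
    ∃ Q : Fin (r + 1) → PrimeSpectrum R, StrictMono Q ∧ (∀ i, I ≤ (Q i).asIdeal) ∧
      ∀ i, (Q i).asIdeal ≤ irr 𝒜 := by
  classical
  have hinj : Function.Injective (MvPolynomial.aeval (fun i => Ideal.Quotient.mk I (x i)) :
      MvPolynomial (Fin r) k →ₐ[k] R ⧸ I) := hind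
  haveI : Nontrivial (R ⧸ I) := hinj.nontrivial
  haveI : Nontrivial R := by
    refine nontrivial_of_ne (0 : R) 1 fun h => ?_
    have : (0 : R ⧸ I) = 1 := by
      rw [← map_zero (Ideal.Quotient.mk I), h, map_one]
    exact zero_ne_one this
  letI alg : Algebra (MvPolynomial (Fin r) k) (R ⧸ I) :=
    (MvPolynomial.aeval (fun i => Ideal.Quotient.mk I (x i)) :
      MvPolynomial (Fin r) k →ₐ[k] R ⧸ I).toRingHom.toAlgebra
  haveI : Algebra.IsIntegral (MvPolynomial (Fin r) k) (R ⧸ I) := ⟨hint⟩
  obtain ⟨L, hLmono, hL⟩ := exists_chain_over (A := MvPolynomial (Fin r) k) (B := R ⧸ I)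
    hinj (polyChain k r)
  have hLlast : ∀ i : Fin r, Ideal.Quotient.mk I (x i) ∈ (L (Fin.last r)).asIdeal := by
    intro i
    have h1 := hL (Fin.last r)
    have h2 : (X i : MvPolynomial (Fin r) k) ∈ ((polyChain k r) (Fin.last r)).asIdeal :=
      X_mem_polyP_last k r i
    rw [← h1] at h2
    have h3 : algebraMap (MvPolynomial (Fin r) k) (R ⧸ I) (X i) ∈ (L (Fin.last r)).asIdeal := h2
    have h4 : algebraMap (MvPolynomial (Fin r) k) (R ⧸ I) (X i) = Ideal.Quotient.mk I (x i) := by
      change (MvPolynomial.aeval (fun i => Ideal.Quotient.mk I (x i)) :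
        MvPolynomial (Fin r) k →ₐ[k] R ⧸ I) (X i) = _
      rw [MvPolynomial.aeval_X]
    rwa [h4] at h3
  let Q : Fin (r + 1) → PrimeSpectrum R := fun i => PrimeSpectrum.comap (Ideal.Quotient.mk I) (L i)
  have hQmono : StrictMono Q := by
    intro i j hij
    have h1 : L i < L j := hLmono hij
    refine lt_of_le_of_ne ?_ ?_
    · exact Ideal.comap_mono (show (L i).asIdeal ≤ (L j).asIdeal from h1.le)
    · intro heq
      have := PrimeSpectrum.comap_injective_of_surjective (Ideal.Quotient.mk I)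
        Ideal.Quotient.mk_surjective heq
      exact h1.ne this
  have hIQ : ∀ i, I ≤ (Q i).asIdeal := by
    intro i a ha
    change Ideal.Quotient.mk I a ∈ (L i).asIdeal
    rw [Ideal.Quotient.eq_zero_iff_mem.mpr ha]
    exact zero_mem _
  have hxQ : ∀ i : Fin r, x i ∈ (Q (Fin.last r)).asIdeal := fun i => hLlast i
  -- the top prime is the irrelevant ideal
  set J : Ideal R := I ⊔ Ideal.span (Set.range x) with hJ
  have hJhom : J.IsHomogeneous 𝒜 := by
    apply Ideal.IsHomogeneous.sup
    · exact fun n f hf => hI f hf n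
    · apply Ideal.homogeneous_span
      rintro _ ⟨i, rfl⟩
      exact ⟨D, hx i⟩
  have hmax : ∀ q : Ideal R, q.IsPrime → J ≤ q → q.IsMaximal := by
    intro q hq hJq
    haveI := hq
    apply isMaximal_of_sop_le I x hint q (le_sup_left.trans hJq)
    intro i
    exact hJq (Ideal.mem_sup_right (Ideal.subset_span ⟨i, rfl⟩))
  have hJlast : J ≤ (Q (Fin.last r)).asIdeal := by
    apply sup_le (hIQ _)
    rw [Ideal.span_le]
    rintro _ ⟨i, rfl⟩
    exact hxQ i
  have hlast : (Q (Fin.last r)).asIdeal = irr 𝒜 :=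
    eq_irr_of_homogeneous_le 𝒜 hpos h0 J hJhom hmax _ hJlast
  refine ⟨Q, hQmono, hIQ, ?_⟩
  intro i
  rw [← hlast]
  exact hQmono.monotone (Fin.le_last i)

end Chain

end Groth.Agent.Lib.Helper87
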