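import Groth.Agent.Lib.Helper87.SegreCM3
import Groth.Agent.Lib.Helper29.DepthRees
import Mathlib.RingTheory.Localization.Finiteness

/-!
# Unmixedness of graded Cohen–Macaulay modules: torsion-freeness over a homogeneous system of
parameters (helper87)
-/

set_option autoImplicit false
universe u

namespace Groth.Agent.Lib.Helper87

open DirectSum MvPolynomial

section LocChain

variable {R : Type u} [CommRing R] (𝔪 : Ideal R) [𝔪.IsPrime]
  (M : Type u) [AddCommGroup M] [Module R M]

/-- a chain of primes in the support of `M` below `𝔪` bounds the dimension of `M_𝔪` from below -/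
theorem le_supportDim_localizedModule_of_chain {r : ℕ} (Q : Fin (r + 1) → PrimeSpectrum R)
    (hQ : StrictMono Q) (hsupp : ∀ i, Q i ∈ Module.support R M)
    (hle : ∀ i, (Q i).asIdeal ≤ 𝔪) :
    ((r : ℕ) : WithBot ℕ∞) ≤
      Module.supportDim (Localization.AtPrime 𝔪) (LocalizedModule 𝔪.primeCompl M) := by
  have hdisj : ∀ i, Disjoint (𝔪.primeCompl : Set R) ((Q i).asIdeal : Set R) := by
    intro i
    rw [Set.disjoint_left]
    intro a ha haq
    exact ha (hle i haq)
  let Q' : Fin (r + 1) → PrimeSpectrum (Localization.AtPrime 𝔪) := fun i =>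
    ⟨Ideal.map (algebraMap R (Localization.AtPrime 𝔪)) (Q i).asIdeal,
      IsLocalization.isPrime_of_isPrime_disjoint 𝔪.primeCompl _ _ (Q i).2 (hdisj i)⟩
  have hcomap : ∀ i, Ideal.comap (algebraMap R (Localization.AtPrime 𝔪)) (Q' i).asIdeal =
      (Q i).asIdeal := fun i =>
    IsLocalization.under_map_of_isPrime_disjoint 𝔪.primeCompl _ (Q i).2 (hdisj i)
  have hQ'mono : StrictMono Q' := by
    intro i j hij
    have h1 : Q i < Q j := hQ hij
    refine lt_of_le_of_ne ?_ ?_
    · exact Ideal.map_mono (show (Q i).asIdeal ≤ (Q j).asIdeal from h1.le)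
    · intro heq
      apply h1.ne
      apply PrimeSpectrum.ext
      rw [← hcomap i, ← hcomap j, heq]
  have hmem : ∀ i, Q' i ∈ Module.support (Localization.AtPrime 𝔪)
      (LocalizedModule 𝔪.primeCompl M) := by
    intro i
    obtain ⟨m, hm⟩ := Module.mem_support_iff'.mp (hsupp i)
    rw [Module.mem_support_iff']
    refine ⟨LocalizedModule.mk m 1, ?_⟩
    intro r' hr' h0
    induction r' using Localization.induction_on with
    | H as =>
      obtain ⟨a, s⟩ := as
      rw [LocalizedModule.mk_smul_mk, ← LocalizedModule.zero_mk 1, LocalizedModule.mk_eq] at h0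
      obtain ⟨u, hu⟩ := h0
      rw [smul_zero, smul_zero, one_smul] at hu
      have ha : a ∉ (Q i).asIdeal := by
        intro ha
        apply hr'
        change Localization.mk a s ∈ Ideal.map (algebraMap R (Localization.AtPrime 𝔪)) (Q i).asIdeal
        rw [Localization.mk_eq_mk', IsLocalization.mk'_eq_mul_mk'_one]
        exact Ideal.mul_mem_right _ _ (Ideal.mem_map_of_mem _ ha)
      have hu' : (u : R) ∉ (Q i).asIdeal := fun h => u.2 (hle i h)
      have hua : (u : R) * a ∉ (Q i).asIdeal := by
        intro h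
        rcases (Q i).2.mem_or_mem h with h | h
        · exact hu' h
        · exact ha h
      apply hm _ hua
      rw [mul_smul]
      exact hu
  unfold Module.supportDim
  have := Order.LTSeries.length_le_krullDim (LTSeries.mk r (fun i => (⟨Q' i, hmem i⟩ :
      Module.support (Localization.AtPrime 𝔪)
      (LocalizedModule 𝔪.primeCompl M))) (fun i j hij => hQ'mono hij))
  exact this

end LocChain

section DimBound

variable {k : Type u} [Field k] {R : Type u} [CommRing R] [Algebra k R]

/-- a prime containing `I` and a non-zero polynomial in a system of parameters modulo `I` has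
dimension `< r` -/
theorem ringKrullDim_quotient_add_one_le_of_sop (I : Ideal R) {r : ℕ} (x : Fin r → R)
    (hint : (MvPolynomial.aeval (fun i => Ideal.Quotient.mk I (x i)) :
      MvPolynomial (Fin r) k →ₐ[k] R ⧸ I).toRingHom.IsIntegral)
    (q : Ideal R) (hIq : I ≤ q) (f : MvPolynomial (Fin r) k) (hf0 : f ≠ 0)
    (hfq : (aeval x f : R) ∈ q) :
    ringKrullDim (R ⧸ q) + 1 ≤ ((r : ℕ) : WithBot ℕ∞) := by
  classical
  set g : MvPolynomial (Fin r) k →ₐ[k] R := aeval x with hg
  set K : Ideal (MvPolynomial (Fin r) k) := q.comap g.toRingHom with hK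
  have hfK : f ∈ K := hfq
  let gbar : MvPolynomial (Fin r) k ⧸ K →+* R ⧸ q := Ideal.quotientMap q g.toRingHom le_rfl
  have hcomp : gbar.comp (Ideal.Quotient.mk K) = (Ideal.Quotient.factor hIq).comp
      (MvPolynomial.aeval (fun i => Ideal.Quotient.mk I (x i)) :
        MvPolynomial (Fin r) k →ₐ[k] R ⧸ I).toRingHom := by
    apply MvPolynomial.ringHom_ext
    · intro c
      simp only [RingHom.comp_apply, AlgHom.toRingHom_eq_coe, RingHom.coe_coe,
        MvPolynomial.aeval_C, gbar, Ideal.quotientMap_mk]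
      rw [← MvPolynomial.algebraMap_eq, AlgHom.commutes,
        IsScalarTower.algebraMap_apply k R (R ⧸ I)]
      rfl
    · intro i
      simp only [RingHom.comp_apply, AlgHom.toRingHom_eq_coe, RingHom.coe_coe,
        MvPolynomial.aeval_X, gbar, Ideal.quotientMap_mk]
      rw [hg, MvPolynomial.aeval_X, Ideal.Quotient.factor_mk]
  have hgint : gbar.IsIntegral := by
    intro z
    obtain ⟨a, rfl⟩ := Ideal.Quotient.mk_surjective z
    obtain ⟨P, hPm, hP⟩ := hint (Ideal.Quotient.mk I a)
    refine ⟨P.map (Ideal.Quotient.mk K), hPm.map _, ?_⟩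
    rw [Polynomial.eval₂_map, hcomp]
    have h1 := Polynomial.hom_eval₂ P (MvPolynomial.aeval (fun i => Ideal.Quotient.mk I (x i)) :
            MvPolynomial (Fin r) k →ₐ[k] R ⧸ I).toRingHom (Ideal.Quotient.factor hIq)
      (Ideal.Quotient.mk I a)
    rw [hP, map_zero, Ideal.Quotient.factor_mk] at h1
    exact h1.symm
  have h2 : ringKrullDim (R ⧸ q) ≤ ringKrullDim (MvPolynomial (Fin r) k ⧸ K) := by
    letI := gbar.toAlgebra
    haveI : Algebra.IsIntegral (MvPolynomial (Fin r) k ⧸ K) (R ⧸ q) := ⟨hgint⟩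
    exact Groth.Agent.Lib.Helper55.ringKrullDim_le_of_isIntegral (MvPolynomial (Fin r) k ⧸ K) (R ⧸ q)
  have hdimP : ringKrullDim (MvPolynomial (Fin r) k) = ((r : ℕ) : WithBot ℕ∞) := by
    rw [MvPolynomial.ringKrullDim_of_isNoetherianRing, ringKrullDim_eq_zero_of_field, zero_add,
      Nat.card_eq_fintype_card, Fintype.card_fin]
  have h3 : ringKrullDim (MvPolynomial (Fin r) k ⧸ K) + 1 ≤ ringKrullDim (MvPolynomial (Fin r) k) :=
    ringKrullDim_succ_le_of_surjective (Ideal.Quotient.mk K) Ideal.Quotient.mk_surjective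
      (mem_nonZeroDivisors_of_ne_zero hf0) (Ideal.Quotient.eq_zero_iff_mem.mpr hfK)
  rw [hdimP] at h3
  exact (add_le_add_left h2 1).trans h3

end DimBound

end Groth.Agent.Lib.Helper87
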