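import Mathlib.RingTheory.GradedAlgebra.Basic
import Mathlib.RingTheory.TensorProduct.Basic
import Mathlib.LinearAlgebra.TensorProduct.Map

/-!
# Diagonal pieces and diagonal projections of `R ⊗ S` for graded `k`-algebras (helper87)

(The projections are those of helper99's `GrSegre`; restated here to keep the import chain short.)
-/

set_option autoImplicit false
universe u

namespace Groth.Agent.Lib.Helper87

open DirectSum
open scoped TensorProduct

section Diag

variable {k : Type u} [Field k] {R S : Type u} [CommRing R] [CommRing S]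
  [Algebra k R] [Algebra k S]
  (𝒜 : ℤ → Submodule k R) [GradedAlgebra 𝒜] (ℬ : ℤ → Submodule k S) [GradedAlgebra ℬ]

/-- the diagonal piece `R_n ⊗ S_n` inside `R ⊗ S` -/
def segP (n : ℤ) : Submodule k (R ⊗[k] S) :=
  Submodule.span k {x : R ⊗[k] S | ∃ a ∈ 𝒜 n, ∃ b ∈ ℬ n, x = a ⊗ₜ[k] b}

/-- the diagonal projection of `R ⊗ S` onto `R_n ⊗ S_n` -/
noncomputable def diagP (n : ℤ) : R ⊗[k] S →ₗ[k] R ⊗[k] S :=
  TensorProduct.map (GradedAlgebra.proj 𝒜 n) (GradedAlgebra.proj ℬ n)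

theorem tmul_mem_segP {n : ℤ} {a : R} (ha : a ∈ 𝒜 n) {b : S} (hb : b ∈ ℬ n) :
    a ⊗ₜ[k] b ∈ segP 𝒜 ℬ n :=
  Submodule.subset_span ⟨a, ha, b, hb, rfl⟩

theorem diagP_tmul (n : ℤ) (a : R) (b : S) :
    diagP 𝒜 ℬ n (a ⊗ₜ[k] b) = (decompose 𝒜 a n : R) ⊗ₜ[k] (decompose ℬ b n : S) := by
  simp only [diagP, TensorProduct.map_tmul, GradedAlgebra.proj_apply]

theorem diagP_tmul_of_mem (n : ℤ) {p q : ℤ} {a : R} (ha : a ∈ 𝒜 p) {b : S} (hb : b ∈ ℬ q) :
    diagP 𝒜 ℬ n (a ⊗ₜ[k] b) = if p = n ∧ q = n then a ⊗ₜ[k] b else 0 := by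
  rw [diagP_tmul]
  split_ifs with h
  · obtain ⟨rfl, rfl⟩ := h
    rw [decompose_of_mem_same 𝒜 ha, decompose_of_mem_same ℬ hb]
  · rw [not_and_or] at h
    rcases h with h | h
    · rw [decompose_of_mem_ne 𝒜 ha h, TensorProduct.zero_tmul]
    · rw [decompose_of_mem_ne ℬ hb h, TensorProduct.tmul_zero]

theorem diagP_of_mem {n : ℤ} {v : R ⊗[k] S} (hv : v ∈ segP 𝒜 ℬ n) : diagP 𝒜 ℬ n v = v := by
  induction hv using Submodule.span_induction with
  | mem v hv =>
    obtain ⟨a, ha, b, hb, rfl⟩ := hv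
    rw [diagP_tmul, decompose_of_mem_same 𝒜 ha, decompose_of_mem_same ℬ hb]
  | zero => rw [map_zero]
  | add v v' _ _ hv hv' => rw [map_add, hv, hv']
  | smul c v _ hv => rw [map_smul, hv]

theorem diagP_mul (n m : ℤ) (c : R ⊗[k] S) {v : R ⊗[k] S} (hv : v ∈ segP 𝒜 ℬ m) :
    diagP 𝒜 ℬ n (c * v) = diagP 𝒜 ℬ (n - m) c * v := by
  induction hv using Submodule.span_induction with
  | mem v hv =>
    obtain ⟨a, ha, b, hb, rfl⟩ := hv
    induction c using TensorProduct.induction_on with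
    | zero => simp
    | tmul r s =>
      rw [Algebra.TensorProduct.tmul_mul_tmul, diagP_tmul, diagP_tmul,
        Algebra.TensorProduct.tmul_mul_tmul]
      have h1 := coe_decompose_mul_add_of_right_mem 𝒜 (a := r) (i := n - m) ha
      have h2 := coe_decompose_mul_add_of_right_mem ℬ (a := s) (i := n - m) hb
      rw [sub_add_cancel] at h1 h2
      rw [h1, h2]
    | add c c' hc hc' => rw [add_mul, map_add, hc, hc', map_add, add_mul]
  | zero => simp
  | add v v' _ _ hv hv' => rw [mul_add, map_add, hv, hv', mul_add]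
  | smul t v _ hv => rw [mul_smul_comm, map_smul, hv, mul_smul_comm]

theorem one_mem_segP : (1 : R ⊗[k] S) ∈ segP 𝒜 ℬ 0 := by
  rw [Algebra.TensorProduct.one_def]
  exact tmul_mem_segP 𝒜 ℬ (SetLike.GradedOne.one_mem) (SetLike.GradedOne.one_mem)

theorem mul_mem_segP {m n : ℤ} {v w : R ⊗[k] S} (hv : v ∈ segP 𝒜 ℬ m) (hw : w ∈ segP 𝒜 ℬ n) :
    v * w ∈ segP 𝒜 ℬ (m + n) := by
  induction hv using Submodule.span_induction with
  | mem v hv =>
    obtain ⟨a, ha, b, hb, rfl⟩ := hv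
    induction hw using Submodule.span_induction with
    | mem w hw =>
      obtain ⟨a', ha', b', hb', rfl⟩ := hw
      rw [Algebra.TensorProduct.tmul_mul_tmul]
      exact tmul_mem_segP 𝒜 ℬ (SetLike.GradedMul.mul_mem ha ha') (SetLike.GradedMul.mul_mem hb hb')
    | zero => rw [mul_zero]; exact Submodule.zero_mem _
    | add w w' _ _ hw hw' => rw [mul_add]; exact Submodule.add_mem _ hw hw'
    | smul t w _ hw => rw [mul_smul_comm]; exact Submodule.smul_mem _ t hw
  | zero => rw [zero_mul]; exact Submodule.zero_mem _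
  | add v v' _ _ hv hv' => rw [add_mul]; exact Submodule.add_mem _ hv hv'
  | smul t v _ hv => rw [smul_mul_assoc]; exact Submodule.smul_mem _ t hv

theorem pow_mem_segP {n : ℤ} {v : R ⊗[k] S} (hv : v ∈ segP 𝒜 ℬ n) (i : ℕ) :
    v ^ i ∈ segP 𝒜 ℬ (i * n) := by
  induction i with
  | zero =>
    rw [pow_zero, Nat.cast_zero, zero_mul]
    exact one_mem_segP 𝒜 ℬ
  | succ i ih =>
    rw [pow_succ]
    have := mul_mem_segP 𝒜 ℬ ih hv
    have h2 : (i : ℤ) * n + n = ((i + 1 : ℕ) : ℤ) * n := by push_cast; ring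
    rwa [h2] at this

end Diag

end Groth.Agent.Lib.Helper87
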