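import Groth.Agent.Lib.Helper87.SegrePoly2

/-!
# Monomials of equal `x`- and `y`-degree lie in `k[x_i y_j]` (helper87)
-/

set_option autoImplicit false
universe u

namespace Groth.Agent.Lib.Helper87

open MvPolynomial

section Mono

variable {k : Type u} [Field k] {ι κ : Type} [Fintype ι] [Fintype κ]

/-- the degree in the `x`'s of an exponent vector -/
def xdeg (m : ι ⊕ κ →₀ ℕ) : ℕ := ∑ i, m (Sum.inl i)

/-- the degree in the `y`'s of an exponent vector -/
def ydeg (m : ι ⊕ κ →₀ ℕ) : ℕ := ∑ j, m (Sum.inr j)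

theorem xdeg_add (a b : ι ⊕ κ →₀ ℕ) : xdeg (a + b) = xdeg a + xdeg b := by
  simp [xdeg, Finset.sum_add_distrib]

theorem ydeg_add (a b : ι ⊕ κ →₀ ℕ) : ydeg (a + b) = ydeg a + ydeg b := by
  simp [ydeg, Finset.sum_add_distrib]

theorem monomial_mem_segC : ∀ (N : ℕ) (m : ι ⊕ κ →₀ ℕ), xdeg m = N → ydeg m = N →
    (monomial m 1 : MvPolynomial (ι ⊕ κ) k) ∈ segC k ι κ := by
  classical
  intro N
  induction N with
  | zero =>
    intro m hx hy
    have hx' : ∀ i, m (Sum.inl i) = 0 := by
      intro i
      have := (Finset.sum_eq_zero_iff (s := Finset.univ) (f := fun i => m (Sum.inl i))).mp hx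
      exact this i (Finset.mem_univ _)
    have hy' : ∀ j, m (Sum.inr j) = 0 := by
      intro j
      have := (Finset.sum_eq_zero_iff (s := Finset.univ) (f := fun j => m (Sum.inr j))).mp hy
      exact this j (Finset.mem_univ _)
    have hm : m = 0 := by
      ext v
      rcases v with i | j
      · exact hx' i
      · exact hy' j
    rw [hm]
    exact Subalgebra.one_mem _
  | succ N ih =>
    intro m hx hy
    have hxi : ∃ i, m (Sum.inl i) ≠ 0 := by
      by_contra h
      push Not at h
      have : xdeg m = 0 := Finset.sum_eq_zero fun i _ => h i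
      omega
    have hyj : ∃ j, m (Sum.inr j) ≠ 0 := by
      by_contra h
      push Not at h
      have : ydeg m = 0 := Finset.sum_eq_zero fun j _ => h j
      omega
    obtain ⟨i, hi⟩ := hxi
    obtain ⟨j, hj⟩ := hyj
    set δ : ι ⊕ κ →₀ ℕ := Finsupp.single (Sum.inl i) 1 + Finsupp.single (Sum.inr j) 1 with hδ
    have hle : δ ≤ m := by
      intro v
      rcases v with i' | j'
      · simp only [hδ, Finsupp.add_apply, Finsupp.single_apply, Sum.inl.injEq, reduceCtorEq,
          if_false, add_zero]
        split_ifs with h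
        · subst h; omega
        · omega
      · simp only [hδ, Finsupp.add_apply, Finsupp.single_apply, Sum.inr.injEq, reduceCtorEq,
          if_false, zero_add]
        split_ifs with h
        · subst h; omega
        · omega
    have hm : m = (m - δ) + δ := (tsub_add_cancel_of_le hle).symm
    have hxδ : xdeg δ = 1 := by
      simp [xdeg, hδ, Finsupp.single_apply]
    have hyδ : ydeg δ = 1 := by
      simp [ydeg, hδ, Finsupp.single_apply]
    have hx1 : xdeg (m - δ) = N := by
      have := xdeg_add (m - δ) δ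
      rw [← hm, hx, hxδ] at this
      omega
    have hy1 : ydeg (m - δ) = N := by
      have := ydeg_add (m - δ) δ
      rw [← hm, hy, hyδ] at this
      omega
    have h1 := ih (m - δ) hx1 hy1
    have h2 : (monomial δ 1 : MvPolynomial (ι ⊕ κ) k) = X (Sum.inl i) * X (Sum.inr j) := by
      simp [hδ, X, monomial_mul]
    have h3 : (monomial m 1 : MvPolynomial (ι ⊕ κ) k) = monomial (m - δ) 1 * monomial δ 1 := by
      rw [monomial_mul, one_mul, ← hm]
    rw [h3, h2]
    exact Subalgebra.mul_mem _ h1 (Algebra.subset_adjoin ⟨(i, j), rfl⟩)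

theorem monomial_mem_segC' (m : ι ⊕ κ →₀ ℕ) (a : k) (h : xdeg m = ydeg m) :
    (monomial m a : MvPolynomial (ι ⊕ κ) k) ∈ segC k ι κ := by
  have h1 : (monomial m a : MvPolynomial (ι ⊕ κ) k) = a • monomial m 1 := by
    rw [smul_monomial, smul_eq_mul, mul_one]
  rw [h1]
  exact Subalgebra.smul_mem _ (monomial_mem_segC (ydeg m) m h rfl) a

end Mono

end Groth.Agent.Lib.Helper87
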