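import Groth.Agent.Lib.Helper87.SegreInt1
import Groth.Agent.Lib.Helper87.SegrePoly3
import Mathlib.RingTheory.TensorProduct.MvPolynomial
import Mathlib.RingTheory.Flat.Basic
import Mathlib.RingTheory.IntegralClosure.Algebra.Basic

/-!
# The map `k[x, y] → R ⊗ S` of two families of homogeneous parameters (helper87)
-/

set_option autoImplicit false
universe u

namespace Groth.Agent.Lib.Helper87

open DirectSum MvPolynomial
open scoped TensorProduct

section Phi

variable {k : Type u} [Field k] {R S : Type u} [CommRing R] [CommRing S]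
  [Algebra k R] [Algebra k S] {ι κ : Type} [Fintype ι] [Fintype κ] (x : ι → R) (y : κ → S)

/-- `k[x, y] → R ⊗ S` -/
noncomputable def segΦ : MvPolynomial (ι ⊕ κ) k →ₐ[k] R ⊗[k] S :=
  MvPolynomial.aeval (Sum.elim (fun i => x i ⊗ₜ[k] (1 : S)) (fun j => (1 : R) ⊗ₜ[k] y j))

theorem segΦ_X_inl (i : ι) : segΦ x y (X (Sum.inl i)) = x i ⊗ₜ[k] (1 : S) := by
  simp [segΦ]

theorem segΦ_X_inr (j : κ) : segΦ x y (X (Sum.inr j)) = (1 : R) ⊗ₜ[k] y j := by
  simp [segΦ]

theorem segΦ_monomial (m : ι ⊕ κ →₀ ℕ) (a : k) :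
    segΦ x y (monomial m a) =
      a • ((∏ i, x i ^ m (Sum.inl i)) ⊗ₜ[k] (∏ j, y j ^ m (Sum.inr j))) := by
  rw [segΦ, aeval_monomial, Finsupp.prod_fintype _ _ (fun _ => pow_zero _), Fintype.prod_sum_type]
  simp only [Sum.elim_inl, Sum.elim_inr]
  have e1 : ∏ i, (x i ⊗ₜ[k] (1 : S)) ^ m (Sum.inl i) =
      (Algebra.TensorProduct.includeLeft : R →ₐ[k] R ⊗[k] S) (∏ i, x i ^ m (Sum.inl i)) := by
    rw [map_prod]
    refine Finset.prod_congr rfl fun i _ => ?_
    rw [map_pow]
    rfl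
  have e2 : ∏ j, ((1 : R) ⊗ₜ[k] y j) ^ m (Sum.inr j) =
      (Algebra.TensorProduct.includeRight : S →ₐ[k] R ⊗[k] S) (∏ j, y j ^ m (Sum.inr j)) := by
    rw [map_prod]
    refine Finset.prod_congr rfl fun j _ => ?_
    rw [map_pow]
    rfl
  rw [e1, e2, Algebra.TensorProduct.includeLeft_apply, Algebra.TensorProduct.includeRight_apply,
    Algebra.TensorProduct.tmul_mul_tmul, mul_one, one_mul, Algebra.smul_def]

theorem segΦ_injective (hx : AlgebraicIndependent k x) (hy : AlgebraicIndependent k y) :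
    Function.Injective (segΦ (k := k) x y) := by
  have hcomp : (segΦ (k := k) x y).comp (tensorEquivSum k ι κ k).toAlgHom =
      Algebra.TensorProduct.map (aeval x) (aeval y) := by
    apply Algebra.TensorProduct.ext
    · apply MvPolynomial.algHom_ext
      intro i
      simp [segΦ]
    · apply MvPolynomial.algHom_ext
      intro j
      simp [segΦ]
  have hmap : Function.Injective (Algebra.TensorProduct.map (aeval x : MvPolynomial ι k →ₐ[k] R)
      (aeval y : MvPolynomial κ k →ₐ[k] S)) := by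
    have := TensorProduct.map_injective_of_flat_flat
      (aeval x : MvPolynomial ι k →ₐ[k] R).toLinearMap
      (aeval y : MvPolynomial κ k →ₐ[k] S).toLinearMap hx hy
    exact this
  have h2 : (segΦ (k := k) x y : MvPolynomial (ι ⊕ κ) k → R ⊗[k] S) =
      (Algebra.TensorProduct.map (aeval x : MvPolynomial ι k →ₐ[k] R)
        (aeval y : MvPolynomial κ k →ₐ[k] S)) ∘ (tensorEquivSum k ι κ k).symm := by
    funext q
    have := DFunLike.congr_fun hcomp ((tensorEquivSum k ι κ k).symm q)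
    rw [AlgHom.comp_apply] at this
    have h3 : (tensorEquivSum k ι κ k).toAlgHom ((tensorEquivSum k ι κ k).symm q) = q :=
      (tensorEquivSum k ι κ k).apply_symm_apply q
    rw [h3] at this
    rw [Function.comp_apply, this]
  rw [h2]
  exact hmap.comp (tensorEquivSum k ι κ k).symm.injective

end Phi

section Homog

variable {k : Type u} [Field k] {R S : Type u} [CommRing R] [CommRing S]
  [Algebra k R] [Algebra k S]
  (𝒜 : ℤ → Submodule k R) [GradedAlgebra 𝒜] (ℬ : ℤ → Submodule k S) [GradedAlgebra ℬ]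
  {ι κ : Type} [Fintype ι] [Fintype κ] (x : ι → R) (y : κ → S) (D : ℤ)

theorem xpart_mem (hx : ∀ i, x i ∈ 𝒜 D) (m : ι ⊕ κ →₀ ℕ) :
    (∏ i, x i ^ m (Sum.inl i)) ∈ 𝒜 ((xdeg m : ℤ) * D) := by
  have h := SetLike.prod_pow_mem_graded 𝒜 (fun _ : ι => D) x (fun i => m (Sum.inl i))
    (F := Finset.univ) (fun i _ => hx i)
  have h2 : (∑ i : ι, m (Sum.inl i) • D) = (xdeg m : ℤ) * D := by
    simp only [nsmul_eq_mul, xdeg]
    rw [← Finset.sum_mul]
    push_cast
    rfl
  rwa [h2] at h

theorem ypart_mem (hy : ∀ j, y j ∈ ℬ D) (m : ι ⊕ κ →₀ ℕ) :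
    (∏ j, y j ^ m (Sum.inr j)) ∈ ℬ ((ydeg m : ℤ) * D) := by
  have h := SetLike.prod_pow_mem_graded ℬ (fun _ : κ => D) y (fun j => m (Sum.inr j))
    (F := Finset.univ) (fun j _ => hy j)
  have h2 : (∑ j : κ, m (Sum.inr j) • D) = (ydeg m : ℤ) * D := by
    simp only [nsmul_eq_mul, ydeg]
    rw [← Finset.sum_mul]
    push_cast
    rfl
  rwa [h2] at h

/-- the diagonal projections of the image of `k[x, y]` lie in the image of `k[x_i y_j]` -/
theorem exists_segC_diagP (hD : D ≠ 0) (hx : ∀ i, x i ∈ 𝒜 D) (hy : ∀ j, y j ∈ ℬ D)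
    (q : MvPolynomial (ι ⊕ κ) k) (n : ℤ) :
    ∃ c ∈ segC k ι κ, segΦ x y c = diagP 𝒜 ℬ n (segΦ x y q) := by
  induction q using MvPolynomial.induction_on' with
  | monomial m a =>
    rw [segΦ_monomial, map_smul, diagP_tmul_of_mem 𝒜 ℬ n (xpart_mem 𝒜 x D hx m)
      (ypart_mem ℬ y D hy m)]
    split_ifs with h
    · have hxy : xdeg m = ydeg m := by
        have h1 : (xdeg m : ℤ) * D = (ydeg m : ℤ) * D := by rw [h.1, h.2]
        exact_mod_cast mul_right_cancel₀ hD h1
      exact ⟨monomial m a, monomial_mem_segC' m a hxy, segΦ_monomial x y m a⟩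
    · exact ⟨0, Subalgebra.zero_mem _, by rw [map_zero, smul_zero]⟩
  | add p q hp hq =>
    obtain ⟨c, hc, hcp⟩ := hp
    obtain ⟨c', hc', hcq⟩ := hq
    exact ⟨c + c', Subalgebra.add_mem _ hc hc', by rw [map_add, map_add, map_add, hcp, hcq]⟩

/-- the image of `k[x_i y_j]` lies in the sum of the diagonal pieces -/
theorem segΦ_mul_mem_segP (hx : ∀ i, x i ∈ 𝒜 D) (hy : ∀ j, y j ∈ ℬ D) (i : ι) (j : κ) :
    segΦ (k := k) x y (X (Sum.inl i) * X (Sum.inr j)) ∈ segP 𝒜 ℬ D := by
  rw [map_mul, segΦ_X_inl, segΦ_X_inr, Algebra.TensorProduct.tmul_mul_tmul, mul_one, one_mul]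
  exact tmul_mem_segP 𝒜 ℬ (hx i) (hy j)

end Homog

section Integral

variable {k : Type u} [Field k] {R S : Type u} [CommRing R] [CommRing S]
  [Algebra k R] [Algebra k S] {ι κ : Type} [Fintype ι] [Fintype κ] (x : ι → R) (y : κ → S)

/-- `R ⊗ S` is integral over `k[x, y]` when `R` is integral over `k[x]` and `S` over `k[y]` -/
theorem segΦ_isIntegral
    (hintR : (aeval x : MvPolynomial ι k →ₐ[k] R).toRingHom.IsIntegral)
    (hintS : (aeval y : MvPolynomial κ k →ₐ[k] S).toRingHom.IsIntegral) :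
    (segΦ (k := k) x y).toRingHom.IsIntegral := by
  have hL : ∀ a : R, (segΦ (k := k) x y).toRingHom.IsIntegralElem (a ⊗ₜ[k] (1 : S)) := by
    intro a
    obtain ⟨p, hp, hpa⟩ := hintR a
    refine ⟨p.map (rename Sum.inl : MvPolynomial ι k →ₐ[k] MvPolynomial (ι ⊕ κ) k).toRingHom,
      hp.map _, ?_⟩
    rw [Polynomial.eval₂_map]
    have hcomp : (segΦ (k := k) x y).toRingHom.comp
        (rename Sum.inl : MvPolynomial ι k →ₐ[k] MvPolynomial (ι ⊕ κ) k).toRingHom =
        (Algebra.TensorProduct.includeLeft : R →ₐ[k] R ⊗[k] S).toRingHom.comp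
          (aeval x : MvPolynomial ι k →ₐ[k] R).toRingHom := by
      have : (segΦ (k := k) x y).comp
          (rename Sum.inl : MvPolynomial ι k →ₐ[k] MvPolynomial (ι ⊕ κ) k) =
          (Algebra.TensorProduct.includeLeft : R →ₐ[k] R ⊗[k] S).comp
            (aeval x : MvPolynomial ι k →ₐ[k] R) := by
        apply MvPolynomial.algHom_ext
        intro i
        simp [segΦ]
      exact congrArg AlgHom.toRingHom this
    rw [hcomp]
    have h2 := Polynomial.hom_eval₂ p (aeval x : MvPolynomial ι k →ₐ[k] R).toRingHom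
      (Algebra.TensorProduct.includeLeft : R →ₐ[k] R ⊗[k] S).toRingHom a
    rw [hpa, map_zero] at h2
    exact h2.symm
  have hR : ∀ b : S, (segΦ (k := k) x y).toRingHom.IsIntegralElem ((1 : R) ⊗ₜ[k] b) := by
    intro b
    obtain ⟨p, hp, hpb⟩ := hintS b
    refine ⟨p.map (rename Sum.inr : MvPolynomial κ k →ₐ[k] MvPolynomial (ι ⊕ κ) k).toRingHom,
      hp.map _, ?_⟩
    rw [Polynomial.eval₂_map]
    have hcomp : (segΦ (k := k) x y).toRingHom.comp
        (rename Sum.inr : MvPolynomial κ k →ₐ[k] MvPolynomial (ι ⊕ κ) k).toRingHom =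
        (Algebra.TensorProduct.includeRight : S →ₐ[k] R ⊗[k] S).toRingHom.comp
          (aeval y : MvPolynomial κ k →ₐ[k] S).toRingHom := by
      have : (segΦ (k := k) x y).comp
          (rename Sum.inr : MvPolynomial κ k →ₐ[k] MvPolynomial (ι ⊕ κ) k) =
          (Algebra.TensorProduct.includeRight : S →ₐ[k] R ⊗[k] S).comp
            (aeval y : MvPolynomial κ k →ₐ[k] S) := by
        apply MvPolynomial.algHom_ext
        intro j
        simp [segΦ]
      exact congrArg AlgHom.toRingHom this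
    rw [hcomp]
    have h2 := Polynomial.hom_eval₂ p (aeval y : MvPolynomial κ k →ₐ[k] S).toRingHom
      (Algebra.TensorProduct.includeRight : S →ₐ[k] R ⊗[k] S).toRingHom b
    rw [hpb, map_zero] at h2
    exact h2.symm
  intro z
  induction z using TensorProduct.induction_on with
  | zero => exact (segΦ (k := k) x y).toRingHom.isIntegralElem_zero
  | tmul a b =>
    have : a ⊗ₜ[k] b = (a ⊗ₜ[k] (1 : S)) * ((1 : R) ⊗ₜ[k] b) := by
      rw [Algebra.TensorProduct.tmul_mul_tmul, mul_one, one_mul]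
    rw [this]
    exact RingHom.IsIntegralElem.mul _ (hL a) (hR b)
  | add z z' hz hz' => exact RingHom.IsIntegralElem.add _ hz hz'

end Integral

end Groth.Agent.Lib.Helper87
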