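import Groth.Agent.Lib.Helper87.SegreInt2
import Groth.Agent.Lib.Helper55.KrullDimIntegral

/-!
# The Segre product is integral over `k[x_i ⊗ y_j]`; its dimension (helper87)
-/

set_option autoImplicit false
universe u

namespace Groth.Agent.Lib.Helper87

open DirectSum MvPolynomial
open scoped TensorProduct

section Int

variable {k : Type u} [Field k] {R S : Type u} [CommRing R] [CommRing S]
  [Algebra k R] [Algebra k S]
  (𝒜 : ℤ → Submodule k R) [GradedAlgebra 𝒜] (ℬ : ℤ → Submodule k S) [GradedAlgebra ℬ]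
  {ι κ : Type} [Fintype ι] [Fintype κ] (x : ι → R) (y : κ → S) (D : ℤ)

/-- an element of a diagonal piece is integral over the image of `k[x_i y_j]` -/
theorem isIntegralElem_of_mem_segP (hD : D ≠ 0) (hx : ∀ i, x i ∈ 𝒜 D) (hy : ∀ j, y j ∈ ℬ D)
    (hint : (segΦ (k := k) x y).toRingHom.IsIntegral) {n : ℤ} {z : R ⊗[k] S}
    (hz : z ∈ segP 𝒜 ℬ n) :
    ((segΦ (k := k) x y).comp (segC k ι κ).val).toRingHom.IsIntegralElem z := by
  classical
  obtain ⟨p, hp, hpz⟩ := hint z
  set N := p.natDegree with hN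
  rw [Polynomial.eval₂_eq_sum_range] at hpz
  have hex : ∀ i : ℕ, ∃ c ∈ segC k ι κ,
      segΦ x y c = diagP 𝒜 ℬ ((N : ℤ) * n - (i : ℤ) * n) (segΦ x y (p.coeff i)) :=
    fun i => exists_segC_diagP 𝒜 ℬ x y D hD hx hy (p.coeff i) _
  choose c hc hcΦ using hex
  -- apply the diagonal projection of degree N * n
  have h1 := congrArg (diagP 𝒜 ℬ ((N : ℤ) * n)) hpz
  rw [map_sum, map_zero] at h1
  have h2 : ∀ i ∈ Finset.range (N + 1),
      diagP 𝒜 ℬ ((N : ℤ) * n) ((segΦ (k := k) x y).toRingHom (p.coeff i) * z ^ i) =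
        segΦ x y (c i) * z ^ i := by
    intro i _
    rw [diagP_mul 𝒜 ℬ _ _ _ (pow_mem_segP 𝒜 ℬ hz i), hcΦ i]
    rfl
  rw [Finset.sum_congr rfl h2, Finset.sum_range_succ] at h1
  have h3 : segΦ (k := k) x y (c N) = 1 := by
    rw [hcΦ N, sub_self, hN, hp.coeff_natDegree, map_one]
    exact diagP_of_mem 𝒜 ℬ (one_mem_segP 𝒜 ℬ)
  rw [h3, one_mul] at h1
  -- the monic polynomial over `k[x_i y_j]`
  let P : Polynomial (segC k ι κ) :=
    Polynomial.X ^ N + ∑ i ∈ Finset.range N, Polynomial.C (⟨c i, hc i⟩ : segC k ι κ) * Polynomial.X ^ i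
  have hdeg : (∑ i ∈ Finset.range N,
      Polynomial.C (⟨c i, hc i⟩ : segC k ι κ) * Polynomial.X ^ i).degree < (N : WithBot ℕ) := by
    refine (Polynomial.degree_sum_le _ _).trans_lt ?_
    refine (Finset.sup_lt_iff (WithBot.bot_lt_coe N)).mpr ?_
    intro i hi
    refine (Polynomial.degree_C_mul_X_pow_le i _).trans_lt ?_
    exact WithBot.coe_lt_coe.mpr (Finset.mem_range.mp hi)
  refine ⟨P, Polynomial.monic_X_pow_add hdeg, ?_⟩
  simp only [P, Polynomial.eval₂_add, Polynomial.eval₂_pow, Polynomial.eval₂_X,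
    Polynomial.eval₂_finset_sum, Polynomial.eval₂_mul, Polynomial.eval₂_C]
  rw [add_comm]
  exact h1

end Int

section Main

variable {k : Type u} [Field k] {R S T : Type u} [CommRing R] [CommRing S] [CommRing T]
  [Algebra k R] [Algebra k S] [Algebra k T]
  (𝒜 : ℤ → Submodule k R) [GradedAlgebra 𝒜] (ℬ : ℤ → Submodule k S) [GradedAlgebra ℬ]
  (𝒯 : ℤ → Submodule k T) [GradedAlgebra 𝒯]
  {ι κ : Type} [Fintype ι] [Fintype κ] (x : ι → R) (y : κ → S) (D : ℤ)

/-- **Dimension of a Segre product**, given homogeneous Noether normalisations of both factors in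
one and the same degree. -/
theorem ringKrullDim_segre_of_noether [Nonempty ι] [Nonempty κ]
    (ψ : T →ₐ[k] R ⊗[k] S) (hψ : Function.Injective ψ)
    (hdegT : ∀ n : ℤ, (𝒯 n).map ψ.toLinearMap = segP 𝒜 ℬ n)
    (hD : D ≠ 0) (hx : ∀ i, x i ∈ 𝒜 D) (hy : ∀ j, y j ∈ ℬ D)
    (hxind : AlgebraicIndependent k x) (hyind : AlgebraicIndependent k y)
    (hintR : (aeval x : MvPolynomial ι k →ₐ[k] R).toRingHom.IsIntegral)
    (hintS : (aeval y : MvPolynomial κ k →ₐ[k] S).toRingHom.IsIntegral) :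
    ringKrullDim T = ((Fintype.card ι + Fintype.card κ - 1 : ℕ) : WithBot ℕ∞) := by
  classical
  have hΦinj := segΦ_injective (k := k) x y hxind hyind
  have hΦint := segΦ_isIntegral (k := k) x y hintR hintS
  -- the image of `k[x_i y_j]` lies in the image of `ψ`
  have hle : segC k ι κ ≤ ψ.range.comap (segΦ (k := k) x y) := by
    apply Algebra.adjoin_le
    rintro _ ⟨⟨i, j⟩, rfl⟩
    have h1 := segΦ_mul_mem_segP 𝒜 ℬ x y D hx hy i j
    rw [← hdegT D] at h1
    obtain ⟨t, _, ht⟩ := h1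
    exact ⟨t, ht⟩
  have hrange : ∀ c : segC k ι κ, ((segΦ (k := k) x y).comp (segC k ι κ).val) c ∈ ψ.range :=
    fun c => hle c.2
  let θ : segC k ι κ →ₐ[k] T :=
    ((AlgEquiv.ofInjective ψ hψ).symm : ψ.range →ₐ[k] T).comp
      (((segΦ (k := k) x y).comp (segC k ι κ).val).codRestrict ψ.range hrange)
  have hψθ : ∀ c : segC k ι κ, ψ (θ c) = segΦ x y (c : MvPolynomial (ι ⊕ κ) k) := by
    intro c
    have h1 : ψ ((AlgEquiv.ofInjective ψ hψ).symm
        ((((segΦ (k := k) x y).comp (segC k ι κ).val).codRestrict ψ.range hrange) c)) =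
        (((AlgEquiv.ofInjective ψ hψ) ((AlgEquiv.ofInjective ψ hψ).symm
          ((((segΦ (k := k) x y).comp (segC k ι κ).val).codRestrict ψ.range hrange) c)) :
            ψ.range) : R ⊗[k] S) := rfl
    change ψ ((AlgEquiv.ofInjective ψ hψ).symm
        ((((segΦ (k := k) x y).comp (segC k ι κ).val).codRestrict ψ.range hrange) c)) = _
    rw [h1, AlgEquiv.apply_symm_apply]
    rfl
  have hθinj : Function.Injective θ := by
    intro c c' hcc'
    apply Subtype.ext
    apply hΦinj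
    rw [← hψθ c, ← hψθ c', hcc']
  have hcompeq : ψ.toRingHom.comp θ.toRingHom =
      ((segΦ (k := k) x y).comp (segC k ι κ).val).toRingHom :=
    RingHom.ext fun c => hψθ c
  have hθint : θ.toRingHom.IsIntegral := by
    intro t
    induction t using DirectSum.Decomposition.inductionOn 𝒯 with
    | zero => exact θ.toRingHom.isIntegralElem_zero
    | @homogeneous n t =>
      have hz : ψ (t : T) ∈ segP 𝒜 ℬ n := by
        rw [← hdegT n]
        exact ⟨t, t.2, rfl⟩
      obtain ⟨P, hP, hPz⟩ := isIntegralElem_of_mem_segP 𝒜 ℬ x y D hD hx hy hΦint hz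
      refine ⟨P, hP, ?_⟩
      apply hψ
      rw [map_zero]
      have := Polynomial.hom_eval₂ P θ.toRingHom ψ.toRingHom (t : T)
      rw [hcompeq] at this
      exact this.trans hPz
    | add t t' ht ht' => exact RingHom.IsIntegralElem.add _ ht ht'
  rw [Groth.Agent.Lib.Helper55.ringKrullDim_eq_of_ringHom_isIntegral_of_injective θ.toRingHom
    hθint hθinj]
  exact ringKrullDim_segC

end Main

end Groth.Agent.Lib.Helper87
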