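import Groth.Agent.Lib.Helper87.SegreMod1
import Groth.Agent.Lib.Helper87.SegreInt3
import Mathlib.LinearAlgebra.TensorProduct.RightExactness

/-!
# Segre products of modules: the kernel ideal, integrality modulo it, evaluation maps (helper87)
-/

set_option autoImplicit false
universe u

namespace Groth.Agent.Lib.Helper87

open DirectSum MvPolynomial
open scoped TensorProduct
open Groth.Agent.Lib.Helper99 (act_mul act_one)

section Ker

variable {k : Type u} [Field k] {R S : Type u} [CommRing R] [CommRing S]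
  [Algebra k R] [Algebra k S] (I : Ideal R) (J : Ideal S)

/-- `R ⊗ S → R/I ⊗ S/J` -/
noncomputable def segρ : R ⊗[k] S →ₐ[k] (R ⧸ I) ⊗[k] (S ⧸ J) :=
  Algebra.TensorProduct.map (Ideal.Quotient.mkₐ k I) (Ideal.Quotient.mkₐ k J)

/-- the kernel of `R ⊗ S → R/I ⊗ S/J` is spanned over `k` by the `i ⊗ s` and the `r ⊗ j` -/
theorem ker_segρ_le_span {u : R ⊗[k] S} (hu : segρ (k := k) I J u = 0) :
    u ∈ Submodule.span k ({v : R ⊗[k] S | ∃ i ∈ I, ∃ s : S, v = i ⊗ₜ[k] s} ∪
      {v : R ⊗[k] S | ∃ r : R, ∃ j ∈ J, v = r ⊗ₜ[k] j}) := by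
  have hmem : u ∈ RingHom.ker (segρ (k := k) I J) := hu
  have hker := Algebra.TensorProduct.map_ker (R := k) (S := k) (Ideal.Quotient.mkₐ k I)
    (Ideal.Quotient.mkₐ k J) (Ideal.Quotient.mkₐ_surjective k I) (Ideal.Quotient.mkₐ_surjective k J)
  have hmem' : u ∈ (RingHom.ker (Ideal.Quotient.mkₐ k I)).map
        (Algebra.TensorProduct.includeLeft : R →ₐ[k] R ⊗[k] S) ⊔
      (RingHom.ker (Ideal.Quotient.mkₐ k J)).map
        (Algebra.TensorProduct.includeRight : S →ₐ[k] R ⊗[k] S) := by
    rw [← hker]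
    exact hmem
  have hkI : RingHom.ker (Ideal.Quotient.mkₐ k I) = I := by
    ext z
    rw [RingHom.mem_ker]
    exact Ideal.Quotient.eq_zero_iff_mem
  have hkJ : RingHom.ker (Ideal.Quotient.mkₐ k J) = J := by
    ext z
    rw [RingHom.mem_ker]
    exact Ideal.Quotient.eq_zero_iff_mem
  rw [hkI, hkJ] at hmem'
  have hL : ∀ w : (I.restrictScalars k : Submodule k R) ⊗[k] S,
      (LinearMap.rTensor S (Submodule.subtype (I.restrictScalars k))) w ∈
        Submodule.span k ({v : R ⊗[k] S | ∃ i ∈ I, ∃ s : S, v = i ⊗ₜ[k] s} ∪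
          {v : R ⊗[k] S | ∃ r : R, ∃ j ∈ J, v = r ⊗ₜ[k] j}) := by
    intro w
    induction w using TensorProduct.induction_on with
    | zero => rw [map_zero]; exact Submodule.zero_mem _
    | tmul i s =>
      apply Submodule.subset_span
      left
      exact ⟨i.1, i.2, s, rfl⟩
    | add w w' hw hw' => rw [map_add]; exact Submodule.add_mem _ hw hw'
  have hR : ∀ w : R ⊗[k] (J.restrictScalars k : Submodule k S),
      (LinearMap.lTensor R (Submodule.subtype (J.restrictScalars k))) w ∈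
        Submodule.span k ({v : R ⊗[k] S | ∃ i ∈ I, ∃ s : S, v = i ⊗ₜ[k] s} ∪
          {v : R ⊗[k] S | ∃ r : R, ∃ j ∈ J, v = r ⊗ₜ[k] j}) := by
    intro w
    induction w using TensorProduct.induction_on with
    | zero => rw [map_zero]; exact Submodule.zero_mem _
    | tmul r j =>
      apply Submodule.subset_span
      right
      exact ⟨r, j.1, j.2, rfl⟩
    | add w w' hw hw' => rw [map_add]; exact Submodule.add_mem _ hw hw'
  obtain ⟨u₁, hu₁, u₂, hu₂, rfl⟩ := Submodule.mem_sup.mp hmem'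
  refine Submodule.add_mem _ ?_ ?_
  · have h1 : u₁ ∈ (I.map (Algebra.TensorProduct.includeLeft : R →ₐ[k] R ⊗[k] S)).restrictScalars k :=
      hu₁
    rw [Ideal.map_includeLeft_eq] at h1
    obtain ⟨w, rfl⟩ := h1
    exact hL w
  · have h1 : u₂ ∈ (J.map (Algebra.TensorProduct.includeRight : S →ₐ[k] R ⊗[k] S)).restrictScalars k :=
      hu₂
    rw [Ideal.map_includeRight_eq] at h1
    obtain ⟨w, rfl⟩ := h1
    exact hR w

theorem segρ_tmul_left {i : R} (hi : i ∈ I) (s : S) : segρ (k := k) I J (i ⊗ₜ[k] s) = 0 := by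
  rw [segρ, Algebra.TensorProduct.map_tmul]
  have : Ideal.Quotient.mkₐ k I i = 0 := Ideal.Quotient.eq_zero_iff_mem.mpr hi
  rw [this, TensorProduct.zero_tmul]

theorem segρ_tmul_right (r : R) {j : S} (hj : j ∈ J) : segρ (k := k) I J (r ⊗ₜ[k] j) = 0 := by
  rw [segρ, Algebra.TensorProduct.map_tmul]
  have : Ideal.Quotient.mkₐ k J j = 0 := Ideal.Quotient.eq_zero_iff_mem.mpr hj
  rw [this, TensorProduct.tmul_zero]

end Ker

section KerAct

variable {k : Type u} [Field k] {R S : Type u} [CommRing R] [CommRing S]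
  [Algebra k R] [Algebra k S]
  {M N : Type u} [AddCommGroup M] [Module R M] [Module k M] [IsScalarTower k R M]
  [AddCommGroup N] [Module S N] [Module k N] [IsScalarTower k S N]

/-- the kernel of `R ⊗ S → R/ann M ⊗ S/ann N` acts by zero on `M ⊗ N` -/
theorem act_eq_zero_of_segρ_eq_zero {u : R ⊗[k] S}
    (hu : segρ (k := k) (Module.annihilator R M) (Module.annihilator S N) u = 0) :
    GrSeg.act k R S M N u = 0 := by
  have h := ker_segρ_le_span _ _ hu
  clear hu
  induction h using Submodule.span_induction with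
  | mem v hv =>
    rcases hv with ⟨i, hi, s, rfl⟩ | ⟨r, j, hj, rfl⟩
    · ext m n
      simp only [TensorProduct.AlgebraTensorModule.curry_apply, LinearMap.restrictScalars_self,
        TensorProduct.curry_apply, LinearMap.zero_apply]
      rw [GrSeg.act_tmul, Module.mem_annihilator.mp hi m, TensorProduct.zero_tmul]
    · ext m n
      simp only [TensorProduct.AlgebraTensorModule.curry_apply, LinearMap.restrictScalars_self,
        TensorProduct.curry_apply, LinearMap.zero_apply]
      rw [GrSeg.act_tmul, Module.mem_annihilator.mp hj n, TensorProduct.tmul_zero]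
  | zero => rw [map_zero]
  | add v v' _ _ hv hv' => rw [map_add, hv, hv', add_zero]
  | smul c v _ hv => rw [map_smul, hv, smul_zero]

end KerAct

section KerDiag

variable {k : Type u} [Field k] {R S : Type u} [CommRing R] [CommRing S]
  [Algebra k R] [Algebra k S]
  (𝒜 : ℤ → Submodule k R) [GradedAlgebra 𝒜] (ℬ : ℤ → Submodule k S) [GradedAlgebra ℬ]
  (I : Ideal R) (J : Ideal S)

/-- the kernel of `R ⊗ S → R/I ⊗ S/J` is stable under the diagonal projections when `I`, `J` are
homogeneous -/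
theorem segρ_diagP_eq_zero (hI : ∀ f ∈ I, ∀ n : ℤ, (decompose 𝒜 f n : R) ∈ I)
    (hJ : ∀ f ∈ J, ∀ n : ℤ, (decompose ℬ f n : S) ∈ J) {u : R ⊗[k] S}
    (hu : segρ (k := k) I J u = 0) (n : ℤ) : segρ (k := k) I J (diagP 𝒜 ℬ n u) = 0 := by
  have h := ker_segρ_le_span _ _ hu
  clear hu
  induction h using Submodule.span_induction with
  | mem v hv =>
    rcases hv with ⟨i, hi, s, rfl⟩ | ⟨r, j, hj, rfl⟩
    · rw [diagP_tmul]
      exact segρ_tmul_left I J (hI i hi n) _
    · rw [diagP_tmul]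
      exact segρ_tmul_right I J _ (hJ j hj n)
  | zero => rw [map_zero, map_zero]
  | add v v' _ _ hv hv' => rw [map_add, map_add, hv, hv', add_zero]
  | smul c v _ hv => rw [map_smul, map_smul, hv, smul_zero]

end KerDiag

section IntMod

variable {k : Type u} [Field k] {R S : Type u} [CommRing R] [CommRing S]
  [Algebra k R] [Algebra k S]
  (𝒜 : ℤ → Submodule k R) [GradedAlgebra 𝒜] (ℬ : ℤ → Submodule k S) [GradedAlgebra ℬ]
  (I : Ideal R) (J : Ideal S)
  {ι κ : Type} [Fintype ι] [Fintype κ] (x : ι → R) (y : κ → S) (D : ℤ)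

theorem segρ_comp_segΦ :
    (segρ (k := k) I J).comp (segΦ (k := k) x y) =
      segΦ (k := k) (fun i => Ideal.Quotient.mk I (x i)) (fun j => Ideal.Quotient.mk J (y j)) := by
  apply MvPolynomial.algHom_ext
  rintro (i | j)
  · rw [AlgHom.comp_apply, segΦ_X_inl, segΦ_X_inl, segρ, Algebra.TensorProduct.map_tmul, map_one]
    rfl
  · rw [AlgHom.comp_apply, segΦ_X_inr, segΦ_X_inr, segρ, Algebra.TensorProduct.map_tmul, map_one]
    rfl

/-- an element of a diagonal piece is integral over the image of `k[x_i y_j]`, modulo the kernel of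
`R ⊗ S → R/I ⊗ S/J` -/
theorem exists_monic_segρ_eval₂_eq_zero (hD : D ≠ 0) (hx : ∀ i, x i ∈ 𝒜 D) (hy : ∀ j, y j ∈ ℬ D)
    (hI : ∀ f ∈ I, ∀ n : ℤ, (decompose 𝒜 f n : R) ∈ I)
    (hJ : ∀ f ∈ J, ∀ n : ℤ, (decompose ℬ f n : S) ∈ J)
    (hint : (segΦ (k := k) (fun i => Ideal.Quotient.mk I (x i))
      (fun j => Ideal.Quotient.mk J (y j))).toRingHom.IsIntegral) {n : ℤ} {z : R ⊗[k] S}
    (hz : z ∈ segP 𝒜 ℬ n) :
    ∃ P : Polynomial (segC k ι κ), P.Monic ∧
      segρ (k := k) I J
        (Polynomial.eval₂ ((segΦ (k := k) x y).comp (segC k ι κ).val).toRingHom z P) = 0 := by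
  classical
  obtain ⟨p, hp, hpz⟩ := hint (segρ (k := k) I J z)
  set N := p.natDegree with hN
  -- the relation upstairs, modulo the kernel
  have hpz' : segρ (k := k) I J (Polynomial.eval₂ (segΦ (k := k) x y).toRingHom z p) = 0 := by
    have h1 := Polynomial.hom_eval₂ p (segΦ (k := k) x y).toRingHom (segρ (k := k) I J).toRingHom z
    have h2 : (segρ (k := k) I J).toRingHom.comp (segΦ (k := k) x y).toRingHom =
        (segΦ (k := k) (fun i => Ideal.Quotient.mk I (x i))
          (fun j => Ideal.Quotient.mk J (y j))).toRingHom := by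
      rw [← segρ_comp_segΦ I J x y]
      rfl
    rw [h2] at h1
    exact h1.trans hpz
  rw [Polynomial.eval₂_eq_sum_range] at hpz'
  have hex : ∀ i : ℕ, ∃ c ∈ segC k ι κ,
      segΦ x y c = diagP 𝒜 ℬ ((N : ℤ) * n - (i : ℤ) * n) (segΦ x y (p.coeff i)) :=
    fun i => exists_segC_diagP 𝒜 ℬ x y D hD hx hy (p.coeff i) _
  choose c hc hcΦ using hex
  have h1 := segρ_diagP_eq_zero 𝒜 ℬ I J hI hJ hpz' ((N : ℤ) * n)
  rw [map_sum] at h1
  have h2 : ∀ i ∈ Finset.range (N + 1),
      diagP 𝒜 ℬ ((N : ℤ) * n) ((segΦ (k := k) x y).toRingHom (p.coeff i) * z ^ i) =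
        segΦ x y (c i) * z ^ i := by
    intro i _
    rw [diagP_mul 𝒜 ℬ _ _ _ (pow_mem_segP 𝒜 ℬ hz i), hcΦ i]
    rfl
  rw [Finset.sum_congr rfl h2, Finset.sum_range_succ] at h1
  have h3 : segΦ (k := k) x y (c N) = 1 := by
    rw [hcΦ N, sub_self, hN, hp.coeff_natDegree, map_one]
    exact diagP_of_mem 𝒜 ℬ (one_mem_segP 𝒜 ℬ)
  rw [h3, one_mul] at h1
  let P : Polynomial (segC k ι κ) :=
    Polynomial.X ^ N + ∑ i ∈ Finset.range N, Polynomial.C (⟨c i, hc i⟩ : segC k ι κ) * Polynomial.X ^ i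
  have hdeg : (∑ i ∈ Finset.range N,
      Polynomial.C (⟨c i, hc i⟩ : segC k ι κ) * Polynomial.X ^ i).degree < (N : WithBot ℕ) := by
    refine (Polynomial.degree_sum_le _ _).trans_lt ?_
    refine (Finset.sup_lt_iff (WithBot.bot_lt_coe N)).mpr ?_
    intro i hi
    refine (Polynomial.degree_C_mul_X_pow_le i _).trans_lt ?_
    exact WithBot.coe_lt_coe.mpr (Finset.mem_range.mp hi)
  refine ⟨P, Polynomial.monic_X_pow_add hdeg, ?_⟩
  simp only [P, Polynomial.eval₂_add, Polynomial.eval₂_pow, Polynomial.eval₂_X,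
    Polynomial.eval₂_finset_sum, Polynomial.eval₂_mul, Polynomial.eval₂_C]
  rw [add_comm]
  exact h1

end IntMod

section Eval

variable {k : Type u} [Field k] {R S : Type u} [CommRing R] [CommRing S]
  [Algebra k R] [Algebra k S]
  {M N : Type u} [AddCommGroup M] [Module R M] [Module k M] [IsScalarTower k R M]
  [AddCommGroup N] [Module S N] [Module k N] [IsScalarTower k S N]
  {a b : ℕ} (x : Fin a → R) (y : Fin b → S)

theorem segΦ_comp_tensorEquivSum :
    (segΦ (k := k) x y).comp (tensorEquivSum k (Fin a) (Fin b) k).toAlgHom =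
      Algebra.TensorProduct.map (aeval x) (aeval y) := by
  apply Algebra.TensorProduct.ext
  · apply MvPolynomial.algHom_ext
    intro i
    simp [segΦ]
  · apply MvPolynomial.algHom_ext
    intro j
    simp [segΦ]

/-- evaluation at a torsion-free element, as a `k`-linear map -/
noncomputable def evAt (m : M) : MvPolynomial (Fin a) k →ₗ[k] M :=
  ((LinearMap.toSpanSingleton R M m).restrictScalars k).comp (aeval x).toLinearMap

theorem evAt_apply (m : M) (f : MvPolynomial (Fin a) k) : evAt x m f = (aeval x f : R) • m := rfl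

theorem evAt_injective {m : M} (hm : NonTors (k := k) x m) : Function.Injective (evAt (k := k) x m) := by
  rw [injective_iff_map_eq_zero]
  intro f hf
  exact hm f hf

/-- the action of `k[x, y]` on the tensor of two torsion-free elements is faithful -/
theorem act_segΦ_tmul_injective {m : M} (hm : NonTors (k := k) x m) {n : N}
    (hn : NonTors (k := k) y n) (q : MvPolynomial (Fin a ⊕ Fin b) k)
    (hq : GrSeg.act k R S M N (segΦ (k := k) x y q) (m ⊗ₜ[k] n) = 0) : q = 0 := by
  let Λ : MvPolynomial (Fin a ⊕ Fin b) k →ₗ[k] M ⊗[k] N :=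
    ((GrSeg.act k R S M N).flip (m ⊗ₜ[k] n)).comp (segΦ (k := k) x y).toLinearMap
  have hΛ : Λ.comp (tensorEquivSum k (Fin a) (Fin b) k).toLinearMap =
      TensorProduct.map (evAt (k := k) x m) (evAt (k := k) y n) := by
    apply TensorProduct.ext'
    intro f g
    have h1 := DFunLike.congr_fun (segΦ_comp_tensorEquivSum (k := k) x y) (f ⊗ₜ[k] g)
    rw [AlgHom.comp_apply, Algebra.TensorProduct.map_tmul] at h1
    change GrSeg.act k R S M N (segΦ (k := k) x y
      ((tensorEquivSum k (Fin a) (Fin b) k).toAlgHom (f ⊗ₜ[k] g))) (m ⊗ₜ[k] n) = _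
    rw [h1, GrSeg.act_tmul, TensorProduct.map_tmul, evAt_apply, evAt_apply]
  have hinj : Function.Injective (TensorProduct.map (evAt (k := k) x m) (evAt (k := k) y n)) :=
    TensorProduct.map_injective_of_flat_flat _ _ (evAt_injective x hm) (evAt_injective y hn)
  have hq' : Λ q = 0 := hq
  have h2 : Λ q = TensorProduct.map (evAt (k := k) x m) (evAt (k := k) y n)
      ((tensorEquivSum k (Fin a) (Fin b) k).symm q) := by
    have e : (tensorEquivSum k (Fin a) (Fin b) k).toLinearMap
        ((tensorEquivSum k (Fin a) (Fin b) k).symm q) = q :=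
      (tensorEquivSum k (Fin a) (Fin b) k).apply_symm_apply q
    have h2' := DFunLike.congr_fun hΛ ((tensorEquivSum k (Fin a) (Fin b) k).symm q)
    rw [LinearMap.comp_apply, e] at h2'
    exact h2'
  rw [h2] at hq'
  have h3 := hinj (hq'.trans (map_zero _).symm)
  have := congrArg (tensorEquivSum k (Fin a) (Fin b) k) h3
  rwa [AlgEquiv.apply_symm_apply, map_zero] at this

end Eval

end Groth.Agent.Lib.Helper87
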