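import Groth.Agent.Lib.Helper87.SegreMod2
import Mathlib.RingTheory.KrullDimension.Module

/-!
# Dimension of the Segre product of two non-Artinian graded modules (helper87)
-/

set_option autoImplicit false
universe u

namespace Groth.Agent.Lib.Helper87

open DirectSum MvPolynomial
open scoped TensorProduct

section Theta

variable {k : Type u} [Field k] {R S T : Type u} [CommRing R] [CommRing S] [CommRing T]
  [Algebra k R] [Algebra k S] [Algebra k T]
  (𝒜 : ℤ → Submodule k R) [GradedAlgebra 𝒜] (ℬ : ℤ → Submodule k S) [GradedAlgebra ℬ]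
  (𝒯 : ℤ → Submodule k T) [GradedAlgebra 𝒯]
  {ι κ : Type} [Fintype ι] [Fintype κ] (x : ι → R) (y : κ → S) (D : ℤ)

/-- the map `k[x_i y_j] → T` lifting `k[x, y] → R ⊗ S` -/
theorem exists_segC_algHom (ψ : T →ₐ[k] R ⊗[k] S) (hψ : Function.Injective ψ)
    (hdegT : ∀ n : ℤ, (𝒯 n).map ψ.toLinearMap = segP 𝒜 ℬ n)
    (hx : ∀ i, x i ∈ 𝒜 D) (hy : ∀ j, y j ∈ ℬ D) :
    ∃ θ : segC k ι κ →ₐ[k] T,
      ∀ c : segC k ι κ, ψ (θ c) = segΦ (k := k) x y (c : MvPolynomial (ι ⊕ κ) k) := by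
  have hle : segC k ι κ ≤ ψ.range.comap (segΦ (k := k) x y) := by
    apply Algebra.adjoin_le
    rintro _ ⟨⟨i, j⟩, rfl⟩
    have h1 := segΦ_mul_mem_segP 𝒜 ℬ x y D hx hy i j
    rw [← hdegT D] at h1
    obtain ⟨t, _, ht⟩ := h1
    exact ⟨t, ht⟩
  have hrange : ∀ c : segC k ι κ, ((segΦ (k := k) x y).comp (segC k ι κ).val) c ∈ ψ.range :=
    fun c => hle c.2
  refine ⟨((AlgEquiv.ofInjective ψ hψ).symm : ψ.range →ₐ[k] T).comp
      (((segΦ (k := k) x y).comp (segC k ι κ).val).codRestrict ψ.range hrange), ?_⟩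
  intro c
  have h1 : ψ ((AlgEquiv.ofInjective ψ hψ).symm
      ((((segΦ (k := k) x y).comp (segC k ι κ).val).codRestrict ψ.range hrange) c)) =
      (((AlgEquiv.ofInjective ψ hψ) ((AlgEquiv.ofInjective ψ hψ).symm
        ((((segΦ (k := k) x y).comp (segC k ι κ).val).codRestrict ψ.range hrange) c)) :
          ψ.range) : R ⊗[k] S) := rfl
  change ψ ((AlgEquiv.ofInjective ψ hψ).symm
      ((((segΦ (k := k) x y).comp (segC k ι κ).val).codRestrict ψ.range hrange) c)) = _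
  rw [h1, AlgEquiv.apply_symm_apply]
  rfl

end Theta

/-- **Dimension of the Segre product of modules** (standard graded rings, non-Artinian modules). -/
theorem supportDim_segreProduct (k : Type u) [Field k] (R : Type u) [CommRing R] [Algebra k R]
    (𝒜 : ℤ → Submodule k R) [GradedAlgebra 𝒜] (hposR : ∀ n : ℤ, n < 0 → 𝒜 n = ⊥)
    (h0R : 𝒜 0 = Submodule.span k {(1 : R)}) [Algebra.FiniteType k R] (S : Type u) [CommRing S]
    [Algebra k S] (ℬ : ℤ → Submodule k S) [GradedAlgebra ℬ] (hposS : ∀ n : ℤ, n < 0 → ℬ n = ⊥)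
    (h0S : ℬ 0 = Submodule.span k {(1 : S)}) [Algebra.FiniteType k S] (T : Type u) [CommRing T]
    [Algebra k T] (𝒯 : ℤ → Submodule k T) [GradedAlgebra 𝒯] (ψ : T →ₐ[k] R ⊗[k] S)
    (hT : GrSeg.IsSegreRing 𝒜 ℬ 𝒯 ψ)
    (hstdR : Ideal.span (⋃ n ∈ Set.Ioi (0 : ℤ), (𝒜 n : Set R)) =
      Ideal.span ((𝒜 1 : Submodule k R) : Set R))
    (hstdS : Ideal.span (⋃ n ∈ Set.Ioi (0 : ℤ), (ℬ n : Set S)) =
      Ideal.span ((ℬ 1 : Submodule k S) : Set S))
    (M : Type u) [AddCommGroup M] [Module R M] [Module k M] [IsScalarTower k R M]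
    (ℳ : ℤ → AddSubgroup M) [DirectSum.Decomposition ℳ] [SetLike.GradedSMul 𝒜 ℳ]
    [Module.Finite R M] (N : Type u) [AddCommGroup N] [Module S N] [Module k N]
    [IsScalarTower k S N] (𝒩 : ℤ → AddSubgroup N) [DirectSum.Decomposition 𝒩]
    [SetLike.GradedSMul ℬ 𝒩] [Module.Finite S N] (P : Type u) [AddCommGroup P] [Module T P]
    [Module k P] [IsScalarTower k T P] (𝒬 : ℤ → AddSubgroup P) [DirectSum.Decomposition 𝒬]
    (φ : P →ₗ[k] M ⊗[k] N) (hP : GrSeg.IsSegreMod ψ ℳ 𝒩 𝒬 φ) (dM dN : ℕ)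
    (hdM : Module.supportDim R M = dM) (hdN : Module.supportDim S N = dN)
    (hMA : ¬ IsArtinian R M) (hNA : ¬ IsArtinian S N) :
    Module.supportDim T P = ((dM + dN - 1 : ℕ) : WithBot ℕ∞) := by
  classical
  set I : Ideal R := Module.annihilator R M with hI
  set J : Ideal S := Module.annihilator S N with hJ
  have hdimI : ringKrullDim (R ⧸ I) = dM := by
    rw [← Module.supportDim_eq_ringKrullDim_quotient_annihilator]; exact hdM
  have hdimJ : ringKrullDim (S ⧸ J) = dN := by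
    rw [← Module.supportDim_eq_ringKrullDim_quotient_annihilator]; exact hdN
  have hIhom : ∀ f ∈ I, ∀ n : ℤ, (decompose 𝒜 f n : R) ∈ I :=
    fun f hf n => decompose_mem_annihilator 𝒜 ℳ hf n
  have hJhom : ∀ f ∈ J, ∀ n : ℤ, (decompose ℬ f n : S) ∈ J :=
    fun f hf n => decompose_mem_annihilator ℬ 𝒩 hf n
  -- positivity of the dimensions
  have hdM1 : 1 ≤ dM := by
    by_contra h
    have h0 : dM = 0 := by omega
    apply hMA
    apply isArtinian_of_dim_zero k
    rw [← hI, hdimI, h0]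
    exact le_refl _
  have hdN1 : 1 ≤ dN := by
    by_contra h
    have h0 : dN = 0 := by omega
    apply hNA
    apply isArtinian_of_dim_zero k
    rw [← hJ, hdimJ, h0]
    exact le_refl _
  obtain ⟨D₁, hD₁, H₁⟩ := exists_homogeneous_noether_rel 𝒜 hposR h0R I hIhom dM hdimI
  obtain ⟨D₂, hD₂, H₂⟩ := exists_homogeneous_noether_rel ℬ hposS h0S J hJhom dN hdimJ
  obtain ⟨x, hx, hxind, hintR⟩ := H₁ (D₁ * D₂) (Nat.mul_pos hD₁ hD₂) (Dvd.intro _ rfl)
  obtain ⟨y, hy, hyind, hintS⟩ := H₂ (D₁ * D₂) (Nat.mul_pos hD₁ hD₂) (Dvd.intro_left _ rfl)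
  set D : ℤ := ((D₁ * D₂ : ℕ) : ℤ) with hDdef
  have hDpos : 0 < D := by
    have := Nat.mul_pos hD₁ hD₂
    rw [hDdef]
    exact_mod_cast this
  have hD : D ≠ 0 := hDpos.ne'
  haveI : Nonempty (Fin dM) := ⟨⟨0, by omega⟩⟩
  haveI : Nonempty (Fin dN) := ⟨⟨0, by omega⟩⟩
  -- faithfulness of the polynomial actions
  have hfaithR : ∀ f : MvPolynomial (Fin dM) k, (aeval x f : R) ∈ Module.annihilator R M → f = 0 := by
    intro f hf
    apply hxind
    rw [map_zero]
    have h1 := MvPolynomial.comp_aeval_apply (f := x) (Ideal.Quotient.mkₐ k I) f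
    have h2 : Ideal.Quotient.mkₐ k I (aeval x f) = 0 := Ideal.Quotient.eq_zero_iff_mem.mpr hf
    rw [h2] at h1
    exact h1.symm
  have hfaithS : ∀ f : MvPolynomial (Fin dN) k, (aeval y f : S) ∈ Module.annihilator S N → f = 0 := by
    intro f hf
    apply hyind
    rw [map_zero]
    have h1 := MvPolynomial.comp_aeval_apply (f := y) (Ideal.Quotient.mkₐ k J) f
    have h2 : Ideal.Quotient.mkₐ k J (aeval y f) = 0 := Ideal.Quotient.eq_zero_iff_mem.mpr hf
    rw [h2] at h1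
    exact h1.symm
  -- torsion-free homogeneous elements of a common degree
  obtain ⟨p₁, hp₁⟩ := exists_nonTors_of_ge 𝒜 ℳ x D hDpos hx ⟨0, by omega⟩ hstdR hfaithR
  obtain ⟨p₂, hp₂⟩ := exists_nonTors_of_ge ℬ 𝒩 y D hDpos hy ⟨0, by omega⟩ hstdS hfaithS
  obtain ⟨m, hm, hmnt⟩ := hp₁ (max p₁ p₂) (le_max_left _ _)
  obtain ⟨n, hn, hnnt⟩ := hp₂ (max p₁ p₂) (le_max_right _ _)
  have hmn : m ⊗ₜ[k] n ∈ (GrSeg.segrePiece k ℳ 𝒩 (max p₁ p₂) : Set (M ⊗[k] N)) :=
    Submodule.subset_span ⟨m, hm, n, hn, rfl⟩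
  rw [← hP.image_piece (max p₁ p₂)] at hmn
  obtain ⟨q₀, -, hq₀⟩ := hmn
  -- the map from the polynomial Segre ring
  have hdegT : ∀ n : ℤ, (𝒯 n).map ψ.toLinearMap = segP 𝒜 ℬ n := hT.2
  obtain ⟨θ, hψθ⟩ := exists_segC_algHom 𝒜 ℬ 𝒯 x y D ψ hT.1 hdegT hx hy
  haveI : Module.Finite T P := Groth.Agent.Lib.Helper99.segre_finite 𝒜 ℬ 𝒯 ℳ 𝒩 𝒬 ψ hT φ hP
  rw [Module.supportDim_eq_ringKrullDim_quotient_annihilator]
  set K : Ideal T := Module.annihilator T P with hK
  let θ' : segC k (Fin dM) (Fin dN) →ₐ[k] T ⧸ K := (Ideal.Quotient.mkₐ k K).comp θ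
  have hθ'inj : Function.Injective θ' := by
    rw [injective_iff_map_eq_zero]
    intro c hc
    have hcK : θ c ∈ K := Ideal.Quotient.eq_zero_iff_mem.mp hc
    have h1 : θ c • q₀ = 0 := Module.mem_annihilator.mp hcK q₀
    have h2 := hP.map_smul (θ c) q₀
    rw [h1, map_zero, hψθ c, hq₀] at h2
    have h3 := act_segΦ_tmul_injective x y hmnt hnnt (c : MvPolynomial (Fin dM ⊕ Fin dN) k) h2.symm
    exact Subtype.ext h3
  have hcompeq : ψ.toRingHom.comp θ.toRingHom =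
      ((segΦ (k := k) x y).comp (segC k (Fin dM) (Fin dN)).val).toRingHom :=
    RingHom.ext fun c => hψθ c
  have hint' := segΦ_isIntegral (k := k) (fun i => Ideal.Quotient.mk I (x i))
    (fun j => Ideal.Quotient.mk J (y j)) hintR hintS
  have hθ'int : θ'.toRingHom.IsIntegral := by
    intro t'
    obtain ⟨t, rfl⟩ := Ideal.Quotient.mk_surjective t'
    induction t using DirectSum.Decomposition.inductionOn 𝒯 with
    | zero =>
      rw [map_zero]
      exact θ'.toRingHom.isIntegralElem_zero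
    | @homogeneous d t =>
      have hz : ψ (t : T) ∈ segP 𝒜 ℬ d := by
        rw [← hdegT d]
        exact ⟨t, t.2, rfl⟩
      obtain ⟨Pp, hPmonic, hPz⟩ := exists_monic_segρ_eval₂_eq_zero 𝒜 ℬ I J x y D hD hx hy
        hIhom hJhom hint' hz
      refine ⟨Pp, hPmonic, ?_⟩
      have h1 := Polynomial.hom_eval₂ Pp θ.toRingHom ψ.toRingHom (t : T)
      rw [hcompeq] at h1
      have h2 : GrSeg.act k R S M N (ψ (Polynomial.eval₂ θ.toRingHom (t : T) Pp)) = 0 := by
        apply act_eq_zero_of_segρ_eq_zero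
        have : ψ (Polynomial.eval₂ θ.toRingHom (t : T) Pp) =
            Polynomial.eval₂ ((segΦ (k := k) x y).comp
              (segC k (Fin dM) (Fin dN)).val).toRingHom (ψ (t : T)) Pp := h1
        rw [this]
        exact hPz
      have h3 : Polynomial.eval₂ θ.toRingHom (t : T) Pp ∈ K := by
        rw [hK, Module.mem_annihilator]
        intro q
        apply hP.injective
        rw [hP.map_smul, h2, map_zero, LinearMap.zero_apply]
      have h4 := Polynomial.hom_eval₂ Pp θ.toRingHom (Ideal.Quotient.mk K) (t : T)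
      have h5 : Ideal.Quotient.mk K (Polynomial.eval₂ θ.toRingHom (t : T) Pp) = 0 :=
        Ideal.Quotient.eq_zero_iff_mem.mpr h3
      rw [h5] at h4
      exact h4.symm
    | add t t' ht ht' =>
      rw [map_add]
      exact RingHom.IsIntegralElem.add _ ht ht'
  rw [Groth.Agent.Lib.Helper55.ringKrullDim_eq_of_ringHom_isIntegral_of_injective θ'.toRingHom
    hθ'int hθ'inj, ringKrullDim_segC]
  simp [Fintype.card_fin]

end Groth.Agent.Lib.Helper87
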