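import Groth.Agent.Lib.Helper55.DimTrdeg
import Mathlib.RingTheory.MvPolynomial.WeightedHomogeneous
import Mathlib.RingTheory.Polynomial.Basic
import Mathlib.RingTheory.FiniteType

/-!
# The Segre ring `k[x_i y_j]` of two polynomial rings: upper bound for its dimension (helper87)
-/

set_option autoImplicit false
universe u

namespace Groth.Agent.Lib.Helper87

open MvPolynomial

section SegC

variable (k : Type u) [Field k] (ι κ : Type) [Fintype ι] [Fintype κ]

/-- the subalgebra `k[x_i y_j]` of `k[x, y]` -/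
noncomputable def segC : Subalgebra k (MvPolynomial (ι ⊕ κ) k) :=
  Algebra.adjoin k (Set.range fun p : ι × κ =>
    (X (Sum.inl p.1) * X (Sum.inr p.2) : MvPolynomial (ι ⊕ κ) k))

/-- the weights `+1` on the `x`'s, `-1` on the `y`'s -/
def segWt : ι ⊕ κ → ℤ := Sum.elim (fun _ => 1) (fun _ => -1)

variable {k ι κ}

theorem segC_weight_zero {c : MvPolynomial (ι ⊕ κ) k} (hc : c ∈ segC k ι κ) :
    IsWeightedHomogeneous (segWt ι κ) c 0 := by
  induction hc using Algebra.adjoin_induction with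
  | mem x hx =>
    obtain ⟨p, rfl⟩ := hx
    have h1 := (isWeightedHomogeneous_X k (segWt ι κ) (Sum.inl p.1)).mul
      (isWeightedHomogeneous_X k (segWt ι κ) (Sum.inr p.2))
    have h2 : segWt ι κ (Sum.inl p.1) + segWt ι κ (Sum.inr p.2) = 0 := by simp [segWt]
    rw [h2] at h1
    exact h1
  | algebraMap r => exact isWeightedHomogeneous_C _ r
  | add x y _ _ hx hy => exact hx.add hy
  | mul x y _ _ hx hy =>
    have := hx.mul hy
    rwa [add_zero] at this

instance : Algebra.FiniteType k (segC k ι κ) :=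
  (Subalgebra.fg_iff_finiteType _).mp (Subalgebra.fg_def.mpr ⟨_, Set.finite_range _, rfl⟩)

/-- `c ↦ Σ cₙ x^n` is injective on `(k[x_i y_j])[Z]` (the weights of the summands differ) -/
theorem segC_aeval_X_injective (i₀ : ι) :
    Function.Injective
      (Polynomial.aeval (R := segC k ι κ) (X (Sum.inl i₀) : MvPolynomial (ι ⊕ κ) k)) := by
  classical
  rw [injective_iff_map_eq_zero]
  intro p hp
  rw [Polynomial.aeval_eq_sum_range] at hp
  refine Polynomial.ext fun n => ?_
  rw [Polynomial.coeff_zero]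
  by_contra hne
  have hterm : ∀ m : ℕ, IsWeightedHomogeneous (segWt ι κ)
      ((p.coeff m) • (X (Sum.inl i₀) : MvPolynomial (ι ⊕ κ) k) ^ m) (m : ℤ) := by
    intro m
    have h1 := (segC_weight_zero (p.coeff m).2).mul
      ((isWeightedHomogeneous_X k (segWt ι κ) (Sum.inl i₀)).pow m)
    have h2 : (0 : ℤ) + m • segWt ι κ (Sum.inl i₀) = (m : ℤ) := by simp [segWt]
    rw [h2] at h1
    exact h1
  have h3 := congrArg (weightedHomogeneousComponent (segWt ι κ) (n : ℤ)) hp
  rw [map_sum, map_zero] at h3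
  have h4 : ∀ m ∈ Finset.range (p.natDegree + 1), m ≠ n →
      weightedHomogeneousComponent (segWt ι κ) (n : ℤ)
        ((p.coeff m) • (X (Sum.inl i₀) : MvPolynomial (ι ⊕ κ) k) ^ m) = 0 := by
    intro m _ hmn
    exact (hterm m).weightedHomogeneousComponent_ne _ (by exact_mod_cast hmn.symm)
  by_cases hn : n ∈ Finset.range (p.natDegree + 1)
  · rw [Finset.sum_eq_single_of_mem n hn h4, (hterm n).weightedHomogeneousComponent_same] at h3
    have h5 : ((p.coeff n : segC k ι κ) : MvPolynomial (ι ⊕ κ) k) *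
        (X (Sum.inl i₀) : MvPolynomial (ι ⊕ κ) k) ^ n = 0 := h3
    rcases mul_eq_zero.mp h5 with h6 | h6
    · exact hne (Subtype.ext h6)
    · exact (pow_ne_zero n (X_ne_zero _)) h6
  · apply hne
    apply Polynomial.coeff_eq_zero_of_natDegree_lt
    rw [Finset.mem_range] at hn
    omega

/-- `dim k[x_i y_j] + 1 ≤ |ι| + |κ|` -/
theorem ringKrullDim_segC_succ_le [Nonempty ι] :
    ringKrullDim (segC k ι κ) + 1 ≤ ((Fintype.card ι + Fintype.card κ : ℕ) : WithBot ℕ∞) := by
  obtain ⟨i₀⟩ := ‹Nonempty ι›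
  have h1 : ringKrullDim (segC k ι κ) + 1 ≤ ringKrullDim (Polynomial (segC k ι κ)) :=
    ringKrullDim_succ_le_ringKrullDim_polynomial
  let Ψ : Polynomial (segC k ι κ) →ₐ[k] MvPolynomial (ι ⊕ κ) k :=
    (Polynomial.aeval (R := segC k ι κ)
      (X (Sum.inl i₀) : MvPolynomial (ι ⊕ κ) k)).restrictScalars k
  have hΨ : Function.Injective Ψ := segC_aeval_X_injective i₀
  have h2 : ringKrullDim (Polynomial (segC k ι κ)) ≤ ringKrullDim (MvPolynomial (ι ⊕ κ) k) :=
    Groth.Agent.Lib.Helper55.ringKrullDim_le_of_injective_of_finiteType k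
      (A := Polynomial (segC k ι κ)) (B := MvPolynomial (ι ⊕ κ) k) Ψ hΨ
  have h3 : ringKrullDim (MvPolynomial (ι ⊕ κ) k) =
      ((Fintype.card ι + Fintype.card κ : ℕ) : WithBot ℕ∞) := by
    rw [MvPolynomial.ringKrullDim_of_isNoetherianRing, ringKrullDim_eq_zero_of_field, zero_add,
      Nat.card_eq_fintype_card, Fintype.card_sum]
  rw [← h3]
  exact h1.trans h2

end SegC

end Groth.Agent.Lib.Helper87
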