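import Groth.Agent.Lib.Helper87.SegrePoly1

/-!
# The Segre ring `k[x_i y_j]` of two polynomial rings has dimension `r + s - 1` (helper87)
-/

set_option autoImplicit false
universe u

namespace Groth.Agent.Lib.Helper87

open MvPolynomial

section MonoMap

variable {k : Type u} [Field k] {σ τ : Type}

/-- the algebra map of polynomial rings induced by an additive map of exponents -/
noncomputable def monoMap (E : (τ →₀ ℕ) →+ (σ →₀ ℕ)) :
    MvPolynomial τ k →ₐ[k] MvPolynomial σ k :=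
  AddMonoidAlgebra.mapDomainAlgHom k k E

theorem monoMap_X (E : (τ →₀ ℕ) →+ (σ →₀ ℕ)) (t : τ) :
    monoMap (k := k) E (X t) = monomial (E (Finsupp.single t 1)) 1 := by
  simp [MvPolynomial, monoMap, X, monomial]

theorem monoMap_injective (E : (τ →₀ ℕ) →+ (σ →₀ ℕ)) (hE : Function.Injective E) :
    Function.Injective (monoMap (k := k) E) :=
  AddMonoidAlgebra.mapDomain_injective hE

end MonoMap

section Lower

variable {k : Type u} [Field k] {ι κ : Type} [Fintype ι] [Fintype κ] [DecidableEq ι]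
  [DecidableEq κ] (i₀ : ι) (j₀ : κ)

/-- exponents of the monomials `x_i y_{j₀}` and `x_{i₀} y_j`, `j ≠ j₀` -/
noncomputable def segExp : ι ⊕ {j : κ // j ≠ j₀} → (ι ⊕ κ →₀ ℕ)
  | Sum.inl i => Finsupp.single (Sum.inl i) 1 + Finsupp.single (Sum.inr j₀) 1
  | Sum.inr j => Finsupp.single (Sum.inl i₀) 1 + Finsupp.single (Sum.inr j.1) 1

noncomputable def segE : ((ι ⊕ {j : κ // j ≠ j₀}) →₀ ℕ) →+ (ι ⊕ κ →₀ ℕ) :=
  (Finsupp.linearCombination ℕ (segExp i₀ j₀)).toAddMonoidHom

theorem segE_single (t : ι ⊕ {j : κ // j ≠ j₀}) :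
    segE i₀ j₀ (Finsupp.single t 1) = segExp i₀ j₀ t := by
  simp [segE]

theorem segE_apply (m : (ι ⊕ {j : κ // j ≠ j₀}) →₀ ℕ) (v : ι ⊕ κ) :
    segE i₀ j₀ m v = ∑ t, m t * segExp i₀ j₀ t v := by
  simp only [segE, LinearMap.toAddMonoidHom_coe, Finsupp.linearCombination_apply]
  rw [Finsupp.sum_fintype _ _ (fun _ => by simp), Finsupp.finset_sum_apply]
  simp

theorem segE_inr (m : (ι ⊕ {j : κ // j ≠ j₀}) →₀ ℕ) (j : κ) (hj : j ≠ j₀) :
    segE i₀ j₀ m (Sum.inr j) = m (Sum.inr ⟨j, hj⟩) := by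
  rw [segE_apply, Fintype.sum_sum_type]
  have h1 : ∀ i : ι, m (Sum.inl i) * segExp i₀ j₀ (Sum.inl i) (Sum.inr j) = 0 := by
    intro i
    simp [segExp, Finsupp.single_apply, hj.symm]
  have h2 : ∀ j' : {j : κ // j ≠ j₀}, m (Sum.inr j') * segExp i₀ j₀ (Sum.inr j') (Sum.inr j) =
      if j' = ⟨j, hj⟩ then m (Sum.inr j') else 0 := by
    intro j'
    simp only [segExp, Finsupp.add_apply, Finsupp.single_apply, Sum.inr.injEq, reduceCtorEq,
      if_false, zero_add]
    by_cases h : j'.1 = j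
    · have : j' = ⟨j, hj⟩ := Subtype.ext h
      simp [h, this]
    · have : j' ≠ ⟨j, hj⟩ := fun h' => h (congrArg Subtype.val h')
      simp [h, this]
  simp only [h1, h2, Finset.sum_const_zero, zero_add, Finset.sum_ite_eq', Finset.mem_univ, if_true]

theorem segE_inl (m : (ι ⊕ {j : κ // j ≠ j₀}) →₀ ℕ) (i : ι) :
    segE i₀ j₀ m (Sum.inl i) =
      m (Sum.inl i) + if i₀ = i then ∑ j' : {j : κ // j ≠ j₀}, m (Sum.inr j') else 0 := by
  rw [segE_apply, Fintype.sum_sum_type]
  have h1 : ∀ i' : ι, m (Sum.inl i') * segExp i₀ j₀ (Sum.inl i') (Sum.inl i) =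
      if i' = i then m (Sum.inl i') else 0 := by
    intro i'
    simp only [segExp, Finsupp.add_apply, Finsupp.single_apply, Sum.inl.injEq, reduceCtorEq,
      if_false, add_zero]
    by_cases h : i' = i <;> simp [h]
  have h2 : ∀ j' : {j : κ // j ≠ j₀}, m (Sum.inr j') * segExp i₀ j₀ (Sum.inr j') (Sum.inl i) =
      if i₀ = i then m (Sum.inr j') else 0 := by
    intro j'
    simp only [segExp, Finsupp.add_apply, Finsupp.single_apply, Sum.inl.injEq, reduceCtorEq,
      if_false, add_zero]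
    by_cases h : i₀ = i <;> simp [h]
  simp only [h1, h2, Finset.sum_ite_eq', Finset.mem_univ, if_true]
  by_cases h : i₀ = i
  · simp [h]
  · simp [h]

theorem segE_injective : Function.Injective (segE i₀ j₀) := by
  intro m m' h
  have hr : ∀ j' : {j : κ // j ≠ j₀}, m (Sum.inr j') = m' (Sum.inr j') := by
    intro j'
    have := DFunLike.congr_fun h (Sum.inr j'.1)
    rwa [segE_inr i₀ j₀ m j'.1 j'.2, segE_inr i₀ j₀ m' j'.1 j'.2] at this
  ext t
  rcases t with i | j'
  · have := DFunLike.congr_fun h (Sum.inl i)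
    rw [segE_inl, segE_inl] at this
    have hs : (∑ j' : {j : κ // j ≠ j₀}, m (Sum.inr j')) = ∑ j' : {j : κ // j ≠ j₀}, m' (Sum.inr j') :=
      Finset.sum_congr rfl fun j' _ => hr j'
    rw [hs] at this
    exact Nat.add_right_cancel this
  · exact hr j'

theorem monomial_segExp_mem (t : ι ⊕ {j : κ // j ≠ j₀}) :
    (monomial (segExp i₀ j₀ t) 1 : MvPolynomial (ι ⊕ κ) k) ∈ segC k ι κ := by
  rcases t with i | j
  · have : (monomial (segExp i₀ j₀ (Sum.inl i)) 1 : MvPolynomial (ι ⊕ κ) k) =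
        X (Sum.inl i) * X (Sum.inr j₀) := by
      simp [segExp, X, monomial_mul]
    rw [this]
    exact Algebra.subset_adjoin ⟨(i, j₀), rfl⟩
  · have : (monomial (segExp i₀ j₀ (Sum.inr j)) 1 : MvPolynomial (ι ⊕ κ) k) =
        X (Sum.inl i₀) * X (Sum.inr j.1) := by
      simp [segExp, X, monomial_mul]
    rw [this]
    exact Algebra.subset_adjoin ⟨(i₀, j.1), rfl⟩

theorem monoMap_segE_mem (p : MvPolynomial (ι ⊕ {j : κ // j ≠ j₀}) k) :
    monoMap (k := k) (segE i₀ j₀) p ∈ segC k ι κ := by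
  induction p using MvPolynomial.induction_on with
  | C a =>
    have : monoMap (k := k) (segE i₀ j₀) (C a) = algebraMap k _ a := by
      rw [← MvPolynomial.algebraMap_eq, AlgHom.commutes]
    rw [this]
    exact Subalgebra.algebraMap_mem _ a
  | add p q hp hq => rw [map_add]; exact Subalgebra.add_mem _ hp hq
  | mul_X p t hp =>
    rw [map_mul, monoMap_X, segE_single]
    exact Subalgebra.mul_mem _ hp (monomial_segExp_mem i₀ j₀ t)

include i₀ j₀ in
/-- `|ι| + |κ| - 1 ≤ dim k[x_i y_j]` -/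
theorem le_ringKrullDim_segC :
    ((Fintype.card ι + (Fintype.card κ - 1) : ℕ) : WithBot ℕ∞) ≤ ringKrullDim (segC k ι κ) := by
  let Θ : MvPolynomial (ι ⊕ {j : κ // j ≠ j₀}) k →ₐ[k] segC k ι κ :=
    (monoMap (k := k) (segE i₀ j₀)).codRestrict _ (monoMap_segE_mem i₀ j₀)
  have hΘ : Function.Injective Θ := by
    intro p q hpq
    apply monoMap_injective (k := k) (segE i₀ j₀) (segE_injective i₀ j₀)
    exact congrArg Subtype.val hpq
  have h1 := Groth.Agent.Lib.Helper55.ringKrullDim_le_of_injective_of_finiteType k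
    (A := MvPolynomial (ι ⊕ {j : κ // j ≠ j₀}) k) (B := segC k ι κ) Θ hΘ
  have h2 : ringKrullDim (MvPolynomial (ι ⊕ {j : κ // j ≠ j₀}) k) =
      ((Fintype.card ι + (Fintype.card κ - 1) : ℕ) : WithBot ℕ∞) := by
    rw [MvPolynomial.ringKrullDim_of_isNoetherianRing, ringKrullDim_eq_zero_of_field, zero_add,
      Nat.card_eq_fintype_card, Fintype.card_sum]
    congr 3
    exact Set.card_ne_eq j₀
  rw [← h2]
  exact h1

end Lower

section Dim

variable {k : Type u} [Field k] {ι κ : Type} [Fintype ι] [Fintype κ]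

/-- **The Segre ring of two polynomial rings** in `r ≥ 1` and `s ≥ 1` variables has dimension
`r + s - 1`. -/
theorem ringKrullDim_segC [Nonempty ι] [Nonempty κ] :
    ringKrullDim (segC k ι κ) = ((Fintype.card ι + Fintype.card κ - 1 : ℕ) : WithBot ℕ∞) := by
  classical
  obtain ⟨i₀⟩ := ‹Nonempty ι›
  obtain ⟨j₀⟩ := ‹Nonempty κ›
  have hκ : 0 < Fintype.card κ := Fintype.card_pos
  obtain ⟨n, hn, -⟩ := Groth.Agent.Lib.Helper55.exists_ringKrullDim_eq_and_trdeg_eq k (segC k ι κ)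
  have h1 := ringKrullDim_segC_succ_le (k := k) (ι := ι) (κ := κ)
  have h2 := le_ringKrullDim_segC (k := k) i₀ j₀
  rw [hn] at h1 h2 ⊢
  have h1' : n + 1 ≤ Fintype.card ι + Fintype.card κ := by exact_mod_cast h1
  have h2' : Fintype.card ι + (Fintype.card κ - 1) ≤ n := by exact_mod_cast h2
  have : n = Fintype.card ι + Fintype.card κ - 1 := by omega
  rw [this]

end Dim

end Groth.Agent.Lib.Helper87
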