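import Groth.Agent.Lib.Helper87.SegreCM1
import Mathlib.LinearAlgebra.Eigenspace.Triangularizable
import Mathlib.RingTheory.KrullDimension.NonZeroDivisors

/-!
# One-dimensional graded domains over an algebraically closed field: the graded pieces are at most
one-dimensional (helper87)
-/

set_option autoImplicit false
universe u

namespace Groth.Agent.Lib.Helper87

open DirectSum Polynomial

section Pieces

variable {k : Type u} [Field k] {R : Type u} [CommRing R] [Algebra k R]
  (𝒜 : ℤ → Submodule k R) [GradedAlgebra 𝒜]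

/-- if `R/(a)` is finite-dimensional, homogeneous elements of large degree are multiples of `a` -/
theorem exists_deg_bound_mul (hpos : ∀ n : ℤ, n < 0 → 𝒜 n = ⊥) {n : ℤ} (hn : 0 < n) {a : R}
    (ha : a ∈ 𝒜 n) (hfin : Module.Finite k (R ⧸ Ideal.span {a})) :
    ∃ δ : ℤ, ∀ m : ℤ, δ < n + m → ∀ f ∈ 𝒜 (n + m), ∃ g ∈ 𝒜 m, f = a * g := by
  classical
  have hrange : Set.range (fun _ : Unit => a) = {a} := Set.range_const
  have hfin' : Module.Finite k (R ⧸ Ideal.span (Set.range (fun _ : Unit => a))) := by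
    rw [hrange]; exact hfin
  have hA := finite_adjoin_of_finite_quotient 𝒜 hpos (fun _ : Unit => a) (fun _ => n)
    (fun _ => hn) (fun _ => ha) hfin'
  rw [hrange] at hA
  obtain ⟨V, hV⟩ := hA.fg_top
  obtain ⟨δ, hδ⟩ := Finset.exists_le (V.biUnion fun v => (decompose 𝒜 v).support)
  refine ⟨δ, ?_⟩
  intro m hm f hf
  have hVzero : ∀ v ∈ V, (decompose 𝒜 v (n + m) : R) = 0 := by
    intro v hv
    by_contra hne
    have h1 : n + m ∈ (decompose 𝒜 v).support := by
      rw [DFinsupp.mem_support_toFun]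
      intro h
      exact hne (by rw [h]; rfl)
    have h2 := hδ (n + m) (Finset.mem_biUnion.mpr ⟨v, hv, h1⟩)
    omega
  have hfspan : f ∈ Submodule.span (Algebra.adjoin k ({a} : Set R)) (V : Set R) := by
    rw [hV]; trivial
  rw [Submodule.mem_span_finset] at hfspan
  obtain ⟨c, -, hc⟩ := hfspan
  have hcoef : ∀ v : R, ∃ (c0 : k) (q : R), ((c v : Algebra.adjoin k ({a} : Set R)) : R) =
      algebraMap k R c0 + a * q := by
    intro v
    have hmem : ∀ z ∈ Algebra.adjoin k ({a} : Set R), ∃ p : k[X], aeval a p = z := by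
      intro z hz
      rw [Algebra.adjoin_singleton_eq_range_aeval] at hz
      exact hz
    obtain ⟨p, hp⟩ := hmem _ (c v).2
    refine ⟨p.coeff 0, aeval a p.divX, ?_⟩
    have h2 : p = Polynomial.C (p.coeff 0) + Polynomial.X * p.divX := by
      conv_lhs => rw [← Polynomial.divX_mul_X_add p]
      ring
    have hp' : (aeval a) p = ((c v : Algebra.adjoin k ({a} : Set R)) : R) := hp
    rw [← hp', h2]
    simp only [map_add, map_mul, aeval_C, aeval_X, Polynomial.coeff_add, Polynomial.coeff_C_zero,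
      Polynomial.mul_coeff_zero, Polynomial.coeff_X_zero, zero_mul, add_zero]
    congr 2
    rw [← h2]
  choose c0 q hcq using hcoef
  have hf' : f = (∑ v ∈ V, algebraMap k R (c0 v) * v) + a * ∑ v ∈ V, q v * v := by
    rw [← hc, Finset.mul_sum, ← Finset.sum_add_distrib]
    apply Finset.sum_congr rfl
    intro v _
    change ((c v : Algebra.adjoin k ({a} : Set R)) : R) * v = _
    rw [hcq v]
    ring
  refine ⟨(decompose 𝒜 (∑ v ∈ V, q v * v) m : R), (decompose 𝒜 _ m).2, ?_⟩
  have h1 : f = (decompose 𝒜 f (n + m) : R) := (decompose_of_mem_same 𝒜 hf).symm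
  rw [h1]
  conv_lhs => rw [hf']
  rw [decompose_add, DirectSum.add_apply, Submodule.coe_add,
    DirectSum.coe_decompose_mul_add_of_left_mem 𝒜 ha, decompose_sum]
  have h2 : ((∑ v ∈ V, decompose 𝒜 (algebraMap k R (c0 v) * v)) (n + m) : R) = 0 := by
    rw [DFinsupp.finset_sum_apply, AddSubmonoidClass.coe_finset_sum]
    apply Finset.sum_eq_zero
    intro v hv
    rw [DirectSum.coe_decompose_mul_of_left_mem_zero 𝒜
      (Groth.Agent.Lib.Helper99.algebraMap_mem_zero 𝒜 (c0 v)), hVzero v hv, mul_zero]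
  rw [h2, zero_add]

end Pieces

section Main

variable {k : Type u} [Field k] [IsAlgClosed k] {R : Type u} [CommRing R] [IsDomain R]
  [Algebra k R] (𝒜 : ℤ → Submodule k R) [GradedAlgebra 𝒜]

/-- the graded pieces of a one-dimensional graded domain over an algebraically closed field are
at most one-dimensional -/
theorem exists_smul_eq_of_mem (hpos : ∀ n : ℤ, n < 0 → 𝒜 n = ⊥)
    (h0 : 𝒜 0 = Submodule.span k {(1 : R)}) [Algebra.FiniteType k R] (h1 : ringKrullDim R = 1)
    {n : ℤ} {a b : R} (ha : a ∈ 𝒜 n) (hb : b ∈ 𝒜 n) (ha0 : a ≠ 0) : ∃ c : k, b = c • a := by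
  classical
  rcases lt_trichotomy n 0 with hn | hn | hn
  · exfalso
    have h2 : ∀ z ∈ 𝒜 n, z = 0 := by
      intro z hz
      rw [hpos n hn, Submodule.mem_bot] at hz
      exact hz
    exact ha0 (h2 a ha)
  · subst hn
    have hspan : ∀ z ∈ 𝒜 0, ∃ c : k, c • (1 : R) = z := by
      intro z hz
      rw [h0, Submodule.mem_span_singleton] at hz
      exact hz
    obtain ⟨α, hα⟩ := hspan a ha
    obtain ⟨β, hβ⟩ := hspan b hb
    have hα0 : α ≠ 0 := by
      rintro rfl
      rw [zero_smul] at hα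
      exact ha0 hα.symm
    refine ⟨β / α, ?_⟩
    rw [← hα, ← hβ, smul_smul, div_mul_cancel₀ β hα0]
  -- positive degree
  have hfin : Module.Finite k (R ⧸ Ideal.span {a}) := by
    haveI : Algebra.FiniteType k (R ⧸ Ideal.span {a}) :=
      Algebra.FiniteType.of_surjective (Ideal.Quotient.mkₐ k _) (Ideal.Quotient.mkₐ_surjective k _)
    rw [Module.finite_iff_krullDimLE_zero, Ring.krullDimLE_iff]
    have h2 := ringKrullDim_quotient_succ_le_of_nonZeroDivisor (mem_nonZeroDivisors_of_ne_zero ha0)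
    rw [h1] at h2
    have h3 : ringKrullDim (R ⧸ Ideal.span {a}) ≤ 0 := by
      generalize ringKrullDim (R ⧸ Ideal.span {a}) = d at h2
      induction d using WithBot.recBotCoe with
      | bot => exact bot_le
      | coe e =>
        induction e using ENat.recTopCoe with
        | top =>
          exfalso
          have : ((⊤ : ℕ∞) + 1 : ℕ∞) ≤ 1 := by exact_mod_cast h2
          simp at this
        | coe e' =>
          have : e' + 1 ≤ 1 := by exact_mod_cast h2
          have h4 : e' = 0 := by omega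
          rw [h4]
          rfl
    exact_mod_cast h3
  obtain ⟨δ, hδ⟩ := exists_deg_bound_mul 𝒜 hpos hn ha hfin
  set j : ℕ := δ.toNat + 1 with hj
  set m : ℤ := j • n with hm
  have hmδ : δ < n + m := by
    have h2 : (j : ℤ) ≤ j • n := by
      rw [nsmul_eq_mul]
      nlinarith
    have h3 : δ ≤ (δ.toNat : ℤ) := Int.self_le_toNat δ
    rw [hm]
    have : (j : ℤ) = (δ.toNat : ℤ) + 1 := by rw [hj]; push_cast; ring
    omega
  have hajm : a ^ j ∈ 𝒜 m := SetLike.pow_mem_graded j ha
  have haj0 : a ^ j ≠ 0 := pow_ne_zero j ha0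
  haveI : Nontrivial (𝒜 m) := ⟨⟨⟨a ^ j, hajm⟩, 0, fun h => haj0 (congrArg Subtype.val h)⟩⟩
  haveI : Module.Finite k (𝒜 m) := Groth.Agent.Lib.Helper99.finite_piece_ring 𝒜 hpos h0 m
  let μ : R → (𝒜 m →ₗ[k] 𝒜 (n + m)) := fun r =>
    { toFun := fun f => ⟨(decompose 𝒜 (r * (f : R)) (n + m) : R), (decompose 𝒜 _ (n + m)).2⟩
      map_add' := by
        intro f g
        apply Subtype.ext
        simp only [Submodule.coe_add, mul_add, decompose_add, DirectSum.add_apply]
      map_smul' := by
        intro c f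
        apply Subtype.ext
        simp only [Submodule.coe_smul, mul_smul_comm, decompose_smul, RingHom.id_apply]
        rfl }
  have hμ : ∀ r ∈ 𝒜 n, ∀ f : 𝒜 m, ((μ r f : 𝒜 (n + m)) : R) = r * (f : R) := by
    intro r hr f
    exact decompose_of_mem_same 𝒜 (SetLike.GradedMul.mul_mem hr f.2)
  have hinj : Function.Injective (μ a) := by
    intro f g hfg
    have h2 := congrArg (fun z : 𝒜 (n + m) => (z : R)) hfg
    simp only [hμ a ha] at h2
    exact Subtype.ext (mul_left_cancel₀ ha0 h2)
  have hsurj : Function.Surjective (μ a) := by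
    intro f'
    obtain ⟨g, hg, hfg⟩ := hδ m hmδ f'.1 f'.2
    refine ⟨⟨g, hg⟩, ?_⟩
    apply Subtype.ext
    rw [hμ a ha, hfg]
  let e := LinearEquiv.ofBijective (μ a) ⟨hinj, hsurj⟩
  let τ : Module.End k (𝒜 m) := e.symm.toLinearMap ∘ₗ μ b
  obtain ⟨c, hc⟩ := Module.End.exists_eigenvalue τ
  obtain ⟨v, hv⟩ := hc.exists_hasEigenvector
  have hv0 : (v : R) ≠ 0 := fun h => hv.2 (Subtype.ext h)
  have hτ : τ v = c • v := hv.apply_eq_smul
  have h2 : e (τ v) = μ b v := by
    change e (e.symm (μ b v)) = μ b v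
    exact e.apply_symm_apply _
  rw [hτ] at h2
  have h3 := congrArg (fun z : 𝒜 (n + m) => (z : R)) h2
  change ((μ a (c • v) : 𝒜 (n + m)) : R) = ((μ b v : 𝒜 (n + m)) : R) at h3
  rw [hμ a ha, hμ b hb] at h3
  refine ⟨c, ?_⟩
  have h4 : (b - c • a) * (v : R) = 0 := by
    rw [sub_mul, ← h3]
    simp only [Submodule.coe_smul, smul_mul_assoc, mul_smul_comm, sub_self]
  rcases mul_eq_zero.mp h4 with h | h
  · exact sub_eq_zero.mp h
  · exact absurd h hv0

end Main

end Groth.Agent.Lib.Helper87
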