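import Groth.Agent.Lib.Helper87.SemiGrp1
import Mathlib.Algebra.MonoidAlgebra.Basic
import Mathlib.RingTheory.KrullDimension.Field

/-!
# One-dimensional graded domains over an algebraically closed field are semigroup rings (helper87)
-/

set_option autoImplicit false
universe u

namespace Groth.Agent.Lib.Helper87

open DirectSum

section NatMonoid

/-- a submonoid of `ℕ` with a positive element: all elements are multiples of some `d` which is a
difference of two elements -/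
theorem exists_diff_dvd (H : AddSubmonoid ℕ) (hH : ∃ h ∈ H, 0 < h) :
    ∃ d h₁ : ℕ, 0 < d ∧ h₁ ∈ H ∧ h₁ + d ∈ H ∧ ∀ h ∈ H, d ∣ h := by
  classical
  let D : Set ℕ := {δ | 0 < δ ∧ ∃ h₁ ∈ H, h₁ + δ ∈ H}
  have hne : D.Nonempty := by
    obtain ⟨h, hh, hpos⟩ := hH
    exact ⟨h, hpos, 0, H.zero_mem, by rwa [zero_add]⟩
  have hd : sInf D ∈ D := Nat.sInf_mem hne
  obtain ⟨hdpos, h₁, hh₁, hh₂⟩ := hd
  refine ⟨sInf D, h₁, hdpos, hh₁, hh₂, ?_⟩
  intro h hh
  set d := sInf D with hd'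
  by_contra hnd
  have hρ : 0 < h % d := Nat.pos_of_ne_zero fun h0 => hnd (Nat.dvd_of_mod_eq_zero h0)
  have hmem : h % d ∈ D := by
    refine ⟨hρ, (h / d) • (h₁ + d), H.nsmul_mem hh₂ _, ?_⟩
    have h1 : (h / d) • (h₁ + d) + h % d = h + (h / d) • h₁ := by
      have := Nat.div_add_mod h d
      simp only [smul_eq_mul]
      nlinarith
    rw [h1]
    exact H.add_mem hh (H.nsmul_mem hh₁ _)
  have hle : d ≤ h % d := Nat.sInf_le hmem
  have hlt : h % d < d := Nat.mod_lt _ hdpos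
  omega

end NatMonoid

section Monoid

variable {k : Type u} [Field k] {R : Type u} [CommRing R] [IsDomain R] [Algebra k R]
  (𝒜 : ℤ → Submodule k R) [GradedAlgebra 𝒜]

/-- the monoid of degrees in which the graded domain `R` is non-zero -/
def degMonoid : AddSubmonoid ℕ where
  carrier := {h | 𝒜 (h : ℤ) ≠ ⊥}
  zero_mem' := by
    change 𝒜 ((0 : ℕ) : ℤ) ≠ ⊥
    rw [Submodule.ne_bot_iff]
    exact ⟨1, SetLike.GradedOne.one_mem (A := 𝒜), one_ne_zero⟩
  add_mem' := by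
    intro a b ha hb
    change 𝒜 (a : ℤ) ≠ ⊥ at ha
    change 𝒜 (b : ℤ) ≠ ⊥ at hb
    change 𝒜 ((a + b : ℕ) : ℤ) ≠ ⊥
    rw [Submodule.ne_bot_iff] at ha hb ⊢
    obtain ⟨x, hx, hx0⟩ := ha
    obtain ⟨y, hy, hy0⟩ := hb
    refine ⟨x * y, ?_, mul_ne_zero hx0 hy0⟩
    have := SetLike.GradedMul.mul_mem hx hy
    rw [Nat.cast_add]
    exact this

theorem mem_degMonoid_iff (h : ℕ) : h ∈ degMonoid 𝒜 ↔ ∃ x ∈ 𝒜 (h : ℤ), x ≠ 0 := by
  change 𝒜 (h : ℤ) ≠ ⊥ ↔ _
  rw [Submodule.ne_bot_iff]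

theorem mem_of_eq_deg {i j : ℤ} {x : R} (hx : x ∈ 𝒜 i) (h : i = j) : x ∈ 𝒜 j := h ▸ hx

/-- if `R` is not a field-like ring of dimension zero there are elements of positive degree -/
theorem exists_pos_mem_degMonoid (hpos : ∀ n : ℤ, n < 0 → 𝒜 n = ⊥)
    (h0 : 𝒜 0 = Submodule.span k {(1 : R)}) (h1 : ringKrullDim R = 1) :
    ∃ h ∈ degMonoid 𝒜, 0 < h := by
  by_contra hcon
  push Not at hcon
  have hirr : irr 𝒜 = ⊥ := by
    rw [eq_bot_iff]
    unfold irr
    rw [Ideal.span_le]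
    intro x hx
    simp only [Set.mem_iUnion, Set.mem_Ioi, SetLike.mem_coe] at hx
    obtain ⟨n, hn, hxn⟩ := hx
    by_contra hx0
    have hx0' : x ≠ 0 := fun h => hx0 (by rw [h]; exact zero_mem _)
    have h2 : n.toNat ∈ degMonoid 𝒜 := by
      rw [mem_degMonoid_iff]
      refine ⟨x, ?_, hx0'⟩
      rw [Int.toNat_of_nonneg hn.le]
      exact hxn
    have := hcon _ h2
    omega
  have hfield : IsField R := by
    refine ⟨⟨0, 1, zero_ne_one⟩, mul_comm, ?_⟩
    intro x hx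
    obtain ⟨c, hc⟩ := exists_sub_algebraMap_mem_irr 𝒜 hpos h0 x
    rw [hirr, Ideal.mem_bot, sub_eq_zero] at hc
    have hc0 : c ≠ 0 := by
      rintro rfl
      rw [map_zero] at hc
      exact hx hc
    refine ⟨algebraMap k R c⁻¹, ?_⟩
    rw [hc, ← map_mul, mul_inv_cancel₀ hc0, map_one]
  have := ringKrullDim_eq_zero_of_isField hfield
  rw [h1] at this
  exact one_ne_zero this

end Monoid

section Normalise

variable {k : Type u} [Field k] [IsAlgClosed k] {R : Type u} [CommRing R] [IsDomain R]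
  [Algebra k R] (𝒜 : ℤ → Submodule k R) [GradedAlgebra 𝒜]

/-- a multiplicative family of non-zero homogeneous elements, one in each non-zero degree -/
theorem exists_normalised (hpos : ∀ n : ℤ, n < 0 → 𝒜 n = ⊥)
    (h0 : 𝒜 0 = Submodule.span k {(1 : R)}) [Algebra.FiniteType k R] (h1 : ringKrullDim R = 1) :
    ∃ T : ℕ → R, T 0 = 1 ∧ (∀ h ∈ degMonoid 𝒜, T h ∈ 𝒜 (h : ℤ) ∧ T h ≠ 0) ∧
      ∀ h ∈ degMonoid 𝒜, ∀ h' ∈ degMonoid 𝒜, T (h + h') = T h * T h' := by
  classical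
  obtain ⟨d, h₁, hd, hh₁, hh₂, hdvd⟩ := exists_diff_dvd (degMonoid 𝒜)
    (exists_pos_mem_degMonoid 𝒜 hpos h0 h1)
  obtain ⟨α, hα, hα0⟩ := (mem_degMonoid_iff 𝒜 h₁).mp hh₁
  obtain ⟨β, hβ, hβ0⟩ := (mem_degMonoid_iff 𝒜 (h₁ + d)).mp hh₂
  have hex : ∀ h ∈ degMonoid 𝒜, ∃ t : R, t ∈ 𝒜 (h : ℤ) ∧ t * α ^ (h / d) = β ^ (h / d) := by
    intro h hh
    obtain ⟨e, he, he0⟩ := (mem_degMonoid_iff 𝒜 h).mp hh
    obtain ⟨m, hm⟩ := hdvd h hh
    have hmd : h / d = m := by rw [hm, Nat.mul_div_cancel_left m hd]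
    rw [hmd]
    have ha : e * α ^ m ∈ 𝒜 (((h + m * h₁ : ℕ) : ℤ)) := by
      refine mem_of_eq_deg 𝒜 (SetLike.GradedMul.mul_mem he (SetLike.pow_mem_graded m hα)) ?_
      rw [nsmul_eq_mul]
      push_cast
      ring
    have hb : β ^ m ∈ 𝒜 (((h + m * h₁ : ℕ) : ℤ)) := by
      refine mem_of_eq_deg 𝒜 (SetLike.pow_mem_graded m hβ) ?_
      rw [hm, nsmul_eq_mul]
      push_cast
      ring
    obtain ⟨c, hc⟩ := exists_smul_eq_of_mem 𝒜 hpos h0 h1 ha hb
      (mul_ne_zero he0 (pow_ne_zero m hα0))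
    refine ⟨c • e, Submodule.smul_mem _ c he, ?_⟩
    rw [hc, smul_mul_assoc]
  let T : ℕ → R := fun h => if hh : h ∈ degMonoid 𝒜 then (hex h hh).choose else 0
  have hT : ∀ h (hh : h ∈ degMonoid 𝒜), T h ∈ 𝒜 (h : ℤ) ∧ T h * α ^ (h / d) = β ^ (h / d) := by
    intro h hh
    simp only [T, dif_pos hh]
    exact (hex h hh).choose_spec
  refine ⟨T, ?_, ?_, ?_⟩
  · have := (hT 0 (degMonoid 𝒜).zero_mem).2
    rw [Nat.zero_div, pow_zero, pow_zero, mul_one] at this
    exact this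
  · intro h hh
    refine ⟨(hT h hh).1, ?_⟩
    intro h0'
    have := (hT h hh).2
    rw [h0', zero_mul] at this
    exact pow_ne_zero _ hβ0 this.symm
  · intro h hh h' hh'
    have hsum := (hT (h + h') ((degMonoid 𝒜).add_mem hh hh')).2
    have hdiv : (h + h') / d = h / d + h' / d := Nat.add_div_of_dvd_right (hdvd h hh)
    rw [hdiv] at hsum
    have h2 : T h * T h' * α ^ (h / d + h' / d) = β ^ (h / d + h' / d) := by
      rw [pow_add, pow_add, ← (hT h hh).2, ← (hT h' hh').2]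
      ring
    have h3 : T (h + h') * α ^ (h / d + h' / d) = T h * T h' * α ^ (h / d + h' / d) := by
      rw [hsum, h2]
    exact mul_right_cancel₀ (pow_ne_zero _ hα0) h3

/-- **One-dimensional graded domains over an algebraically closed field are semigroup rings.** -/
theorem nonempty_ringEquiv_addMonoidAlgebra (hpos : ∀ n : ℤ, n < 0 → 𝒜 n = ⊥)
    (h0 : 𝒜 0 = Submodule.span k {(1 : R)}) [Algebra.FiniteType k R] (h1 : ringKrullDim R = 1) :
    Nonempty (R ≃+* AddMonoidAlgebra k (degMonoid 𝒜)) := by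
  classical
  obtain ⟨T, hT0, hTmem, hTmul⟩ := exists_normalised 𝒜 hpos h0 h1
  let tm : Multiplicative (degMonoid 𝒜) →* R :=
    { toFun := fun x => T ((Multiplicative.toAdd x : degMonoid 𝒜) : ℕ)
      map_one' := hT0
      map_mul' := fun x y => hTmul _ (Multiplicative.toAdd x).2 _ (Multiplicative.toAdd y).2 }
  let Φ : AddMonoidAlgebra k (degMonoid 𝒜) →ₐ[k] R := AddMonoidAlgebra.lift k R (degMonoid 𝒜) tm
  have hΦsingle : ∀ (h : degMonoid 𝒜) (c : k), Φ (AddMonoidAlgebra.single h c) = c • T (h : ℕ) := by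
    intro h c
    exact AddMonoidAlgebra.lift_single tm h c
  have hinj : Function.Injective Φ := by
    rw [injective_iff_map_eq_zero]
    intro x hx
    apply AddMonoidAlgebra.coeff_injective
    ext h₀
    have h2 : Φ x = x.coeff.sum fun a b => b • T (a : ℕ) := AddMonoidAlgebra.lift_apply tm x
    rw [hx] at h2
    have h3 : (decompose 𝒜 (x.coeff.sum fun a b => b • T (a : ℕ)) ((h₀ : ℕ) : ℤ) : R) =
        x.coeff h₀ • T (h₀ : ℕ) := by
      rw [Finsupp.sum, decompose_sum, DFinsupp.finset_sum_apply, AddSubmonoidClass.coe_finset_sum]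
      rw [Finset.sum_eq_single h₀]
      · exact decompose_of_mem_same 𝒜 (Submodule.smul_mem _ _ (hTmem _ h₀.2).1)
      · intro b _ hb
        apply decompose_of_mem_ne 𝒜 (Submodule.smul_mem _ _ (hTmem _ b.2).1)
        intro h
        apply hb
        apply Subtype.ext
        exact_mod_cast h
      · intro hh
        rw [Finsupp.notMem_support_iff.mp hh, zero_smul, decompose_zero]
        rfl
    rw [← h2, decompose_zero] at h3
    have h4 : x.coeff h₀ • T (h₀ : ℕ) = 0 := h3.symm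
    rcases smul_eq_zero.mp h4 with h | h
    · rw [h]; rfl
    · exact absurd h (hTmem _ h₀.2).2
  have hsurj : Function.Surjective Φ := by
    intro r
    induction r using DirectSum.Decomposition.inductionOn 𝒜 with
    | zero => exact ⟨0, map_zero _⟩
    | @homogeneous n f =>
      by_cases hf0 : (f : R) = 0
      · exact ⟨0, by rw [map_zero, hf0]⟩
      have hn : 0 ≤ n := deg_nonneg_of_ne_zero 𝒜 hpos f.2 hf0
      obtain ⟨h, rfl⟩ := Int.eq_ofNat_of_zero_le hn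
      have hh : h ∈ degMonoid 𝒜 := (mem_degMonoid_iff 𝒜 h).mpr ⟨f, f.2, hf0⟩
      obtain ⟨c, hc⟩ := exists_smul_eq_of_mem 𝒜 hpos h0 h1 (hTmem h hh).1 f.2 (hTmem h hh).2
      exact ⟨AddMonoidAlgebra.single ⟨h, hh⟩ c, by rw [hΦsingle, hc]⟩
    | add a b ha hb =>
      obtain ⟨x, hx⟩ := ha
      obtain ⟨y, hy⟩ := hb
      exact ⟨x + y, by rw [map_add, hx, hy]⟩
  exact ⟨(RingEquiv.ofBijective Φ.toRingHom ⟨hinj, hsurj⟩).symm⟩

end Normalise

end Groth.Agent.Lib.Helper87
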