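import Groth.Agent.Lib.Helper87.SemiGrp2
import Mathlib.Algebra.Polynomial.Basic

/-!
# One-dimensional standard graded domains over an algebraically closed field are polynomial rings
(helper87)
-/

set_option autoImplicit false
universe u

namespace Groth.Agent.Lib.Helper87

open DirectSum

section Std

variable {k : Type u} [Field k] [IsAlgClosed k] {R : Type u} [CommRing R] [IsDomain R]
  [Algebra k R] (𝒜 : ℤ → Submodule k R) [GradedAlgebra 𝒜]

theorem one_mem_degMonoid_of_std (hpos : ∀ n : ℤ, n < 0 → 𝒜 n = ⊥)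
    (h0 : 𝒜 0 = Submodule.span k {(1 : R)}) (h1 : ringKrullDim R = 1)
    (hstd : Ideal.span (⋃ n ∈ Set.Ioi (0 : ℤ), (𝒜 n : Set R)) =
      Ideal.span ((𝒜 1 : Submodule k R) : Set R)) : 1 ∈ degMonoid 𝒜 := by
  by_contra hcon
  have h𝒜1 : ∀ x ∈ 𝒜 1, x = 0 := by
    intro x hx
    by_contra hx0
    apply hcon
    rw [mem_degMonoid_iff]
    exact ⟨x, by exact_mod_cast hx, hx0⟩
  have hirr : Ideal.span (⋃ n ∈ Set.Ioi (0 : ℤ), (𝒜 n : Set R)) = ⊥ := by
    rw [hstd, eq_bot_iff, Ideal.span_le]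
    intro x hx
    rw [h𝒜1 x hx]
    exact zero_mem _
  obtain ⟨h, hh, hpos'⟩ := exists_pos_mem_degMonoid 𝒜 hpos h0 h1
  obtain ⟨x, hx, hx0⟩ := (mem_degMonoid_iff 𝒜 h).mp hh
  apply hx0
  have h2 : x ∈ Ideal.span (⋃ n ∈ Set.Ioi (0 : ℤ), (𝒜 n : Set R)) := by
    apply Ideal.subset_span
    simp only [Set.mem_iUnion, Set.mem_Ioi, SetLike.mem_coe]
    exact ⟨(h : ℤ), by exact_mod_cast hpos', hx⟩
  rw [hirr, Ideal.mem_bot] at h2
  exact h2

/-- **One-dimensional standard graded domains over an algebraically closed field are polynomial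
rings.** -/
theorem nonempty_ringEquiv_polynomial_of_std (hpos : ∀ n : ℤ, n < 0 → 𝒜 n = ⊥)
    (h0 : 𝒜 0 = Submodule.span k {(1 : R)}) [Algebra.FiniteType k R] (h1 : ringKrullDim R = 1)
    (hstd : Ideal.span (⋃ n ∈ Set.Ioi (0 : ℤ), (𝒜 n : Set R)) =
      Ideal.span ((𝒜 1 : Submodule k R) : Set R)) : Nonempty (R ≃+* Polynomial k) := by
  obtain ⟨e⟩ := nonempty_ringEquiv_addMonoidAlgebra 𝒜 hpos h0 h1
  have h1mem := one_mem_degMonoid_of_std 𝒜 hpos h0 h1 hstd
  have htop : degMonoid 𝒜 = ⊤ := by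
    rw [eq_top_iff]
    intro n _
    have := (degMonoid 𝒜).nsmul_mem h1mem n
    rwa [smul_eq_mul, mul_one] at this
  let e₁ : (degMonoid 𝒜) ≃+ ℕ := (AddEquiv.addSubmonoidCongr htop).trans AddSubmonoid.topEquiv
  exact ⟨e.trans ((AddMonoidAlgebra.domCongr k k e₁).toRingEquiv.trans
    (Polynomial.toFinsuppIso k).symm)⟩

end Std

end Groth.Agent.Lib.Helper87
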