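import Groth.Agent.Lib.Helper29.DepthQuot
import Groth.Agent.Lib.Helper29.DepthSelf
import Groth.Agent.Lib.Helper29.FlatAscent
import Groth.Agent.Lib.Helper28.RegularCM
import Groth.Agent.Lib.Helper87.GrDepth4

/-!
# Serre's condition `(S_k)` of a ring at a prime: transfer lemmas (helper87)
-/

set_option autoImplicit false
universe u

namespace Groth.Agent.Lib.Helper87.SkSelf

open IsLocalRing

/-- `(S_k)` of the ring `R` at the prime `P`: `min(k, ht P) ≤ depth R_P`. -/
def SkSelfAt (k : ℕ) (R : Type u) [CommRing R] (P : Ideal R) [P.IsPrime] : Prop :=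
  min (k : ℕ∞) P.height ≤ LocCoh.depth (Localization.AtPrime P) (Localization.AtPrime P)

theorem hasSk_self_iff (k : ℕ) (R : Type u) [CommRing R] :
    LocCoh.HasSk k R R ↔ ∀ (P : Ideal R) [P.IsPrime], SkSelfAt k R P := by
  unfold LocCoh.HasSk SkSelfAt
  refine forall_congr' fun P => forall_congr' fun hP => ?_
  rw [Groth.Agent.Lib.Helper29.supportDim_localizedModule_self,
    Groth.Agent.Lib.Helper29.depth_localizedModule_self]
  have h1 : (k : WithBot ℕ∞) = (((k : ℕ∞)) : WithBot ℕ∞) := rfl
  rw [h1, ← WithBot.coe_min, WithBot.coe_le_coe]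

theorem skSelfAt_congr_ideal (k : ℕ) (R : Type u) [CommRing R] (P P' : Ideal R) [P.IsPrime]
    [P'.IsPrime] (h : P = P') : SkSelfAt k R P ↔ SkSelfAt k R P' := by
  subst h
  rfl

/-- Arithmetic: ascent. -/
theorem min_add_le_of_le (k h x d : ℕ∞) (hx : min k h ≤ x) : min k (h + d) ≤ x + d := by
  calc min k (h + d) ≤ min (k + d) (h + d) := min_le_min le_self_add le_rfl
    _ = min k h + d := min_add_add_right k h d
    _ ≤ x + d := add_le_add_left hx d

/-- Arithmetic: shifting by one. -/
theorem min_succ_le_iff (k : ℕ) (h x : ℕ∞) :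
    min ((k + 1 : ℕ) : ℕ∞) (h + 1) ≤ x + 1 ↔ min (k : ℕ∞) h ≤ x := by
  have h1 : ((k + 1 : ℕ) : ℕ∞) = (k : ℕ∞) + 1 := by push_cast; rfl
  rw [h1, min_add_add_right]
  exact WithTop.add_le_add_iff_right ENat.one_ne_top

section RingEquiv

variable {R S : Type u} [CommRing R] [CommRing S] [IsNoetherianRing R]

/-- Transfer along an isomorphism of the local rings. -/
theorem skSelfAt_iff_of_ringEquiv (k : ℕ) (P : Ideal R) [P.IsPrime] (Q : Ideal S) [Q.IsPrime]
    (e : Localization.AtPrime P ≃+* Localization.AtPrime Q) :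
    SkSelfAt k R P ↔ SkSelfAt k S Q := by
  have hNP : IsNoetherianRing (Localization.AtPrime P) :=
    IsLocalization.isNoetherianRing P.primeCompl _ inferInstance
  have h1 := Groth.Agent.Lib.Helper29.depth_self_eq_of_ringEquiv e
  have h2 := ringKrullDim_eq_of_ringEquiv e
  rw [IsLocalization.AtPrime.ringKrullDim_eq_height P,
    IsLocalization.AtPrime.ringKrullDim_eq_height Q] at h2
  have h3 : P.height = Q.height := WithBot.coe_inj.mp h2
  unfold SkSelfAt
  rw [h1, h3]

end RingEquiv

section Quot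

variable (R : Type u) [CommRing R] [IsNoetherianRing R]

/-- Quotient by a nonzerodivisor: `(S_{k+1})` at `P ∋ t` iff `(S_k)` of `R/t` at `P/t`. -/
theorem skSelfAt_succ_iff_quotient (k : ℕ) (t : R) (ht : t ∈ nonZeroDivisors R)
    (p : Ideal (R ⧸ Ideal.span {t})) [p.IsPrime] :
    SkSelfAt (k + 1) R (p.comap (Ideal.Quotient.mk (Ideal.span {t}))) ↔
      SkSelfAt k (R ⧸ Ideal.span {t}) p := by
  set P : Ideal R := p.comap (Ideal.Quotient.mk (Ideal.span {t})) with hP
  have htP : t ∈ P := by
    rw [hP, Ideal.mem_comap]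
    have : Ideal.Quotient.mk (Ideal.span {t}) t = 0 :=
      Ideal.Quotient.eq_zero_iff_mem.mpr (Ideal.mem_span_singleton_self t)
    rw [this]
    exact Ideal.zero_mem _
  have hmap : P.map (Ideal.Quotient.mk (Ideal.span {t})) = p :=
    Ideal.map_comap_of_surjective _ Ideal.Quotient.mk_surjective p
  have hprime : (P.map (Ideal.Quotient.mk (Ideal.span {t}))).IsPrime := by
    rw [hmap]; infer_instance
  have hreg : IsSMulRegular (Localization.AtPrime P) (algebraMap R (Localization.AtPrime P) t) := by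
    have hmem : algebraMap R (Localization.AtPrime P) t ∈ nonZeroDivisors (Localization.AtPrime P) :=
      IsLocalization.map_nonZeroDivisors_le P.primeCompl (Localization.AtPrime P)
        (Submonoid.mem_map_of_mem _ ht)
    intro x y hxy
    have h1 : (x - y) * algebraMap R (Localization.AtPrime P) t = 0 := by
      simp only [smul_eq_mul] at hxy
      rw [sub_mul, mul_comm x, mul_comm y, hxy, sub_self]
    exact sub_eq_zero.mp (mem_nonZeroDivisors_iff_right.mp hmem _ h1)
  obtain ⟨h1, h2⟩ := Groth.Agent.Lib.Helper29.depth_and_height_quotient_span_singleton R P t htP hreg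
  rw [← skSelfAt_congr_ideal k _ _ _ hmap]
  unfold SkSelfAt
  rw [← h1, ← h2]
  exact min_succ_le_iff k _ _

end Quot

section Flat

variable {R S : Type u} [CommRing R] [CommRing S] [Algebra R S] [IsNoetherianRing R]
  [IsNoetherianRing S] [Module.Flat R S]

/-- Depth and height along a flat map with regular fibre. -/
theorem exists_depth_and_height_add_of_flat (q : Ideal R) [q.IsPrime] (Q : Ideal S) [Q.IsPrime]
    [Q.LiesOver q] [IsRegularRing (q.Fiber S)] :
    ∃ d : ℕ, LocCoh.depth (Localization.AtPrime Q) (Localization.AtPrime Q) =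
        LocCoh.depth (Localization.AtPrime q) (Localization.AtPrime q) + d ∧
      Q.height = q.height + d := by
  have hC : IsRegularLocalRing
      (Localization.AtPrime Q ⧸ q.map (algebraMap R (Localization.AtPrime Q))) :=
    Groth.Agent.Lib.Helper87.GrDepth.isRegularLocalRing_fibLoc q Q
  obtain ⟨h1, h2⟩ := Groth.Agent.Lib.Helper29.depth_and_dim_add_of_flat q Q
  have hCM := (Groth.Agent.Lib.Helper28.isCohenMacaulayLocalRing_of_isRegularLocalRing
    (Localization.AtPrime Q ⧸ q.map (algebraMap R (Localization.AtPrime Q)))).supportDim_eq_depth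
  rw [Module.supportDim_self_eq_ringKrullDim] at hCM
  rw [IsLocalization.AtPrime.ringKrullDim_eq_height Q,
    IsLocalization.AtPrime.ringKrullDim_eq_height q, hCM, ← WithBot.coe_add,
    WithBot.coe_inj] at h2
  have hfin : LocCoh.depth
      (Localization.AtPrime Q ⧸ q.map (algebraMap R (Localization.AtPrime Q)))
      (Localization.AtPrime Q ⧸ q.map (algebraMap R (Localization.AtPrime Q))) ≠ ⊤ := by
    intro htop
    rw [htop, add_top] at h2
    exact Ideal.height_ne_top (Ideal.IsPrime.ne_top inferInstance) h2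
  obtain ⟨d, hd⟩ := ENat.ne_top_iff_exists.mp hfin
  refine ⟨d, ?_, ?_⟩
  · rw [h1, ← hd]
  · rw [h2, ← hd]

/-- `(S_k)` ascends along a flat map with regular fibres. -/
theorem skSelfAt_of_flat (k : ℕ) (q : Ideal R) [q.IsPrime] (Q : Ideal S) [Q.IsPrime]
    [Q.LiesOver q] [IsRegularRing (q.Fiber S)] (h : SkSelfAt k R q) : SkSelfAt k S Q := by
  obtain ⟨d, h1, h2⟩ := exists_depth_and_height_add_of_flat q Q
  unfold SkSelfAt at h ⊢
  rw [h1, h2]
  exact min_add_le_of_le _ _ _ _ h

/-- `(S_k)` descends along a flat map with regular fibres at primes of the same height. -/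
theorem skSelfAt_of_flat_of_height_eq (k : ℕ) (q : Ideal R) [q.IsPrime] (Q : Ideal S) [Q.IsPrime]
    [Q.LiesOver q] [IsRegularRing (q.Fiber S)] (hh : Q.height = q.height)
    (h : SkSelfAt k S Q) : SkSelfAt k R q := by
  obtain ⟨d, h1, h2⟩ := exists_depth_and_height_add_of_flat q Q
  have hqfin : q.height ≠ ⊤ := Ideal.height_ne_top (Ideal.IsPrime.ne_top inferInstance)
  have hd : (d : ℕ∞) = 0 := by
    rw [hh] at h2
    lift q.height to ℕ using hqfin with n hn
    have : ((n + 0 : ℕ) : ℕ∞) = ((n + d : ℕ) : ℕ∞) := by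
      push_cast
      rw [add_zero]
      exact h2
    have h3 : n + 0 = n + d := by exact_mod_cast this
    have : d = 0 := by omega
    rw [this]
    rfl
  unfold SkSelfAt at h ⊢
  rw [h1, hh, hd, add_zero] at h
  exact h

end Flat

end Groth.Agent.Lib.Helper87.SkSelf
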