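import Groth.Agent.Lib.Helper87.SkTensor1
import Groth.Agent.Lib.Helper29.FlatAscent
import Groth.Agent.S5766

/-!
# `(S_k)` for `F ⊗[A] E` at a prime, from `(S_k)` of `E` and of the fibres of `F` (helper87)
-/

set_option autoImplicit false
universe u

namespace Groth.Agent.Lib.Helper87.SkTensor

open TensorProduct IsLocalRing

section Fibre

variable (A B : Type u) [CommRing A] [CommRing B] [IsNoetherianRing A] [IsNoetherianRing B]
  [Algebra A B]
  (F : Type u) [AddCommGroup F] [Module B F] [Module.Finite B F] (Q : Ideal B) [Q.IsPrime]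

omit [IsNoetherianRing A] in
/-- `(S_k)` for the fibre module over the fibre local ring gives the `(S_k)` inequality at the
closed point, computed over `B_Q`. -/
theorem fibre_min_le (k : ℕ)
    (h : LocCoh.HasSk k (EGA4.FibLocRing A B Q) (EGA4.FibLocMod A B Q F)) :
    min (k : WithBot ℕ∞)
        (Module.supportDim (Localization.AtPrime Q) (EGA4.FibLocMod A B Q F)) ≤
      ((LocCoh.depth (Localization.AtPrime Q) (EGA4.FibLocMod A B Q F) : ℕ∞) : WithBot ℕ∞) := by
  have hlies : Q.LiesOver (Q.comap (algebraMap A B)) := ⟨rfl⟩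
  have hnt : Nontrivial (EGA4.FibLocRing A B Q) :=
    Groth.Agent.Lib.Helper29.nontrivial_fibLoc (Q.comap (algebraMap A B)) Q
  have hNQ : IsNoetherianRing (Localization.AtPrime Q) :=
    IsLocalization.isNoetherianRing Q.primeCompl _ inferInstance
  have hNF : IsNoetherianRing (EGA4.FibLocRing A B Q) := inferInstance
  have hlh : IsLocalHom (algebraMap (Localization.AtPrime Q) (EGA4.FibLocRing A B Q)) :=
    IsLocalHom.of_surjective _ Ideal.Quotient.mk_surjective
  rcases subsingleton_or_nontrivial (EGA4.FibLocMod A B Q F) with hs | hn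
  · rw [Module.supportDim_eq_bot_of_subsingleton]
    simp
  · have h1 := h (maximalIdeal (EGA4.FibLocRing A B Q))
    rw [Groth.Agent.Lib.Helper29.depth_localization_maximalIdeal,
      Groth.Agent.Lib.Helper29.supportDim_localization_maximalIdeal] at h1
    rw [Groth.Agent.Lib.Helper29.depth_eq_of_finite (Localization.AtPrime Q)
      (EGA4.FibLocRing A B Q) (EGA4.FibLocMod A B Q F),
      Groth.Agent.S5766.result (Localization.AtPrime Q)
      (EGA4.FibLocRing A B Q) (EGA4.FibLocMod A B Q F)]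
    exact h1

end Fibre

section Main

variable (A B : Type u) [CommRing A] [CommRing B] [IsNoetherianRing A] [IsNoetherianRing B]
  [Algebra A B]
  (E : Type u) [AddCommGroup E] [Module A E] [Module.Finite A E]
  (F : Type u) [AddCommGroup F] [Module B F] [Module A F] [IsScalarTower A B F] [Module.Finite B F]
  [Module.Flat A F]

theorem cast_min_le_iff (k a c : ℕ) :
    min (k : WithBot ℕ∞) (a : WithBot ℕ∞) ≤ ((c : ℕ∞) : WithBot ℕ∞) ↔ min k a ≤ c := by
  rcases le_total k a with h | h
  · rw [min_eq_left h, min_eq_left (by exact_mod_cast h)]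
    norm_cast
  · rw [min_eq_right h, min_eq_right (by exact_mod_cast h)]
    norm_cast

theorem min_add_le (k a b c d : ℕ) (h1 : min k a ≤ c) (h2 : min k b ≤ d) :
    min k (a + b) ≤ c + d := by
  omega

/-- EGA IV 6.4.1 (ii), ascent. -/
theorem hasSkAt_tensor (k : ℕ)
    (hfib : ∀ (q : Ideal B) [q.IsPrime],
      LocCoh.HasSk k (EGA4.FibLocRing A B q) (EGA4.FibLocMod A B q F))
    (q : Ideal B) [q.IsPrime] (hE : EGA4.HasSkAt k A E (q.comap (algebraMap A B))) :
    EGA4.HasSkAt k B (F ⊗[A] E) q := by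
  have hfinT : Module.Finite B (F ⊗[A] E) := Groth.Agent.Lib.Helper93.DepthFlat.finite_tensor
  have key := (Groth.Agent.Lib.Helper29.hasSkAt_iff B (F ⊗[A] E) k ⟨q, inferInstance⟩).mpr
  apply key
  intro 𝔔 hle
  have hE' := (Groth.Agent.Lib.Helper29.hasSkAt_iff A E k
    ⟨q.comap (algebraMap A B), inferInstance⟩).mp hE
    ⟨𝔔.asIdeal.comap (algebraMap A B), inferInstance⟩ (Ideal.comap_mono hle)
  obtain ⟨hd, hs, hsub⟩ := depth_and_supportDim_localizedModule_tensor A B E F 𝔔.asIdeal
  have hfibre := fibre_min_le A B F 𝔔.asIdeal k (hfib 𝔔.asIdeal)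
  have hNP : IsNoetherianRing (Localization.AtPrime (𝔔.asIdeal.comap (algebraMap A B))) :=
    IsLocalization.isNoetherianRing (𝔔.asIdeal.comap (algebraMap A B)).primeCompl _ inferInstance
  have hNQ : IsNoetherianRing (Localization.AtPrime 𝔔.asIdeal) :=
    IsLocalization.isNoetherianRing 𝔔.asIdeal.primeCompl _ inferInstance
  rcases subsingleton_or_nontrivial
    (LocalizedModule (𝔔.asIdeal.comap (algebraMap A B)).primeCompl E) with hM | hM
  · have := hsub (Or.inl hM)
    rw [Module.supportDim_eq_bot_of_subsingleton]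
    simp
  rcases subsingleton_or_nontrivial (LocalizedModule 𝔔.asIdeal.primeCompl F) with hN | hN
  · have := hsub (Or.inr hN)
    rw [Module.supportDim_eq_bot_of_subsingleton]
    simp
  rw [hs hM hN, hd]
  rcases subsingleton_or_nontrivial (EGA4.FibLocMod A B 𝔔.asIdeal F) with hF | hF
  · rw [Module.supportDim_eq_bot_of_subsingleton (R := Localization.AtPrime 𝔔.asIdeal)
      (M := EGA4.FibLocMod A B 𝔔.asIdeal F)]
    simp
  obtain ⟨a, ha⟩ := Groth.Agent.Lib.Helper29.exists_nat_supportDim_eq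
    (Localization.AtPrime (𝔔.asIdeal.comap (algebraMap A B)))
    (LocalizedModule (𝔔.asIdeal.comap (algebraMap A B)).primeCompl E)
  obtain ⟨b, hb⟩ := Groth.Agent.Lib.Helper29.exists_nat_supportDim_eq
    (Localization.AtPrime 𝔔.asIdeal) (EGA4.FibLocMod A B 𝔔.asIdeal F)
  obtain ⟨c, hc⟩ := ENat.ne_top_iff_exists.mp (Groth.Agent.Lib.Helper29.depth_ne_top
    (Localization.AtPrime (𝔔.asIdeal.comap (algebraMap A B)))
    (LocalizedModule (𝔔.asIdeal.comap (algebraMap A B)).primeCompl E))
  obtain ⟨e, he⟩ := ENat.ne_top_iff_exists.mp (Groth.Agent.Lib.Helper29.depth_ne_top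
    (Localization.AtPrime 𝔔.asIdeal) (EGA4.FibLocMod A B 𝔔.asIdeal F))
  rw [ha, ← hc] at hE'
  rw [hb, ← he] at hfibre
  rw [ha, hb, ← hc, ← he]
  rw [cast_min_le_iff] at hE' hfibre
  have h3 := min_add_le k a b c e hE' hfibre
  have h4 := (cast_min_le_iff k (a + b) (c + e)).mpr h3
  push_cast at h4 ⊢
  exact h4

end Main

end Groth.Agent.Lib.Helper87.SkTensor
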