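import Groth.Agent.Lib.Helper87.SkTensor2
import Groth.Agent.Lib.Helper29.FlatDimMod
import Groth.Agent.Lib.Helper29.SuppDim

/-!
# Descent of `(S_k)` from `F ⊗[A] E` to `E` (helper87)
-/

set_option autoImplicit false
universe u

namespace Groth.Agent.Lib.Helper87.SkTensor

open TensorProduct IsLocalRing PrimeSpectrum

section Exists

variable (A B : Type u) [CommRing A] [CommRing B] [IsNoetherianRing A] [IsNoetherianRing B]
  [Algebra A B]
  (F : Type u) [AddCommGroup F] [Module B F] [Module A F] [IsScalarTower A B F] [Module.Finite B F]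
  [Module.Flat A F]

omit [IsNoetherianRing A] in
/-- Going down for the support of a flat module, with a point which is minimal in its fibre. -/
theorem exists_prime_minimal_in_fibre (q : PrimeSpectrum B) (hq : q ∈ Module.support B F)
    (P : Ideal A) [P.IsPrime] (hP : P ≤ q.asIdeal.comap (algebraMap A B)) :
    ∃ Q : PrimeSpectrum B, Q ≤ q ∧ Q.asIdeal.comap (algebraMap A B) = P ∧
      Q ∈ Module.support B F ∧
      ∀ Q' : PrimeSpectrum B, Q' ∈ Module.support B F → P.map (algebraMap A B) ≤ Q'.asIdeal →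
        Q' ≤ Q → Q' = Q := by
  set G := Groth.Agent.Lib.Helper29.QuotMap B F P with hG
  have hsupp : Module.support B G = Module.support B F ∩ zeroLocus (P.map (algebraMap A B)) :=
    Module.support_quotient (M := F) (P.map (algebraMap A B))
  have hqG : q ∈ Module.support B G := by
    rw [hsupp]
    exact ⟨hq, Ideal.map_le_iff_le_comap.mpr hP⟩
  have hann : Module.annihilator B G ≤ q.asIdeal := Module.annihilator_le_of_mem_support hqG
  obtain ⟨Q, hQmin, hQq⟩ := Ideal.exists_minimalPrimes_le hann
  have hQprime : Q.IsPrime := hQmin.1.1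
  have hQass : Q ∈ associatedPrimes B G :=
    Module.associatedPrimes.minimalPrimes_annihilator_subset_associatedPrimes B G hQmin
  obtain ⟨-, x, hx⟩ := (isAssociatedPrime_iff (R := B)).mp hQass
  have hmemQ : ∀ b : B, b ∈ Q ↔ b • x = 0 := by
    intro b
    rw [hx, Submodule.mem_colon_singleton, Submodule.mem_bot]
  have hx0 : x ≠ 0 := by
    intro h0
    apply hQprime.ne_top
    rw [Ideal.eq_top_iff_one, hmemQ, h0, smul_zero]
  have hQG : (⟨Q, hQprime⟩ : PrimeSpectrum B) ∈ Module.support B G := by
    rw [Module.mem_support_iff_of_finite]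
    exact hQmin.1.2
  have hQG' := hQG
  rw [hsupp] at hQG'
  refine ⟨⟨Q, hQprime⟩, hQq, ?_, hQG'.1, ?_⟩
  · apply le_antisymm
    · intro a ha
      by_contra haP
      have hreg := Groth.Agent.Lib.Helper29.isSMulRegular_quotMap (B := B) F P haP
      have h1 : algebraMap A B a • x = 0 := (hmemQ _).mp ha
      exact hx0 (hreg (by
        change algebraMap A B a • x = algebraMap A B a • (0 : G)
        rw [h1, smul_zero]))
    · exact Ideal.map_le_iff_le_comap.mp hQG'.2
  · intro Q' hQ'F hQ'P hQ'Q
    have hQ'G : Q' ∈ Module.support B G := by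
      rw [hsupp]
      exact ⟨hQ'F, hQ'P⟩
    have h1 : Module.annihilator B G ≤ Q'.asIdeal := Module.annihilator_le_of_mem_support hQ'G
    have h2 := hQmin.2 ⟨Q'.isPrime, h1⟩ hQ'Q
    exact PrimeSpectrum.ext (le_antisymm hQ'Q h2)

omit [IsNoetherianRing A] [Module.Flat A F] [Module A F] [IsScalarTower A B F] in
/-- At a point which is minimal in its fibre (inside the support), the fibre module is nonzero
of dimension zero. -/
theorem supportDim_fibLocMod_eq_zero (Q : PrimeSpectrum B) (hQF : Q ∈ Module.support B F)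
    (hmin : ∀ Q' : PrimeSpectrum B, Q' ∈ Module.support B F →
      (Q.asIdeal.comap (algebraMap A B)).map (algebraMap A B) ≤ Q'.asIdeal → Q' ≤ Q → Q' = Q) :
    Nontrivial (EGA4.FibLocMod A B Q.asIdeal F) ∧
      Module.supportDim (Localization.AtPrime Q.asIdeal) (EGA4.FibLocMod A B Q.asIdeal F) = 0 := by
  have hNQ : IsNoetherianRing (Localization.AtPrime Q.asIdeal) :=
    IsLocalization.isNoetherianRing Q.asIdeal.primeCompl _ inferInstance
  set I : Ideal (Localization.AtPrime Q.asIdeal) :=
    (Q.asIdeal.comap (algebraMap A B)).map (algebraMap A (Localization.AtPrime Q.asIdeal)) with hI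
  have hIle : I ≤ maximalIdeal (Localization.AtPrime Q.asIdeal) := by
    rw [hI, Ideal.map_le_iff_le_comap]
    intro a ha
    rw [Ideal.mem_comap, IsScalarTower.algebraMap_apply A B (Localization.AtPrime Q.asIdeal)]
    exact (IsLocalization.AtPrime.to_map_mem_maximal_iff (Localization.AtPrime Q.asIdeal)
      Q.asIdeal _).mpr ha
  have hntF : Nontrivial (LocalizedModule Q.asIdeal.primeCompl F) := Module.mem_support_iff.mp hQF
  have hnt : Nontrivial (EGA4.FibLocMod A B Q.asIdeal F) := by
    rw [← not_subsingleton_iff_nontrivial, Submodule.Quotient.subsingleton_iff]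
    exact (Submodule.top_ne_ideal_smul_of_le_jacobson_annihilator
      (hIle.trans (IsLocalRing.maximalIdeal_le_jacobson _))).symm
  refine ⟨hnt, ?_⟩
  have hsupp : Module.support (Localization.AtPrime Q.asIdeal) (EGA4.FibLocMod A B Q.asIdeal F) =
      Module.support (Localization.AtPrime Q.asIdeal) (LocalizedModule Q.asIdeal.primeCompl F) ∩
        zeroLocus I :=
    Module.support_quotient (M := LocalizedModule Q.asIdeal.primeCompl F) I
  have hall : ∀ 𝔔 ∈ Module.support (Localization.AtPrime Q.asIdeal)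
      (EGA4.FibLocMod A B Q.asIdeal F), 𝔔 = IsLocalRing.closedPoint _ := by
    intro 𝔔 h𝔔
    rw [hsupp] at h𝔔
    obtain ⟨h1, h2⟩ := h𝔔
    have hQ'F : comap (algebraMap B (Localization.AtPrime Q.asIdeal)) 𝔔 ∈ Module.support B F :=
      Groth.Agent.Lib.Helper29.support_localizedModule_subset Q.asIdeal.primeCompl F
        (Module.support_subset_preimage_comap (R := B) (A := Localization.AtPrime Q.asIdeal)
          (M := LocalizedModule Q.asIdeal.primeCompl F) h1)
    have hQ'P : (Q.asIdeal.comap (algebraMap A B)).map (algebraMap A B) ≤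
        (comap (algebraMap B (Localization.AtPrime Q.asIdeal)) 𝔔).asIdeal := by
      rw [Ideal.map_le_iff_le_comap]
      intro a ha
      change algebraMap B (Localization.AtPrime Q.asIdeal) (algebraMap A B a) ∈ 𝔔.asIdeal
      rw [← IsScalarTower.algebraMap_apply A B (Localization.AtPrime Q.asIdeal)]
      exact h2 (Ideal.mem_map_of_mem _ ha)
    have hQ'Q : comap (algebraMap B (Localization.AtPrime Q.asIdeal)) 𝔔 ≤ Q := by
      change (𝔔.asIdeal.comap (algebraMap B (Localization.AtPrime Q.asIdeal))) ≤ Q.asIdeal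
      have h3 : 𝔔.asIdeal ≤ maximalIdeal (Localization.AtPrime Q.asIdeal) :=
        IsLocalRing.le_maximalIdeal 𝔔.isPrime.ne_top
      refine (Ideal.comap_mono h3).trans (le_of_eq ?_)
      exact Localization.AtPrime.under_maximalIdeal
    have heq := hmin _ hQ'F hQ'P hQ'Q
    apply PrimeSpectrum.ext
    change 𝔔.asIdeal = maximalIdeal _
    rw [← IsLocalization.map_under Q.asIdeal.primeCompl (Localization.AtPrime Q.asIdeal) 𝔔.asIdeal]
    have h4 : 𝔔.asIdeal.under B = Q.asIdeal :=
      congrArg PrimeSpectrum.asIdeal heq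
    rw [h4]
    exact Localization.AtPrime.map_eq_maximalIdeal
  have hss : Subsingleton (Module.support (Localization.AtPrime Q.asIdeal)
      (EGA4.FibLocMod A B Q.asIdeal F)) :=
    ⟨fun a b => Subtype.ext ((hall a.1 a.2).trans (hall b.1 b.2).symm)⟩
  have hle : Module.supportDim (Localization.AtPrime Q.asIdeal)
      (EGA4.FibLocMod A B Q.asIdeal F) ≤ 0 := Order.krullDim_nonpos_of_subsingleton
  obtain ⟨n, hn⟩ := Groth.Agent.Lib.Helper29.exists_nat_supportDim_eq
    (Localization.AtPrime Q.asIdeal) (EGA4.FibLocMod A B Q.asIdeal F)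
  rw [hn] at hle ⊢
  have : n = 0 := by
    have : (n : WithBot ℕ∞) ≤ ((0 : ℕ) : WithBot ℕ∞) := by simpa using hle
    exact Nat.le_zero.mp (by exact_mod_cast this)
  rw [this]
  rfl

end Exists

section Main

variable (A B : Type u) [CommRing A] [CommRing B] [IsNoetherianRing A] [IsNoetherianRing B]
  [Algebra A B]
  (E : Type u) [AddCommGroup E] [Module A E] [Module.Finite A E]
  (F : Type u) [AddCommGroup F] [Module B F] [Module A F] [IsScalarTower A B F] [Module.Finite B F]
  [Module.Flat A F]

theorem min_le_depth_base (k : ℕ) (Q : PrimeSpectrum B) (hQF : Q ∈ Module.support B F)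
    (hmin : ∀ Q' : PrimeSpectrum B, Q' ∈ Module.support B F →
      (Q.asIdeal.comap (algebraMap A B)).map (algebraMap A B) ≤ Q'.asIdeal → Q' ≤ Q → Q' = Q)
    (hQ : min (k : WithBot ℕ∞) (Module.supportDim (Localization.AtPrime Q.asIdeal)
        (LocalizedModule Q.asIdeal.primeCompl (F ⊗[A] E))) ≤
      ((LocCoh.depth (Localization.AtPrime Q.asIdeal)
        (LocalizedModule Q.asIdeal.primeCompl (F ⊗[A] E)) : ℕ∞) : WithBot ℕ∞)) :
    min (k : WithBot ℕ∞) (Module.supportDim (Localization.AtPrime (Q.asIdeal.comap (algebraMap A B)))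
        (LocalizedModule (Q.asIdeal.comap (algebraMap A B)).primeCompl E)) ≤
      ((LocCoh.depth (Localization.AtPrime (Q.asIdeal.comap (algebraMap A B)))
        (LocalizedModule (Q.asIdeal.comap (algebraMap A B)).primeCompl E) : ℕ∞) : WithBot ℕ∞) := by
  have hNP : IsNoetherianRing (Localization.AtPrime (Q.asIdeal.comap (algebraMap A B))) :=
    IsLocalization.isNoetherianRing (Q.asIdeal.comap (algebraMap A B)).primeCompl _ inferInstance
  have hNQ : IsNoetherianRing (Localization.AtPrime Q.asIdeal) :=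
    IsLocalization.isNoetherianRing Q.asIdeal.primeCompl _ inferInstance
  rcases subsingleton_or_nontrivial
    (LocalizedModule (Q.asIdeal.comap (algebraMap A B)).primeCompl E) with hM | hM
  · rw [Module.supportDim_eq_bot_of_subsingleton]
    simp
  have hN : Nontrivial (LocalizedModule Q.asIdeal.primeCompl F) := Module.mem_support_iff.mp hQF
  obtain ⟨hntFib, hdim0⟩ := supportDim_fibLocMod_eq_zero A B F Q hQF hmin
  obtain ⟨hd, hs, -⟩ := depth_and_supportDim_localizedModule_tensor A B E F Q.asIdeal
  rw [hs hM hN, hd, hdim0, add_zero] at hQ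
  have hdep : LocCoh.depth (Localization.AtPrime Q.asIdeal) (EGA4.FibLocMod A B Q.asIdeal F) = 0 := by
    have h1 := Groth.Agent.Lib.Helper29.depth_le_supportDim (Localization.AtPrime Q.asIdeal)
      (EGA4.FibLocMod A B Q.asIdeal F)
    rw [hdim0] at h1
    have h2 : ((LocCoh.depth (Localization.AtPrime Q.asIdeal)
        (EGA4.FibLocMod A B Q.asIdeal F) : ℕ∞) : WithBot ℕ∞) ≤ ((0 : ℕ∞) : WithBot ℕ∞) := by
      simpa using h1
    exact le_antisymm (WithBot.coe_le_coe.mp h2) bot_le
  rw [hdep, add_zero] at hQ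
  exact hQ

/-- EGA IV 6.4.1 (ii), descent. -/
theorem hasSkAt_base (k : ℕ) (q : PrimeSpectrum B) (hq : q ∈ Module.support B F)
    (h : EGA4.HasSkAt k B (F ⊗[A] E) q.asIdeal) :
    EGA4.HasSkAt k A E (q.asIdeal.comap (algebraMap A B)) := by
  have hfinT : Module.Finite B (F ⊗[A] E) := Groth.Agent.Lib.Helper93.DepthFlat.finite_tensor
  have h' := (Groth.Agent.Lib.Helper29.hasSkAt_iff B (F ⊗[A] E) k q).mp h
  apply (Groth.Agent.Lib.Helper29.hasSkAt_iff A E k
    ⟨q.asIdeal.comap (algebraMap A B), inferInstance⟩).mpr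
  intro 𝔭 hle
  obtain ⟨Q, hQq, hQP, hQF, hmin⟩ := exists_prime_minimal_in_fibre A B F q hq 𝔭.asIdeal hle
  have hmin' : ∀ Q' : PrimeSpectrum B, Q' ∈ Module.support B F →
      (Q.asIdeal.comap (algebraMap A B)).map (algebraMap A B) ≤ Q'.asIdeal → Q' ≤ Q → Q' = Q := by
    rw [hQP]
    exact hmin
  have h1 := min_le_depth_base A B E F k Q hQF hmin' (h' Q hQq)
  have key : ∀ (P' : Ideal A) [P'.IsPrime], P' = 𝔭.asIdeal →
      min (k : WithBot ℕ∞) (Module.supportDim (Localization.AtPrime P')
          (LocalizedModule P'.primeCompl E)) ≤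
        ((LocCoh.depth (Localization.AtPrime P') (LocalizedModule P'.primeCompl E) : ℕ∞) :
          WithBot ℕ∞) →
      min (k : WithBot ℕ∞) (Module.supportDim (Localization.AtPrime 𝔭.asIdeal)
          (LocalizedModule 𝔭.asIdeal.primeCompl E)) ≤
        ((LocCoh.depth (Localization.AtPrime 𝔭.asIdeal)
          (LocalizedModule 𝔭.asIdeal.primeCompl E) : ℕ∞) : WithBot ℕ∞) := by
    intro P' _ hP' h
    subst hP'
    exact h
  exact key _ hQP h1

end Main

end Groth.Agent.Lib.Helper87.SkTensor
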