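import Mathlib

set_option autoImplicit false

namespace Groth.Agent.Lib.Helper87

open LieModule Module

theorem six_mul_choose_three (n : ℕ) : 6 * (n + 2).choose 3 = n * (n + 1) * (n + 2) := by
  have := Nat.descFactorial_eq_factorial_mul_choose (n + 2) 3
  simp [Nat.descFactorial_succ, Nat.factorial] at this
  rw [← this]
  ring

theorem three_mul_sum_sq {k : Type*} [CommRing k] (a : k) (m : ℕ) :
    3 * ∑ j ∈ Finset.range m, (a - 2 * (j : k)) ^ 2 =
      3 * m * a ^ 2 - 6 * a * m * (m - 1) + 2 * (m - 1) * m * (2 * m - 1) := by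
  induction m with
  | zero => simp
  | succ m ih =>
    rw [Finset.sum_range_succ, mul_add, ih]
    push_cast
    ring

theorem sl2_irred_trace (k : Type*) [Field k] [IsAlgClosed k] [CharZero k]
    (L : Type*) [LieRing L] [LieAlgebra k L]
    (h e f : L) (t : IsSl2Triple h e f) (hspan : t.toLieSubalgebra k = ⊤)
    (M : Type*) [AddCommGroup M] [Module k M] [LieRingModule L M] [LieModule k L M]
    [FiniteDimensional k M] [LieModule.IsIrreducible k L M] :
    3 * LinearMap.trace k M ((LieModule.toEnd k L M h) ^ 2) =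
      6 * (((Module.finrank k M + 1).choose 3 : ℕ) : k) := by
  have := LieModule.nontrivial_of_isIrreducible k L M
  obtain ⟨μ, m, hm, P⟩ := t.exists_hasPrimitiveVectorWith (R := k) (M := M)
  obtain ⟨n, rfl⟩ := P.exists_nat
  -- vanishing above n
  have hzero : ∀ j, n + 1 ≤ j → ((toEnd k L M f) ^ j) m = 0 := by
    intro j hj
    obtain ⟨i, rfl⟩ := Nat.exists_eq_add_of_le hj
    rw [add_comm, pow_add, Module.End.mul_apply, P.pow_toEnd_f_eq_zero_of_eq_nat rfl, map_zero]
  -- the span of all `f^j m`
  let S : Submodule k M := Submodule.span k (Set.range fun j : ℕ => ((toEnd k L M f) ^ j) m)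
  have hgen : ∀ j : ℕ, ((toEnd k L M f) ^ j) m ∈ S := fun j => Submodule.subset_span ⟨j, rfl⟩
  have hSf : S ≤ S.comap (toEnd k L M f) := by
    refine Submodule.span_le.mpr ?_
    rintro _ ⟨j, rfl⟩
    show (toEnd k L M f) (((toEnd k L M f) ^ j) m) ∈ S
    rw [toEnd_apply_apply, P.lie_f_pow_toEnd_f j]
    exact hgen _
  have hSh : S ≤ S.comap (toEnd k L M h) := by
    refine Submodule.span_le.mpr ?_
    rintro _ ⟨j, rfl⟩
    show (toEnd k L M h) (((toEnd k L M f) ^ j) m) ∈ S
    rw [toEnd_apply_apply, P.lie_h_pow_toEnd_f j]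
    exact S.smul_mem _ (hgen _)
  have hSe : S ≤ S.comap (toEnd k L M e) := by
    refine Submodule.span_le.mpr ?_
    rintro _ ⟨j, rfl⟩
    show (toEnd k L M e) (((toEnd k L M f) ^ j) m) ∈ S
    rw [toEnd_apply_apply]
    cases j with
    | zero => simp [P.lie_e]
    | succ j =>
      rw [P.lie_e_pow_succ_toEnd_f j]
      exact S.smul_mem _ (hgen _)
  let N : LieSubmodule k L M :=
    { S with
      lie_mem := by
        intro x y hy
        have hx : x ∈ t.toLieSubalgebra k := by rw [hspan]; trivial
        obtain ⟨c₁, c₂, c₃, rfl⟩ := IsSl2Triple.mem_toLieSubalgebra_iff.mp hx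
        rw [t.lie_e_f]
        simp only [add_lie, smul_lie]
        exact S.add_mem (S.add_mem (S.smul_mem _ (hSe hy)) (S.smul_mem _ (hSf hy)))
          (S.smul_mem _ (hSh hy)) }
  have hN : N = ⊤ := by
    rcases IsSimpleOrder.eq_bot_or_eq_top N with hb | ht
    · exfalso
      have : m ∈ N := (by simpa using hgen 0 : m ∈ S)
      rw [hb] at this
      exact hm (by simpa using this)
    · exact ht
  have hStop : S = ⊤ := by
    have : N.toSubmodule = ⊤ := by rw [hN]; rfl
    exact this
  -- the finite family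
  let v : Fin (n + 1) → M := fun j => ((toEnd k L M f) ^ (j : ℕ)) m
  have hvspan : ⊤ ≤ Submodule.span k (Set.range v) := by
    rw [← hStop]
    refine Submodule.span_le.mpr ?_
    rintro _ ⟨j, rfl⟩
    by_cases hj : j < n + 1
    · exact Submodule.subset_span ⟨⟨j, hj⟩, rfl⟩
    · simp only [hzero j (not_lt.mp hj)]
      exact Submodule.zero_mem _
  have heig : ∀ j : Fin (n + 1),
      (toEnd k L M h).HasEigenvector ((n : k) - 2 * ((j : ℕ) : k)) (v j) := by
    intro j
    refine ⟨?_, P.pow_toEnd_f_ne_zero_of_eq_nat rfl (Nat.lt_succ_iff.mp j.2)⟩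
    rw [Module.End.mem_eigenspace_iff, toEnd_apply_apply]
    exact P.lie_h_pow_toEnd_f j
  have hinj : Function.Injective fun j : Fin (n + 1) => ((n : k) - 2 * ((j : ℕ) : k)) := by
    intro a b hab
    have h2 : (2 : k) * ((a : ℕ) : k) = 2 * ((b : ℕ) : k) := by
      have := hab
      simp only [sub_right_inj] at this
      exact this
    have h3 : ((a : ℕ) : k) = ((b : ℕ) : k) := mul_left_cancel₀ two_ne_zero h2
    exact Fin.ext (Nat.cast_injective h3)
  have hli : LinearIndependent k v :=
    (toEnd k L M h).eigenvectors_linearIndependent' _ hinj v heig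
  let b : Basis (Fin (n + 1)) k M := Basis.mk hli hvspan
  have hb : ∀ j, b j = v j := fun j => by simp [b]
  have hfr : Module.finrank k M = n + 1 := by
    rw [Module.finrank_eq_card_basis b, Fintype.card_fin]
  have htr : LinearMap.trace k M ((toEnd k L M h) ^ 2) =
      ∑ j : Fin (n + 1), ((n : k) - 2 * ((j : ℕ) : k)) ^ 2 := by
    rw [LinearMap.trace_eq_matrix_trace k b, Matrix.trace]
    refine Finset.sum_congr rfl fun j _ => ?_
    rw [Matrix.diag_apply, LinearMap.toMatrix_apply, hb]
    have h1 : ((toEnd k L M h) ^ 2) (v j) = (((n : k) - 2 * ((j : ℕ) : k)) ^ 2) • b j := by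
      have e1 := (heig j).apply_eq_smul
      rw [pow_two, Module.End.mul_apply, e1, map_smul, e1, smul_smul, hb, pow_two]
    rw [h1, map_smul, Basis.repr_self, Finsupp.smul_apply, Finsupp.single_eq_same, smul_eq_mul,
      mul_one]
  rw [htr, hfr, Fin.sum_univ_eq_sum_range (fun j => ((n : k) - 2 * (j : k)) ^ 2) (n + 1),
    three_mul_sum_sq]
  have h6 := congrArg (Nat.cast (R := k)) (six_mul_choose_three n)
  push_cast at h6
  rw [h6]
  push_cast
  ring

end Groth.Agent.Lib.Helper87
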