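import Groth.Agent.Lib.Helper29.RegSeqPow
import Groth.Agent.Lib.Helper28.RegularCM
import Groth.Agent.Lib.Helper85.RegularGens

/-!
helper87: regular systems of parameters of a regular local ring are (weakly) regular sequences,
and the smoothing-preparation lemma (S2109).
-/

set_option autoImplicit false
universe u

namespace Groth.Agent.Lib.Helper87.Smoothing

open IsLocalRing RingTheory.Sequence Groth.Agent.Lib.Helper29 Groth.Agent.Lib.Helper85
  Groth.Agent.Lib.Helper28

theorem range_succ_split {R : Type u} {d : ℕ} (f : Fin (d + 1) → R) :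
    Set.range f = {f 0} ∪ Set.range (fun i : Fin d => f i.succ) := by
  ext y
  constructor
  · rintro ⟨i, rfl⟩
    refine Fin.cases ?_ (fun j => ?_) i
    · left; rfl
    · right; exact ⟨j, rfl⟩
  · rintro (h | ⟨j, rfl⟩)
    · rw [Set.mem_singleton_iff] at h; exact ⟨0, h.symm⟩
    · exact ⟨j.succ, rfl⟩

/-- A minimal generating family of the maximal ideal of a regular local ring is a weakly regular
sequence. -/
theorem isWeaklyRegular_ofFn_of_span_eq : ∀ (d : ℕ) (R : Type u) [CommRing R]
    [IsRegularLocalRing R] (f : Fin d → R), (maximalIdeal R).spanFinrank = d →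
    Ideal.span (Set.range f) = maximalIdeal R → IsWeaklyRegular R (List.ofFn f) := by
  intro d
  induction d with
  | zero =>
    intro R _ _ f _ _
    simp only [List.ofFn_zero]
    exact IsWeaklyRegular.nil R R
  | succ d ih =>
    intro R _ _ f hd hf
    have hsplit : maximalIdeal R =
        Ideal.span {f 0} ⊔ Ideal.span (Set.range (fun i : Fin d => f i.succ)) := by
      rw [← hf, ← Ideal.span_union, range_succ_split]
    have hxm : f 0 ∈ maximalIdeal R := by
      rw [← hf]; exact Ideal.subset_span ⟨0, rfl⟩
    have hx2 : f 0 ∉ maximalIdeal R ^ 2 := by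
      intro hmem
      have hle : maximalIdeal R ≤ Ideal.span (Set.range (fun i : Fin d => f i.succ)) := by
        apply Submodule.le_of_le_smul_of_le_jacobson_bot (I := maximalIdeal R)
          (maximalIdeal R).fg_of_isNoetherianRing
          (IsLocalRing.jacobson_eq_maximalIdeal _ bot_ne_top).ge
        conv_lhs => rw [hsplit]
        rw [sup_comm]
        refine sup_le_sup le_rfl ?_
        rw [Ideal.span_singleton_le_iff_mem, smul_eq_mul, ← pow_two]
        exact hmem
      have h1 : (maximalIdeal R).spanFinrank ≤
          (Ideal.span (Set.range (fun i : Fin d => f i.succ))).spanFinrank := by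
        rw [le_antisymm hle (by rw [hsplit]; exact le_sup_right)]
      have h2 := Submodule.spanFinrank_span_le_ncard_of_finite (R := R)
        (Set.finite_range (fun i : Fin d => f i.succ))
      have h3 : (Set.range (fun i : Fin d => f i.succ)).ncard ≤ d := by
        have := Set.ncard_image_le (f := fun i : Fin d => f i.succ) (s := Set.univ)
          Set.finite_univ
        rw [Set.image_univ, Set.ncard_univ, Nat.card_fin] at this
        exact this
      change (Submodule.span R _).spanFinrank ≤ _ at h2
      change _ ≤ (Submodule.span R _).spanFinrank at h1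
      omega
    have hdom := isDomain_of_isRegularLocalRing R
    have hx0 : f 0 ≠ 0 := by
      intro h0; rw [h0] at hx2; exact hx2 (zero_mem _)
    have hxreg : IsSMulRegular R (f 0) := by
      intro a b hab
      exact mul_left_cancel₀ hx0 hab
    obtain ⟨hreg', hd'⟩ := isRegularLocalRing_quotient_span_singleton (f 0) hxm hx2
    have hspan' : Ideal.span (Set.range
        (fun i : Fin d => Ideal.Quotient.mk (Ideal.span ({f 0} : Set R)) (f i.succ))) =
        maximalIdeal (R ⧸ Ideal.span ({f 0} : Set R)) := by
      rw [← maximalIdeal_map_of_surjective (Ideal.Quotient.mk (Ideal.span ({f 0} : Set R)))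
        Ideal.Quotient.mk_surjective, hsplit, Ideal.map_sup, Ideal.map_span, Ideal.map_span]
      have h1 : (Ideal.Quotient.mk (Ideal.span ({f 0} : Set R))) '' {f 0} = {0} := by
        rw [Set.image_singleton]
        congr 1
        exact Ideal.Quotient.eq_zero_iff_mem.mpr (Ideal.mem_span_singleton_self _)
      rw [h1, Ideal.span_singleton_eq_bot.mpr rfl, bot_sup_eq, ← Set.range_comp]
      rfl
    have hwr := ih (R ⧸ Ideal.span ({f 0} : Set R))
      (fun i : Fin d => Ideal.Quotient.mk (Ideal.span ({f 0} : Set R)) (f i.succ))
      (by omega) hspan'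
    rw [List.ofFn_succ, isWeaklyRegular_cons_iff]
    refine ⟨hxreg, ?_⟩
    have hmap : (List.ofFn fun i : Fin d => Ideal.Quotient.mk (Ideal.span ({f 0} : Set R))
        (f i.succ)) = (List.ofFn fun i : Fin d => f i.succ).map
          (algebraMap R (R ⧸ Ideal.span ({f 0} : Set R))) := by
      rw [List.map_ofFn]; rfl
    rw [hmap] at hwr
    have h1 : IsWeaklyRegular (R ⧸ Ideal.span ({f 0} : Set R))
        (List.ofFn fun i : Fin d => f i.succ) :=
      (isWeaklyRegular_map_algebraMap_iff (R := R) (S := R ⧸ Ideal.span ({f 0} : Set R))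
        (M := R ⧸ Ideal.span ({f 0} : Set R)) _).mp hwr
    exact ((quotSMulTopSelfEquiv (f 0)).isWeaklyRegular_congr _).mpr h1

end Groth.Agent.Lib.Helper87.Smoothing
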