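import Mathlib

set_option autoImplicit false

namespace Groth.Agent.Lib.Helper87

open Finset

/-- Valuation of a finite product of nonzero naturals. -/
lemma padicValNat_prod' (p : ℕ) [Fact p.Prime] {α : Type*} (s : Finset α) (f : α → ℕ)
    (hf : ∀ a ∈ s, f a ≠ 0) :
    padicValNat p (∏ a ∈ s, f a) = ∑ a ∈ s, padicValNat p (f a) := by
  classical
  induction s using Finset.induction_on with
  | empty => simp
  | insert a s ha ih =>
    rw [Finset.prod_insert ha, Finset.sum_insert ha,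
      padicValNat.mul (hf a (Finset.mem_insert_self a s))
        (Finset.prod_ne_zero_iff.mpr fun x hx => hf x (Finset.mem_insert_of_mem hx)),
      ih fun x hx => hf x (Finset.mem_insert_of_mem hx)]

lemma pow_sub_one_ne_zero {l n : ℕ} (hl : 2 ≤ l) (hn : n ≠ 0) : l ^ n - 1 ≠ 0 := by
  have : 1 < l ^ n := Nat.one_lt_pow hn hl
  omega

/-- The order-type product. -/
def spProd (g l : ℕ) : ℕ := ∏ a ∈ Icc 1 g, (l ^ (2 * a) - 1)

lemma spProd_ne_zero (g : ℕ) {l : ℕ} (hl : 2 ≤ l) : spProd g l ≠ 0 := by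
  unfold spProd
  refine Finset.prod_ne_zero_iff.mpr fun a ha => ?_
  have : 1 ≤ a := (Finset.mem_Icc.mp ha).1
  exact pow_sub_one_ne_zero hl (by omega)

lemma padicValNat_spProd (p : ℕ) [Fact p.Prime] (g : ℕ) {l : ℕ} (hl : 2 ≤ l) :
    padicValNat p (spProd g l) = ∑ a ∈ Icc 1 g, padicValNat p (l ^ (2 * a) - 1) := by
  unfold spProd
  refine padicValNat_prod' p _ _ fun a ha => ?_
  have : 1 ≤ a := (Finset.mem_Icc.mp ha).1
  exact pow_sub_one_ne_zero hl (by omega)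

lemma sum_padicValNat_Icc (p : ℕ) [Fact p.Prime] (g : ℕ) :
    ∑ a ∈ Icc 1 g, padicValNat p a = padicValNat p g.factorial := by
  have hI : Icc 1 g = Ico 1 (g + 1) := by
    ext x
    simp
  rw [← Finset.prod_Ico_id_eq_factorial, ← hI, padicValNat_prod' p _ _ fun a ha => ?_]
  have : 1 ≤ a := (Finset.mem_Icc.mp ha).1
  omega

/-! ### The prime two -/

lemma padicValNat_two_pow_sub_one {l a : ℕ} (hl : 3 ≤ l) (hodd : ¬ 2 ∣ l) (ha : a ≠ 0) :
    padicValNat 2 (l ^ (2 * a) - 1) =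
      padicValNat 2 (l + 1) + padicValNat 2 (l - 1) + padicValNat 2 a := by
  have h1 : (1 : ℕ) < l := by omega
  have h2 : 2 ∣ l - 1 := by omega
  have h := padicValNat.pow_two_sub_pow (x := l) (y := 1) h1 h2 hodd (n := 2 * a) (by omega)
    (even_two_mul a)
  rw [one_pow, padicValNat.mul two_ne_zero ha, padicValNat_self] at h
  omega

lemma three_le_padicValNat_two {l : ℕ} (hl : 3 ≤ l) (hodd : ¬ 2 ∣ l) :
    3 ≤ padicValNat 2 (l + 1) + padicValNat 2 (l - 1) := by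
  have h1 : l - 1 ≠ 0 := by omega
  have h2 : l + 1 ≠ 0 := by omega
  rw [← padicValNat.mul h2 h1, ← padicValNat_dvd_iff_le (mul_ne_zero h2 h1)]
  obtain ⟨k, hk⟩ : ∃ k, l = 2 * k + 1 := ⟨l / 2, by omega⟩
  subst hk
  have : (2 * k + 1 + 1) * (2 * k + 1 - 1) = 4 * (k * (k + 1)) := by
    have : 2 * k + 1 - 1 = 2 * k := by omega
    rw [this]; ring
  rw [this]
  have h3 : 2 ∣ k * (k + 1) := (Nat.even_mul_succ_self k).two_dvd
  obtain ⟨c, hc⟩ := h3
  rw [hc]
  exact ⟨c, by ring⟩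

lemma padicValNat_two_eq_three {l : ℕ} (h8 : l % 8 = 3) :
    padicValNat 2 (l + 1) + padicValNat 2 (l - 1) = 3 := by
  have hl : 3 ≤ l := by omega
  have hodd : ¬ 2 ∣ l := by omega
  apply le_antisymm _ (three_le_padicValNat_two hl hodd)
  have h1 : l - 1 ≠ 0 := by omega
  have h2 : l + 1 ≠ 0 := by omega
  rw [← padicValNat.mul h2 h1]
  by_contra hlt
  push Not at hlt
  have h4 : 2 ^ 4 ∣ (l + 1) * (l - 1) :=
    (padicValNat_dvd_iff_le (mul_ne_zero h2 h1)).mpr hlt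
  obtain ⟨j, hj⟩ : ∃ j, l = 8 * j + 3 := ⟨l / 8, by omega⟩
  subst hj
  have : (8 * j + 3 + 1) * (8 * j + 3 - 1) = 16 * (4 * j * j + 3 * j) + 8 := by
    have : 8 * j + 3 - 1 = 8 * j + 2 := by omega
    rw [this]; ring
  rw [this] at h4
  omega

lemma le_padicValNat_two_spProd (g : ℕ) {l : ℕ} (hl : 3 ≤ l) (hodd : ¬ 2 ∣ l) :
    3 * g + padicValNat 2 g.factorial ≤ padicValNat 2 (spProd g l) := by
  rw [padicValNat_spProd 2 g (by omega), ← sum_padicValNat_Icc 2 g]
  have h3 : 3 * g = ∑ _a ∈ Icc 1 g, 3 := by simp [mul_comm]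
  rw [h3, ← Finset.sum_add_distrib]
  refine Finset.sum_le_sum fun a ha => ?_
  have ha1 : 1 ≤ a := (Finset.mem_Icc.mp ha).1
  rw [padicValNat_two_pow_sub_one hl hodd (by omega)]
  have := three_le_padicValNat_two hl hodd
  omega

lemma padicValNat_two_spProd_le (g : ℕ) {l : ℕ} (h8 : l % 8 = 3) :
    padicValNat 2 (spProd g l) ≤ 3 * g + padicValNat 2 g.factorial := by
  have hl : 3 ≤ l := by omega
  have hodd : ¬ 2 ∣ l := by omega
  rw [padicValNat_spProd 2 g (by omega), ← sum_padicValNat_Icc 2 g]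
  have h3 : 3 * g = ∑ _a ∈ Icc 1 g, 3 := by simp [mul_comm]
  rw [h3, ← Finset.sum_add_distrib]
  refine Finset.sum_le_sum fun a ha => ?_
  have ha1 : 1 ≤ a := (Finset.mem_Icc.mp ha).1
  rw [padicValNat_two_pow_sub_one hl hodd (by omega), padicValNat_two_eq_three h8]

end Groth.Agent.Lib.Helper87
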