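import Groth.Agent.Lib.Helper87.SpOrder
import Mathlib

set_option autoImplicit false

namespace Groth.Agent.Lib.Helper87

open Finset

section odd

variable (p : ℕ) [hp : Fact p.Prime]

/-- Fermat's little theorem in divisibility form. -/
lemma dvd_pow_pred_sub_one {l : ℕ} (hpl : ¬ p ∣ l) : p ∣ l ^ (p - 1) - 1 := by
  have h1 : (l : ZMod p) ≠ 0 := by rwa [Ne, ZMod.natCast_eq_zero_iff]
  have h2 := ZMod.pow_card_sub_one_eq_one h1
  have hl0 : 0 < l := Nat.pos_of_ne_zero (by rintro rfl; exact hpl (dvd_zero p))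
  have h3 : 1 ≤ l ^ (p - 1) := Nat.one_le_pow _ _ hl0
  rw [← ZMod.natCast_eq_zero_iff, Nat.cast_sub h3, Nat.cast_pow, h2]
  simp

lemma padicValNat_pow_mul_sub_one (hp2 : p ≠ 2) {l : ℕ} (hl : 2 ≤ l) (hpl : ¬ p ∣ l) {i : ℕ}
    (hi : i ≠ 0) :
    padicValNat p (l ^ ((p - 1) * i) - 1) =
      padicValNat p (l ^ (p - 1) - 1) + padicValNat p i := by
  have hodd : Odd p := hp.out.odd_of_ne_two hp2
  have hp1 : p - 1 ≠ 0 := by have := hp.out.two_le; omega
  have h1 : 1 < l ^ (p - 1) := Nat.one_lt_pow hp1 hl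
  have h := padicValNat.pow_sub_pow (p := p) hodd h1 (by simpa using dvd_pow_pred_sub_one p hpl)
    (fun hd => hpl (hp.out.dvd_of_dvd_pow hd)) hi
  rwa [one_pow, ← pow_mul] at h

/-- half of `p - 1` -/
lemma exists_half (hp2 : p ≠ 2) : ∃ h : ℕ, 1 ≤ h ∧ p - 1 = 2 * h := by
  have hodd : Odd p := hp.out.odd_of_ne_two hp2
  obtain ⟨k, hk⟩ := hodd
  have := hp.out.two_le
  exact ⟨k, by omega, by omega⟩

lemma image_subset_Icc (g h : ℕ) (hh : 1 ≤ h) :
    (Icc 1 (2 * g / (2 * h))).image (fun i => h * i) ⊆ Icc 1 g := by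
  intro a ha
  obtain ⟨i, hi, rfl⟩ := Finset.mem_image.mp ha
  obtain ⟨hi1, hi2⟩ := Finset.mem_Icc.mp hi
  rw [Finset.mem_Icc]
  constructor
  · exact Nat.one_le_iff_ne_zero.mpr (Nat.mul_ne_zero (by omega) (by omega))
  · have h1 : 2 * h * i ≤ 2 * g := by
      calc 2 * h * i ≤ 2 * h * (2 * g / (2 * h)) := Nat.mul_le_mul_left _ hi2
        _ ≤ 2 * g := Nat.mul_div_le _ _
    nlinarith

lemma injOn_mul (h : ℕ) (hh : 1 ≤ h) (s : Finset ℕ) :
    Set.InjOn (fun i => h * i) (s : Set ℕ) := by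
  intro a _ b _ hab
  exact Nat.eq_of_mul_eq_mul_left (by omega) hab

lemma le_padicValNat_spProd (hp2 : p ≠ 2) (g : ℕ) {l : ℕ} (hl : 2 ≤ l) (hpl : ¬ p ∣ l) :
    2 * g / (p - 1) + ∑ i ∈ Icc 1 (2 * g / (p - 1)), padicValNat p i ≤
      padicValNat p (spProd g l) := by
  obtain ⟨h, hh, hph⟩ := exists_half p hp2
  rw [padicValNat_spProd p g hl, hph]
  set m := 2 * g / (2 * h) with hm
  have hcard : m = ∑ _i ∈ Icc 1 m, 1 := by simp
  calc m + ∑ i ∈ Icc 1 m, padicValNat p i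
      = ∑ i ∈ Icc 1 m, (1 + padicValNat p i) := by
        rw [Finset.sum_add_distrib]; simp
    _ ≤ ∑ i ∈ Icc 1 m, padicValNat p (l ^ (2 * (h * i)) - 1) := by
        refine Finset.sum_le_sum fun i hi => ?_
        have hi1 : 1 ≤ i := (Finset.mem_Icc.mp hi).1
        have e1 : 2 * (h * i) = (p - 1) * i := by rw [hph]; ring
        rw [e1, padicValNat_pow_mul_sub_one p hp2 hl hpl (by omega)]
        have h1 : 1 ≤ padicValNat p (l ^ (p - 1) - 1) := by
          have hp1 : p - 1 ≠ 0 := by have := hp.out.two_le; omega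
          exact one_le_padicValNat_of_dvd (pow_sub_one_ne_zero hl hp1)
            (dvd_pow_pred_sub_one p hpl)
        omega
    _ = ∑ a ∈ (Icc 1 m).image (fun i => h * i), padicValNat p (l ^ (2 * a) - 1) := by
        rw [Finset.sum_image (injOn_mul h hh _)]
    _ ≤ ∑ a ∈ Icc 1 g, padicValNat p (l ^ (2 * a) - 1) :=
        Finset.sum_le_sum_of_subset (image_subset_Icc g h hh)

lemma padicValNat_spProd_le (hp2 : p ≠ 2) (g : ℕ) {l : ℕ} (hl : 2 ≤ l) (hpl : ¬ p ∣ l)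
    (H1 : padicValNat p (l ^ (p - 1) - 1) = 1)
    (H2 : ∀ n : ℕ, p ∣ l ^ n - 1 → (p - 1) ∣ n) :
    padicValNat p (spProd g l) ≤
      2 * g / (p - 1) + ∑ i ∈ Icc 1 (2 * g / (p - 1)), padicValNat p i := by
  obtain ⟨h, hh, hph⟩ := exists_half p hp2
  rw [padicValNat_spProd p g hl]
  have hsub : ∑ a ∈ (Icc 1 (2 * g / (2 * h))).image (fun i => h * i),
      padicValNat p (l ^ (2 * a) - 1) = ∑ a ∈ Icc 1 g, padicValNat p (l ^ (2 * a) - 1) := by
    refine Finset.sum_subset (image_subset_Icc g h hh) ?_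
    intro a ha hnot
    by_contra hne
    apply hnot
    have hdvd : p ∣ l ^ (2 * a) - 1 :=
      dvd_of_one_le_padicValNat (Nat.one_le_iff_ne_zero.mpr hne)
    have h2 := H2 _ hdvd
    rw [hph] at h2
    have h3 : h ∣ a := Nat.dvd_of_mul_dvd_mul_left (by omega) h2
    obtain ⟨i, rfl⟩ := h3
    obtain ⟨ha1, ha2⟩ := Finset.mem_Icc.mp ha
    refine Finset.mem_image.mpr ⟨i, ?_, rfl⟩
    rw [Finset.mem_Icc]
    constructor
    · rcases Nat.eq_zero_or_pos i with rfl | hi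
      · simp at ha1
      · exact hi
    · rw [Nat.le_div_iff_mul_le (by omega)]
      nlinarith
  rw [← hsub, Finset.sum_image (injOn_mul h hh _), hph]
  set m := 2 * g / (2 * h) with hm
  have e0 : m + ∑ i ∈ Icc 1 m, padicValNat p i = ∑ i ∈ Icc 1 m, (1 + padicValNat p i) := by
    rw [Finset.sum_add_distrib]; simp
  rw [e0]
  refine Finset.sum_le_sum fun i hi => ?_
  have hi1 : 1 ≤ i := (Finset.mem_Icc.mp hi).1
  have e1 : 2 * (h * i) = (p - 1) * i := by rw [hph]; ring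
  rw [e1, padicValNat_pow_mul_sub_one p hp2 hl hpl (by omega), H1]

end odd

end Groth.Agent.Lib.Helper87
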