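import Groth.Agent.Lib.Helper87.SpOrder2
import Mathlib

set_option autoImplicit false

namespace Groth.Agent.Lib.Helper87

open Finset

lemma natCast_pow_eq_one_of_dvd {q l n : ℕ} (hl : 1 ≤ l) (h : q ∣ l ^ n - 1) :
    (l : ZMod q) ^ n = 1 := by
  have h3 : 1 ≤ l ^ n := Nat.one_le_pow _ _ hl
  rw [← ZMod.natCast_eq_zero_iff, Nat.cast_sub h3, Nat.cast_pow, Nat.cast_one, sub_eq_zero] at h
  exact h

lemma dvd_of_natCast_pow_eq_one {q l n : ℕ} (hl : 1 ≤ l) (h : (l : ZMod q) ^ n = 1) :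
    q ∣ l ^ n - 1 := by
  have h3 : 1 ≤ l ^ n := Nat.one_le_pow _ _ hl
  rw [← ZMod.natCast_eq_zero_iff, Nat.cast_sub h3, Nat.cast_pow, Nat.cast_one, sub_eq_zero]
  exact h

lemma exists_prime_primitive (p : ℕ) [hp : Fact p.Prime] (hp2 : p ≠ 2) (B : ℕ) :
    ∃ l : ℕ, l.Prime ∧ B < l ∧ ¬ p ∣ l ∧ padicValNat p (l ^ (p - 1) - 1) = 1 ∧
      ∀ n : ℕ, p ∣ l ^ n - 1 → (p - 1) ∣ n := by
  have hp2le := hp.out.two_le
  have hp1 : p - 1 ≠ 0 := by omega
  have : NeZero (p ^ 2) := ⟨pow_ne_zero 2 hp.out.ne_zero⟩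
  have hcyc := ZMod.isCyclic_units_of_prime_pow p hp.out hp2 2
  obtain ⟨u, hu⟩ := isCyclic_iff_exists_orderOf_eq_natCard.mp hcyc
  rw [Nat.card_eq_fintype_card, ZMod.card_units_eq_totient, Nat.totient_prime_pow_succ hp.out 1,
    pow_one] at hu
  obtain ⟨l, hlB, hlprime, hlu⟩ :=
    Nat.forall_exists_prime_gt_and_eq_mod (q := p ^ 2) (a := (u : ZMod (p ^ 2))) u.isUnit (max B p)
  have hlB' : B < l := lt_of_le_of_lt (le_max_left _ _) hlB
  have hlp : p < l := lt_of_le_of_lt (le_max_right _ _) hlB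
  have hl2 : 2 ≤ l := hlprime.two_le
  have hpl : ¬ p ∣ l := by
    intro hd
    have := (Nat.prime_dvd_prime_iff_eq hp.out hlprime).mp hd
    omega
  -- key divisibility
  have key : ∀ n : ℕ, p ^ 2 ∣ l ^ n - 1 → p * (p - 1) ∣ n := by
    intro n hn
    have h1 := natCast_pow_eq_one_of_dvd (by omega) hn
    rw [hlu] at h1
    have h2 : u ^ n = 1 := by
      apply Units.ext
      rw [Units.val_pow_eq_pow_val, h1, Units.val_one]
    rw [← hu]
    exact orderOf_dvd_of_pow_eq_one h2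
  refine ⟨l, hlprime, hlB', hpl, ?_, ?_⟩
  · -- valuation exactly one
    have hne : l ^ (p - 1) - 1 ≠ 0 := pow_sub_one_ne_zero hl2 hp1
    have h1 : 1 ≤ padicValNat p (l ^ (p - 1) - 1) :=
      one_le_padicValNat_of_dvd hne (dvd_pow_pred_sub_one p hpl)
    by_contra hne1
    have h2 : 2 ≤ padicValNat p (l ^ (p - 1) - 1) := by omega
    have h3 : p ^ 2 ∣ l ^ (p - 1) - 1 := (padicValNat_dvd_iff_le hne).mpr h2
    have h4 := Nat.le_of_dvd (by omega) (key _ h3)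
    have h5 : 2 * (p - 1) ≤ p * (p - 1) := Nat.mul_le_mul_right _ hp2le
    omega
  · -- order modulo p
    set o := orderOf (l : ZMod p) with ho
    have hl0 : (l : ZMod p) ≠ 0 := by rwa [Ne, ZMod.natCast_eq_zero_iff]
    have hfer : (l : ZMod p) ^ (p - 1) = 1 := ZMod.pow_card_sub_one_eq_one hl0
    have ho1 : o ∣ p - 1 := orderOf_dvd_of_pow_eq_one hfer
    have ho0 : o ≠ 0 := fun h0 => hp1 (by rw [h0] at ho1; exact Nat.eq_zero_of_zero_dvd ho1)
    have hpo : p ∣ l ^ o - 1 := dvd_of_natCast_pow_eq_one (by omega) (pow_orderOf_eq_one _)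
    have hodd : Odd p := hp.out.odd_of_ne_two hp2
    have h1 : 1 < l ^ o := Nat.one_lt_pow ho0 hl2
    have hlte := padicValNat.pow_sub_pow (p := p) hodd h1 (by simpa using hpo)
      (fun hd => hpl (hp.out.dvd_of_dvd_pow hd)) hp.out.ne_zero
    rw [one_pow, ← pow_mul, padicValNat_self] at hlte
    have hne : l ^ (o * p) - 1 ≠ 0 := pow_sub_one_ne_zero hl2 (Nat.mul_ne_zero ho0 hp.out.ne_zero)
    have h2 : 1 ≤ padicValNat p (l ^ o - 1) :=
      one_le_padicValNat_of_dvd (pow_sub_one_ne_zero hl2 ho0) hpo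
    have h3 : p ^ 2 ∣ l ^ (o * p) - 1 := (padicValNat_dvd_iff_le hne).mpr (by omega)
    have h4 := key _ h3
    rw [mul_comm o p] at h4
    have h5 : (p - 1) ∣ o := Nat.dvd_of_mul_dvd_mul_left (by omega) h4
    intro n hn
    have h6 := natCast_pow_eq_one_of_dvd (q := p) (by omega) hn
    exact h5.trans (orderOf_dvd_of_pow_eq_one h6)

lemma exists_prime_mod_eight (B : ℕ) : ∃ l : ℕ, l.Prime ∧ B < l ∧ l % 8 = 3 := by
  obtain ⟨l, hlB, hlprime, hl8⟩ :=
    Nat.forall_exists_prime_gt_and_modEq B (q := 8) (a := 3) (by norm_num) (by norm_num)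
  exact ⟨l, hlprime, hlB, hl8⟩

end Groth.Agent.Lib.Helper87
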