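import Groth.Agent.Lib.Helper87.SpOrder3
import Mathlib

set_option autoImplicit false

namespace Groth.Agent.Lib.Helper87

open Finset

/-- The exponent of an odd prime. -/
def spE (g p : ℕ) : ℕ := (2 * g) / (p - 1) + ∑ i ∈ Icc 1 ((2 * g) / (p - 1)), padicValNat p i

/-- The number `N(g)`. -/
def spD (g : ℕ) : ℕ := 2 ^ (3 * g + padicValNat 2 g.factorial) *
  ∏ p ∈ (Icc 3 (2 * g + 1)).filter Nat.Prime, p ^ spE g p

lemma spD_ne_zero (g : ℕ) : spD g ≠ 0 := by
  unfold spD
  refine mul_ne_zero (pow_ne_zero _ two_ne_zero) (Finset.prod_ne_zero_iff.mpr fun p hp => ?_)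
  have hp' : p.Prime := (Finset.mem_filter.mp hp).2
  exact pow_ne_zero _ hp'.ne_zero

lemma spE_eq_zero {g p : ℕ} (h : 2 * g + 1 < p) : spE g p = 0 := by
  unfold spE
  have : 2 * g / (p - 1) = 0 := Nat.div_eq_of_lt (by omega)
  rw [this]
  simp

lemma padicValNat_prod_primes (q : ℕ) [hq : Fact q.Prime] (g : ℕ) :
    padicValNat q (∏ p ∈ (Icc 3 (2 * g + 1)).filter Nat.Prime, p ^ spE g p) =
      if q ∈ (Icc 3 (2 * g + 1)).filter Nat.Prime then spE g q else 0 := by
  rw [padicValNat_prod' q _ _ (fun p hp => pow_ne_zero _ (Finset.mem_filter.mp hp).2.ne_zero)]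
  have : ∀ p ∈ (Icc 3 (2 * g + 1)).filter Nat.Prime,
      padicValNat q (p ^ spE g p) = if q = p then spE g q else 0 := by
    intro p hp
    have hp' : p.Prime := (Finset.mem_filter.mp hp).2
    have := Fact.mk hp'
    rw [padicValNat.pow]
    split_ifs with h
    · subst h
      rw [padicValNat_self, mul_one]
    · rw [padicValNat_primes h, mul_zero]
  rw [Finset.sum_congr rfl this, Finset.sum_ite_eq]

lemma padicValNat_two_spD (g : ℕ) :
    padicValNat 2 (spD g) = 3 * g + padicValNat 2 g.factorial := by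
  unfold spD
  rw [padicValNat.mul (pow_ne_zero _ two_ne_zero)
    (Finset.prod_ne_zero_iff.mpr fun p hp => pow_ne_zero _ (Finset.mem_filter.mp hp).2.ne_zero),
    padicValNat_prod_primes 2 g, padicValNat.prime_pow]
  have : (2 : ℕ) ∉ (Icc 3 (2 * g + 1)).filter Nat.Prime := by
    simp
  rw [if_neg this, add_zero]

lemma padicValNat_odd_spD (q : ℕ) [hq : Fact q.Prime] (hq2 : q ≠ 2) (g : ℕ) :
    padicValNat q (spD g) = spE g q := by
  unfold spD
  rw [padicValNat.mul (pow_ne_zero _ two_ne_zero)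
    (Finset.prod_ne_zero_iff.mpr fun p hp => pow_ne_zero _ (Finset.mem_filter.mp hp).2.ne_zero),
    padicValNat_prod_primes q g, padicValNat.pow,
    padicValNat_primes hq2, mul_zero, zero_add]
  split_ifs with h
  · rfl
  · have h3 : 3 ≤ q := by
      have := hq.out.two_le
      omega
    have : 2 * g + 1 < q := by
      by_contra hle
      apply h
      rw [Finset.mem_filter, Finset.mem_Icc]
      exact ⟨⟨h3, by omega⟩, hq.out⟩
    rw [spE_eq_zero this]

theorem spOrder_main (g B d : ℕ) (hB : 2 * g + 1 ≤ B) :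
    (∀ ℓ : ℕ, ℓ.Prime → B < ℓ → d ∣ spProd g ℓ) ↔ d ∣ spD g := by
  constructor
  · intro H
    have hd : d ≠ 0 := by
      obtain ⟨ℓ, hℓB, hℓ⟩ := Nat.exists_infinite_primes (B + 1)
      have h1 := H ℓ hℓ (by omega)
      intro h0
      rw [h0] at h1
      exact spProd_ne_zero g hℓ.two_le (Nat.eq_zero_of_zero_dvd h1)
    rw [← Nat.factorization_prime_le_iff_dvd hd (spD_ne_zero g)]
    intro q hq
    have := Fact.mk hq
    rw [Nat.factorization_def _ hq, Nat.factorization_def _ hq]
    by_cases hq2 : q = 2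
    · subst hq2
      obtain ⟨ℓ, hℓ, hℓB, hℓ8⟩ := exists_prime_mod_eight B
      have h1 := H ℓ hℓ hℓB
      have h2 : 2 ^ padicValNat 2 d ∣ spProd g ℓ := pow_padicValNat_dvd.trans h1
      rw [padicValNat_dvd_iff_le (spProd_ne_zero g hℓ.two_le)] at h2
      rw [padicValNat_two_spD]
      exact h2.trans (padicValNat_two_spProd_le g hℓ8)
    · obtain ⟨ℓ, hℓ, hℓB, hqℓ, H1, H2⟩ := exists_prime_primitive q hq2 B
      have h1 := H ℓ hℓ hℓB
      have h2 : q ^ padicValNat q d ∣ spProd g ℓ := pow_padicValNat_dvd.trans h1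
      rw [padicValNat_dvd_iff_le (spProd_ne_zero g hℓ.two_le)] at h2
      rw [padicValNat_odd_spD q hq2]
      exact h2.trans (padicValNat_spProd_le q hq2 g hℓ.two_le hqℓ H1 H2)
  · intro hd ℓ hℓ hℓB
    refine hd.trans ?_
    rw [← Nat.factorization_prime_le_iff_dvd (spD_ne_zero g) (spProd_ne_zero g hℓ.two_le)]
    intro q hq
    have := Fact.mk hq
    rw [Nat.factorization_def _ hq, Nat.factorization_def _ hq]
    by_cases hq2 : q = 2
    · subst hq2
      rw [padicValNat_two_spD]
      rcases Nat.eq_zero_or_pos g with rfl | hg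
      · simp
      · have hℓ3 : 3 ≤ ℓ := by omega
        have hodd : ¬ 2 ∣ ℓ := by
          intro h2
          have := (Nat.prime_dvd_prime_iff_eq Nat.prime_two hℓ).mp h2
          omega
        exact le_padicValNat_two_spProd g hℓ3 hodd
    · rw [padicValNat_odd_spD q hq2]
      by_cases hqℓ : q ∣ ℓ
      · have := (Nat.prime_dvd_prime_iff_eq hq hℓ).mp hqℓ
        rw [spE_eq_zero (by omega)]
        exact Nat.zero_le _
      · exact le_padicValNat_spProd q hq2 g hℓ.two_le hqℓ

end Groth.Agent.Lib.Helper87
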