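import Mathlib

set_option autoImplicit false

namespace Groth.Agent.Lib.Helper87

open scoped TensorProduct
open KaehlerDifferential

section sqz

universe u

variable {A B : Type u} [CommRing A] [CommRing B] [Algebra A B]
  {N : Type u} [AddCommGroup N] [Module B N] (q : N →ₗ[B] Ω[B⁄A])

/-- the right action on `N` equal to the left one. -/
@[reducible] def sqzOpModule (B : Type u) [CommRing B] (N : Type u) [AddCommGroup N] [Module B N] :
    Module Bᵐᵒᵖ N :=
  Module.compHom N ((RingHom.id B).fromOpposite (fun _ _ => mul_comm _ _))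

attribute [local instance] sqzOpModule

theorem sqzCentral (B : Type u) [CommRing B] (N : Type u) [AddCommGroup N] [Module B N] :
    IsCentralScalar B N := ⟨fun _ _ => rfl⟩

attribute [local instance] sqzCentral

/-- the fibre product ring `B ×_Ω N` inside the trivial square-zero extension. -/
def sqzRing : Subring (TrivSqZeroExt B N) where
  carrier := {x | D A B x.fst = q x.snd}
  mul_mem' := by
    intro x y hx hy
    simp only [Set.mem_setOf_eq] at hx hy ⊢
    rw [TrivSqZeroExt.fst_mul, TrivSqZeroExt.snd_mul, Derivation.leibniz, hx, hy, map_add,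
      map_smul, op_smul_eq_smul, map_smul]
  one_mem' := by
    simp only [Set.mem_setOf_eq]
    rw [TrivSqZeroExt.fst_one, TrivSqZeroExt.snd_one, Derivation.map_one_eq_zero, map_zero]
  add_mem' := by
    intro x y hx hy
    simp only [Set.mem_setOf_eq] at hx hy ⊢
    rw [TrivSqZeroExt.fst_add, TrivSqZeroExt.snd_add, map_add, map_add, hx, hy]
  zero_mem' := by
    simp only [Set.mem_setOf_eq]
    rw [TrivSqZeroExt.fst_zero, TrivSqZeroExt.snd_zero, map_zero, map_zero]
  neg_mem' := by
    intro x hx
    simp only [Set.mem_setOf_eq] at hx ⊢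
    rw [TrivSqZeroExt.fst_neg, TrivSqZeroExt.snd_neg, map_neg, map_neg, hx]

theorem mem_sqzRing (x : TrivSqZeroExt B N) : x ∈ sqzRing q ↔ D A B x.fst = q x.snd := Iff.rfl

/-- the structure map `A → B ×_Ω N`. -/
def sqzOfA : A →+* sqzRing q where
  toFun a := ⟨TrivSqZeroExt.inl (algebraMap A B a), by
    rw [mem_sqzRing, TrivSqZeroExt.fst_inl, TrivSqZeroExt.snd_inl, Derivation.map_algebraMap,
      map_zero]⟩
  map_one' := by
    apply Subtype.ext
    simp
  map_mul' := fun x y => by
    apply Subtype.ext
    simp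
  map_zero' := by
    apply Subtype.ext
    simp
  map_add' := fun x y => by
    apply Subtype.ext
    simp

instance sqzAlgebraA : Algebra A (sqzRing q) := (sqzOfA q).toAlgebra

/-- the projection `B ×_Ω N → B`. -/
def sqzToB : sqzRing q →+* B :=
  (TrivSqZeroExt.fstHom B B N).toRingHom.comp (sqzRing q).subtype

theorem sqzToB_apply (x : sqzRing q) : sqzToB q x = x.1.fst := rfl

theorem algebraMap_sqz_apply (a : A) :
    (algebraMap A (sqzRing q) a).1 = TrivSqZeroExt.inl (algebraMap A B a) := rfl

/-- the projection as an `A`-algebra map. -/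
def sqzToBAlg : sqzRing q →ₐ[A] B :=
  { sqzToB q with
    commutes' := fun a => by
      change (algebraMap A (sqzRing q) a).1.fst = _
      rw [algebraMap_sqz_apply, TrivSqZeroExt.fst_inl] }

theorem sqzToBAlg_apply (x : sqzRing q) : sqzToBAlg q x = x.1.fst := rfl

theorem sqzToBAlg_surjective (hq : Function.Surjective q) :
    Function.Surjective (sqzToBAlg q) := by
  intro b
  obtain ⟨n, hn⟩ := hq (D A B b)
  refine ⟨⟨TrivSqZeroExt.inl b + TrivSqZeroExt.inr n, ?_⟩, ?_⟩
  · rw [mem_sqzRing]
    simp [hn]
  · rw [sqzToBAlg_apply]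
    simp

end sqz

end Groth.Agent.Lib.Helper87
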