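import Groth.Agent.Lib.Helper87.SqZeroExt1

set_option autoImplicit false

namespace Groth.Agent.Lib.Helper87

open scoped TensorProduct
open KaehlerDifferential

section sqz

universe u

variable {A B : Type u} [CommRing A] [CommRing B] [Algebra A B]
  {N : Type u} [AddCommGroup N] [Module B N] (q : N →ₗ[B] Ω[B⁄A]) (hq : Function.Surjective q)

attribute [local instance] sqzOpModule sqzCentral

/-- the square-zero extension attached to `q`. -/
noncomputable def sqzExt : Algebra.Extension.{u} A B :=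
  Algebra.Extension.ofSurjective (sqzToBAlg q) (sqzToBAlg_surjective q hq)

theorem sqzExt_algebraMap (x : (sqzExt q hq).Ring) :
    algebraMap (sqzExt q hq).Ring B x = (show sqzRing q from x).1.fst := rfl

theorem sqzExt_mem_ker (x : (sqzExt q hq).Ring) :
    x ∈ (sqzExt q hq).ker ↔ (show sqzRing q from x).1.fst = 0 := by
  rw [RingHom.mem_ker, sqzExt_algebraMap]

theorem sqzExt_ker_sq : (sqzExt q hq).ker ^ 2 = ⊥ := by
  rw [eq_bot_iff, pow_two, Ideal.mul_le]
  intro x hx y hy
  rw [Ideal.mem_bot]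
  rw [sqzExt_mem_ker] at hx hy
  apply Subtype.ext
  apply TrivSqZeroExt.ext
  · change ((show sqzRing q from x).1 * (show sqzRing q from y).1).fst = 0
    rw [TrivSqZeroExt.fst_mul, hx, zero_mul]
  · change ((show sqzRing q from x).1 * (show sqzRing q from y).1).snd = 0
    rw [TrivSqZeroExt.snd_mul, hx, hy, zero_smul, MulOpposite.op_zero, zero_smul, add_zero]

/-- the element `(0, n)` of the kernel, for `q n = 0`. -/
def sqzKerElt (n : N) (hn : q n = 0) : (sqzExt q hq).ker :=
  ⟨(⟨TrivSqZeroExt.inr n, by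
      rw [mem_sqzRing, TrivSqZeroExt.fst_inr, TrivSqZeroExt.snd_inr, map_zero, hn]⟩ : sqzRing q),
    by rw [sqzExt_mem_ker]; exact TrivSqZeroExt.fst_inr _ _⟩

theorem sqzKerElt_snd (n : N) (hn : q n = 0) :
    (show sqzRing q from (sqzKerElt q hq n hn).1).1.snd = n := TrivSqZeroExt.snd_inr _ _

theorem sqzKer_eq (x : (sqzExt q hq).ker) :
    ∃ (n : N) (hn : q n = 0), x = sqzKerElt q hq n hn := by
  have hx := (sqzExt_mem_ker q hq x.1).mp x.2
  have hmem : D A B (show sqzRing q from x.1).1.fst = q (show sqzRing q from x.1).1.snd :=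
    (show sqzRing q from x.1).2
  rw [hx, map_zero] at hmem
  refine ⟨(show sqzRing q from x.1).1.snd, hmem.symm, ?_⟩
  apply Subtype.ext
  apply Subtype.ext
  apply TrivSqZeroExt.ext
  · rw [hx]; exact (TrivSqZeroExt.fst_inr _ _).symm
  · exact (TrivSqZeroExt.snd_inr _ _).symm

end sqz

end Groth.Agent.Lib.Helper87
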