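import Groth.Agent.Lib.Helper87.SqZeroExt2

set_option autoImplicit false

namespace Groth.Agent.Lib.Helper87

open scoped TensorProduct
open KaehlerDifferential

section sqz

universe u

variable {A B : Type u} [CommRing A] [CommRing B] [Algebra A B]
  {N : Type u} [AddCommGroup N] [Module B N] (q : N →ₗ[B] Ω[B⁄A]) (hq : Function.Surjective q)

attribute [local instance] sqzOpModule sqzCentral

theorem sqzKerElt_add (n n' : N) (hn : q n = 0) (hn' : q n' = 0) :
    sqzKerElt q hq (n + n') (by rw [map_add, hn, hn', add_zero]) =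
      sqzKerElt q hq n hn + sqzKerElt q hq n' hn' := by
  apply Subtype.ext
  apply Subtype.ext
  exact TrivSqZeroExt.inr_add _ _ _

theorem sqzKerElt_smul (r : (sqzExt q hq).Ring) (n : N) (hn : q n = 0) :
    r • sqzKerElt q hq n hn =
      sqzKerElt q hq (algebraMap (sqzExt q hq).Ring B r • n) (by rw [map_smul, hn, smul_zero]) := by
  apply Subtype.ext
  apply Subtype.ext
  apply TrivSqZeroExt.ext
  · change ((show sqzRing q from r).1 * TrivSqZeroExt.inr n).fst = _
    rw [TrivSqZeroExt.fst_mul, TrivSqZeroExt.fst_inr, mul_zero]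
    exact (TrivSqZeroExt.fst_inr _ _).symm
  · change ((show sqzRing q from r).1 * TrivSqZeroExt.inr n).snd = _
    rw [TrivSqZeroExt.snd_mul, TrivSqZeroExt.fst_inr, TrivSqZeroExt.snd_inr, MulOpposite.op_zero,
      zero_smul, add_zero]
    exact (TrivSqZeroExt.snd_inr _ _).symm

variable {M : Type u} [AddCommGroup M] [Module B M] (i : M →ₗ[B] N) (hex : Function.Exact i q)

/-- the identification of `M` with the conormal module of the extension. -/
noncomputable def sqzPsi : M →ₗ[B] (sqzExt q hq).Cotangent where
  toFun m := Algebra.Extension.Cotangent.mk (sqzKerElt q hq (i m) (hex.apply_apply_eq_zero m))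
  map_add' m m' := by
    rw [← map_add, ← sqzKerElt_add]
    congr 2
    exact map_add i m m'
  map_smul' b m := by
    obtain ⟨r, rfl⟩ := (sqzExt q hq).algebraMap_surjective b
    rw [RingHom.id_apply]
    have h1 : algebraMap (sqzExt q hq).Ring B r •
        Algebra.Extension.Cotangent.mk (sqzKerElt q hq (i m) (hex.apply_apply_eq_zero m)) =
        r • Algebra.Extension.Cotangent.mk (sqzKerElt q hq (i m) (hex.apply_apply_eq_zero m)) :=
      algebraMap_smul B r _
    rw [h1, ← map_smul, sqzKerElt_smul]
    congr 2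
    rw [map_smul]

theorem sqzPsi_apply (m : M) :
    sqzPsi q hq i hex m =
      Algebra.Extension.Cotangent.mk (sqzKerElt q hq (i m) (hex.apply_apply_eq_zero m)) := rfl

theorem sqzPsi_bijective (hi : Function.Injective i) :
    Function.Bijective (sqzPsi q hq i hex) := by
  constructor
  · rw [injective_iff_map_eq_zero]
    intro m hm
    rw [sqzPsi_apply, Algebra.Extension.Cotangent.mk_eq_zero_iff, sqzExt_ker_sq,
      Ideal.mem_bot] at hm
    have h2 := sqzKerElt_snd q hq (i m) (hex.apply_apply_eq_zero m)
    rw [hm] at h2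
    apply hi
    rw [map_zero, ← h2]
    rfl
  · intro c
    obtain ⟨x, rfl⟩ := Algebra.Extension.Cotangent.mk_surjective c
    obtain ⟨n, hn, rfl⟩ := sqzKer_eq q hq x
    obtain ⟨m, rfl⟩ := (hex n).mp hn
    exact ⟨m, rfl⟩

end sqz

end Groth.Agent.Lib.Helper87
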