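import Groth.Agent.Lib.Helper87.SqZeroExt3

set_option autoImplicit false

namespace Groth.Agent.Lib.Helper87

open scoped TensorProduct
open KaehlerDifferential

section sqz

universe u

variable {A B : Type u} [CommRing A] [CommRing B] [Algebra A B]
  {N : Type u} [AddCommGroup N] [Module B N] (q : N →ₗ[B] Ω[B⁄A]) (hq : Function.Surjective q)

attribute [local instance] sqzOpModule sqzCentral

/-- `N` as a module over the extension ring. -/
@[reducible] noncomputable def sqzModN : Module (sqzExt q hq).Ring N :=
  Module.compHom N (algebraMap (sqzExt q hq).Ring B)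

attribute [local instance] sqzModN

variable [Module A N] [IsScalarTower A B N]

theorem sqzTowerN : IsScalarTower (sqzExt q hq).Ring B N :=
  IsScalarTower.of_algebraMap_smul (fun _ _ => rfl)

attribute [local instance] sqzTowerN

omit [IsScalarTower A B N] in
theorem sqzTowerAN [IsScalarTower A B N] : IsScalarTower A (sqzExt q hq).Ring N :=
  IsScalarTower.of_algebraMap_smul (fun a n => by
    change algebraMap (sqzExt q hq).Ring B (algebraMap A (sqzExt q hq).Ring a) • n = a • n
    rw [← IsScalarTower.algebraMap_apply, algebraMap_smul])

attribute [local instance] sqzTowerAN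

theorem sqz_smul_def (r : (sqzExt q hq).Ring) (n : N) :
    r • n = (show sqzRing q from r).1.fst • n := rfl

/-- the second projection as a derivation. -/
noncomputable def sqzDer : Derivation A (sqzExt q hq).Ring N :=
  Derivation.mk'
    { toFun := fun x => (show sqzRing q from x).1.snd
      map_add' := fun x y => TrivSqZeroExt.snd_add _ _
      map_smul' := fun a x => by
        rw [Algebra.smul_def, RingHom.id_apply]
        change ((algebraMap A (sqzRing q) a).1 * (show sqzRing q from x).1).snd = _
        rw [algebraMap_sqz_apply, TrivSqZeroExt.snd_mul, TrivSqZeroExt.fst_inl,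
          TrivSqZeroExt.snd_inl, smul_zero, add_zero, algebraMap_smul] }
    (fun x y => by
      change ((show sqzRing q from x).1 * (show sqzRing q from y).1).snd = _
      rw [TrivSqZeroExt.snd_mul, op_smul_eq_smul]
      rfl)

theorem sqzDer_apply (x : (sqzExt q hq).Ring) :
    sqzDer q hq x = (show sqzRing q from x).1.snd := rfl

/-- the comparison map `B ⊗ Ω_{E/A} → N`. -/
noncomputable def sqzPhi : (sqzExt q hq).CotangentSpace →ₗ[B] N :=
  LinearMap.liftBaseChange B (sqzDer q hq).liftKaehlerDifferential

theorem sqzPhi_tmul_D (b : B) (x : (sqzExt q hq).Ring) :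
    sqzPhi q hq (b ⊗ₜ D A (sqzExt q hq).Ring x) = b • (show sqzRing q from x).1.snd := by
  rw [sqzPhi, LinearMap.liftBaseChange_tmul, Derivation.liftKaehlerDifferential_comp_D,
    sqzDer_apply]

end sqz

end Groth.Agent.Lib.Helper87
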