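import Groth.Agent.Lib.Helper87.SqZeroExt4

set_option autoImplicit false

namespace Groth.Agent.Lib.Helper87

open scoped TensorProduct
open KaehlerDifferential

section sqz

universe u

variable {A B : Type u} [CommRing A] [CommRing B] [Algebra A B]
  {N : Type u} [AddCommGroup N] [Module B N] (q : N →ₗ[B] Ω[B⁄A]) (hq : Function.Surjective q)

attribute [local instance] sqzOpModule sqzCentral sqzModN

variable [Module A N] [IsScalarTower A B N]

attribute [local instance] sqzTowerN sqzTowerAN

/-- extensionality for linear maps out of the cotangent space of an extension. -/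
theorem cotangentSpace_ext (P : Algebra.Extension.{u} A B) {N' : Type*} [AddCommGroup N']
    [Module B N'] (f g : P.CotangentSpace →ₗ[B] N')
    (h : ∀ x : P.Ring, f (1 ⊗ₜ D A P.Ring x) = g (1 ⊗ₜ D A P.Ring x)) : f = g := by
  have key : ∀ ω : Ω[P.Ring⁄A], f (1 ⊗ₜ ω) = g (1 ⊗ₜ ω) := by
    intro ω
    have hω : ω ∈ Submodule.span P.Ring (Set.range (D A P.Ring)) := by
      rw [KaehlerDifferential.span_range_derivation]; trivial
    induction hω using Submodule.span_induction with
    | mem ω hω =>
      obtain ⟨x, rfl⟩ := hω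
      exact h x
    | zero => rw [TensorProduct.tmul_zero, map_zero, map_zero]
    | add x y _ _ hx hy => rw [TensorProduct.tmul_add, map_add, map_add, hx, hy]
    | smul r x _ hx =>
      have hr : (1 : B) ⊗ₜ[P.Ring] (r • x) = algebraMap P.Ring B r • ((1 : B) ⊗ₜ[P.Ring] x) := by
        rw [TensorProduct.tmul_smul, algebraMap_smul]
      rw [hr, map_smul, map_smul, hx]
  apply LinearMap.ext
  intro y
  induction y using TensorProduct.induction_on with
  | zero => rw [map_zero, map_zero]
  | add y z hy hz => rw [map_add, map_add, hy, hz]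
  | tmul b ω =>
    have hb : b ⊗ₜ[P.Ring] ω = b • ((1 : B) ⊗ₜ[P.Ring] ω) := by
      rw [TensorProduct.smul_tmul', smul_eq_mul, mul_one]
    rw [hb, map_smul, map_smul, key]

theorem sqz_q_phi : q ∘ₗ sqzPhi q hq = (sqzExt q hq).toKaehler := by
  apply cotangentSpace_ext
  intro x
  rw [LinearMap.comp_apply, sqzPhi_tmul_D, one_smul, KaehlerDifferential.mapBaseChange_tmul,
    one_smul, KaehlerDifferential.map_D]
  exact ((show sqzRing q from x).2).symm

variable {M : Type u} [AddCommGroup M] [Module B M] (i : M →ₗ[B] N) (hex : Function.Exact i q)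

theorem sqz_phi_psi (m : M) :
    sqzPhi q hq ((sqzExt q hq).cotangentComplex (sqzPsi q hq i hex m)) = i m := by
  rw [sqzPsi_apply, Algebra.Extension.cotangentComplex_mk, sqzPhi_tmul_D, one_smul]
  exact sqzKerElt_snd q hq (i m) (hex.apply_apply_eq_zero m)

include hex in
theorem sqzPhi_bijective (hi : Function.Injective i) : Function.Bijective (sqzPhi q hq) := by
  have hψ := sqzPsi_bijective q hq i hex hi
  constructor
  · rw [injective_iff_map_eq_zero]
    intro y hy
    have h1 : (sqzExt q hq).toKaehler y = 0 := by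
      rw [← sqz_q_phi, LinearMap.comp_apply, hy, map_zero]
    obtain ⟨c, rfl⟩ := ((sqzExt q hq).exact_cotangentComplex_toKaehler y).mp h1
    obtain ⟨m, rfl⟩ := hψ.2 c
    rw [sqz_phi_psi] at hy
    rw [hi (hy.trans (map_zero i).symm), map_zero, map_zero]
  · intro n
    obtain ⟨y, hy⟩ := (sqzExt q hq).toKaehler_surjective (q n)
    have h1 : q (n - sqzPhi q hq y) = 0 := by
      rw [map_sub, ← hy, ← sqz_q_phi, LinearMap.comp_apply, sub_self]
    obtain ⟨m, hm⟩ := (hex _).mp h1
    refine ⟨y + (sqzExt q hq).cotangentComplex (sqzPsi q hq i hex m), ?_⟩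
    rw [map_add, sqz_phi_psi, hm, add_sub_cancel]

end sqz

section final

universe u

variable {A B : Type u} [CommRing A] [CommRing B] [Algebra A B]
  {M N : Type u} [AddCommGroup M] [Module B M] [AddCommGroup N] [Module B N]

theorem exists_sqZero_extension
    (i : M →ₗ[B] N) (q : N →ₗ[B] Ω[B⁄A]) (hi : Function.Injective i) (hq : Function.Surjective q)
    (hex : Function.Exact i q) :
    ∃ P : Algebra.Extension.{u} A B, P.ker ^ 2 = ⊥ ∧
      ∃ (e₁ : P.Cotangent ≃ₗ[B] M) (e₂ : P.CotangentSpace ≃ₗ[B] N),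
        (∀ x, e₂ (P.cotangentComplex x) = i (e₁ x)) ∧ (∀ y, q (e₂ y) = P.toKaehler y) := by
  letI : Module A N := Module.compHom N (algebraMap A B)
  haveI : IsScalarTower A B N := IsScalarTower.of_algebraMap_smul (fun _ _ => rfl)
  refine ⟨sqzExt q hq, sqzExt_ker_sq q hq,
    (LinearEquiv.ofBijective (sqzPsi q hq i hex) (sqzPsi_bijective q hq i hex hi)).symm,
    LinearEquiv.ofBijective (sqzPhi q hq) (sqzPhi_bijective q hq i hex hi), ?_, ?_⟩
  · intro c
    obtain ⟨m, rfl⟩ := (sqzPsi_bijective q hq i hex hi).2 c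
    rw [LinearEquiv.ofBijective_apply, sqz_phi_psi]
    congr 1
    symm
    rw [LinearEquiv.symm_apply_eq]
    rfl
  · intro y
    rw [LinearEquiv.ofBijective_apply, ← sqz_q_phi]
    rfl

end final

end Groth.Agent.Lib.Helper87
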