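import Groth.Agent.Lib.Helper87.BassFlat3

/-!
# The zeroth Bass number as the length of the socle (helper87)
-/

set_option autoImplicit false
universe u

namespace Groth.Agent.Lib.Helper87.StarCount

open CategoryTheory Abelian IsLocalRing

attribute [-instance] Groth.Agent.Lib.Helper89.ExtBaseChange.extModule

section Socle

variable (A : Type u) [CommRing A] [IsLocalRing A] (Y : Type u) [AddCommGroup Y] [Module A Y]

/-- The socle of a module over a local ring: the elements killed by the maximal ideal. -/
def socle : Submodule A Y where
  carrier := {y | ∀ a ∈ maximalIdeal A, a • y = 0}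
  add_mem' {x y} hx hy a ha := by rw [smul_add, hx a ha, hy a ha, add_zero]
  zero_mem' a _ := smul_zero a
  smul_mem' c y hy a ha := by rw [smul_comm, hy a ha, smul_zero]

variable {A Y}

theorem mem_socle {y : Y} : y ∈ socle A Y ↔ ∀ a ∈ maximalIdeal A, a • y = 0 := Iff.rfl

variable (A Y)

/-- `Hom(k, Y)` is the socle of `Y`. -/
noncomputable def homEquivSocle : (ResidueField A →ₗ[A] Y) ≃ₗ[A] socle A Y where
  toFun φ := ⟨φ 1, fun a ha => by
    rw [← map_smul, Algebra.smul_def, mul_one, IsLocalRing.ResidueField.algebraMap_eq,
      (residue_eq_zero_iff a).mpr ha, map_zero]⟩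
  map_add' φ ψ := rfl
  map_smul' c φ := rfl
  invFun y := Submodule.liftQ (maximalIdeal A) (LinearMap.toSpanSingleton A Y y.1) (by
    intro a ha
    rw [LinearMap.mem_ker, LinearMap.toSpanSingleton_apply]
    exact y.2 a ha)
  left_inv φ := by
    apply LinearMap.ext
    intro z
    obtain ⟨a, rfl⟩ := Ideal.Quotient.mk_surjective z
    change Submodule.liftQ (maximalIdeal A) (LinearMap.toSpanSingleton A Y (φ 1)) _
      (Submodule.Quotient.mk a) = φ (Ideal.Quotient.mk _ a)
    rw [Submodule.liftQ_apply, LinearMap.toSpanSingleton_apply, ← map_smul]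
    congr 1
    rw [Algebra.smul_def, mul_one]
    rfl
  right_inv y := by
    apply Subtype.ext
    change Submodule.liftQ (maximalIdeal A) (LinearMap.toSpanSingleton A Y y.1) _
      (Submodule.Quotient.mk 1) = y.1
    rw [Submodule.liftQ_apply, LinearMap.toSpanSingleton_apply, one_smul]

/-- `Ext^0(k, Y)` is the socle of `Y`. -/
noncomputable def ext0EquivSocle :
    Ext.{u} (ModuleCat.of A (ResidueField A)) (ModuleCat.of A Y) 0 ≃ₗ[A] socle A Y :=
  (Ext.linearEquiv₀ (R := A)).trans
    ((ModuleCat.homLinearEquiv (S := A)).trans (homEquivSocle A Y))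

theorem bassNumLocal_zero_eq_length_socle :
    GrLC.bassNumLocal A Y 0 = Module.length A (socle A Y) := by
  unfold GrLC.bassNumLocal
  exact (ext0EquivSocle A Y).length_eq

end Socle

section Count

variable {A : Type u} [CommRing A] [IsLocalRing A] {V : Type u} [AddCommGroup V] [Module A V]

/-- A module killed by the maximal ideal with a "basis modulo the maximal ideal" indexed by `I` has
length the cardinality of `I`. -/
theorem length_eq_card_of_basis {I : Type u} (v : I → V)
    (hkill : ∀ a ∈ maximalIdeal A, ∀ x : V, a • x = 0)
    (hspan : Submodule.span A (Set.range v) = ⊤)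
    (hind : ∀ c : I →₀ A, Finsupp.linearCombination A v c = 0 → ∀ i, c i ∈ maximalIdeal A) :
    Module.length A V = ENat.card I := by
  classical
  let ψ : (I →₀ A) →ₗ[A] V := Finsupp.linearCombination A v
  let res : A →ₗ[A] ResidueField A := Algebra.linearMap A (ResidueField A)
  have hres : ∀ a : A, res a = 0 ↔ a ∈ maximalIdeal A := by
    intro a
    change algebraMap A (ResidueField A) a = 0 ↔ _
    rw [IsLocalRing.ResidueField.algebraMap_eq, residue_eq_zero_iff]
  have hressurj : Function.Surjective res := by
    intro z
    obtain ⟨a, rfl⟩ := IsLocalRing.residue_surjective z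
    exact ⟨a, by change algebraMap A (ResidueField A) a = _; rw [IsLocalRing.ResidueField.algebraMap_eq]⟩
  let χ : (I →₀ A) →ₗ[A] (I →₀ ResidueField A) := Finsupp.mapRange.linearMap res
  have hψ : Function.Surjective ψ := by
    rw [← LinearMap.range_eq_top, Finsupp.range_linearCombination]
    exact hspan
  have hχ : Function.Surjective χ :=
    Finsupp.mapRange_surjective res (map_zero res) hressurj
  have hker : LinearMap.ker ψ = LinearMap.ker χ := by
    ext c
    rw [LinearMap.mem_ker, LinearMap.mem_ker]
    constructor
    · intro hc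
      ext i
      change res (c i) = 0
      rw [hres]
      exact hind c hc i
    · intro hc
      change Finsupp.linearCombination A v c = 0
      rw [Finsupp.linearCombination_apply, Finsupp.sum]
      apply Finset.sum_eq_zero
      intro i _
      have h1 := DFunLike.congr_fun hc i
      change res (c i) = 0 at h1
      rw [hres] at h1
      exact hkill (c i) h1 (v i)
  let e : V ≃ₗ[A] (I →₀ ResidueField A) :=
    (ψ.quotKerEquivOfSurjective hψ).symm.trans
      ((Submodule.quotEquivOfEq _ _ hker).trans (χ.quotKerEquivOfSurjective hχ))
  rw [e.length_eq, Module.length_finsupp, BassFlat.length_residueField, mul_one]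

end Count

end Groth.Agent.Lib.Helper87.StarCount
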