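import Mathlib.RingTheory.GradedAlgebra.Homogeneous.Submodule
import Mathlib.Algebra.Module.GradedModule
import Mathlib.Tactic

/-!
# Homogeneous multipliers into a *essential homogeneous submodule (helper87)

A relative version of "*essential implies essential" (the absolute version is S13211, by helper39,
whose proof is adapted here): if `J`, `N'` are homogeneous submodules of a graded module `L` such
that every nonzero homogeneous submodule of `L` inside `J` meets `N'`, then every nonzero element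
of `J` has a nonzero multiple in `N'` by a homogeneous element of the ring.
-/

set_option autoImplicit false
universe u

namespace Groth.Agent.Lib.Helper87.StarCount

open DirectSum

section aux

variable {ι : Type} [AddCommGroup ι] [DecidableEq ι] {L : Type u} [AddCommGroup L]
  (𝓛 : ι → AddSubgroup L) [DirectSum.Decomposition 𝓛]

/-- The homogeneous component of a sum of homogeneous elements of distinct degrees. -/
theorem decompose_sum_apply {κ : Type*} [DecidableEq κ] (t : Finset κ) (deg : κ → ι)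
    (hdeg : Set.InjOn deg t) (z : κ → L) (hz : ∀ k ∈ t, z k ∈ 𝓛 (deg k)) (k₀ : κ) (hk₀ : k₀ ∈ t) :
    (decompose 𝓛 (∑ k ∈ t, z k) (deg k₀) : L) = z k₀ := by
  rw [decompose_sum, DFinsupp.finsetSum_apply, AddSubmonoidClass.coe_finsetSum,
    Finset.sum_eq_single k₀]
  · exact decompose_of_mem_same 𝓛 (hz k₀ hk₀)
  · intro k hk hne
    exact decompose_of_mem_ne 𝓛 (hz k hk) (fun h => hne (hdeg hk hk₀ h))
  · intro h
    exact (h hk₀).elim

theorem eq_zero_of_sum_eq_zero {κ : Type*} [DecidableEq κ] (t : Finset κ) (deg : κ → ι)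
    (hdeg : Set.InjOn deg t) (z : κ → L) (hz : ∀ k ∈ t, z k ∈ 𝓛 (deg k))
    (h : ∑ k ∈ t, z k = 0) (k₀ : κ) (hk₀ : k₀ ∈ t) : z k₀ = 0 := by
  rw [← decompose_sum_apply 𝓛 t deg hdeg z hz k₀ hk₀, h, decompose_zero]
  rfl

end aux

section Main

variable {ι : Type} [AddCommGroup ι] [DecidableEq ι] {R : Type u} [CommRing R]
  (𝒜 : ι → AddSubgroup R) [GradedRing 𝒜] {L : Type u} [AddCommGroup L] [Module R L]
  (𝓛 : ι → AddSubgroup L) [DirectSum.Decomposition 𝓛] [SetLike.GradedSMul 𝒜 𝓛]

include 𝒜 in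
/-- The submodule generated by a homogeneous element is homogeneous. -/
theorem span_singleton_isHomogeneous (k : ι) (z : L) (hz : z ∈ 𝓛 k) :
    (Submodule.span R {z}).IsHomogeneous 𝓛 := by
  classical
  intro i w hw
  obtain ⟨c, rfl⟩ := Submodule.mem_span_singleton.mp hw
  have h1 : c • z = ∑ j ∈ (decompose 𝒜 c).support, (decompose 𝒜 c j : R) • z := by
    conv_lhs => rw [← sum_support_decompose 𝒜 c]
    rw [Finset.sum_smul]
  rw [h1, decompose_sum, DFinsupp.finsetSum_apply, AddSubmonoidClass.coe_finsetSum]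
  apply Submodule.sum_mem
  intro j _
  have hmem : (decompose 𝒜 c j : R) • z ∈ 𝓛 (j + k) :=
    SetLike.GradedSMul.smul_mem (A := 𝒜) (B := 𝓛) (i := j) (j := k)
      (SetLike.coe_mem (decompose 𝒜 c j)) hz
  by_cases hjk : j + k = i
  · rw [← hjk, decompose_of_mem_same 𝓛 hmem]
    exact Submodule.smul_mem _ _ (Submodule.mem_span_singleton_self z)
  · rw [decompose_of_mem_ne 𝓛 hmem hjk]
    exact Submodule.zero_mem _

variable (J N' : Submodule R L) (hJ : J.IsHomogeneous 𝓛) (hN : N'.IsHomogeneous 𝓛)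
  (hess : ∀ Q : Submodule R L, Q.IsHomogeneous 𝓛 → Q ≤ J → Q ≠ ⊥ → Q ⊓ N' ≠ ⊥)

include hN hess in
/-- A nonzero homogeneous element of `J` has a nonzero homogeneous multiple in `N'`. -/
theorem exists_homogeneous_smul_mem_of_homogeneous (k : ι) (z : L) (hz : z ∈ 𝓛 k) (hzJ : z ∈ J)
    (hz0 : z ≠ 0) : ∃ (j : ι) (a : R), a ∈ 𝒜 j ∧ a • z ≠ 0 ∧ a • z ∈ N' := by
  classical
  have hPhom := span_singleton_isHomogeneous 𝒜 𝓛 k z hz
  have hPle : Submodule.span R {z} ≤ J := by
    rw [Submodule.span_singleton_le_iff_mem]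
    exact hzJ
  have hPne : Submodule.span R {z} ≠ ⊥ := by
    intro h
    have : z ∈ (⊥ : Submodule R L) := h ▸ Submodule.mem_span_singleton_self z
    exact hz0 ((Submodule.mem_bot R).mp this)
  have h2 := hess _ hPhom hPle hPne
  obtain ⟨w, hw, hw0⟩ := (Submodule.ne_bot_iff _).mp h2
  obtain ⟨hwP, hwf⟩ := Submodule.mem_inf.mp hw
  obtain ⟨c, rfl⟩ := Submodule.mem_span_singleton.mp hwP
  have h1 : c • z = ∑ j ∈ (decompose 𝒜 c).support, (decompose 𝒜 c j : R) • z := by
    conv_lhs => rw [← sum_support_decompose 𝒜 c]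
    rw [Finset.sum_smul]
  have hmem : ∀ j, (decompose 𝒜 c j : R) • z ∈ 𝓛 (j + k) :=
    fun j => SetLike.GradedSMul.smul_mem (A := 𝒜) (B := 𝓛) (i := j) (j := k)
      (SetLike.coe_mem (decompose 𝒜 c j)) hz
  have hex : ∃ j ∈ (decompose 𝒜 c).support, (decompose 𝒜 c j : R) • z ≠ 0 := by
    by_contra hcon
    push Not at hcon
    apply hw0
    rw [h1]
    exact Finset.sum_eq_zero hcon
  obtain ⟨j, hj, hjne⟩ := hex
  refine ⟨j, (decompose 𝒜 c j : R), SetLike.coe_mem _, hjne, ?_⟩
  have h3 := hN (j + k) hwf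
  rw [h1] at h3
  rwa [decompose_sum_apply 𝓛 _ (fun j => j + k) (fun a _ b _ hab => add_right_cancel hab)
    (fun j => (decompose 𝒜 c j : R) • z) (fun j _ => hmem j) j hj] at h3

include hN hess in
theorem exists_homogeneous_smul_mem_aux : ∀ (n : ℕ) (s : Finset ι) (x : ι → L) (e : ι),
    s.card = n → (∀ i ∈ s, x i ∈ 𝓛 (e + i)) → (∀ i ∈ s, x i ∈ J) → ∑ i ∈ s, x i ≠ 0 →
    ∃ (d : ι) (a : R), a ∈ 𝒜 d ∧ a • ∑ i ∈ s, x i ≠ 0 ∧ a • ∑ i ∈ s, x i ∈ N' := by
  classical
  intro n
  induction n with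
  | zero =>
    intro s x e hs _ _ hne
    rw [Finset.card_eq_zero] at hs
    subst hs
    exact (hne Finset.sum_empty).elim
  | succ n ih =>
    intro s x e hs hx hxJ hne
    obtain ⟨i₀, hi₀, hxi₀⟩ : ∃ i ∈ s, x i ≠ 0 := by
      by_contra hcon
      push Not at hcon
      exact hne (Finset.sum_eq_zero hcon)
    obtain ⟨j, a, ha, hane, haf⟩ := exists_homogeneous_smul_mem_of_homogeneous 𝒜 𝓛 J N' hN hess
      _ (x i₀) (hx i₀ hi₀) (hxJ i₀ hi₀) hxi₀
    have hx' : ∀ i ∈ s, a • x i ∈ 𝓛 ((j + e) + i) := by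
      intro i hi
      have := SetLike.GradedSMul.smul_mem (A := 𝒜) (B := 𝓛) ha (hx i hi)
      rwa [vadd_eq_add, ← add_assoc] at this
    have hsplit : a • ∑ i ∈ s, x i = a • x i₀ + ∑ i ∈ s.erase i₀, a • x i := by
      rw [Finset.smul_sum, ← Finset.add_sum_erase s _ hi₀]
    by_cases hy : ∑ i ∈ s.erase i₀, a • x i = 0
    · refine ⟨j, a, ha, ?_, ?_⟩
      · rw [hsplit, hy, add_zero]; exact hane
      · rw [hsplit, hy, add_zero]; exact haf
    · have hcard : (s.erase i₀).card = n := by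
        rw [Finset.card_erase_of_mem hi₀, hs]; rfl
      obtain ⟨d, b, hb, hbne, hbf⟩ := ih (s.erase i₀) (fun i => a • x i) (j + e) hcard
        (fun i hi => hx' i (Finset.mem_of_mem_erase hi))
        (fun i hi => Submodule.smul_mem _ _ (hxJ i (Finset.mem_of_mem_erase hi))) hy
      refine ⟨d + j, b * a, SetLike.GradedMul.mul_mem hb ha, ?_, ?_⟩
      · rw [mul_smul, Finset.smul_sum, Finset.smul_sum]
        intro h0
        have hz : ∀ i ∈ s, b • a • x i ∈ 𝓛 (d + (j + e) + i) := by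
          intro i hi
          have := SetLike.GradedSMul.smul_mem (A := 𝒜) (B := 𝓛) hb (hx' i hi)
          rwa [vadd_eq_add, ← add_assoc] at this
        have hall := eq_zero_of_sum_eq_zero 𝓛 s (fun i => d + (j + e) + i)
          (fun a _ b _ hab => add_left_cancel hab) (fun i => b • a • x i) hz h0
        apply hbne
        rw [Finset.smul_sum]
        exact Finset.sum_eq_zero (fun i hi => hall i (Finset.mem_of_mem_erase hi))
      · rw [mul_smul, hsplit, smul_add]
        exact Submodule.add_mem _ (Submodule.smul_mem _ _ haf) hbf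

include hJ hN hess in
/-- Every nonzero element of `J` has a nonzero multiple in `N'` by a homogeneous element. -/
theorem exists_homogeneous_smul_mem (x : L) (hxJ : x ∈ J) (hx0 : x ≠ 0) :
    ∃ (d : ι) (a : R), a ∈ 𝒜 d ∧ a • x ≠ 0 ∧ a • x ∈ N' := by
  classical
  have hxsum : ∑ i ∈ (decompose 𝓛 x).support, (decompose 𝓛 x i : L) = x :=
    sum_support_decompose 𝓛 x
  obtain ⟨d, a, ha, hane, haf⟩ := exists_homogeneous_smul_mem_aux 𝒜 𝓛 J N' hN hess _
    (decompose 𝓛 x).support (fun i => (decompose 𝓛 x i : L)) 0 rfl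
    (fun i _ => by rw [zero_add]; exact SetLike.coe_mem _)
    (fun i _ => hJ i hxJ) (by rw [hxsum]; exact hx0)
  rw [hxsum] at hane haf
  exact ⟨d, a, ha, hane, haf⟩

end Main

end Groth.Agent.Lib.Helper87.StarCount
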