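import Groth.Agent.Lib.Helper87.StarCount1
import Mathlib.RingTheory.Localization.Module
import Mathlib.RingTheory.Localization.Integer
import Mathlib.LinearAlgebra.DFinsupp

/-!
# The socle of a localization of a direct sum of "coprimary" pieces (helper87)
-/

set_option autoImplicit false
universe u

namespace Groth.Agent.Lib.Helper87.StarCount

open IsLocalRing

attribute [-instance] Groth.Agent.Lib.Helper89.ExtBaseChange.extModule

section Core

variable {R : Type u} [CommRing R] (𝔭 : Ideal R) [𝔭.IsPrime]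

theorem mk_eq_zero_iff {X : Type u} [AddCommGroup X] [Module R X] (x : X) (s : 𝔭.primeCompl) :
    LocalizedModule.mk x s = 0 ↔ ∃ t : 𝔭.primeCompl, t • x = 0 := by
  rw [← LocalizedModule.zero_mk s, LocalizedModule.mk_eq]
  constructor
  · rintro ⟨w, hw⟩
    rw [smul_zero, smul_zero] at hw
    exact ⟨w * s, by rw [mul_smul]; exact hw⟩
  · rintro ⟨t, ht⟩
    exact ⟨t, by rw [smul_comm, ht, smul_zero, smul_zero]⟩

theorem mem_socle_iff_forall_mem {X : Type u} [AddCommGroup X] [Module R X]
    (y : LocalizedModule 𝔭.primeCompl X) :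
    y ∈ socle (Localization.AtPrime 𝔭) (LocalizedModule 𝔭.primeCompl X) ↔
      ∀ r ∈ 𝔭, r • y = 0 := by
  constructor
  · intro hy r hr
    have h1 : algebraMap R (Localization.AtPrime 𝔭) r ∈
        maximalIdeal (Localization.AtPrime 𝔭) := by
      rw [← Localization.AtPrime.map_eq_maximalIdeal]
      exact Ideal.mem_map_of_mem _ hr
    have h2 := hy _ h1
    rwa [algebraMap_smul] at h2
  · intro hy a ha
    rw [← Localization.AtPrime.map_eq_maximalIdeal, Ideal.map] at ha
    induction ha using Submodule.span_induction with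
    | mem a ha =>
      obtain ⟨r, hr, rfl⟩ := ha
      rw [algebraMap_smul]
      exact hy r hr
    | zero => exact zero_smul _ _
    | add a b _ _ ha hb => rw [add_smul, ha, hb, add_zero]
    | smul c a _ ha => rw [smul_eq_mul, mul_smul, ha, smul_zero]

theorem exists_rep_of_mem_socle (h𝔭 : 𝔭.FG) {X : Type u} [AddCommGroup X] [Module R X]
    (y : LocalizedModule 𝔭.primeCompl X)
    (hy : y ∈ socle (Localization.AtPrime 𝔭) (LocalizedModule 𝔭.primeCompl X)) :
    ∃ (x : X) (s : 𝔭.primeCompl), y = LocalizedModule.mk x s ∧ ∀ r ∈ 𝔭, r • x = 0 := by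
  classical
  rw [mem_socle_iff_forall_mem] at hy
  induction y using LocalizedModule.induction_on with
  | h x₀ s =>
    obtain ⟨G, hG⟩ := h𝔭
    have h1 : ∀ g ∈ G, ∃ t : 𝔭.primeCompl, t • g • x₀ = 0 := by
      intro g hg
      have hg' : g ∈ 𝔭 := hG ▸ Ideal.subset_span hg
      have h2 := hy g hg'
      rw [LocalizedModule.smul'_mk, mk_eq_zero_iff] at h2
      exact h2
    choose! t ht using h1
    let T : 𝔭.primeCompl := ∏ g ∈ G, t g
    have hT : ∀ g ∈ G, T • g • x₀ = 0 := by
      intro g hg
      have h3 : T = (∏ g' ∈ G.erase g, t g') * t g := (Finset.prod_erase_mul G t hg).symm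
      rw [h3, mul_smul, ht g hg, smul_zero]
    refine ⟨T • x₀, T * s, (LocalizedModule.mk_cancel_common_left T s x₀).symm, ?_⟩
    intro r hr
    have hle : 𝔭 ≤ LinearMap.ker (LinearMap.toSpanSingleton R X (T • x₀)) := by
      refine le_of_eq_of_le hG.symm ?_
      apply Ideal.span_le.mpr
      intro g hg
      rw [SetLike.mem_coe, LinearMap.mem_ker, LinearMap.toSpanSingleton_apply, smul_comm]
      exact hT g hg
    have h4 := hle hr
    rwa [LinearMap.mem_ker, LinearMap.toSpanSingleton_apply] at h4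

theorem smul_eq_zero_iff_mem {X : Type u} [AddCommGroup X] [Module R X] {x : X}
    (hx : ∀ r ∈ 𝔭, r • x = 0) (hne : LocalizedModule.mk x (1 : 𝔭.primeCompl) ≠ 0) (r : R) :
    r • x = 0 ↔ r ∈ 𝔭 := by
  refine ⟨fun h => ?_, hx r⟩
  by_contra hr
  exact hne ((mk_eq_zero_iff 𝔭 x 1).mpr ⟨⟨r, hr⟩, h⟩)

theorem mem_range_map_of_mem_socle (h𝔭 : 𝔭.FG) {M E' : Type u} [AddCommGroup M] [Module R M]
    [AddCommGroup E'] [Module R E'] (e : M →ₗ[R] E')
    (hess : ∀ x : E', x ≠ 0 → ∃ a : R, a • x ≠ 0 ∧ a • x ∈ LinearMap.range e)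
    (y : LocalizedModule 𝔭.primeCompl E')
    (hy : y ∈ socle (Localization.AtPrime 𝔭) (LocalizedModule 𝔭.primeCompl E')) :
    y ∈ LinearMap.range (LocalizedModule.map 𝔭.primeCompl e) := by
  obtain ⟨x, s, rfl, hx⟩ := exists_rep_of_mem_socle 𝔭 h𝔭 y hy
  by_cases h0 : LocalizedModule.mk x (1 : 𝔭.primeCompl) = 0
  · have h1 : LocalizedModule.mk x s = 0 := by
      rw [mk_eq_zero_iff] at h0 ⊢
      exact h0
    rw [h1]
    exact zero_mem _
  · have hx0 : x ≠ 0 := by
      rintro rfl
      exact h0 (LocalizedModule.zero_mk 1)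
    obtain ⟨a, ha, m, hm⟩ := hess x hx0
    have haS : a ∉ 𝔭 := fun h => ha (hx a h)
    refine ⟨LocalizedModule.mk m ((⟨a, haS⟩ : 𝔭.primeCompl) * s), ?_⟩
    rw [LocalizedModule.map_mk, hm]
    exact LocalizedModule.mk_cancel_common_left (⟨a, haS⟩ : 𝔭.primeCompl) s x

theorem length_socle_eq_of_essential (h𝔭 : 𝔭.FG) {M E' : Type u} [AddCommGroup M] [Module R M]
    [AddCommGroup E'] [Module R E'] (e : M →ₗ[R] E') (hinj : Function.Injective e)
    (hess : ∀ x : E', x ≠ 0 → ∃ a : R, a • x ≠ 0 ∧ a • x ∈ LinearMap.range e) :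
    Module.length (Localization.AtPrime 𝔭)
        (socle (Localization.AtPrime 𝔭) (LocalizedModule 𝔭.primeCompl M)) =
      Module.length (Localization.AtPrime 𝔭)
        (socle (Localization.AtPrime 𝔭) (LocalizedModule 𝔭.primeCompl E')) := by
  have heL : Function.Injective (LocalizedModule.map 𝔭.primeCompl e) :=
    LocalizedModule.map_injective 𝔭.primeCompl e hinj
  let φ : socle (Localization.AtPrime 𝔭) (LocalizedModule 𝔭.primeCompl M) →ₗ[Localization.AtPrime 𝔭]
      socle (Localization.AtPrime 𝔭) (LocalizedModule 𝔭.primeCompl E') :=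
    (LocalizedModule.map 𝔭.primeCompl e).restrict (fun y hy a ha => by
      rw [← map_smul, hy a ha, map_zero])
  have hφ : Function.Bijective φ := by
    constructor
    · intro y₁ y₂ h
      apply Subtype.ext
      apply heL
      exact congrArg Subtype.val h
    · rintro ⟨y, hy⟩
      obtain ⟨z, hz⟩ := mem_range_map_of_mem_socle 𝔭 h𝔭 e hess y hy
      have hzs : z ∈ socle (Localization.AtPrime 𝔭) (LocalizedModule 𝔭.primeCompl M) := by
        intro a ha
        apply heL
        rw [map_smul, hz, hy a ha, map_zero]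
      exact ⟨⟨z, hzs⟩, Subtype.ext hz⟩
  exact (LinearEquiv.ofBijective φ hφ).length_eq

theorem length_socle_eq_card (h𝔭 : 𝔭.FG) {E' : Type u} [AddCommGroup E'] [Module R E']
    {Λ : Type u} (J : Λ → Submodule R E') (hind : iSupIndep J) (htop : iSup J = ⊤)
    (sel : Λ → Prop) (w : {α // sel α} → E')
    (hw1 : ∀ α : {α // sel α}, w α ∈ J α.1 ∧ ∀ r : R, r • w α = 0 ↔ r ∈ 𝔭)
    (hw2 : ∀ α : {α // sel α}, ∀ x ∈ J α.1, x ≠ 0 → ∃ a r : R, a • x ≠ 0 ∧ a • x = r • w α)
    (hw3 : ∀ α, ¬ sel α → ∀ x ∈ J α, ¬ (∀ r : R, r • x = 0 ↔ r ∈ 𝔭)) :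
    Module.length (Localization.AtPrime 𝔭)
        (socle (Localization.AtPrime 𝔭) (LocalizedModule 𝔭.primeCompl E')) =
      ENat.card {α // sel α} := by
  classical
  have hwsoc : ∀ α : {α // sel α}, LocalizedModule.mk (w α) (1 : 𝔭.primeCompl) ∈
      socle (Localization.AtPrime 𝔭) (LocalizedModule 𝔭.primeCompl E') := by
    intro α
    rw [mem_socle_iff_forall_mem]
    intro r hr
    rw [LocalizedModule.smul'_mk, ((hw1 α).2 r).mpr hr, LocalizedModule.zero_mk]
  let v : {α // sel α} → socle (Localization.AtPrime 𝔭) (LocalizedModule 𝔭.primeCompl E') :=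
    fun α => ⟨LocalizedModule.mk (w α) 1, hwsoc α⟩
  apply length_eq_card_of_basis v
  · intro a ha x
    exact Subtype.ext (x.2 a ha)
  · -- spanning
    set W : Submodule (Localization.AtPrime 𝔭) (LocalizedModule 𝔭.primeCompl E') :=
      Submodule.span (Localization.AtPrime 𝔭)
        (Set.range fun α : {α // sel α} => LocalizedModule.mk (w α) (1 : 𝔭.primeCompl)) with hW
    have key : ∀ y ∈ socle (Localization.AtPrime 𝔭) (LocalizedModule 𝔭.primeCompl E'), y ∈ W := by
      intro y hy
      obtain ⟨x, s, rfl, hx⟩ := exists_rep_of_mem_socle 𝔭 h𝔭 y hy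
      have h1 : LocalizedModule.mk x s =
          (Localization.mk 1 s : Localization.AtPrime 𝔭) • LocalizedModule.mk x 1 := by
        rw [LocalizedModule.mk_smul_mk, one_smul, mul_one]
      rw [h1]
      apply W.smul_mem
      have hxtop : x ∈ iSup J := by rw [htop]; trivial
      obtain ⟨z, hzJ, hzsum⟩ := (Submodule.mem_iSup_iff_exists_finsupp J x).mp hxtop
      have h2 : LocalizedModule.mk x (1 : 𝔭.primeCompl) =
          ∑ α ∈ z.support, LocalizedModule.mk (z α) (1 : 𝔭.primeCompl) := by
        rw [← hzsum, Finsupp.sum]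
        exact map_sum (LocalizedModule.mkLinearMap 𝔭.primeCompl E') _ _
      rw [h2]
      apply W.sum_mem
      intro α _
      -- `𝔭` kills every component
      have hkill : ∀ r ∈ 𝔭, r • z α = 0 := by
        intro r hr
        by_cases hα : α ∈ z.support
        · have h3 : ∑ β ∈ z.support, r • z β = 0 := by
            rw [← Finset.smul_sum]
            have : ∑ β ∈ z.support, z β = x := hzsum
            rw [this, hx r hr]
          exact (iSupIndep_iff_finsetSum_eq_zero_imp_eq_zero J).mp hind z.support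
            (fun β => r • z β) (fun β _ => (J β).smul_mem r (hzJ β)) h3 α hα
        · rw [Finsupp.notMem_support_iff.mp hα, smul_zero]
      by_cases h0 : LocalizedModule.mk (z α) (1 : 𝔭.primeCompl) = 0
      · rw [h0]
        exact W.zero_mem
      · have hann := smul_eq_zero_iff_mem 𝔭 hkill h0
        have hsel : sel α := by
          by_contra hsel
          exact hw3 α hsel (z α) (hzJ α) hann
        have hz0 : z α ≠ 0 := by
          intro h
          rw [h] at h0
          exact h0 (LocalizedModule.zero_mk 1)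
        obtain ⟨a, r, ha, har⟩ := hw2 ⟨α, hsel⟩ (z α) (hzJ α) hz0
        have haS : a ∉ 𝔭 := fun h => ha (hkill a h)
        have h4 : LocalizedModule.mk (z α) (1 : 𝔭.primeCompl) =
            (Localization.mk r ⟨a, haS⟩ : Localization.AtPrime 𝔭) •
              LocalizedModule.mk (w ⟨α, hsel⟩) (1 : 𝔭.primeCompl) := by
          rw [LocalizedModule.mk_smul_mk, ← har]
          exact (LocalizedModule.mk_cancel_common_left (⟨a, haS⟩ : 𝔭.primeCompl) 1 (z α)).symm
        rw [h4]
        exact W.smul_mem _ (Submodule.subset_span ⟨⟨α, hsel⟩, rfl⟩)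
    rw [Submodule.eq_top_iff']
    rintro ⟨y, hy⟩
    have hyW := key y hy
    rw [hW, Finsupp.mem_span_range_iff_exists_finsupp] at hyW
    obtain ⟨c, hc⟩ := hyW
    rw [Finsupp.mem_span_range_iff_exists_finsupp]
    refine ⟨c, Subtype.ext ?_⟩
    change ((c.sum fun i a => a • v i : socle (Localization.AtPrime 𝔭)
      (LocalizedModule 𝔭.primeCompl E')) : LocalizedModule 𝔭.primeCompl E') = y
    rw [← hc, Finsupp.sum, Finsupp.sum, Submodule.coe_sum]
    rfl
  · -- independence
    intro c hc
    have hc' : ∑ α ∈ c.support, c α • LocalizedModule.mk (w α) (1 : 𝔭.primeCompl) = 0 := by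
      have h1 := congrArg Subtype.val hc
      rw [Finsupp.linearCombination_apply, Finsupp.sum, Submodule.coe_sum] at h1
      exact h1
    obtain ⟨b, hb⟩ := IsLocalization.exist_integer_multiples_of_finset 𝔭.primeCompl
      (c.support.image c)
    have hb' : ∀ α ∈ c.support, ∃ r : R, algebraMap R (Localization.AtPrime 𝔭) r = (b : R) • c α :=
      fun α hα => hb (c α) (Finset.mem_image_of_mem c hα)
    choose! r hr using hb'
    have h2 : ∑ α ∈ c.support, LocalizedModule.mk (r α • w α) (1 : 𝔭.primeCompl) = 0 := by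
      have h3 : (b : R) • ∑ α ∈ c.support, c α • LocalizedModule.mk (w α) (1 : 𝔭.primeCompl) = 0 := by
        rw [hc', smul_zero]
      rw [Finset.smul_sum] at h3
      rw [← h3]
      apply Finset.sum_congr rfl
      intro α hα
      rw [← smul_assoc, ← hr α hα, algebraMap_smul, LocalizedModule.smul'_mk]
    have h3 : LocalizedModule.mk (∑ α ∈ c.support, r α • w α) (1 : 𝔭.primeCompl) = 0 := by
      rw [← h2]
      exact map_sum (LocalizedModule.mkLinearMap 𝔭.primeCompl E') _ _
    obtain ⟨t, ht⟩ := (mk_eq_zero_iff 𝔭 _ 1).mp h3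
    -- move to a family indexed by `Λ`
    let w' : Λ → E' := fun β => if h : sel β then ((t : R) * r ⟨β, h⟩) • w ⟨β, h⟩ else 0
    have hw'J : ∀ β, w' β ∈ J β := by
      intro β
      by_cases h : sel β
      · simp only [w', dif_pos h]
        exact (J β).smul_mem _ (hw1 ⟨β, h⟩).1
      · simp only [w', dif_neg h]
        exact (J β).zero_mem
    have hsum : ∑ β ∈ c.support.map ⟨Subtype.val, Subtype.val_injective⟩, w' β = 0 := by
      rw [Finset.sum_map]
      have h4 : ∀ α ∈ c.support, w' ((⟨Subtype.val, Subtype.val_injective⟩ :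
          {α // sel α} ↪ Λ) α) = (t : R) • (r α • w α) := by
        intro α _
        change w' α.1 = _
        simp only [w', dif_pos α.2]
        rw [mul_smul]
      rw [Finset.sum_congr rfl h4, ← Finset.smul_sum]
      exact ht
    have hzero := (iSupIndep_iff_finsetSum_eq_zero_imp_eq_zero J).mp hind _ w'
      (fun β _ => hw'J β) hsum
    intro α
    by_cases hα : α ∈ c.support
    · have h5 : w' α.1 = 0 := hzero α.1 (Finset.mem_map_of_mem _ hα)
      simp only [w', dif_pos α.2] at h5
      have h6 : (t : R) * r α ∈ 𝔭 := ((hw1 α).2 _).mp h5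
      have h7 : r α ∈ 𝔭 := (Ideal.IsPrime.mem_or_mem inferInstance h6).resolve_left t.2
      have h8 : (b : R) • c α ∈ maximalIdeal (Localization.AtPrime 𝔭) := by
        rw [← hr α hα, ← Localization.AtPrime.map_eq_maximalIdeal]
        exact Ideal.mem_map_of_mem _ h7
      by_contra hcu
      have hu : IsUnit (c α) := by
        by_contra h
        exact hcu ((mem_maximalIdeal _).mpr h)
      have hbu : IsUnit (algebraMap R (Localization.AtPrime 𝔭) (b : R)) :=
        IsLocalization.map_units (Localization.AtPrime 𝔭) b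
      rw [Algebra.smul_def] at h8
      exact (mem_maximalIdeal _).mp h8 (hbu.mul hu)
    · rw [Finsupp.notMem_support_iff.mp hα]
      exact zero_mem _

end Core

end Groth.Agent.Lib.Helper87.StarCount
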