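import Groth.Agent.Lib.Helper87.StarCount2
import Groth.Agent.Lib.Helper87.StarCount3
import Groth.Agent.Lib.Helper39.GrSpan
import Groth.Agent.Lib.Helper39.GrMod
import Groth.Prelude.Def_GrLC

/-!
# Counting the copies of `*E(R/p)` in a `*`injective envelope by the zeroth Bass number (helper87)
-/

set_option autoImplicit false
universe u

namespace Groth.Agent.Lib.Helper87.StarCount

open IsLocalRing GrLC

attribute [-instance] Groth.Agent.Lib.Helper89.ExtBaseChange.extModule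

section Quot

variable {ι : Type} [AddCommGroup ι] [DecidableEq ι] {R : Type u} [CommRing R]
  (𝒜 : ι → AddSubgroup R) [GradedRing 𝒜]
  {E' : Type u} [AddCommGroup E'] [Module R E'] (𝓔 : ι → AddSubgroup E')
  [DirectSum.Decomposition 𝓔] [SetLike.GradedSMul 𝒜 𝓔]
  (P : HomogeneousIdeal 𝒜) (f : (R ⧸ P.toIdeal) →ₗ[R] E')

theorem map_mk_eq_smul (r : R) : f (Ideal.Quotient.mk P.toIdeal r) = r • f 1 := by
  rw [← map_smul]
  congr 1
  rw [Algebra.smul_def, mul_one]
  rfl

theorem range_eq_span : LinearMap.range f = Submodule.span R {f 1} := by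
  ext y
  rw [LinearMap.mem_range, Submodule.mem_span_singleton]
  constructor
  · rintro ⟨z, rfl⟩
    obtain ⟨r, rfl⟩ := Ideal.Quotient.mk_surjective z
    exact ⟨r, (map_mk_eq_smul 𝒜 P f r).symm⟩
  · rintro ⟨r, rfl⟩
    exact ⟨Ideal.Quotient.mk P.toIdeal r, map_mk_eq_smul 𝒜 P f r⟩

theorem smul_eq_zero_iff (hinj : Function.Injective f) (r : R) : r • f 1 = 0 ↔ r ∈ P.toIdeal := by
  rw [← map_mk_eq_smul 𝒜 P f r, ← Ideal.Quotient.eq_zero_iff_mem]
  constructor
  · intro h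
    apply hinj
    rw [h, map_zero]
  · intro h
    rw [h, map_zero]

theorem range_isHomogeneous (g : ι) (hf : IsGrHomDeg (quotGr 𝒜 P) 𝓔 f g) :
    (LinearMap.range f).IsHomogeneous 𝓔 := by
  rw [range_eq_span 𝒜 P f]
  apply Groth.Agent.Lib.Helper39.span_isHomogeneous 𝒜 𝓔
  intro x hx
  rw [Set.mem_singleton_iff] at hx
  subst hx
  refine ⟨0 + g, hf 0 1 ?_⟩
  exact ⟨1, (SetLike.GradedOne.one_mem : (1 : R) ∈ 𝒜 0), rfl⟩

end Quot

section Main

variable {ι : Type} [AddCommGroup ι] [DecidableEq ι]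
  (R : Type u) [CommRing R] [IsNoetherianRing R] (𝒜 : ι → AddSubgroup R) [GradedRing 𝒜]
  (M : Type u) [AddCommGroup M] [Module R M] (ℳ : ι → AddSubgroup M)
  [DirectSum.Decomposition ℳ] [SetLike.GradedSMul 𝒜 ℳ]
  (E' : Type u) [AddCommGroup E'] [Module R E'] (𝓔 : ι → AddSubgroup E')
  [DirectSum.Decomposition 𝓔] [SetLike.GradedSMul 𝒜 𝓔]
  (e : M →ₗ[R] E') (he : GrLC.IsStarEss ℳ 𝓔 e)
  (Λ : Type u) (P : Λ → HomogeneousIdeal 𝒜) (hP : ∀ α, (P α).toIdeal.IsPrime) (g : Λ → ι)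
  (J : Λ → Submodule R E') (hJ : ∀ α, (J α).IsHomogeneous 𝓔) (hind : iSupIndep J)
  (htop : iSup J = ⊤) (f : ∀ α, (R ⧸ (P α).toIdeal) →ₗ[R] E')
  (hf : ∀ α, Function.Injective (f α) ∧ GrLC.IsGrHomDeg (GrLC.quotGr 𝒜 (P α)) 𝓔 (f α) (g α) ∧
    LinearMap.range (f α) ≤ J α ∧ ∀ Q : Submodule R E', Q.IsHomogeneous 𝓔 → Q ≤ J α → Q ≠ ⊥ →
      Q ⊓ LinearMap.range (f α) ≠ ⊥)
  (p : HomogeneousIdeal 𝒜) [p.toIdeal.IsPrime]

include he hP hJ hind htop hf in
theorem card_eq_bassNum_zero :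
    Cardinal.toENat (Cardinal.mk {α : Λ // P α = p}) = GrLC.bassNum p.toIdeal M 0 := by
  have h𝔭 : p.toIdeal.FG := (isNoetherianRing_iff_ideal_fg R).mp inferInstance _
  -- essentiality of `e` in the ungraded sense
  have hrange_e : (LinearMap.range e).IsHomogeneous 𝓔 :=
    Groth.Agent.Lib.Helper39.IsGrHom.range_isHomogeneous ℳ 𝓔 he.grHom
  have htophom : (⊤ : Submodule R E').IsHomogeneous 𝓔 := fun _ _ _ => Submodule.mem_top
  have hess_e : ∀ x : E', x ≠ 0 → ∃ a : R, a • x ≠ 0 ∧ a • x ∈ LinearMap.range e := by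
    intro x hx
    obtain ⟨d, a, -, h1, h2⟩ := exists_homogeneous_smul_mem 𝒜 𝓔 ⊤ (LinearMap.range e) htophom
      hrange_e (fun Q hQ _ hne => he.essential Q hQ hne) x Submodule.mem_top hx
    exact ⟨a, h1, h2⟩
  -- essentiality inside each `J α`
  have hess_J : ∀ α, ∀ x ∈ J α, x ≠ 0 → ∃ a r : R, a • x ≠ 0 ∧ a • x = r • f α 1 := by
    intro α x hxJ hx
    obtain ⟨d, a, -, h1, h2⟩ := exists_homogeneous_smul_mem 𝒜 𝓔 (J α) (LinearMap.range (f α))
      (hJ α) (range_isHomogeneous 𝒜 𝓔 (P α) (f α) (g α) (hf α).2.1) (hf α).2.2.2 x hxJ hx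
    rw [range_eq_span 𝒜 (P α) (f α), Submodule.mem_span_singleton] at h2
    obtain ⟨r, hr⟩ := h2
    exact ⟨a, r, h1, hr.symm⟩
  have hcount := length_socle_eq_card p.toIdeal h𝔭 J hind htop (fun α => P α = p)
    (fun α => f α.1 1)
    (fun α => ⟨(hf α.1).2.2.1 ⟨1, rfl⟩, fun r => by
      rw [smul_eq_zero_iff 𝒜 (P α.1) (f α.1) (hf α.1).1 r, α.2]⟩)
    (fun α x hx hx0 => hess_J α.1 x hx hx0)
    (by
      intro α hα x hxJ hann
      apply hα
      have hx0 : x ≠ 0 := by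
        rintro rfl
        have h1 : (1 : R) ∈ p.toIdeal := (hann 1).mp (smul_zero 1)
        exact (Ideal.IsPrime.ne_top inferInstance) ((Ideal.eq_top_iff_one _).mpr h1)
      obtain ⟨a, r, ha, har⟩ := hess_J α x hxJ hx0
      have hap : a ∉ p.toIdeal := fun h => ha ((hann a).mpr h)
      have hrP : r ∉ (P α).toIdeal := by
        intro h
        apply ha
        rw [har]
        exact (smul_eq_zero_iff 𝒜 (P α) (f α) (hf α).1 r).mpr h
      apply HomogeneousIdeal.toIdeal_injective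
      ext s
      have hPα := hP α
      have hpp : p.toIdeal.IsPrime := inferInstance
      constructor
      · intro hs
        -- `s • a • x = s • r • f 1 = 0`
        have h1 : (s * a) • x = 0 := by
          rw [mul_smul, har, ← mul_smul]
          exact (smul_eq_zero_iff 𝒜 (P α) (f α) (hf α).1 (s * r)).mpr
            (Ideal.mul_mem_right _ _ hs)
        exact (hpp.mem_or_mem ((hann _).mp h1)).resolve_right hap
      · intro hs
        have h1 : (s * r) • f α 1 = 0 := by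
          rw [mul_smul, ← har, ← mul_smul]
          exact (hann _).mpr (Ideal.mul_mem_right _ _ hs)
        exact (hPα.mem_or_mem
          ((smul_eq_zero_iff 𝒜 (P α) (f α) (hf α).1 (s * r)).mp h1)).resolve_right hrP)
  have h1 : GrLC.bassNum p.toIdeal M 0 =
      Module.length (Localization.AtPrime p.toIdeal)
        (socle (Localization.AtPrime p.toIdeal) (LocalizedModule p.toIdeal.primeCompl M)) :=
    bassNumLocal_zero_eq_length_socle _ _
  rw [h1, length_socle_eq_of_essential p.toIdeal h𝔭 e he.injective hess_e, hcount]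
  rfl

end Main

end Groth.Agent.Lib.Helper87.StarCount
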