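import Groth.Agent.Lib.Helper87.StarRes3
import Groth.Agent.Lib.Helper39.GrH
import Groth.Agent.Lib.Helper39.LexOrder
import Groth.Agent.H34.GorDual

/-!
# `*`local graded rings: socles of the terms of a minimal `*`injective resolution (helper87)

* `le_of_ne_top`, `isPrime_of_isStarLocal`, `mem_of_smul_eq_zero`: basics on `*`local rings
  (general grading group).
* `exists_socle_multiple`: a nonzero homogeneous torsion element has a nonzero homogeneous multiple
  killed by `m`.
* `length_socle_eq_bassNum`: in a minimal `*`injective resolution `E` of `M`, the socle of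
  `(E.X j)_p` has length `μ^j(p, M)`.
* `bassNum_self_of_gorenstein`: `μ^j(p, R) = δ_{j, ht p}` for a Gorenstein ring.
-/

set_option autoImplicit false
universe u

namespace Groth.Agent.Lib.Helper87.StarGor

open CategoryTheory Abelian IsLocalRing GrLC DirectSum Groth.Agent.Lib.Helper87.BassFlat
  Groth.Agent.Lib.Helper87.StarCount Groth.Agent.Lib.Helper87.StarRes
  Groth.Agent.Lib.Helper39.Acyclic Groth.Agent.Lib.Helper39

attribute [-instance] Groth.Agent.Lib.Helper89.ExtBaseChange.extModule

section Basic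

variable {ι : Type} [AddCommGroup ι] [DecidableEq ι] {R : Type u} [CommRing R]
  (𝒜 : ι → AddSubgroup R) [GradedRing 𝒜]

/-- every proper homogeneous ideal lies in the `*`maximal ideal -/
theorem le_of_ne_top [IsNoetherianRing R] {m : HomogeneousIdeal 𝒜} (hm : IsStarLocal 𝒜 m)
    (J : HomogeneousIdeal 𝒜) (hJ : J ≠ ⊤) : J ≤ m := by
  let 𝒮 : Set (Ideal R) := {K | K.IsHomogeneous 𝒜 ∧ K ≠ ⊤ ∧ J.toIdeal ≤ K}
  have hne : 𝒮.Nonempty := ⟨J.toIdeal, J.isHomogeneous, fun h => hJ (by
    apply HomogeneousIdeal.toIdeal_injective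
    rw [HomogeneousIdeal.toIdeal_top]
    exact h), le_rfl⟩
  obtain ⟨K, ⟨hKh, hKt, hJK⟩, hKmax⟩ :=
    (set_has_maximal_iff_noetherian (R := R) (M := R)).mpr inferInstance 𝒮 hne
  let K' : HomogeneousIdeal 𝒜 := ⟨K, hKh⟩
  have hco : IsCoatom K' := by
    refine ⟨fun h => hKt (by
      have := congrArg HomogeneousIdeal.toIdeal h
      rw [HomogeneousIdeal.toIdeal_top] at this
      exact this), fun L hL => ?_⟩
    by_contra hLt
    apply hKmax L.toIdeal
    · refine ⟨L.isHomogeneous, fun h => hLt (by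
        apply HomogeneousIdeal.toIdeal_injective
        rw [HomogeneousIdeal.toIdeal_top]
        exact h), hJK.trans hL.le⟩
    · exact hL
  have := hm.2 K' hco
  intro x hx
  have h1 : x ∈ K'.toIdeal := hJK hx
  rw [this] at h1
  exact h1

/-- an ideal which is homogeneous and proper lies in `m` -/
theorem ideal_le_of_ne_top [IsNoetherianRing R] {m : HomogeneousIdeal 𝒜} (hm : IsStarLocal 𝒜 m)
    (J : Ideal R) (hJh : J.IsHomogeneous 𝒜) (hJ : J ≠ ⊤) : J ≤ m.toIdeal := by
  have h := le_of_ne_top 𝒜 hm ⟨J, hJh⟩ (by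
    intro h
    apply hJ
    have := congrArg HomogeneousIdeal.toIdeal h
    rwa [HomogeneousIdeal.toIdeal_top] at this)
  exact h

/-- the `*`maximal ideal of a `*`local ring is prime -/
theorem isPrime_of_isStarLocal [Module.Free ℤ ι] [Module.Finite ℤ ι] [IsNoetherianRing R]
    {m : HomogeneousIdeal 𝒜} (hm : IsStarLocal 𝒜 m) : m.toIdeal.IsPrime := by
  let _ := lexLinearOrder ι
  have := lexLinearOrder_isOrderedCancelAddMonoid ι
  have hne : m.toIdeal ≠ ⊤ := by
    intro h
    apply hm.1.1
    apply HomogeneousIdeal.toIdeal_injective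
    rw [HomogeneousIdeal.toIdeal_top]
    exact h
  refine Ideal.IsHomogeneous.isPrime_of_homogeneous_mem_or_mem (𝒜 := 𝒜) m.isHomogeneous hne ?_
  rintro a b ⟨ia, ha⟩ - hab
  by_contra hcon
  push Not at hcon
  obtain ⟨ha', hb'⟩ := hcon
  let K : Ideal R := m.toIdeal ⊔ Ideal.span {a}
  have hKh : K.IsHomogeneous 𝒜 := by
    apply Ideal.IsHomogeneous.sup m.isHomogeneous
    apply Ideal.homogeneous_span
    intro z hz
    rw [Set.mem_singleton_iff] at hz
    rw [hz]
    exact ⟨ia, ha⟩
  have hKtop : K = ⊤ := by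
    by_contra hK
    have hle := ideal_le_of_ne_top 𝒜 hm K hKh hK
    exact ha' (hle (Ideal.mem_sup_right (Ideal.subset_span (Set.mem_singleton a))))
  have h1 : (1 : R) ∈ K := hKtop ▸ Submodule.mem_top
  obtain ⟨μ, hμ, ν, hν, h1'⟩ := Submodule.mem_sup.mp h1
  obtain ⟨r, rfl⟩ := Ideal.mem_span_singleton'.mp hν
  apply hb'
  have h2 : b = μ * b + r * (a * b) := by
    calc b = 1 * b := (one_mul b).symm
      _ = (μ + r * a) * b := by rw [h1']
      _ = μ * b + r * (a * b) := by ring
  rw [h2]
  exact m.toIdeal.add_mem (m.toIdeal.mul_mem_right b hμ) (m.toIdeal.mul_mem_left r hab)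

variable {X : Type u} [AddCommGroup X] [Module R X] (𝒳 : ι → AddSubgroup X)
  [DirectSum.Decomposition 𝒳] [SetLike.GradedSMul 𝒜 𝒳]

/-- the annihilator of a nonzero homogeneous element lies in `m` -/
theorem mem_of_smul_eq_zero [IsNoetherianRing R] {m : HomogeneousIdeal 𝒜} (hm : IsStarLocal 𝒜 m)
    {g : ι} {z : X} (hz : z ∈ 𝒳 g) (hz0 : z ≠ 0) {r : R} (hr : r • z = 0) : r ∈ m.toIdeal := by
  have hhom := annihilator_span_singleton_isHomogeneous 𝒜 𝒳 hz
  have hne : (Submodule.span R {z}).annihilator ≠ ⊤ := by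
    intro h
    apply hz0
    have : (1 : R) ∈ (Submodule.span R {z}).annihilator := h ▸ Submodule.mem_top
    rwa [Submodule.mem_annihilator_span_singleton, one_smul] at this
  exact ideal_le_of_ne_top 𝒜 hm _ hhom hne
    ((Submodule.mem_annihilator_span_singleton z r).mpr hr)

/-- a nonzero homogeneous element killed by a power of `m` has a nonzero homogeneous multiple
killed by `m` -/
theorem exists_socle_multiple (m : HomogeneousIdeal 𝒜) : ∀ (k : ℕ) (g : ι) (z : X), z ∈ 𝒳 g →
    z ≠ 0 → (∀ r ∈ m.toIdeal ^ k, r • z = 0) →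
    ∃ (e : ι) (c : R), c ∈ 𝒜 e ∧ c • z ≠ 0 ∧ ∀ r ∈ m.toIdeal, r • (c • z) = 0 := by
  classical
  intro k
  induction k with
  | zero =>
    intro g z _ hz0 hk
    exfalso
    apply hz0
    have := hk 1 (by rw [pow_zero, Ideal.one_eq_top]; exact Submodule.mem_top)
    rwa [one_smul] at this
  | succ k ih =>
    intro g z hz hz0 hk
    by_cases h : ∀ r ∈ m.toIdeal, r • z = 0
    · refine ⟨0, 1, SetLike.GradedOne.one_mem, ?_, ?_⟩
      · rwa [one_smul]
      · intro r hr
        rw [one_smul]
        exact h r hr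
    · push Not at h
      obtain ⟨r, hr, hrz⟩ := h
      have hex : ∃ i, (decompose 𝒜 r i : R) • z ≠ 0 := by
        by_contra hcon
        push Not at hcon
        apply hrz
        rw [← sum_support_decompose 𝒜 r, Finset.sum_smul]
        exact Finset.sum_eq_zero (fun i _ => hcon i)
      obtain ⟨i, hi⟩ := hex
      have hri : (decompose 𝒜 r i : R) ∈ m.toIdeal := m.isHomogeneous i hr
      have hz1 : (decompose 𝒜 r i : R) • z ∈ 𝒳 (i + g) :=
        SetLike.GradedSMul.smul_mem (A := 𝒜) (B := 𝒳) (SetLike.coe_mem _) hz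
      obtain ⟨e, c, hc, hc0, hcm⟩ := ih (i + g) _ hz1 hi (by
        intro s hs
        rw [← mul_smul]
        apply hk
        rw [pow_succ]
        exact Ideal.mul_mem_mul hs hri)
      refine ⟨e + i, c * (decompose 𝒜 r i : R), SetLike.GradedMul.mul_mem hc (SetLike.coe_mem _),
        ?_, ?_⟩
      · rwa [mul_smul]
      · intro s hs
        rw [mul_smul]
        exact hcm s hs

end Basic

section Res

variable {ι : Type} [AddCommGroup ι] [DecidableEq ι] (R : Type u) [CommRing R]
  [IsNoetherianRing R] (𝒜 : ι → AddSubgroup R) [GradedRing 𝒜]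
  (M : Type u) [AddCommGroup M] [Module R M] (ℳ : ι → AddSubgroup M)
  [DirectSum.Decomposition ℳ] [SetLike.GradedSMul 𝒜 ℳ] (E : GrLC.StarInjRes 𝒜 ℳ)
  (hmin0 : ∀ P : Submodule R (E.X 0).carrier, P.IsHomogeneous (E.X 0).gr → P ≠ ⊥ →
    P ⊓ LinearMap.range E.ε ≠ ⊥)
  (hmin : ∀ (n : ℕ) (P : Submodule R (E.X (n + 1)).carrier),
    P.IsHomogeneous (E.X (n + 1)).gr → P ≠ ⊥ → P ⊓ LinearMap.range (E.d n) ≠ ⊥)
  (p : HomogeneousIdeal 𝒜) [p.toIdeal.IsPrime]

include hmin0 hmin in
/-- In a minimal `*`injective resolution, the socle of `(E.X j)_p` has length `μ^j(p, M)`. -/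
theorem length_socle_eq_bassNum (j : ℕ) :
    Module.length (Localization.AtPrime p.toIdeal)
        (socle (Localization.AtPrime p.toIdeal)
          (LocalizedModule p.toIdeal.primeCompl (E.X j).carrier)) =
      GrLC.bassNum p.toIdeal M j := by
  have h𝔭 : p.toIdeal.FG := (isNoetherianRing_iff_ideal_fg R).mp inferInstance _
  rw [← length_socle_eq_of_essential p.toIdeal h𝔭 (Zk E j).subtype Subtype.val_injective
    (Zk_ess R 𝒜 M ℳ E hmin0 hmin j), ← bassNumLocal_zero_eq_length_socle]
  have h := bassNum_Zk R 𝒜 M ℳ E hmin0 hmin p j 0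
  rw [zero_add] at h
  exact h

end Res

section Gor

variable (R : Type u) [CommRing R] [hG : LocCoh.IsGorensteinRing R] (p : Ideal R) [p.IsPrime]

/-- Bass numbers of a Gorenstein ring: `μ^j(p, R) = 0` for `j ≠ ht p`. -/
theorem bassNum_self_eq_zero (n : ℕ) (hn : p.height = n) (j : ℕ) (hj : j ≠ n) :
    GrLC.bassNum p R j = 0 := by
  haveI : LocCoh.IsGorensteinLocalRing (Localization.AtPrime p) :=
    hG.isGorensteinLocalRing_localization p
  have hdim : ringKrullDim (Localization.AtPrime p) = n := by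
    rw [IsLocalization.AtPrime.ringKrullDim_eq_height p, hn]
    rfl
  unfold GrLC.bassNum
  let e : LocalizedModule p.primeCompl R ≃ₗ[Localization.AtPrime p] Localization.AtPrime p :=
    (LocalizedModule.equivTensorProduct p.primeCompl R).trans
      (TensorProduct.AlgebraTensorModule.rid R (Localization.AtPrime p) (Localization.AtPrime p))
  rw [bassNumLocal_congr e j]
  apply bassNumLocal_eq_zero
  exact Groth.Agent.H34.GorDual.ext_residueField_subsingleton (Localization.AtPrime p) n hdim j hj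

/-- Bass numbers of a Gorenstein ring: `μ^{ht p}(p, R) = 1`. -/
theorem bassNum_self_eq_one (n : ℕ) (hn : p.height = n) :
    GrLC.bassNum p R n = 1 := by
  haveI : LocCoh.IsGorensteinLocalRing (Localization.AtPrime p) :=
    hG.isGorensteinLocalRing_localization p
  have hdim : ringKrullDim (Localization.AtPrime p) = n := by
    rw [IsLocalization.AtPrime.ringKrullDim_eq_height p, hn]
    rfl
  unfold GrLC.bassNum
  let e : LocalizedModule p.primeCompl R ≃ₗ[Localization.AtPrime p] Localization.AtPrime p :=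
    (LocalizedModule.equivTensorProduct p.primeCompl R).trans
      (TensorProduct.AlgebraTensorModule.rid R (Localization.AtPrime p) (Localization.AtPrime p))
  rw [bassNumLocal_congr e n]
  unfold GrLC.bassNumLocal
  exact Groth.Agent.H34.GorDual.length_ext_residueField (Localization.AtPrime p) n hdim

end Gor

end Groth.Agent.Lib.Helper87.StarGor
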