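import Groth.Agent.Lib.Helper87.StarGor2
import Groth.Agent.Lib.Helper60.FlatBC2
import Groth.Agent.Lib.Helper60.GrothVanishing
import Groth.Agent.Lib.Helper28.RegularCM
import Groth.Agent.Lib.Helper87.GorLocal2
import Groth.Agent.S13224
import Groth.Agent.S0340

/-!
# Cohen–Macaulay `*`local rings: Gorenstein iff the top graded local cohomology is `*`injective
(helper87)
-/

set_option autoImplicit false
universe u

namespace Groth.Agent.Lib.Helper87.StarGor

open CategoryTheory Abelian IsLocalRing GrLC DirectSum TensorProduct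
  Groth.Agent.Lib.Helper87.BassFlat
  Groth.Agent.Lib.Helper87.StarCount Groth.Agent.Lib.Helper87.StarRes
  Groth.Agent.Lib.Helper39.Acyclic Groth.Agent.Lib.Helper39 Groth.Agent.Lib.Helper39.GrLes

attribute [-instance] Groth.Agent.Lib.Helper89.ExtBaseChange.extModule

section CM

variable (R : Type u) [CommRing R] [hCM : LocCoh.IsCohenMacaulayRing R] (p : Ideal R) [p.IsPrime]

/-- Bass numbers of a Cohen–Macaulay ring vanish below the height. -/
theorem bassNum_self_eq_zero_of_cm (n : ℕ) (hn : p.height = n) (j : ℕ) (hj : j < n) :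
    GrLC.bassNum p R j = 0 := by
  haveI hA : LocCoh.IsCohenMacaulayLocalRing (Localization.AtPrime p) :=
    hCM.isCohenMacaulayLocalRing_localization p
  have hdim : ringKrullDim (Localization.AtPrime p) = n := by
    rw [IsLocalization.AtPrime.ringKrullDim_eq_height p, hn]
    rfl
  unfold GrLC.bassNum
  let e : LocalizedModule p.primeCompl R ≃ₗ[Localization.AtPrime p] Localization.AtPrime p :=
    (LocalizedModule.equivTensorProduct p.primeCompl R).trans
      (TensorProduct.AlgebraTensorModule.rid R (Localization.AtPrime p) (Localization.AtPrime p))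
  rw [bassNumLocal_congr e j]
  apply bassNumLocal_eq_zero
  have hAm : LocCoh.IsCohenMacaulayModule (Localization.AtPrime p) (Localization.AtPrime p) :=
    hA.supportDim_eq_depth
  refine Groth.Agent.Lib.Helper28.ext_self_subsingleton_of_supportDim_add_le
    (Localization.AtPrime p) hAm n
    (Localization.AtPrime p ⧸ maximalIdeal (Localization.AtPrime p)) ?_ j hj
  rw [Module.supportDim_quotient_eq_ringKrullDim, hdim]
  have : ringKrullDim (Localization.AtPrime p ⧸ maximalIdeal (Localization.AtPrime p)) = 0 :=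
    ringKrullDim_eq_zero_of_isField
      ((Ideal.Quotient.maximal_ideal_iff_isField_quotient _).mp
        (maximalIdeal.isMaximal (Localization.AtPrime p)))
  rw [this, zero_add]

end CM

section Vanish

variable {ι : Type} [AddCommGroup ι] [DecidableEq ι] [Module.Free ℤ ι] [Module.Finite ℤ ι]
  (R : Type u) [CommRing R] [IsNoetherianRing R] (𝒜 : ι → AddSubgroup R) [GradedRing 𝒜]
  (m : HomogeneousIdeal 𝒜) (hm : IsStarLocal 𝒜 m) [hmp : m.toIdeal.IsPrime]

include hm in
/-- Graded local cohomology of a `*`local ring vanishes above the height of the `*`maximal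
ideal. -/
theorem H_subsingleton_of_height_lt (n : ℕ) (hn : m.toIdeal.height = n)
    (E : GrLC.StarInjRes 𝒜 𝒜) (j : ℕ) (hj : n < j) : Subsingleton (E.H m j) := by
  classical
  obtain ⟨φ⟩ := Groth.Agent.S13224.result R 𝒜 m R 𝒜 E j
  obtain ⟨ψ⟩ := Groth.Agent.Lib.Helper60.nonempty_lc_flatBaseChange
    (R' := Localization.AtPrime m.toIdeal) m.toIdeal j R
  have hdim : ringKrullDim (Localization.AtPrime m.toIdeal) = n := by
    rw [IsLocalization.AtPrime.ringKrullDim_eq_height m.toIdeal, hn]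
    rfl
  have hvan : Subsingleton (LocCoh.H (m.toIdeal.map (algebraMap R (Localization.AtPrime m.toIdeal)))
      j (Localization.AtPrime m.toIdeal ⊗[R] R)) := by
    apply Groth.Agent.Lib.Helper60.lc_subsingleton_of_supportDim_lt_of_finite
    refine lt_of_le_of_lt (Module.supportDim_le_ringKrullDim _ _) ?_
    rw [hdim]
    exact_mod_cast hj
  have htens : Subsingleton (Localization.AtPrime m.toIdeal ⊗[R] E.H m j) :=
    ((TensorProduct.congr (LinearEquiv.refl R (Localization.AtPrime m.toIdeal)) φ).toEquiv.trans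
      ψ.toEquiv).subsingleton
  haveI hloc : IsLocalizedModule m.toIdeal.primeCompl
      (TensorProduct.mk R (Localization.AtPrime m.toIdeal) (E.H m j) 1) :=
    (isLocalizedModule_iff_isBaseChange m.toIdeal.primeCompl (Localization.AtPrime m.toIdeal) _).mpr
      (TensorProduct.isBaseChange R (E.H m j) (Localization.AtPrime m.toIdeal))
  -- every homogeneous class vanishes
  have hhom : ∀ h : ι, ∀ x ∈ E.Hgr m j h, x = 0 := by
    rintro h x ⟨z, hz, rfl⟩
    have h0 : TensorProduct.mk R (Localization.AtPrime m.toIdeal) (E.H m j) 1 (E.toH m j z) = 0 :=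
      Subsingleton.elim _ _
    obtain ⟨t, ht⟩ := (IsLocalizedModule.eq_zero_iff m.toIdeal.primeCompl
      (TensorProduct.mk R (Localization.AtPrime m.toIdeal) (E.H m j) 1)).mp h0
    have ht' : E.toH m j ((t : R) • z) = 0 := by
      rw [map_smul]
      exact ht
    rw [toH_eq_zero_iff] at ht' ⊢
    have hcob := cobdy_isHomogeneous E m j
    let decN := quotDecomposition (E.X j).gr (E.cobdy m j) hcob
    have smulN := quotGradedSMul 𝒜 (E.X j).gr (E.cobdy m j)
    by_contra hzc
    have hne : (E.cobdy m j).mkQ (z : (E.X j).carrier) ≠ 0 := by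
      intro h0
      rw [Submodule.mkQ_apply, Submodule.Quotient.mk_eq_zero] at h0
      exact hzc h0
    have hsm : (t : R) • (E.cobdy m j).mkQ (z : (E.X j).carrier) = 0 := by
      rw [← map_smul, Submodule.mkQ_apply, Submodule.Quotient.mk_eq_zero]
      exact ht'
    exact t.2 (mem_of_smul_eq_zero 𝒜 (quotPieces (E.X j).gr (E.cobdy m j)) hm
      (mk_mem_quotPieces (E.X j).gr (E.cobdy m j) hz) hne hsm)
  have hint := Hgr_isInternal E m j
  refine ⟨fun x y => ?_⟩
  have hx : ∀ w : E.H m j, w = 0 := by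
    intro w
    obtain ⟨d, rfl⟩ := hint.2 w
    have hd : d = 0 := DFinsupp.ext (fun h => Subtype.ext (hhom h _ (d h).2))
    rw [hd, map_zero]
  rw [hx x, hx y]

end Vanish

section Converse

variable {ι : Type} [AddCommGroup ι] [DecidableEq ι] [Module.Free ℤ ι] [Module.Finite ℤ ι]

/-- If `R` is Cohen–Macaulay `*`local and `H^n_m(R)` (`n = ht m`) is `*`injective, then the
localization of `R` at `m` is Gorenstein. -/
theorem isGorensteinLocalRing_of_starInj (R : Type u) [CommRing R] [LocCoh.IsCohenMacaulayRing R]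
    (𝒜 : ι → AddSubgroup R) [GradedRing 𝒜] (m : HomogeneousIdeal 𝒜) (hm : GrLC.IsStarLocal 𝒜 m)
    [hmp : m.toIdeal.IsPrime]
    (n : ℕ) (hn : m.toIdeal.height = n) (I : GrLC.StarInjRes 𝒜 𝒜) (X : GrLC.GMod.{u} 𝒜)
    (φ : I.H m n ≃ₗ[R] X.carrier) (hX : GrLC.IsStarInj 𝒜 X.gr)
    (hφ : GrLC.IsGrHom (I.Hgr m n) X.gr φ.toLinearMap) :
    LocCoh.IsGorensteinLocalRing (Localization.AtPrime m.toIdeal) := by
  classical
  haveI : IsNoetherianRing R := inferInstance
  have h𝔭 : m.toIdeal.FG := (isNoetherianRing_iff_ideal_fg R).mp inferInstance _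
  obtain ⟨E, hmin0, hmin⟩ := Groth.Agent.Lib.Helper87.StarMin.exists_minimal_starInjRes 𝒜 (M := R) 𝒜
  have hlen := fun j => length_socle_eq_bassNum R 𝒜 R 𝒜 E hmin0 hmin m j
  have hlow : ∀ j, j < n → gam m.toIdeal (E.X j).carrier = ⊥ := fun j hj =>
    gam_eq_bot_of_length_socle_eq_zero R 𝒜 m hm (E.X j).gr (by
      rw [hlen j, bassNum_self_eq_zero_of_cm R m.toIdeal n hn j hj])
  have hprev : ∀ k, k + 1 = n → gam m.toIdeal (E.X k).carrier = ⊥ :=
    fun k hk => hlow k (by omega)
  have hcob : E.cobdy m n = ⊥ := cobdy_eq_bot E m n hprev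
  -- the homogeneous isomorphism `α : cocyc ≃ X`
  let eH : E.H m n ≃ₗ[R] E.cocyc m n := Submodule.quotEquivOfEqBot _ (by
    rw [hcob, Submodule.comap_bot, Submodule.ker_subtype])
  let α : E.cocyc m n ≃ₗ[R] X.carrier := (eH.symm.trans (Hequiv m E I n)).trans φ
  have hαgr : ∀ (h : ι) (z : E.cocyc m n), (z : (E.X n).carrier) ∈ (E.X n).gr h →
      α z ∈ X.gr h := by
    intro h z hz
    have h1 : eH.symm z = E.toH m n z := rfl
    have h2 : E.toH m n z ∈ E.Hgr m n h := ⟨z, hz, rfl⟩
    have h3 := Hequiv_mem_Hgr m E I n h2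
    exact hφ h _ h3
  -- extend `α` to `E.X n`
  have hcochom := cocyc_isHomogeneous E m n
  let decC := subDecomposition (E.X n).gr (E.cocyc m n) hcochom
  have smulC := subGradedSMul 𝒜 (E.X n).gr (E.cocyc m n)
  obtain ⟨η, hηgr, hη⟩ := hX (GMod.of 𝒜 (E.cocyc m n) (subPieces (E.X n).gr (E.cocyc m n)))
    (E.X n) (E.cocyc m n).subtype (isGrHom_subtype (E.X n).gr (E.cocyc m n))
    Subtype.val_injective α.toLinearMap (fun h z hz => hαgr h z hz)
  have hη' : ∀ z : E.cocyc m n, η (z : (E.X n).carrier) = α z := fun z => LinearMap.congr_fun hη z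
  have hkerhom : (LinearMap.ker η).IsHomogeneous (E.X n).gr :=
    IsGrHom.ker_isHomogeneous (E.X n).gr X.gr hηgr
  have hgamhom := fun j => gam_isHomogeneous 𝒜 (E.X j).gr m
  -- `ker η` has no torsion
  have hCT : LinearMap.ker η ⊓ gam m.toIdeal (E.X n).carrier = ⊥ := by
    by_contra hne
    have h1 := Zk_starEss R 𝒜 R 𝒜 E hmin0 hmin n _
      (isHomogeneous_inf (E.X n).gr hkerhom (hgamhom n)) hne
    obtain ⟨v, ⟨⟨hvk, hvT⟩, hvZ⟩, hv0⟩ := (Submodule.ne_bot_iff _).mp h1
    have hvc : v ∈ E.cocyc m n := ⟨hvT, hvZ⟩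
    have h2 : α ⟨v, hvc⟩ = 0 := by
      rw [← hη' ⟨v, hvc⟩]
      exact hvk
    have h3 : (⟨v, hvc⟩ : E.cocyc m n) = 0 := α.injective (by rw [h2, map_zero])
    exact hv0 (congrArg Subtype.val h3)
  -- Claim A: the torsion of `E.X n` consists of cocycles
  have hA : gam m.toIdeal (E.X n).carrier ≤ LinearMap.ker (E.d n) := by
    intro w hw
    let c : E.cocyc m n := α.symm (η w)
    have h1 : w - (c : (E.X n).carrier) ∈ LinearMap.ker η ⊓ gam m.toIdeal (E.X n).carrier := by
      refine ⟨?_, Submodule.sub_mem _ hw c.2.1⟩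
      show η (w - (c : (E.X n).carrier)) = 0
      rw [map_sub, hη' c, LinearEquiv.apply_symm_apply, sub_self]
    rw [hCT, Submodule.mem_bot, sub_eq_zero] at h1
    rw [h1]
    exact c.2.2
  -- Claim B: no torsion above `n`
  have hB : ∀ k : ℕ, gam m.toIdeal (E.X (n + 1 + k)).carrier = ⊥ := by
    intro k
    induction k with
    | zero =>
      by_contra hne
      have h1 := Zk_starEss R 𝒜 R 𝒜 E hmin0 hmin (n + 1) _ (hgamhom (n + 1)) hne
      obtain ⟨v, ⟨hvT, hvZ⟩, hv0⟩ := (Submodule.ne_bot_iff _).mp h1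
      haveI := H_subsingleton_of_height_lt R 𝒜 m hm n hn E (n + 1) (by omega)
      have h2 : E.toH m (n + 1) ⟨v, hvT, hvZ⟩ = 0 := Subsingleton.elim _ _
      rw [toH_eq_zero_iff] at h2
      obtain ⟨y, hy, hyv⟩ := h2
      have h3 : E.d n y = 0 := hA hy
      apply hv0
      have : v = E.d n y := hyv.symm
      rw [this, h3]
    | succ k ih =>
      by_contra hne
      have h1 := Zk_starEss R 𝒜 R 𝒜 E hmin0 hmin (n + 1 + (k + 1)) _
        (hgamhom (n + 1 + (k + 1))) hne
      obtain ⟨v, ⟨hvT, hvZ⟩, hv0⟩ := (Submodule.ne_bot_iff _).mp h1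
      haveI := H_subsingleton_of_height_lt R 𝒜 m hm n hn E (n + 1 + (k + 1)) (by omega)
      have h2 : E.toH m (n + 1 + (k + 1)) ⟨v, hvT, hvZ⟩ = 0 := Subsingleton.elim _ _
      rw [toH_eq_zero_iff] at h2
      obtain ⟨y, hy, hyv⟩ := h2
      have hy' : y ∈ gam m.toIdeal (E.X (n + 1 + k)).carrier := hy
      rw [ih] at hy'
      apply hv0
      have : v = E.d (n + 1 + k) y := hyv.symm
      rw [this, (Submodule.mem_bot R).mp hy', map_zero]
  -- Bass numbers vanish above `n`
  have hbass : ∀ j, n < j → GrLC.bassNum m.toIdeal R j = 0 := by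
    intro j hj
    obtain ⟨k, rfl⟩ : ∃ k, j = n + 1 + k := ⟨j - (n + 1), by omega⟩
    rw [← hlen (n + 1 + k)]
    haveI : Subsingleton (socle (Localization.AtPrime m.toIdeal)
        (LocalizedModule m.toIdeal.primeCompl (E.X (n + 1 + k)).carrier)) := by
      refine ⟨fun a b => ?_⟩
      have hz : ∀ w : socle (Localization.AtPrime m.toIdeal)
          (LocalizedModule m.toIdeal.primeCompl (E.X (n + 1 + k)).carrier), w = 0 := by
        rintro ⟨y', hy'⟩
        obtain ⟨x, s, rfl, hx⟩ := exists_rep_of_mem_socle m.toIdeal h𝔭 y' hy'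
        have hxT : x ∈ gam m.toIdeal (E.X (n + 1 + k)).carrier :=
          ⟨1, fun r hr => hx r (by rwa [pow_one] at hr)⟩
        rw [hB k] at hxT
        have hx0 : x = 0 := (Submodule.mem_bot R).mp hxT
        subst hx0
        apply Subtype.ext
        exact LocalizedModule.zero_mk s
      rw [hz a, hz b]
    exact Module.length_eq_zero
  -- conclude with the `Ext` criterion
  rw [Groth.Agent.S0340.result]
  refine ⟨n + 1, fun i hi => ?_⟩
  have h1 := hbass i (by omega)
  unfold GrLC.bassNum at h1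
  let e : LocalizedModule m.toIdeal.primeCompl R ≃ₗ[Localization.AtPrime m.toIdeal]
      Localization.AtPrime m.toIdeal :=
    (LocalizedModule.equivTensorProduct m.toIdeal.primeCompl R).trans
      (TensorProduct.AlgebraTensorModule.rid R (Localization.AtPrime m.toIdeal)
        (Localization.AtPrime m.toIdeal))
  rw [bassNumLocal_congr e i] at h1
  unfold GrLC.bassNumLocal at h1
  exact Module.length_eq_zero_iff.mp h1

/-- If `R` is Cohen–Macaulay `*`local and `H^n_m(R)` (`n = ht m`) is `*`injective, then `R` is a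
Gorenstein ring. -/
theorem isGorensteinRing_of_starInj (R : Type u) [CommRing R] [LocCoh.IsCohenMacaulayRing R]
    (𝒜 : ι → AddSubgroup R) [GradedRing 𝒜] (m : HomogeneousIdeal 𝒜) (hm : GrLC.IsStarLocal 𝒜 m)
    (n : ℕ) (hn : m.toIdeal.height = n) (I : GrLC.StarInjRes 𝒜 𝒜) (X : GrLC.GMod.{u} 𝒜)
    (φ : I.H m n ≃ₗ[R] X.carrier) (hX : GrLC.IsStarInj 𝒜 X.gr)
    (hφ : GrLC.IsGrHom (I.Hgr m n) X.gr φ.toLinearMap) : LocCoh.IsGorensteinRing R := by
  haveI : IsNoetherianRing R := inferInstance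
  haveI hmp : m.toIdeal.IsPrime := isPrime_of_isStarLocal 𝒜 hm
  have hA := isGorensteinLocalRing_of_starInj R 𝒜 m hm n hn I X φ hX hφ
  let _ := lexLinearOrder ι
  have := lexLinearOrder_isOrderedCancelAddMonoid ι
  refine { isGorensteinLocalRing_localization := ?_ }
  intro p hp
  haveI hcp : (Ideal.homogeneousCore 𝒜 p).toIdeal.IsPrime := hp.homogeneousCore
  rw [Groth.Agent.Lib.Helper87.GorLocal.isGorensteinLocalRing_iff_core R 𝒜 p]
  have hle : (Ideal.homogeneousCore 𝒜 p).toIdeal ≤ m.toIdeal :=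
    ideal_le_of_ne_top 𝒜 hm _ (Ideal.homogeneousCore 𝒜 p).isHomogeneous hcp.ne_top
  exact Groth.Agent.Lib.Helper87.GorLocal.isGorensteinLocalRing_of_le R _ m.toIdeal hle hA

/-- If `R` is Gorenstein `*`local, `H^n_m(R)` (`n = ht m`) is `*`injective. -/
theorem exists_starInj_equiv_of_gorenstein (R : Type u) [CommRing R] [LocCoh.IsGorensteinRing R]
    (𝒜 : ι → AddSubgroup R) [GradedRing 𝒜] (m : HomogeneousIdeal 𝒜) (hm : GrLC.IsStarLocal 𝒜 m)
    (n : ℕ) (hn : m.toIdeal.height = n) (I : GrLC.StarInjRes 𝒜 𝒜) :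
    ∃ (X : GrLC.GMod.{u} 𝒜) (φ : I.H m n ≃ₗ[R] X.carrier), GrLC.IsStarInj 𝒜 X.gr ∧
      GrLC.IsGrHom (I.Hgr m n) X.gr φ.toLinearMap := by
  haveI : IsNoetherianRing R := inferInstance
  let decQ := quotGrDecomposition 𝒜 m
  have smulQ := quotGrGradedSMul 𝒜 m
  obtain ⟨X₀, j, hull⟩ := Groth.Agent.Lib.Helper87.StarMin.exists_hull 𝒜
    (GMod.of 𝒜 (R ⧸ m.toIdeal) (GrLC.quotGr 𝒜 m))
  obtain ⟨g, φ, hφ⟩ := exists_equiv_hull R 𝒜 m hm n hn I X₀.carrier X₀.gr j hull
  exact ⟨gshift X₀ g, φ, isStarInj_shift X₀.gr hull.starInj g, fun h x hx => hφ h x hx⟩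

end Converse

end Groth.Agent.Lib.Helper87.StarGor
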