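import Groth.Agent.Lib.Helper87.BassGraded1
import Groth.Agent.Lib.Helper39.GrExtVanish

/-!
# `Ext^i_{R_p}(k(p), X_p) = 0` for `i ≥ 1`, `X` a `*`injective module and `p` a graded prime
(helper87; uses helper39's `extVanish`)
-/

set_option autoImplicit false
universe u

namespace Groth.Agent.Lib.Helper87.StarRes

open CategoryTheory Abelian IsLocalRing TensorProduct GrLC Groth.Agent.Lib.Helper87.BassFlat

attribute [-instance] Groth.Agent.Lib.Helper89.ExtBaseChange.extModule

section Vanish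

variable {ι : Type} [AddCommGroup ι] [DecidableEq ι] (R : Type u) [CommRing R]
  [IsNoetherianRing R] (𝒜 : ι → AddSubgroup R) [GradedRing 𝒜]
  (X : Type u) [AddCommGroup X] [Module R X] (𝒳 : ι → AddSubgroup X)
  [DirectSum.Decomposition 𝒳] [SetLike.GradedSMul 𝒜 𝒳]
  (p : HomogeneousIdeal 𝒜) [p.toIdeal.IsPrime]

include 𝒳 in
theorem ext_residueField_localized_subsingleton (hX : IsStarInj 𝒜 𝒳) (i : ℕ) (hi : 1 ≤ i) :
    Subsingleton (Ext.{u}
      (ModuleCat.of (Localization.AtPrime p.toIdeal)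
        (ResidueField (Localization.AtPrime p.toIdeal)))
      (ModuleCat.of (Localization.AtPrime p.toIdeal)
        (LocalizedModule p.toIdeal.primeCompl X)) i) := by
  obtain ⟨n, rfl⟩ : ∃ n, i = n + 1 := ⟨i - 1, by omega⟩
  letI := Groth.Agent.Lib.Helper39.quotDecomposition 𝒜 p.toIdeal p.isHomogeneous
  haveI := Groth.Agent.Lib.Helper39.quotGradedSMul 𝒜 𝒜 p.toIdeal
  have h1 : Subsingleton (Ext.{u} (ModuleCat.of R (R ⧸ p.toIdeal)) (ModuleCat.of R X) (n + 1)) :=
    Groth.Agent.Lib.Helper39.extVanish 𝒜 𝒳 hX n (R ⧸ p.toIdeal)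
      (Groth.Agent.Lib.Helper39.quotPieces 𝒜 p.toIdeal)
  obtain ⟨ψ⟩ := extBaseChange R (Localization.AtPrime p.toIdeal) (R ⧸ p.toIdeal) X (n + 1)
  have h2 : Subsingleton ((Localization.AtPrime p.toIdeal) ⊗[R]
      Ext.{u} (ModuleCat.of R (R ⧸ p.toIdeal)) (ModuleCat.of R X) (n + 1)) := inferInstance
  have h3 := ψ.symm.toEquiv.subsingleton
  let e1 : (Localization.AtPrime p.toIdeal) ⊗[R] (R ⧸ p.toIdeal) ≃ₗ[Localization.AtPrime p.toIdeal]
      ResidueField (Localization.AtPrime p.toIdeal) :=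
    (Algebra.TensorProduct.quotIdealMapEquivTensorQuot (Localization.AtPrime p.toIdeal)
      p.toIdeal).symm.toLinearEquiv.trans
      (Submodule.quotEquivOfEq _ _ (Localization.AtPrime.map_eq_maximalIdeal))
  let e2 : (Localization.AtPrime p.toIdeal) ⊗[R] X ≃ₗ[Localization.AtPrime p.toIdeal]
      LocalizedModule p.toIdeal.primeCompl X :=
    (LocalizedModule.equivTensorProduct p.toIdeal.primeCompl X).symm
  exact ((extCongrLeft e1.toModuleIso _ (n + 1)).trans
    (extCongrRight _ e2.toModuleIso (n + 1))).symm.toEquiv.subsingleton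

end Vanish

end Groth.Agent.Lib.Helper87.StarRes
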