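import Groth.Agent.Lib.Helper87.StarCount1
import Mathlib.Algebra.Homology.ShortComplex.ModuleCat

/-!
# Dimension shifting for Bass numbers along `0 → Y₁ → Y₂ → Y₃ → 0` (helper87)

Over a local ring `A` with residue field `k`: if `Ext^i(k, Y₂) = 0` for `i ≥ 1` and the socle of
`Y₂` lies in the image of `Y₁`, then `μ^i(Y₃) = μ^{i+1}(Y₁)` for all `i`.
-/

set_option autoImplicit false
universe u

namespace Groth.Agent.Lib.Helper87.StarRes

open CategoryTheory Abelian IsLocalRing Groth.Agent.Lib.Helper87.StarCount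

attribute [-instance] Groth.Agent.Lib.Helper89.ExtBaseChange.extModule

section Cov

variable {A : Type u} [CommRing A] {S : ShortComplex (ModuleCat.{u} A)} (hS : S.ShortExact)
  (K : ModuleCat.{u} A)

/-- The connecting map in the second variable. -/
noncomputable def deltaCov (i : ℕ) : Ext.{u} K S.X₃ i →ₗ[A] Ext.{u} K S.X₁ (i + 1) where
  toFun x := x.comp hS.extClass rfl
  map_add' x y := by rw [Ext.add_comp]
  map_smul' a x := by rw [Ext.smul_comp, RingHom.id_apply]

theorem deltaCov_injective (i : ℕ)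
    (hzero : ∀ x₂ : Ext.{u} K S.X₂ i, x₂.comp (Ext.mk₀ S.g) (add_zero i) = 0) :
    Function.Injective (deltaCov hS K i) := by
  rw [injective_iff_map_eq_zero]
  intro x hx
  obtain ⟨x₂, rfl⟩ := Ext.covariant_sequence_exact₃ K hS x rfl hx
  exact hzero x₂

theorem deltaCov_surjective (i : ℕ) (hvan : Subsingleton (Ext.{u} K S.X₂ (i + 1))) :
    Function.Surjective (deltaCov hS K i) := by
  intro x₁
  have h0 : x₁.comp (Ext.mk₀ S.f) (add_zero (i + 1)) = 0 := Subsingleton.elim _ _
  obtain ⟨x₃, hx₃⟩ := Ext.covariant_sequence_exact₁ K hS x₁ h0 rfl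
  exact ⟨x₃, hx₃⟩

end Cov

section Local

variable {A : Type u} [CommRing A] [IsLocalRing A]

theorem length_ext_shift {S : ShortComplex (ModuleCat.{u} A)} (hS : S.ShortExact)
    (hvan : ∀ i, 1 ≤ i → Subsingleton (Ext.{u} (ModuleCat.of A (ResidueField A)) S.X₂ i))
    (hsoc : ∀ y ∈ socle A S.X₂, y ∈ LinearMap.range S.f.hom) (i : ℕ) :
    Module.length A (Ext.{u} (ModuleCat.of A (ResidueField A)) S.X₃ i) =
      Module.length A (Ext.{u} (ModuleCat.of A (ResidueField A)) S.X₁ (i + 1)) := by
  have hzero : ∀ x₂ : Ext.{u} (ModuleCat.of A (ResidueField A)) S.X₂ i,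
      x₂.comp (Ext.mk₀ S.g) (add_zero i) = 0 := by
    intro x₂
    cases i with
    | zero =>
      obtain ⟨φ, rfl⟩ := Ext.addEquiv₀.symm.surjective x₂
      change (Ext.mk₀ φ).comp (Ext.mk₀ S.g) (add_zero 0) = 0
      rw [Ext.mk₀_comp_mk₀]
      have h1 : φ ≫ S.g = 0 := by
        ext z
        have hz : φ.hom z ∈ socle A S.X₂ := by
          intro a ha
          rw [← map_smul]
          have h2 : a • z = 0 := by
            rw [Algebra.smul_def, IsLocalRing.ResidueField.algebraMap_eq,
              (residue_eq_zero_iff a).mpr ha, zero_mul]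
          rw [h2, map_zero]
        obtain ⟨y₁, hy₁⟩ := hsoc _ hz
        change S.g.hom (φ.hom z) = 0
        rw [← hy₁]
        exact S.moduleCat_zero_apply y₁
      rw [h1, Ext.mk₀_zero]
    | succ i' =>
      have := hvan (i' + 1) (by omega)
      rw [Subsingleton.elim x₂ 0, Ext.zero_comp]
  have hbij : Function.Bijective (deltaCov hS (ModuleCat.of A (ResidueField A)) i) :=
    ⟨deltaCov_injective hS _ i hzero, deltaCov_surjective hS _ i (hvan (i + 1) (by omega))⟩
  exact (LinearEquiv.ofBijective _ hbij).length_eq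

variable {Y₁ Y₂ Y₃ : Type u} [AddCommGroup Y₁] [Module A Y₁] [AddCommGroup Y₂] [Module A Y₂]
  [AddCommGroup Y₃] [Module A Y₃] (f : Y₁ →ₗ[A] Y₂) (g : Y₂ →ₗ[A] Y₃)

theorem bassNumLocal_shift (hf : Function.Injective f) (hg : Function.Surjective g)
    (hfg : Function.Exact f g)
    (hvan : ∀ i, 1 ≤ i → Subsingleton
      (Ext.{u} (ModuleCat.of A (ResidueField A)) (ModuleCat.of A Y₂) i))
    (hsoc : ∀ y ∈ socle A Y₂, y ∈ LinearMap.range f) (i : ℕ) :
    GrLC.bassNumLocal A Y₃ i = GrLC.bassNumLocal A Y₁ (i + 1) := by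
  have hS : (ShortComplex.moduleCatMk f g (by
      ext x
      exact hfg.apply_apply_eq_zero x)).ShortExact :=
    ModuleCat.shortComplex_shortExact _ hfg hf hg
  unfold GrLC.bassNumLocal
  exact length_ext_shift hS hvan hsoc i

end Local

end Groth.Agent.Lib.Helper87.StarRes
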