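import Groth.Agent.Lib.Helper87.StarRes1
import Groth.Agent.Lib.Helper87.StarRes2
import Groth.Agent.Lib.Helper87.StarCount4
import Groth.Agent.Lib.Helper39.GrAcyclic
import Groth.Agent.Lib.Helper39.GrSub
import Mathlib.Algebra.Module.LocalizedModule.Exact

/-!
# Counting the copies of `*E(R/p)` in the `j`-th term of a minimal `*`injective resolution
(helper87; uses helper39's graded library)
-/

set_option autoImplicit false
universe u

namespace Groth.Agent.Lib.Helper87.StarRes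

open CategoryTheory Abelian IsLocalRing GrLC Groth.Agent.Lib.Helper87.BassFlat
  Groth.Agent.Lib.Helper87.StarCount Groth.Agent.Lib.Helper39.Acyclic

attribute [-instance] Groth.Agent.Lib.Helper89.ExtBaseChange.extModule

section Main

variable {ι : Type} [AddCommGroup ι] [DecidableEq ι] (R : Type u) [CommRing R]
  [IsNoetherianRing R] (𝒜 : ι → AddSubgroup R) [GradedRing 𝒜]
  (M : Type u) [AddCommGroup M] [Module R M] (ℳ : ι → AddSubgroup M)
  [DirectSum.Decomposition ℳ] [SetLike.GradedSMul 𝒜 ℳ] (E : GrLC.StarInjRes 𝒜 ℳ)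
  (hmin0 : ∀ P : Submodule R (E.X 0).carrier, P.IsHomogeneous (E.X 0).gr → P ≠ ⊥ →
    P ⊓ LinearMap.range E.ε ≠ ⊥)
  (hmin : ∀ (n : ℕ) (P : Submodule R (E.X (n + 1)).carrier),
    P.IsHomogeneous (E.X (n + 1)).gr → P ≠ ⊥ → P ⊓ LinearMap.range (E.d n) ≠ ⊥)
  (p : HomogeneousIdeal 𝒜) [p.toIdeal.IsPrime]

omit [IsNoetherianRing R] in
theorem Zk_isHomogeneous (k : ℕ) : (Zk E k).IsHomogeneous (E.X k).gr :=
  Groth.Agent.Lib.Helper39.IsGrHom.ker_isHomogeneous (E.X k).gr (E.X (k + 1)).gr (E.d_grHom k)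

include hmin0 hmin in
omit [IsNoetherianRing R] in
theorem Zk_starEss (k : ℕ) (Q : Submodule R (E.X k).carrier) (hQ : Q.IsHomogeneous (E.X k).gr)
    (hne : Q ≠ ⊥) : Q ⊓ Zk E k ≠ ⊥ := by
  cases k with
  | zero =>
    have h := hmin0 Q hQ hne
    rwa [← E.exact_zero] at h
  | succ n =>
    have h := hmin n Q hQ hne
    rwa [← E.exact_succ n] at h

include hmin0 hmin in
omit [IsNoetherianRing R] in
theorem Zk_ess (k : ℕ) (x : (E.X k).carrier) (hx : x ≠ 0) :
    ∃ a : R, a • x ≠ 0 ∧ a • x ∈ LinearMap.range (Zk E k).subtype := by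
  have htophom : (⊤ : Submodule R (E.X k).carrier).IsHomogeneous (E.X k).gr :=
    fun _ _ _ => Submodule.mem_top
  obtain ⟨d, a, -, h1, h2⟩ := exists_homogeneous_smul_mem 𝒜 (E.X k).gr ⊤ (Zk E k) htophom
    (Zk_isHomogeneous R 𝒜 M ℳ E k) (fun Q hQ _ hne => Zk_starEss R 𝒜 M ℳ E hmin0 hmin k Q hQ hne)
    x Submodule.mem_top hx
  rw [Submodule.range_subtype]
  exact ⟨a, h1, h2⟩

include hmin0 hmin in
theorem bassNum_Zk_succ (k i : ℕ) :
    GrLC.bassNum p.toIdeal (Zk E (k + 1)) i = GrLC.bassNum p.toIdeal (Zk E k) (i + 1) := by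
  have h𝔭 : p.toIdeal.FG := (isNoetherianRing_iff_ideal_fg R).mp inferInstance _
  have hex : Function.Exact (Zk E k).subtype (qk E k) := by
    intro y
    constructor
    · intro hy
      have hy' : E.d k y = 0 := congrArg Subtype.val hy
      exact ⟨⟨y, hy'⟩, rfl⟩
    · rintro ⟨z, rfl⟩
      apply Subtype.ext
      exact z.2
  have hexL : Function.Exact (LocalizedModule.map p.toIdeal.primeCompl (Zk E k).subtype)
      (LocalizedModule.map p.toIdeal.primeCompl (qk E k)) :=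
    LocalizedModule.map_exact p.toIdeal.primeCompl _ _ hex
  exact bassNumLocal_shift (LocalizedModule.map p.toIdeal.primeCompl (Zk E k).subtype)
    (LocalizedModule.map p.toIdeal.primeCompl (qk E k))
    (LocalizedModule.map_injective _ _ Subtype.val_injective)
    (LocalizedModule.map_surjective _ _ (qk_surjective E k)) hexL
    (fun j hj => ext_residueField_localized_subsingleton R 𝒜 (E.X k).carrier (E.X k).gr p
      (E.starInj k) j hj)
    (fun y hy => mem_range_map_of_mem_socle p.toIdeal h𝔭 (Zk E k).subtype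
      (Zk_ess R 𝒜 M ℳ E hmin0 hmin k) y hy) i

omit [IsNoetherianRing R] in
theorem bassNum_Zk_zero (i : ℕ) :
    GrLC.bassNum p.toIdeal (Zk E 0) i = GrLC.bassNum p.toIdeal M i := by
  let e : M ≃ₗ[R] Zk E 0 :=
    (LinearEquiv.ofInjective E.ε E.ε_injective).trans (LinearEquiv.ofEq _ _ E.exact_zero.symm)
  exact (bassNum_congr p.toIdeal e i).symm

include hmin0 hmin in
theorem bassNum_Zk (j : ℕ) : ∀ i : ℕ,
    GrLC.bassNum p.toIdeal (Zk E j) i = GrLC.bassNum p.toIdeal M (i + j) := by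
  induction j with
  | zero => exact fun i => bassNum_Zk_zero R 𝒜 M ℳ E p i
  | succ j ih =>
    intro i
    rw [bassNum_Zk_succ R 𝒜 M ℳ E hmin0 hmin p j i, ih (i + 1)]
    congr 1
    omega

variable (j : ℕ) (Λ : Type u) (P : Λ → HomogeneousIdeal 𝒜) (hP : ∀ α, (P α).toIdeal.IsPrime)
  (g : Λ → ι) (J : Λ → Submodule R (E.X j).carrier) (hJ : ∀ α, (J α).IsHomogeneous (E.X j).gr)
  (hind : iSupIndep J) (htop : iSup J = ⊤) (f : ∀ α, (R ⧸ (P α).toIdeal) →ₗ[R] (E.X j).carrier)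
  (hf : ∀ α, Function.Injective (f α) ∧
    GrLC.IsGrHomDeg (GrLC.quotGr 𝒜 (P α)) (E.X j).gr (f α) (g α) ∧
    LinearMap.range (f α) ≤ J α ∧ ∀ Q : Submodule R (E.X j).carrier,
      Q.IsHomogeneous (E.X j).gr → Q ≤ J α → Q ≠ ⊥ → Q ⊓ LinearMap.range (f α) ≠ ⊥)

include hmin0 hmin hP hJ hind htop hf in
theorem card_eq_bassNum :
    Cardinal.toENat (Cardinal.mk {α : Λ // P α = p}) = GrLC.bassNum p.toIdeal M j := by
  letI := Groth.Agent.Lib.Helper39.subDecomposition (E.X j).gr (Zk E j)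
    (Zk_isHomogeneous R 𝒜 M ℳ E j)
  haveI := Groth.Agent.Lib.Helper39.subGradedSMul 𝒜 (E.X j).gr (Zk E j)
  have hess : GrLC.IsStarEss (Groth.Agent.Lib.Helper39.subPieces (E.X j).gr (Zk E j)) (E.X j).gr
      (Zk E j).subtype :=
    { injective := Subtype.val_injective
      grHom := Groth.Agent.Lib.Helper39.isGrHom_subtype (E.X j).gr (Zk E j)
      essential := fun Q hQ hne => by
        rw [Submodule.range_subtype]
        exact Zk_starEss R 𝒜 M ℳ E hmin0 hmin j Q hQ hne }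
  have h1 := card_eq_bassNum_zero R 𝒜 (Zk E j)
    (Groth.Agent.Lib.Helper39.subPieces (E.X j).gr (Zk E j)) (E.X j).carrier (E.X j).gr
    (Zk E j).subtype hess Λ P hP g J hJ hind htop f hf p
  rw [h1, bassNum_Zk R 𝒜 M ℳ E hmin0 hmin p j 0, zero_add]

end Main

end Groth.Agent.Lib.Helper87.StarRes
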