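import Mathlib

set_option autoImplicit false

namespace Groth.Agent.Lib.Helper87

open scoped commutatorElement

section general

variable {G : Type*} [Group G]

lemma maxComm_iff_eq_centralizer (H : Subgroup G) :
    (IsMulCommutative H ∧ ∀ H' : Subgroup G, IsMulCommutative H' → H ≤ H' → H' = H) ↔
      H = Subgroup.centralizer (H : Set G) := by
  constructor
  · rintro ⟨hc, hmax⟩
    apply le_antisymm (Subgroup.le_centralizer_iff_isMulCommutative.mpr hc)
    intro x hx
    have hcomm : ∀ a ∈ insert x (H : Set G), ∀ b ∈ insert x (H : Set G), a * b = b * a := by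
      rintro a (rfl | ha) b (rfl | hb)
      · rfl
      · exact (hx b hb).symm
      · exact hx a ha
      · exact setLike_mul_comm ha hb
    have h1 := hmax (Subgroup.closure (insert x (H : Set G)))
      (Subgroup.isMulCommutative_closure hcomm)
      (fun h hh => Subgroup.subset_closure (Set.mem_insert_of_mem _ hh))
    rw [← h1]
    exact Subgroup.subset_closure (Set.mem_insert _ _)
  · intro h
    have hc : IsMulCommutative H := Subgroup.le_centralizer_iff_isMulCommutative.mp h.le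
    refine ⟨hc, fun H' hH' hle => le_antisymm ?_ hle⟩
    calc H' ≤ Subgroup.centralizer (H' : Set G) :=
          Subgroup.le_centralizer_iff_isMulCommutative.mpr hH'
      _ ≤ Subgroup.centralizer (H : Set G) := Subgroup.centralizer_le hle
      _ = H := h.symm

lemma comm_mul_right (hc : ∀ a b : G, ⁅a, b⁆ ∈ Subgroup.center G) (γ h h' : G) :
    ⁅γ, h * h'⁆ = ⁅γ, h⁆ * ⁅γ, h'⁆ := by
  have hz := (Subgroup.mem_center_iff.mp (hc γ h')) h⁻¹
  simp only [commutatorElement_def] at hz ⊢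
  calc γ * (h * h') * γ⁻¹ * (h * h')⁻¹
      = γ * h * γ⁻¹ * (γ * h' * γ⁻¹ * h'⁻¹ * h⁻¹) := by group
    _ = γ * h * γ⁻¹ * (h⁻¹ * (γ * h' * γ⁻¹ * h'⁻¹)) := by rw [hz]
    _ = γ * h * γ⁻¹ * h⁻¹ * (γ * h' * γ⁻¹ * h'⁻¹) := by group

lemma comm_mul_left (hc : ∀ a b : G, ⁅a, b⁆ ∈ Subgroup.center G) (γ γ' h : G) :
    ⁅γ * γ', h⁆ = ⁅γ, h⁆ * ⁅γ', h⁆ := by
  have hz1 := (Subgroup.mem_center_iff.mp (hc γ' h)) γ
  have hz2 := (Subgroup.mem_center_iff.mp (hc γ' h)) ⁅γ, h⁆
  calc ⁅γ * γ', h⁆ = γ * ⁅γ', h⁆ * h * γ⁻¹ * h⁻¹ := by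
        simp only [commutatorElement_def]; group
    _ = ⁅γ', h⁆ * γ * h * γ⁻¹ * h⁻¹ := by rw [hz1]
    _ = ⁅γ', h⁆ * ⁅γ, h⁆ := by simp only [commutatorElement_def]; group
    _ = ⁅γ, h⁆ * ⁅γ', h⁆ := hz2.symm

end general

section duality

variable {Γ : Type*} [Group Γ] {A : Type*} [CommGroup A] [Finite A] {M : Type*} [CommMonoid M]
  [HasEnoughRootsOfUnity M (Monoid.exponent A)]

/-- Abstract counting lemma behind the commutator pairing. -/
lemma index_annihilator_eq_card (π : Γ →* A) (hπ : Function.Surjective π)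
    (Ψ : Γ →* (A →* Mˣ)) (hker : Ψ.ker = π.ker) (H : Subgroup Γ)
    (S : Subgroup Γ) (hS : ∀ γ, γ ∈ S ↔ ∀ h ∈ H, Ψ γ (π h) = 1) :
    S.index = Nat.card (H.map π) := by
  have hcardA : Nat.card (A →* Mˣ) = Nat.card A :=
    CommGroup.card_monoidHom_of_hasEnoughRootsOfUnity A M
  have hfin : Finite (A →* Mˣ) := Nat.finite_of_card_ne_zero (by
    rw [hcardA]; exact Nat.card_pos.ne')
  have hΨsurj : Function.Surjective Ψ := by
    rw [← MonoidHom.range_eq_top, ← Subgroup.card_eq_iff_eq_top, ← Subgroup.index_ker, hker,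
      Subgroup.index_ker, MonoidHom.range_eq_top.mpr hπ, Subgroup.card_top, hcardA]
  set B : Subgroup A := H.map π with hB
  have hres : Function.Surjective (MonoidHom.domRestrictHom B Mˣ) :=
    MonoidHom.domRestrict_surjective (G := A) (M := M) B
  let Θ : Γ →* (B →* Mˣ) := (MonoidHom.domRestrictHom B Mˣ).comp Ψ
  have hΘsurj : Function.Surjective Θ := hres.comp hΨsurj
  have hSker : S = Θ.ker := by
    ext γ
    rw [hS, MonoidHom.mem_ker]
    constructor
    · intro h
      ext ⟨b, hb⟩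
      obtain ⟨x, hx, rfl⟩ := hb
      simpa [Θ] using h x hx
    · intro h x hx
      have := DFunLike.congr_fun h ⟨π x, Subgroup.mem_map_of_mem π hx⟩
      simpa [Θ] using this
  have : HasEnoughRootsOfUnity M (Monoid.exponent B) :=
    HasEnoughRootsOfUnity.of_dvd M (Monoid.exponent_submonoid_dvd B.toSubmonoid)
  rw [hSker, Subgroup.index_ker, MonoidHom.range_eq_top.mpr hΘsurj, Subgroup.card_top,
    CommGroup.card_monoidHom_of_hasEnoughRootsOfUnity B M]

end duality

end Groth.Agent.Lib.Helper87
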