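import Groth.Agent.Lib.Helper87.ThetaGrp
import Mathlib

set_option autoImplicit false

namespace Groth.Agent.Lib.Helper87

open scoped commutatorElement

section theta

variable {k : Type*} [Field k] {Γ : Type*} [Group Γ] (ι : kˣ →* Γ)
  (hι : Function.Injective ι) (hcent : ι.range = Subgroup.center Γ)
  (hcomm : commutator Γ ≤ ι.range)

include hcomm in
lemma comm_mem_range (a b : Γ) : ⁅a, b⁆ ∈ ι.range := by
  apply hcomm
  rw [commutator_eq_closure]
  exact Subgroup.subset_closure (commutator_mem_commutatorSet a b)

include hcomm hcent in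
lemma comm_mem_center (a b : Γ) : ⁅a, b⁆ ∈ Subgroup.center Γ := by
  rw [← hcent]
  exact comm_mem_range ι hcomm a b

/-- The commutator, read in `kˣ`. -/
noncomputable def cpair (a b : Γ) : kˣ :=
  Classical.choose (MonoidHom.mem_range.mp (comm_mem_range ι hcomm a b))

lemma cpair_spec (a b : Γ) : ι (cpair ι hcomm a b) = ⁅a, b⁆ :=
  Classical.choose_spec (MonoidHom.mem_range.mp (comm_mem_range ι hcomm a b))

include hι in
lemma cpair_eq_one_iff (a b : Γ) : cpair ι hcomm a b = 1 ↔ ⁅a, b⁆ = 1 := by
  rw [← cpair_spec ι hcomm a b]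
  constructor
  · intro h
    rw [h, map_one]
  · intro h
    apply hι
    rw [h, map_one]

/-- The pairing as a homomorphism in the second variable. -/
noncomputable def cpairHom (a : Γ) : Γ →* kˣ where
  toFun b := cpair ι hcomm a b
  map_one' := by
    apply hι
    rw [cpair_spec, map_one, commutatorElement_one_right]
  map_mul' b b' := by
    apply hι
    rw [map_mul, cpair_spec, cpair_spec, cpair_spec]
    exact comm_mul_right (comm_mem_center ι hcent hcomm) a b b'

@[simp] lemma cpairHom_apply (a b : Γ) : cpairHom ι hι hcent hcomm a b = cpair ι hcomm a b := rfl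

/-- The pairing as a bihomomorphism. -/
noncomputable def cpairHom₂ : Γ →* (Γ →* kˣ) where
  toFun a := cpairHom ι hι hcent hcomm a
  map_one' := by
    refine MonoidHom.ext fun b => ?_
    show cpair ι hcomm 1 b = 1
    apply hι
    rw [cpair_spec, map_one, commutatorElement_one_left]
  map_mul' a a' := by
    refine MonoidHom.ext fun b => ?_
    show cpair ι hcomm (a * a') b = cpair ι hcomm a b * cpair ι hcomm a' b
    apply hι
    rw [map_mul, cpair_spec, cpair_spec, cpair_spec]
    exact comm_mul_left (comm_mem_center ι hcent hcomm) a a' b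

@[simp] lemma cpairHom₂_apply (a b : Γ) :
    cpairHom₂ ι hι hcent hcomm a b = cpair ι hcomm a b := rfl

end theta

end Groth.Agent.Lib.Helper87
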