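import Groth.Agent.Lib.Helper87.ThetaGrp2
import Mathlib

set_option autoImplicit false

namespace Groth.Agent.Lib.Helper87

open scoped commutatorElement

lemma natCast_ne_zero_of_coprime_ringExpChar (k : Type*) [Field k] {n : ℕ} (hn : n ≠ 0)
    (h : n.Coprime (ringExpChar k)) : (n : k) ≠ 0 := by
  intro h0
  have hdvd : ringChar k ∣ n := (ringChar.spec k n).mp h0
  have hp0 : ringChar k ≠ 0 := by
    intro hz
    rw [hz] at hdvd
    exact hn (Nat.eq_zero_of_zero_dvd hdvd)
  have hexp : ringExpChar k = ringChar k := by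
    unfold ringExpChar
    exact max_eq_left (Nat.one_le_iff_ne_zero.mpr hp0)
  rw [hexp] at h
  have h1 : ringChar k ∣ 1 := by
    have := Nat.dvd_gcd hdvd (dvd_refl (ringChar k))
    rwa [h.gcd_eq_one] at this
  have h2 : ringChar k = 1 := Nat.dvd_one.mp h1
  exact CharP.ringChar_ne_one h2

section theta

universe u

variable {k : Type u} [Field k] [IsAlgClosed k] {Γ : Type u} [Group Γ] (ι : kˣ →* Γ)
  (hι : Function.Injective ι) (hcent : ι.range = Subgroup.center Γ)
  (hcomm : commutator Γ ≤ ι.range)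

include hι hcent hcomm in
theorem index_centralizer_eq_relIndex
    [Finite (Γ ⧸ ι.range)] (hcop : (Nat.card (Γ ⧸ ι.range)).Coprime (ringExpChar k))
    (H : Subgroup Γ) :
    (Subgroup.centralizer (H : Set Γ)).index = ι.range.relIndex H := by
  have hZn : ι.range.Normal := by
    rw [hcent]; infer_instance
  letI : CommGroup (Γ ⧸ ι.range) :=
    { (inferInstance : Group (Γ ⧸ ι.range)) with
      mul_comm := fun a b =>
        (Subgroup.Normal.quotient_commutative_iff_commutator_le.mpr hcomm).is_comm.comm a b }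
  have hexp0 : Monoid.exponent (Γ ⧸ ι.range) ≠ 0 := Monoid.exponent_ne_zero_of_finite
  have hexpdvd : Monoid.exponent (Γ ⧸ ι.range) ∣ Nat.card (Γ ⧸ ι.range) :=
    Group.exponent_dvd_nat_card
  have : NeZero ((Monoid.exponent (Γ ⧸ ι.range) : ℕ) : k) :=
    ⟨natCast_ne_zero_of_coprime_ringExpChar k hexp0 (Nat.Coprime.coprime_dvd_left hexpdvd hcop)⟩
  let π : Γ →* (Γ ⧸ ι.range) := QuotientGroup.mk' ι.range
  have hle : ι.range ≤ (cpairHom₂ ι hι hcent hcomm).flip.ker := by
    intro z hz
    rw [MonoidHom.mem_ker]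
    refine MonoidHom.ext fun a => ?_
    show cpair ι hcomm a z = 1
    rw [cpair_eq_one_iff ι hι hcomm, commutatorElement_eq_one_iff_mul_comm]
    rw [hcent] at hz
    exact Subgroup.mem_center_iff.mp hz a
  let Ψ : Γ →* ((Γ ⧸ ι.range) →* kˣ) :=
    (QuotientGroup.lift ι.range (cpairHom₂ ι hι hcent hcomm).flip hle).flip
  have hΨ : ∀ a b : Γ, Ψ a (π b) = cpair ι hcomm a b := fun a b => rfl
  have hker : Ψ.ker = π.ker := by
    rw [QuotientGroup.ker_mk']
    ext a
    rw [MonoidHom.mem_ker]
    constructor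
    · intro ha
      rw [hcent, Subgroup.mem_center_iff]
      intro b
      have h1 : Ψ a (π b) = 1 := by rw [ha]; rfl
      rw [hΨ, cpair_eq_one_iff ι hι hcomm, commutatorElement_eq_one_iff_mul_comm] at h1
      exact h1.symm
    · intro ha
      refine MonoidHom.ext fun x => ?_
      obtain ⟨b, rfl⟩ := QuotientGroup.mk'_surjective ι.range x
      show Ψ a (π b) = 1
      rw [hΨ, cpair_eq_one_iff ι hι hcomm, commutatorElement_eq_one_iff_mul_comm]
      rw [hcent] at ha
      exact (Subgroup.mem_center_iff.mp ha b).symm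
  have hS : ∀ γ, γ ∈ Subgroup.centralizer (H : Set Γ) ↔ ∀ h ∈ H, Ψ γ (π h) = 1 := by
    intro γ
    rw [Subgroup.mem_centralizer_iff_commutator_eq_one']
    refine forall₂_congr fun h _ => ?_
    rw [hΨ, cpair_eq_one_iff ι hι hcomm]
  rw [index_annihilator_eq_card (M := k) π (QuotientGroup.mk'_surjective ι.range) Ψ hker H _ hS]
  have h1 := Subgroup.relIndex_comap (H := (⊥ : Subgroup (Γ ⧸ ι.range))) π H
  rw [MonoidHom.comap_bot, QuotientGroup.ker_mk', Subgroup.relIndex_bot_left] at h1
  exact h1.symm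

include hι hcent hcomm in
theorem theta_tfae
    [Finite (Γ ⧸ ι.range)] (hcop : (Nat.card (Γ ⧸ ι.range)).Coprime (ringExpChar k))
    (H : Subgroup Γ) (hH : ι.range ≤ H) :
    List.TFAE [
      IsMulCommutative H ∧ ∀ H' : Subgroup Γ, IsMulCommutative H' → H ≤ H' → H' = H,
      IsMulCommutative H ∧ (ι.range.relIndex H) ^ 2 = ι.range.index,
      H = Subgroup.centralizer (H : Set Γ)] := by
  have hidx := index_centralizer_eq_relIndex ι hι hcent hcomm hcop H
  have hZC : ι.range ≤ Subgroup.centralizer (H : Set Γ) := by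
    rw [hcent]
    exact Subgroup.center_le_centralizer _
  have hmul : ι.range.relIndex (Subgroup.centralizer (H : Set Γ)) * ι.range.relIndex H =
      ι.range.index := by
    rw [← hidx]
    exact Subgroup.relIndex_mul_index hZC
  have hidx0 : ι.range.index ≠ 0 := Subgroup.index_ne_zero_of_finite
  tfae_have 1 ↔ 3 := maxComm_iff_eq_centralizer H
  tfae_have 3 → 2 := by
    intro h
    refine ⟨Subgroup.le_centralizer_iff_isMulCommutative.mp h.le, ?_⟩
    rw [← hmul, ← h, pow_two]
  tfae_have 2 → 3 := by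
    rintro ⟨hc, hsq⟩
    have hHC : H ≤ Subgroup.centralizer (H : Set Γ) :=
      Subgroup.le_centralizer_iff_isMulCommutative.mpr hc
    have hr0 : ι.range.relIndex H ≠ 0 := by
      intro h0
      rw [h0] at hsq
      exact hidx0 (by rw [← hsq]; norm_num)
    have h1 : ι.range.relIndex (Subgroup.centralizer (H : Set Γ)) = ι.range.relIndex H := by
      have : ι.range.relIndex (Subgroup.centralizer (H : Set Γ)) * ι.range.relIndex H =
          ι.range.relIndex H * ι.range.relIndex H := by rw [hmul, ← hsq, pow_two]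
      exact Nat.eq_of_mul_eq_mul_right (Nat.pos_of_ne_zero hr0) this
    have h2 := Subgroup.relIndex_mul_relIndex ι.range H (Subgroup.centralizer (H : Set Γ)) hH hHC
    rw [h1] at h2
    have h3 : H.relIndex (Subgroup.centralizer (H : Set Γ)) = 1 := by
      have : ι.range.relIndex H * H.relIndex (Subgroup.centralizer (H : Set Γ)) =
          ι.range.relIndex H * 1 := by rw [h2, mul_one]
      exact Nat.eq_of_mul_eq_mul_left (Nat.pos_of_ne_zero hr0) this
    exact le_antisymm hHC (Subgroup.relIndex_eq_one.mp h3)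
  tfae_finish

end theta

end Groth.Agent.Lib.Helper87
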