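import Groth.Agent.Lib.Helper87.ThetaGrp3
import Mathlib

set_option autoImplicit false

namespace Groth.Agent.Lib.Helper87

open scoped commutatorElement

section thetaLevel

universe u

variable {k : Type u} [Field k] [IsAlgClosed k] {Γ : Type u} [Group Γ] (ι : kˣ →* Γ)
  (hι : Function.Injective ι) (hcent : ι.range = Subgroup.center Γ)
  (hcomm : commutator Γ ≤ ι.range)

include hcomm in
/-- Level subgroups are commutative. -/
lemma level_mul_comm {H : Subgroup Γ} (hH : H ⊓ ι.range = ⊥) {a b : Γ} (ha : a ∈ H)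
    (hb : b ∈ H) : a * b = b * a := by
  have h1 : ⁅a, b⁆ ∈ H ⊓ ι.range := by
    refine ⟨?_, comm_mem_range ι hcomm a b⟩
    rw [commutatorElement_def]
    exact H.mul_mem (H.mul_mem (H.mul_mem ha hb) (H.inv_mem ha)) (H.inv_mem hb)
  rw [hH, Subgroup.mem_bot] at h1
  exact commutatorElement_eq_one_iff_mul_comm.mp h1

lemma level_mk_injective {H : Subgroup Γ} (hH : H ⊓ ι.range = ⊥) :
    Function.Injective (fun h : H => (QuotientGroup.mk (h : Γ) : Γ ⧸ ι.range)) := by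
  intro a b hab
  have h1 : (a : Γ)⁻¹ * b ∈ ι.range := QuotientGroup.eq.mp hab
  have h2 : (a : Γ)⁻¹ * b ∈ H ⊓ ι.range := ⟨H.mul_mem (H.inv_mem a.2) b.2, h1⟩
  rw [hH, Subgroup.mem_bot] at h2
  exact Subtype.ext (inv_mul_eq_one.mp h2)

lemma level_finite [Finite (Γ ⧸ ι.range)] {H : Subgroup Γ} (hH : H ⊓ ι.range = ⊥) :
    Finite H :=
  Finite.of_injective _ (level_mk_injective ι hH)

lemma level_card_le [Finite (Γ ⧸ ι.range)] {H : Subgroup Γ} (hH : H ⊓ ι.range = ⊥) :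
    Nat.card H ≤ Nat.card (Γ ⧸ ι.range) :=
  Nat.card_le_card_of_injective _ (level_mk_injective ι hH)

/-- A maximal level subgroup exists. -/
lemma exists_maxLevel [Finite (Γ ⧸ ι.range)] :
    ∃ H : Subgroup Γ, H ⊓ ι.range = ⊥ ∧
      ∀ H' : Subgroup Γ, H' ⊓ ι.range = ⊥ → H ≤ H' → H' = H := by
  let S : Set ℕ := {n | ∃ H : Subgroup Γ, H ⊓ ι.range = ⊥ ∧ Nat.card H = n}
  have hbdd : BddAbove S := by
    refine ⟨Nat.card (Γ ⧸ ι.range), ?_⟩
    rintro n ⟨H, hH, rfl⟩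
    exact level_card_le ι hH
  have hne : S.Nonempty := ⟨1, ⊥, bot_inf_eq _, Subgroup.card_bot⟩
  obtain ⟨H, hH, hcard⟩ := Nat.sSup_mem hne hbdd
  refine ⟨H, hH, fun H' hH' hle => ?_⟩
  have : Finite H' := level_finite ι hH'
  have h1 : Nat.card H' ≤ Nat.card H := by
    rw [hcard]
    exact le_csSup hbdd ⟨H', hH', rfl⟩
  exact (Subgroup.eq_of_le_of_card_ge hle h1).symm

end thetaLevel

end Groth.Agent.Lib.Helper87
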