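import Groth.Agent.Lib.Helper87.ThetaGrp3
import Mathlib

set_option autoImplicit false

namespace Groth.Agent.Lib.Helper87

section semisimple

universe u v

variable {k : Type u} [Field k] {Γ : Type u} [Group Γ] (ι : kˣ →* Γ)
  {W : Type v} [AddCommGroup W] [Module k W] (ρ : Representation k Γ W)
  (hw : ∀ (z : kˣ) (w : W), ρ (ι z) w = (z : k) • w)

include hw in
/-- Averaging over the finite quotient: weight-one representations are semisimple. -/
theorem isSemisimple_of_weight_one [Finite (Γ ⧸ ι.range)]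
    (hN : (Nat.card (Γ ⧸ ι.range) : k) ≠ 0) :
    Representation.IsSemisimpleRepresentation ρ := by
  classical
  haveI : Fintype (Γ ⧸ ι.range) := Fintype.ofFinite _
  have hNf : (Fintype.card (Γ ⧸ ι.range) : k) ≠ 0 := by
    rwa [← Nat.card_eq_fintype_card]
  have hinvl : ∀ (g : Γ) (w : W), ρ g⁻¹ (ρ g w) = w := by
    intro g w
    rw [← Module.End.mul_apply, ← map_mul, inv_mul_cancel, map_one, Module.End.one_apply]
  have hinvr : ∀ (g : Γ) (w : W), ρ g (ρ g⁻¹ w) = w := by
    intro g w
    rw [← Module.End.mul_apply, ← map_mul, mul_inv_cancel, map_one, Module.End.one_apply]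
  refine ⟨fun U => ?_⟩
  obtain ⟨r, hr⟩ := LinearMap.exists_leftInverse_of_injective U.toSubmodule.subtype
    (Submodule.ker_subtype _)
  let p : W →ₗ[k] W := U.toSubmodule.subtype ∘ₗ r
  have hpU : ∀ w, p w ∈ U.toSubmodule := fun w => (r w).2
  have hpid : ∀ u ∈ U.toSubmodule, p u = u := by
    intro u hu
    have := LinearMap.congr_fun hr ⟨u, hu⟩
    show ((r u : U.toSubmodule) : W) = u
    exact congrArg Subtype.val this
  let F : Γ → W →ₗ[k] W := fun g => (ρ g) ∘ₗ p ∘ₗ (ρ g⁻¹)
  have hFa : ∀ g w, F g w = ρ g (p (ρ g⁻¹ w)) := fun g w => rfl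
  have hFz : ∀ (g : Γ) (z : kˣ), F (g * ι z) = F g := by
    intro g z
    ext w
    rw [hFa, hFa, mul_inv_rev, map_mul, map_mul, Module.End.mul_apply, Module.End.mul_apply,
      ← map_inv, hw, hw, map_smul, map_smul, map_smul, smul_smul, ← Units.val_mul,
      mul_inv_cancel, Units.val_one, one_smul]
  have hFmk : ∀ g : Γ, F (Quotient.out (QuotientGroup.mk g : Γ ⧸ ι.range)) = F g := by
    intro g
    obtain ⟨⟨_, z, rfl⟩, hc⟩ := QuotientGroup.mk_out_eq_mul ι.range g
    rw [hc]
    exact hFz g z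
  have hFconj : ∀ (g g' : Γ) (w : W), ρ g (F g' w) = F (g * g') (ρ g w) := by
    intro g g' w
    rw [hFa, hFa, mul_inv_rev, map_mul, map_mul, Module.End.mul_apply, Module.End.mul_apply,
      hinvl]
  let S : W →ₗ[k] W := ∑ x : Γ ⧸ ι.range, F (Quotient.out x)
  let P : W →ₗ[k] W := ((Fintype.card (Γ ⧸ ι.range) : k))⁻¹ • S
  have hSa : ∀ w, S w = ∑ x : Γ ⧸ ι.range, F (Quotient.out x) w := by
    intro w
    show (∑ x : Γ ⧸ ι.range, F (Quotient.out x)) w = _
    rw [LinearMap.sum_apply]
  have hPa : ∀ w, P w = ((Fintype.card (Γ ⧸ ι.range) : k))⁻¹ • S w := fun w => rfl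
  have hFU : ∀ g w, F g w ∈ U.toSubmodule := by
    intro g w
    rw [hFa]
    exact U.apply_mem_toSubmodule g (hpU _)
  have hPU : ∀ w, P w ∈ U.toSubmodule := by
    intro w
    rw [hPa, hSa]
    exact Submodule.smul_mem _ _ (Submodule.sum_mem _ fun x _ => hFU _ _)
  have hPid : ∀ u ∈ U.toSubmodule, P u = u := by
    intro u hu
    have h1 : ∀ g, F g u = u := by
      intro g
      rw [hFa, hpid _ (U.apply_mem_toSubmodule g⁻¹ hu), hinvr]
    rw [hPa, hSa]
    simp only [h1, Finset.sum_const, Finset.card_univ]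
    rw [← Nat.cast_smul_eq_nsmul k, smul_smul, inv_mul_cancel₀ hNf, one_smul]
  have hScomm : ∀ (g : Γ) (w : W), ρ g (S w) = S (ρ g w) := by
    intro g w
    rw [hSa, hSa, map_sum]
    have h1 : ∀ x : Γ ⧸ ι.range, ρ g (F (Quotient.out x) w) =
        F (Quotient.out (g • x)) (ρ g w) := by
      intro x
      rw [hFconj]
      have h2 : g • x = (QuotientGroup.mk (g * Quotient.out x) : Γ ⧸ ι.range) := by
        conv_lhs => rw [← QuotientGroup.out_eq' x]
        rfl
      rw [h2, hFmk]
    simp only [h1]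
    exact Fintype.sum_equiv (MulAction.toPerm g) _ _ (fun x => rfl)
  have hPcomm : ∀ (g : Γ) (w : W), ρ g (P w) = P (ρ g w) := by
    intro g w
    rw [hPa, hPa, map_smul, hScomm]
  let U' : Subrepresentation ρ :=
    { toSubmodule := LinearMap.ker P
      apply_mem_toSubmodule := by
        intro g w hw'
        rw [LinearMap.mem_ker] at hw' ⊢
        rw [← hPcomm, hw', map_zero] }
  refine ⟨U', ?_, ?_⟩
  · rw [disjoint_iff]
    apply Subrepresentation.toSubmodule_injective
    show U.toSubmodule ⊓ LinearMap.ker P = ⊥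
    rw [eq_bot_iff]
    rintro u ⟨hu1, hu2⟩
    rw [SetLike.mem_coe, LinearMap.mem_ker, hPid u hu1] at hu2
    exact (Submodule.mem_bot k).mpr hu2
  · rw [codisjoint_iff]
    apply Subrepresentation.toSubmodule_injective
    show U.toSubmodule ⊔ LinearMap.ker P = ⊤
    rw [eq_top_iff]
    intro w _
    have h1 : w = P w + (w - P w) := by abel
    rw [h1]
    refine Submodule.add_mem_sup (hPU w) ?_
    rw [LinearMap.mem_ker, map_sub, hPid _ (hPU w), sub_self]

end semisimple

end Groth.Agent.Lib.Helper87
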