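import Groth.Agent.Lib.Helper87.ThetaRep9
import Groth.Agent.Lib.Helper87.ThetaRep10
import Mathlib

set_option autoImplicit false

namespace Groth.Agent.Lib.Helper87

section final

universe u

variable (k : Type u) [Field k] [IsAlgClosed k]
    (Γ : Type u) [Group Γ] (ι : kˣ →* Γ) (hι : Function.Injective ι)
    (hcent : ι.range = Subgroup.center Γ) (hcomm : commutator Γ ≤ ι.range)

include hι hcent hcomm in
theorem svn_main [Finite (Γ ⧸ ι.range)] (hcop : (Nat.card (Γ ⧸ ι.range)).Coprime (ringExpChar k)) :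
    (∃ V : FDRep k Γ, Representation.IsIrreducible V.ρ ∧
      ∀ (z : kˣ) (v : V), V.ρ (ι z) v = (z : k) • v) ∧
    (∀ V W : FDRep k Γ, Representation.IsIrreducible V.ρ → Representation.IsIrreducible W.ρ →
      (∀ (z : kˣ) (v : V), V.ρ (ι z) v = (z : k) • v) →
      (∀ (z : kˣ) (w : W), W.ρ (ι z) w = (z : k) • w) →
      Nonempty (Representation.Equiv V.ρ W.ρ)) ∧
    (∀ V : FDRep k Γ, Representation.IsIrreducible V.ρ →
      (∀ (z : kˣ) (v : V), V.ρ (ι z) v = (z : k) • v) →
      Module.finrank k V ^ 2 = Nat.card (Γ ⧸ ι.range)) := by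
  refine ⟨?_, ?_, ?_⟩
  · obtain ⟨V, i1, i2, i3, ρ, hirr, hwt⟩ := exists_irreducible ι hι hcent hcomm hcop
    exact ⟨FDRep.of ρ, hirr, hwt⟩
  · intro V W hV hW hVw hWw
    exact irreducible_equiv ι hι hcent hcomm V.ρ hVw W.ρ hWw hcop hV hW
  · intro V hV hVw
    obtain ⟨H, hH, hmax⟩ := exists_maxLevel ι
    obtain ⟨hfr, -, -⟩ := irred_data ι hι hcent hcomm V.ρ hVw hcop hH hmax hV
    rw [hfr, pow_two]
    exact card_maxLevel_sq ι hι hcent hcomm hcop hH hmax

include hι hcent hcomm in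
theorem svn_decomp [Finite (Γ ⧸ ι.range)]
    (hcop : (Nat.card (Γ ⧸ ι.range)).Coprime (ringExpChar k))
    (V : FDRep k Γ) (hV : Representation.IsIrreducible V.ρ)
    (hV1 : ∀ (z : kˣ) (v : V), V.ρ (ι z) v = (z : k) • v)
    (W : FDRep k Γ) (hW1 : ∀ (z : kˣ) (w : W), W.ρ (ι z) w = (z : k) • w)
    (H : Subgroup Γ) (hH : H ⊓ ι.range = ⊥)
    (hmax : ∀ H' : Subgroup Γ, H' ⊓ ι.range = ⊥ → H ≤ H' → H' = H) :
    Representation.IsSemisimpleRepresentation W.ρ ∧
      Module.finrank k W =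
        Module.finrank k (Representation.invariants (W.ρ.comp H.subtype)) *
          Module.finrank k V := by
  refine ⟨?_, ?_⟩
  · apply isSemisimple_of_weight_one ι W.ρ hW1
    exact natCast_ne_zero_of_coprime_ringExpChar k Nat.card_pos.ne' hcop
  · obtain ⟨hfr, -, -⟩ := irred_data ι hι hcent hcomm V.ρ hV1 hcop hH hmax hV
    have hT1 := finrank_eq_card_mul_jointEigen ι hι hcent hcomm W.ρ hW1 hcop hH hmax
    have heq : jointEigen (W.ρ.comp H.subtype) (fun _ => (1 : k)) =
        Representation.invariants (W.ρ.comp H.subtype) := by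
      ext w
      rw [mem_jointEigen, Representation.mem_invariants]
      refine forall_congr' fun h => ?_
      rw [one_smul]
    rw [hT1, hfr, heq, mul_comm]

end final

end Groth.Agent.Lib.Helper87
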