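import Groth.Agent.Lib.Helper87.ThetaRep1
import Mathlib

set_option autoImplicit false

namespace Groth.Agent.Lib.Helper87

open scoped commutatorElement

section thetaLevel

universe u

variable {k : Type u} [Field k] [IsAlgClosed k] {Γ : Type u} [Group Γ] (ι : kˣ →* Γ)
  (hι : Function.Injective ι) (hcent : ι.range = Subgroup.center Γ)
  (hcomm : commutator Γ ≤ ι.range)

include hcomm in
lemma normal_of_range_le {N : Subgroup Γ} (hN : ι.range ≤ N) : N.Normal := by
  rw [← Subgroup.commutator_top_left_le_iff]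
  calc ⁅(⊤ : Subgroup Γ), N⁆ ≤ ⁅(⊤ : Subgroup Γ), ⊤⁆ := Subgroup.commutator_mono le_rfl le_top
    _ = commutator Γ := (commutator_def Γ).symm
    _ ≤ ι.range := hcomm
    _ ≤ N := hN

include hcent in
lemma range_le_centralizer (S : Set Γ) : ι.range ≤ Subgroup.centralizer S := by
  rw [hcent]
  exact Subgroup.center_le_centralizer S

include hcent hcomm in
/-- The centralizer of a maximal level subgroup is generated by it and the scalars. -/
lemma centralizer_maxLevel [Finite (Γ ⧸ ι.range)] {H : Subgroup Γ} (hH : H ⊓ ι.range = ⊥)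
    (hmax : ∀ H' : Subgroup Γ, H' ⊓ ι.range = ⊥ → H ≤ H' → H' = H) :
    Subgroup.centralizer (H : Set Γ) = H ⊔ ι.range := by
  have hZn : ι.range.Normal := normal_of_range_le ι hcomm le_rfl
  have hcenZ : ∀ z : kˣ, ∀ x : Γ, x * ι z = ι z * x := by
    intro z x
    have : ι z ∈ Subgroup.center Γ := by rw [← hcent]; exact ⟨z, rfl⟩
    exact (Subgroup.mem_center_iff.mp this x)
  apply le_antisymm
  · intro g hg
    set Ht : Subgroup Γ := H ⊔ ι.range with hHt
    have hHtn : Ht.Normal := normal_of_range_le ι hcomm le_sup_right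
    have hfin : Finite (Γ ⧸ Ht) := by
      have h0 : ι.range.FiniteIndex := Subgroup.finiteIndex_of_finite_quotient
      have : Ht.FiniteIndex := Subgroup.finiteIndex_of_le (H := ι.range) le_sup_right
      infer_instance
    have hmem : ∀ x : Γ, x ∈ Ht ↔ ∃ h ∈ H, ∃ z : kˣ, x = h * ι z := by
      intro x
      rw [← SetLike.mem_coe, hHt, Subgroup.mul_normal, Set.mem_mul]
      constructor
      · rintro ⟨h, hh, n, ⟨z, rfl⟩, rfl⟩
        exact ⟨h, hh, z, rfl⟩
      · rintro ⟨h, hh, z, rfl⟩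
        exact ⟨h, hh, ι z, ⟨z, rfl⟩, rfl⟩
    set m : ℕ := orderOf (QuotientGroup.mk g : Γ ⧸ Ht) with hm
    have hmpos : 0 < m := orderOf_pos _
    have hgm : g ^ m ∈ Ht := by
      rw [← QuotientGroup.eq_one_iff, QuotientGroup.mk_pow, hm, pow_orderOf_eq_one]
    obtain ⟨h₀, hh₀, c, hc⟩ := (hmem _).mp hgm
    obtain ⟨z0, hz0⟩ := IsAlgClosed.exists_pow_nat_eq ((c⁻¹ : kˣ) : k) hmpos
    have hz0ne : z0 ≠ 0 := by
      intro h0
      rw [h0, zero_pow hmpos.ne'] at hz0
      exact (Units.ne_zero _) hz0.symm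
    set z : kˣ := Units.mk0 z0 hz0ne with hz
    have hzm : z ^ m = c⁻¹ := by
      apply Units.ext
      rw [Units.val_pow_eq_pow_val, hz, Units.val_mk0, hz0]
    set g' : Γ := g * ι z with hg'
    have hg'cen : ∀ h ∈ H, h * g' = g' * h := by
      intro h hh
      have h1 : h * g = g * h := (Subgroup.mem_centralizer_iff.mp hg h hh)
      rw [hg', ← mul_assoc, h1, mul_assoc, hcenZ z h, ← mul_assoc]
    have hg'pow : ∀ j : ℤ, g' ^ j = g ^ j * ι (z ^ j) := by
      intro j
      rw [hg', Commute.mul_zpow (hcenZ z g), map_zpow]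
    have hg'm : g' ^ m = h₀ := by
      have h1 : (Commute g (ι z)) := hcenZ z g
      rw [hg', h1.mul_pow, hc, ← map_pow, hzm, mul_assoc, ← map_mul, mul_inv_cancel, map_one,
        mul_one]
    -- the enlarged subgroup
    let H'' : Subgroup Γ :=
      { carrier := {x | ∃ h ∈ H, ∃ j : ℤ, x = h * g' ^ j}
        one_mem' := ⟨1, H.one_mem, 0, by simp⟩
        mul_mem' := by
          rintro _ _ ⟨h, hh, j, rfl⟩ ⟨h', hh', j', rfl⟩
          refine ⟨h * h', H.mul_mem hh hh', j + j', ?_⟩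
          have h1 : Commute (g' ^ j) h' := (Commute.zpow_left (hg'cen h' hh').symm j)
          rw [zpow_add, mul_assoc h, ← mul_assoc (g' ^ j), h1.eq, mul_assoc h', ← mul_assoc h]
        inv_mem' := by
          rintro _ ⟨h, hh, j, rfl⟩
          refine ⟨h⁻¹, H.inv_mem hh, -j, ?_⟩
          have h1 : Commute (g' ^ j) h := (Commute.zpow_left (hg'cen h hh).symm j)
          rw [mul_inv_rev, zpow_neg]
          exact (h1.inv_inv.eq) }
    have hH''mem : ∀ x, x ∈ H'' ↔ ∃ h ∈ H, ∃ j : ℤ, x = h * g' ^ j := fun x => Iff.rfl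
    have hle : H ≤ H'' := fun h hh => (hH''mem h).mpr ⟨h, hh, 0, by simp⟩
    have hlev : H'' ⊓ ι.range = ⊥ := by
      rw [eq_bot_iff]
      rintro x ⟨hx1, hx2⟩
      obtain ⟨h, hh, j, rfl⟩ := (hH''mem x).mp hx1
      -- g'^j ∈ Ht
      have h1 : g' ^ j ∈ Ht := by
        have : g' ^ j = h⁻¹ * (h * g' ^ j) := by group
        rw [this]
        exact Ht.mul_mem (Ht.inv_mem (le_sup_left (a := H) hh)) (le_sup_right (b := ι.range) hx2)
      have h2 : g ^ j ∈ Ht := by
        have : g ^ j = g' ^ j * (ι (z ^ j))⁻¹ := by rw [hg'pow j]; group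
        rw [this]
        exact Ht.mul_mem h1 (Ht.inv_mem (le_sup_right (b := ι.range) ⟨_, rfl⟩))
      have h3 : (m : ℤ) ∣ j := by
        rw [hm, orderOf_dvd_iff_zpow_eq_one, ← QuotientGroup.mk_zpow, QuotientGroup.eq_one_iff]
        exact h2
      obtain ⟨q, rfl⟩ := h3
      have h4 : g' ^ ((m : ℤ) * q) ∈ H := by
        rw [zpow_mul, zpow_natCast, hg'm]
        exact H.zpow_mem hh₀ q
      have h5 : h * g' ^ ((m : ℤ) * q) ∈ H ⊓ ι.range := ⟨H.mul_mem hh h4, hx2⟩
      rw [hH] at h5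
      exact h5
    have hEq : H'' = H := hmax H'' hlev hle
    have hg'H : g' ∈ H := by
      rw [← hEq, hH''mem]
      exact ⟨1, H.one_mem, 1, by simp⟩
    have : g = g' * (ι z)⁻¹ := by rw [hg']; group
    rw [this]
    exact Ht.mul_mem (le_sup_left (a := H) hg'H) (Ht.inv_mem (le_sup_right (b := ι.range) ⟨z, rfl⟩))
  · rw [sup_le_iff]
    refine ⟨?_, range_le_centralizer ι hcent _⟩
    intro a ha
    rw [Subgroup.mem_centralizer_iff]
    intro b hb
    exact level_mul_comm ι hcomm hH hb ha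

end thetaLevel

end Groth.Agent.Lib.Helper87
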