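import Groth.Agent.Lib.Helper87.ThetaRep2
import Mathlib

set_option autoImplicit false

namespace Groth.Agent.Lib.Helper87

open scoped commutatorElement

section thetaLevel

universe u

variable {k : Type u} [Field k] [IsAlgClosed k] {Γ : Type u} [Group Γ] (ι : kˣ →* Γ)
  (hι : Function.Injective ι) (hcent : ι.range = Subgroup.center Γ)
  (hcomm : commutator Γ ≤ ι.range)

include hι hcent hcomm in
lemma index_centralizer_maxLevel [Finite (Γ ⧸ ι.range)]
    (hcop : (Nat.card (Γ ⧸ ι.range)).Coprime (ringExpChar k))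
    {H : Subgroup Γ} (hH : H ⊓ ι.range = ⊥) :
    (Subgroup.centralizer (H : Set Γ)).index = Nat.card H := by
  rw [index_centralizer_eq_relIndex ι hι hcent hcomm hcop H, ← Subgroup.inf_relIndex_right,
    inf_comm, hH, Subgroup.relIndex_bot_left]

include hι hcent hcomm in
lemma card_maxLevel_sq [Finite (Γ ⧸ ι.range)]
    (hcop : (Nat.card (Γ ⧸ ι.range)).Coprime (ringExpChar k))
    {H : Subgroup Γ} (hH : H ⊓ ι.range = ⊥)
    (hmax : ∀ H' : Subgroup Γ, H' ⊓ ι.range = ⊥ → H ≤ H' → H' = H) :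
    Nat.card H * Nat.card H = Nat.card (Γ ⧸ ι.range) := by
  have hZn : ι.range.Normal := normal_of_range_le ι hcomm le_rfl
  have h1 := index_centralizer_maxLevel ι hι hcent hcomm hcop hH
  have h2 := centralizer_maxLevel ι hcent hcomm hH hmax
  have h3 : ι.range.relIndex (H ⊔ ι.range) * (H ⊔ ι.range).index = ι.range.index :=
    Subgroup.relIndex_mul_index le_sup_right
  rw [Subgroup.relIndex_sup_right, ← h2, h1, ← Subgroup.inf_relIndex_right, inf_comm, hH,
    Subgroup.relIndex_bot_left] at h3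
  rw [h3, Subgroup.index_eq_card]

include hι hcent hcomm in
lemma card_maxLevel_ne_zero [Finite (Γ ⧸ ι.range)]
    (hcop : (Nat.card (Γ ⧸ ι.range)).Coprime (ringExpChar k))
    {H : Subgroup Γ} (hH : H ⊓ ι.range = ⊥)
    (hmax : ∀ H' : Subgroup Γ, H' ⊓ ι.range = ⊥ → H ≤ H' → H' = H) :
    (Nat.card H : k) ≠ 0 := by
  have : Finite H := level_finite ι hH
  have hsq := card_maxLevel_sq ι hι hcent hcomm hcop hH hmax
  apply natCast_ne_zero_of_coprime_ringExpChar k Nat.card_pos.ne'
  exact Nat.Coprime.coprime_dvd_left (Dvd.intro _ hsq) hcop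

include hι hcent hcomm in
/-- Every character of a maximal level subgroup is a commutator character. -/
lemma exists_cpair_eq [Finite (Γ ⧸ ι.range)]
    (hcop : (Nat.card (Γ ⧸ ι.range)).Coprime (ringExpChar k))
    {H : Subgroup Γ} (hH : H ⊓ ι.range = ⊥)
    (hmax : ∀ H' : Subgroup Γ, H' ⊓ ι.range = ⊥ → H ≤ H' → H' = H)
    (ψ : H →* kˣ) : ∃ g : Γ, ∀ h : H, cpair ι hcomm (h : Γ) g = ψ h := by
  have hfinH : Finite H := level_finite ι hH
  letI : CommGroup H :=
    { (inferInstance : Group H) with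
      mul_comm := fun a b => Subtype.ext (level_mul_comm ι hcomm hH a.2 b.2) }
  have hexp0 : Monoid.exponent H ≠ 0 := Monoid.exponent_ne_zero_of_finite
  have hexpdvd : Monoid.exponent H ∣ Nat.card H := Group.exponent_dvd_nat_card
  have hsq := card_maxLevel_sq ι hι hcent hcomm hcop hH hmax
  have : NeZero ((Monoid.exponent H : ℕ) : k) :=
    ⟨natCast_ne_zero_of_coprime_ringExpChar k hexp0
      (Nat.Coprime.coprime_dvd_left (hexpdvd.trans (Dvd.intro _ hsq)) hcop)⟩
  have hcardHom : Nat.card (H →* kˣ) = Nat.card H :=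
    CommGroup.card_monoidHom_of_hasEnoughRootsOfUnity H k
  have hfinHom : Finite (H →* kˣ) := Nat.finite_of_card_ne_zero (by
    rw [hcardHom]; exact Nat.card_pos.ne')
  let Θ : Γ →* (H →* kˣ) :=
    (MonoidHom.restrictHom H kˣ).comp (cpairHom₂ ι hι hcent hcomm).flip
  have hΘ : ∀ (g : Γ) (h : H), Θ g h = cpair ι hcomm (h : Γ) g := fun g h => rfl
  have hker : Θ.ker = Subgroup.centralizer (H : Set Γ) := by
    ext g
    rw [MonoidHom.mem_ker, Subgroup.mem_centralizer_iff_commutator_eq_one]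
    constructor
    · intro hg h hh
      have h1 : Θ g ⟨h, hh⟩ = 1 := by rw [hg]; rfl
      rw [hΘ, cpair_eq_one_iff ι hι hcomm] at h1
      exact h1
    · intro hg
      refine MonoidHom.ext fun h => ?_
      show Θ g h = 1
      rw [hΘ, cpair_eq_one_iff ι hι hcomm]
      exact hg h h.2
  have hsurj : Θ.range = ⊤ := by
    rw [← Subgroup.card_eq_iff_eq_top, ← Subgroup.index_ker, hker,
      index_centralizer_maxLevel ι hι hcent hcomm hcop hH, hcardHom]
  have : ψ ∈ Θ.range := by rw [hsurj]; trivial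
  obtain ⟨g, hg⟩ := this
  exact ⟨g, fun h => by rw [← hΘ, hg]⟩

end thetaLevel

end Groth.Agent.Lib.Helper87
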