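import Mathlib

set_option autoImplicit false

namespace Groth.Agent.Lib.Helper87

open Module.End Polynomial

section jointEigen

variable {k : Type*} [Field k] {W : Type*} [AddCommGroup W] [Module k W]
  {G : Type*} [Group G] (σ : G →* Module.End k W)

/-- Joint eigenspace of a family of operators indexed by a group. -/
noncomputable def jointEigen (χ : G → k) : Submodule k W :=
  ⨅ g : G, Module.End.eigenspace (σ g) (χ g)

lemma mem_jointEigen {χ : G → k} {w : W} :
    w ∈ jointEigen σ χ ↔ ∀ g : G, σ g w = χ g • w := by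
  unfold jointEigen
  rw [Submodule.mem_iInf]
  exact forall_congr' fun g => Module.End.mem_eigenspace_iff

lemma isFinitelySemisimple_of_finite [Finite G] (hN : (Nat.card G : k) ≠ 0) (g : G) :
    (σ g).IsFinitelySemisimple := by
  apply Module.End.IsSemisimple.isFinitelySemisimple
  have hsq : Squarefree (X ^ (Nat.card G) - C (1 : k)) :=
    (separable_X_pow_sub_C (1 : k) hN one_ne_zero).squarefree
  apply Module.End.isSemisimple_of_squarefree_aeval_eq_zero hsq
  rw [map_sub, map_pow, aeval_X, aeval_C, ← map_pow, pow_card_eq_one', map_one, map_one, sub_self]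

lemma iSup_jointEigen_eq_top [IsAlgClosed k] [FiniteDimensional k W] [Finite G] (hc : ∀ a b : G, Commute (σ a) (σ b)) (hN : (Nat.card G : k) ≠ 0) :
    ⨆ χ : G → k, jointEigen σ χ = ⊤ := by
  unfold jointEigen
  calc ⨆ χ : G → k, ⨅ g : G, eigenspace (σ g) (χ g)
      = ⨆ χ : G → k, ⨅ g : G, maxGenEigenspace (σ g) (χ g) := by
        refine iSup_congr fun χ => iInf_congr fun g => ?_
        exact ((isFinitelySemisimple_of_finite σ hN g).maxGenEigenspace_eq_eigenspace (χ g)).symm
    _ = ⊤ :=
        iSup_iInf_maxGenEigenspace_eq_top_of_iSup_maxGenEigenspace_eq_top_of_commute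
          (fun g => σ g) (fun a b _ => hc a b) (fun g => iSup_maxGenEigenspace_eq_top (σ g))

lemma iSupIndep_jointEigen (hc : ∀ a b : G, Commute (σ a) (σ b)) :
    iSupIndep fun χ : G → k => jointEigen σ χ := by
  have h1 := independent_iInf_maxGenEigenspace_of_forall_mapsTo (fun g => σ g)
    (fun i j φ => mapsTo_maxGenEigenspace_of_comm (hc j i) φ)
  refine h1.mono fun χ => ?_
  unfold jointEigen
  exact iInf_mono fun g => eigenspace_le_maxGenEigenspace

lemma exists_char_of_jointEigen_ne_bot {χ : G → k} (h : jointEigen σ χ ≠ ⊥) :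
    ∃ ψ : G →* kˣ, ∀ g, ((ψ g : kˣ) : k) = χ g := by
  obtain ⟨w, hw, hw0⟩ := Submodule.exists_mem_ne_zero_of_ne_bot h
  rw [mem_jointEigen] at hw
  let f : G →* k :=
    { toFun := χ
      map_one' := by
        have h1 := hw 1
        rw [map_one, Module.End.one_apply] at h1
        have h2 : (χ 1 - 1) • w = 0 := by rw [sub_smul, one_smul, ← h1, sub_self]
        rcases smul_eq_zero.mp h2 with h3 | h3
        · exact sub_eq_zero.mp h3
        · exact absurd h3 hw0
      map_mul' := fun a b => by
        have h1 := hw (a * b)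
        rw [map_mul, Module.End.mul_apply, hw b, map_smul, hw a, smul_smul] at h1
        have h2 : (χ (a * b) - χ a * χ b) • w = 0 := by
          rw [sub_smul, ← h1, mul_comm, sub_self]
        rcases smul_eq_zero.mp h2 with h3 | h3
        · exact sub_eq_zero.mp h3
        · exact absurd h3 hw0 }
  exact ⟨f.toHomUnits, fun g => rfl⟩

end jointEigen

end Groth.Agent.Lib.Helper87
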