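import Groth.Agent.Lib.Helper87.ThetaRep3
import Groth.Agent.Lib.Helper87.ThetaRep4
import Mathlib

set_option autoImplicit false

namespace Groth.Agent.Lib.Helper87

open scoped commutatorElement

section thetaRep

universe u v

variable {k : Type u} [Field k] [IsAlgClosed k] {Γ : Type u} [Group Γ] (ι : kˣ →* Γ)
  (hι : Function.Injective ι) (hcent : ι.range = Subgroup.center Γ)
  (hcomm : commutator Γ ≤ ι.range)

include hι hcent in
lemma cpair_mul_right (a b c : Γ) :
    cpair ι hcomm a (b * c) = cpair ι hcomm a b * cpair ι hcomm a c :=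
  map_mul (cpairHom ι hι hcent hcomm a) b c

include hι hcent in
lemma cpair_inv_right (a b : Γ) :
    cpair ι hcomm a b⁻¹ = (cpair ι hcomm a b)⁻¹ :=
  map_inv (cpairHom ι hι hcent hcomm a) b

include hι in
lemma cpair_eq_one_of_mem_centralizer {H : Subgroup Γ} {c : Γ}
    (hc : c ∈ Subgroup.centralizer (H : Set Γ)) {h : Γ} (hh : h ∈ H) :
    cpair ι hcomm h c = 1 := by
  rw [cpair_eq_one_iff ι hι hcomm]
  exact Subgroup.mem_centralizer_iff_commutator_eq_one.mp hc h hh

variable {W : Type v} [AddCommGroup W] [Module k W] (ρ : Representation k Γ W)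
  (hw : ∀ (z : kˣ) (w : W), ρ (ι z) w = (z : k) • w)

include hw in
omit [IsAlgClosed k] in
lemma rho_twist (a b : Γ) (w : W) :
    ρ a (ρ b w) = ((cpair ι hcomm a b : kˣ) : k) • ρ b (ρ a w) := by
  have h1 : a * b = ι (cpair ι hcomm a b) * (b * a) := by
    rw [cpair_spec, commutatorElement_def]; group
  rw [← Module.End.mul_apply, ← map_mul, h1, map_mul, Module.End.mul_apply, hw, map_mul,
    Module.End.mul_apply]

omit [IsAlgClosed k] in
lemma rho_injective (g : Γ) : Function.Injective (ρ g) := by
  apply Function.LeftInverse.injective (g := ρ g⁻¹)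
  intro w
  rw [← Module.End.mul_apply, ← map_mul, inv_mul_cancel, map_one, Module.End.one_apply]

include hι hcent hcomm hw in
/-- The decomposition of a weight-one representation under a maximal level subgroup. -/
theorem finrank_eq_card_mul_jointEigen [FiniteDimensional k W] [Finite (Γ ⧸ ι.range)]
    (hcop : (Nat.card (Γ ⧸ ι.range)).Coprime (ringExpChar k))
    {H : Subgroup Γ} (hH : H ⊓ ι.range = ⊥)
    (hmax : ∀ H' : Subgroup Γ, H' ⊓ ι.range = ⊥ → H ≤ H' → H' = H) :
    Module.finrank k W =
      Nat.card H * Module.finrank k (jointEigen (ρ.comp H.subtype) (fun _ => (1 : k))) := by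
  classical
  set σ : H →* Module.End k W := ρ.comp H.subtype with hσ
  have hσa : ∀ (h : H) (w : W), σ h w = ρ (h : Γ) w := fun h w => rfl
  have hfinH : Finite H := level_finite ι hH
  have hc : ∀ a b : H, Commute (σ a) (σ b) := by
    intro a b
    show σ a * σ b = σ b * σ a
    rw [← map_mul, ← map_mul]
    congr 1
    exact Subtype.ext (level_mul_comm ι hcomm hH a.2 b.2)
  have hN : (Nat.card H : k) ≠ 0 := card_maxLevel_ne_zero ι hι hcent hcomm hcop hH hmax
  have htop := iSup_jointEigen_eq_top σ hc hN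
  have hind := iSupIndep_jointEigen σ hc
  let χ : Γ → (H → k) := fun g h => ((cpair ι hcomm (h : Γ) g : kˣ) : k)
  have htw : ∀ (g : Γ) (φ : H → k),
      (jointEigen σ φ).map (ρ g) ≤ jointEigen σ (fun h => χ g h * φ h) := by
    rintro g φ _ ⟨w, hw', rfl⟩
    rw [SetLike.mem_coe, mem_jointEigen] at hw'
    rw [mem_jointEigen]
    intro h
    have := hw' h
    rw [hσa] at this
    rw [hσa, rho_twist ι hcomm ρ hw, this, map_smul, smul_smul]
  have hχinv : ∀ (g : Γ) (h : H), χ g h * χ g⁻¹ h = 1 := by
    intro g h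
    show ((cpair ι hcomm (h : Γ) g : kˣ) : k) * ((cpair ι hcomm (h : Γ) g⁻¹ : kˣ) : k) = 1
    rw [cpair_inv_right ι hι hcent hcomm, ← Units.val_mul, mul_inv_cancel, Units.val_one]
  have hmapeq : ∀ g : Γ, (jointEigen σ (fun _ => (1 : k))).map (ρ g) = jointEigen σ (χ g) := by
    intro g
    apply le_antisymm
    · refine (htw g _).trans (le_of_eq ?_)
      congr 1
      funext h
      rw [mul_one]
    · intro w hw'
      have h1 : ρ g⁻¹ w ∈ jointEigen σ (fun h => χ g⁻¹ h * χ g h) :=
        htw g⁻¹ (χ g) ⟨w, hw', rfl⟩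
      have h2 : (fun h => χ g⁻¹ h * χ g h) = fun _ => (1 : k) := by
        funext h
        rw [mul_comm]
        exact hχinv g h
      rw [h2] at h1
      refine ⟨ρ g⁻¹ w, h1, ?_⟩
      rw [← Module.End.mul_apply, ← map_mul, mul_inv_cancel, map_one, Module.End.one_apply]
  have hfr : ∀ g : Γ, Module.finrank k (jointEigen σ (χ g)) =
      Module.finrank k (jointEigen σ (fun _ => (1 : k))) := by
    intro g
    rw [← hmapeq g]
    exact (LinearEquiv.finrank_eq
      (Submodule.equivMapOfInjective (ρ g) (rho_injective ρ g) _)).symm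
  set C : Subgroup Γ := Subgroup.centralizer (H : Set Γ) with hC
  have hχC : ∀ (g c : Γ), c ∈ C → χ (g * c) = χ g := by
    intro g c hc'
    funext h
    show ((cpair ι hcomm (h : Γ) (g * c) : kˣ) : k) = ((cpair ι hcomm (h : Γ) g : kˣ) : k)
    rw [cpair_mul_right ι hι hcent hcomm, cpair_eq_one_of_mem_centralizer ι hι hcomm hc' h.2,
      mul_one]
  have hχout : ∀ g : Γ, χ (Quotient.out (QuotientGroup.mk g : Γ ⧸ C)) = χ g := by
    intro g
    obtain ⟨c, hc'⟩ := QuotientGroup.mk_out_eq_mul C g
    rw [hc']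
    exact hχC g c c.2
  have hinj : Function.Injective (fun i : Γ ⧸ C => χ (Quotient.out i)) := by
    intro i j hij
    have h1 : (Quotient.out i)⁻¹ * Quotient.out j ∈ C := by
      refine Subgroup.mem_centralizer_iff_commutator_eq_one.mpr ?_
      intro h hh
      rw [← cpair_eq_one_iff ι hι hcomm, cpair_mul_right ι hι hcent hcomm,
        cpair_inv_right ι hι hcent hcomm, inv_mul_eq_one]
      have := congrFun hij ⟨h, hh⟩
      exact Units.ext this
    rw [← QuotientGroup.out_eq' i, ← QuotientGroup.out_eq' j]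
    exact QuotientGroup.eq.mpr h1
  have hspan : ⨆ i : Γ ⧸ C, jointEigen σ (χ (Quotient.out i)) = ⊤ := by
    rw [eq_top_iff, ← htop]
    refine iSup_le fun φ => ?_
    by_cases hφ : jointEigen σ φ = ⊥
    · rw [hφ]; exact bot_le
    · obtain ⟨ψ, hψ⟩ := exists_char_of_jointEigen_ne_bot σ hφ
      obtain ⟨g, hg⟩ := exists_cpair_eq ι hι hcent hcomm hcop hH hmax ψ
      have h1 : φ = χ g := by
        funext h
        rw [← hψ h, ← hg h]
      rw [h1, ← hχout g]
      exact le_iSup (fun i : Γ ⧸ C => jointEigen σ (χ (Quotient.out i))) (QuotientGroup.mk g)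
  have hind' : iSupIndep (fun i : Γ ⧸ C => jointEigen σ (χ (Quotient.out i))) :=
    hind.comp hinj
  have hint := DirectSum.isInternal_submodule_of_iSupIndep_of_iSup_eq_top hind' hspan
  have hfinQ : Finite (Γ ⧸ C) := by
    have h0 : ι.range.FiniteIndex := Subgroup.finiteIndex_of_finite_quotient
    have : C.FiniteIndex :=
      Subgroup.finiteIndex_of_le (H := ι.range) (range_le_centralizer ι hcent _)
    infer_instance
  haveI : Fintype (Γ ⧸ C) := Fintype.ofFinite _
  have e := LinearEquiv.ofBijective (DirectSum.coeLinearMap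
    (fun i : Γ ⧸ C => jointEigen σ (χ (Quotient.out i)))) hint
  rw [← e.finrank_eq, Module.finrank_directSum]
  simp only [hfr, Finset.sum_const, Finset.card_univ, smul_eq_mul]
  rw [← Nat.card_eq_fintype_card, ← Subgroup.index_eq_card,
    index_centralizer_maxLevel ι hι hcent hcomm hcop hH]

end thetaRep

end Groth.Agent.Lib.Helper87
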