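import Groth.Agent.Lib.Helper87.ThetaRep5
import Mathlib

set_option autoImplicit false

namespace Groth.Agent.Lib.Helper87

open scoped commutatorElement

section thetaRep

universe u v v'

variable {k : Type u} [Field k] [IsAlgClosed k] {Γ : Type u} [Group Γ] (ι : kˣ →* Γ)
  (hι : Function.Injective ι) (hcent : ι.range = Subgroup.center Γ)
  (hcomm : commutator Γ ≤ ι.range)

include hcent hcomm in
/-- Every element is a coset representative times an element of `H` times a scalar. -/
lemma exists_out_decomp [Finite (Γ ⧸ ι.range)] {H : Subgroup Γ} (hH : H ⊓ ι.range = ⊥)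
    (hmax : ∀ H' : Subgroup Γ, H' ⊓ ι.range = ⊥ → H ≤ H' → H' = H) (g : Γ) :
    ∃ h ∈ H, ∃ z : kˣ,
      g = Quotient.out (QuotientGroup.mk g : Γ ⧸ Subgroup.centralizer (H : Set Γ)) * (h * ι z) := by
  have hZn : ι.range.Normal := normal_of_range_le ι hcomm le_rfl
  obtain ⟨c, hc⟩ := QuotientGroup.mk_out_eq_mul (Subgroup.centralizer (H : Set Γ)) g
  have h1 : ((c : Γ))⁻¹ ∈ H ⊔ ι.range := by
    rw [← centralizer_maxLevel ι hcent hcomm hH hmax]
    exact Subgroup.inv_mem _ c.2
  rw [← SetLike.mem_coe, Subgroup.mul_normal, Set.mem_mul] at h1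
  obtain ⟨h, hh, n, ⟨z, rfl⟩, hn⟩ := h1
  refine ⟨h, hh, z, ?_⟩
  rw [hc, hn]
  group

variable {W : Type v} [AddCommGroup W] [Module k W] (ρ : Representation k Γ W)
  (hw : ∀ (z : kˣ) (w : W), ρ (ι z) w = (z : k) • w)

include hw in
omit [IsAlgClosed k] in
lemma rho_decomp_apply {H : Subgroup Γ} {v : W} (hv : ∀ h ∈ H, ρ h v = v)
    {g g₀ h : Γ} (hh : h ∈ H) {z : kˣ} (hg : g = g₀ * (h * ι z)) :
    ρ g v = (z : k) • ρ g₀ v := by
  rw [hg, map_mul, Module.End.mul_apply, map_mul, Module.End.mul_apply, hw, map_smul, hv h hh,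
    map_smul]

/-- The subrepresentation generated by a vector. -/
def cyc (v : W) : Subrepresentation ρ where
  toSubmodule := Submodule.span k (Set.range fun g : Γ => ρ g v)
  apply_mem_toSubmodule g w hw' := by
    induction hw' using Submodule.span_induction with
    | mem x hx =>
      obtain ⟨g', rfl⟩ := hx
      apply Submodule.subset_span
      exact ⟨g * g', by simp [map_mul]⟩
    | zero => simp
    | add x y _ _ hx hy => rw [map_add]; exact add_mem hx hy
    | smul a x _ hx => rw [map_smul]; exact Submodule.smul_mem _ _ hx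

omit [IsAlgClosed k] in
lemma mem_cyc_self (v : W) : v ∈ (cyc ρ v).toSubmodule := by
  apply Submodule.subset_span
  exact ⟨1, by simp⟩

include hcent hcomm hw in
lemma cyc_le_span_out [Finite (Γ ⧸ ι.range)] {H : Subgroup Γ} (hH : H ⊓ ι.range = ⊥)
    (hmax : ∀ H' : Subgroup Γ, H' ⊓ ι.range = ⊥ → H ≤ H' → H' = H)
    {v : W} (hv : ∀ h ∈ H, ρ h v = v) :
    (cyc ρ v).toSubmodule ≤ Submodule.span k
      (Set.range fun i : Γ ⧸ Subgroup.centralizer (H : Set Γ) => ρ (Quotient.out i) v) := by
  apply Submodule.span_le.mpr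
  rintro _ ⟨g, rfl⟩
  obtain ⟨h, hh, z, hg⟩ := exists_out_decomp ι hcent hcomm hH hmax g
  show ρ g v ∈ _
  rw [rho_decomp_apply ι ρ hw hv hh hg]
  exact Submodule.smul_mem _ _ (Submodule.subset_span ⟨_, rfl⟩)

include hι hcent hcomm in
lemma card_quot_centralizer [Finite (Γ ⧸ ι.range)]
    (hcop : (Nat.card (Γ ⧸ ι.range)).Coprime (ringExpChar k))
    {H : Subgroup Γ} (hH : H ⊓ ι.range = ⊥)
    [Fintype (Γ ⧸ Subgroup.centralizer (H : Set Γ))] :
    Fintype.card (Γ ⧸ Subgroup.centralizer (H : Set Γ)) = Nat.card H := by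
  rw [← Nat.card_eq_fintype_card, ← Subgroup.index_eq_card,
    index_centralizer_maxLevel ι hι hcent hcomm hcop hH]

include hcent in
lemma finite_quot_centralizer [Finite (Γ ⧸ ι.range)] (H : Subgroup Γ) :
    Finite (Γ ⧸ Subgroup.centralizer (H : Set Γ)) := by
  have h0 : ι.range.FiniteIndex := Subgroup.finiteIndex_of_finite_quotient
  have : (Subgroup.centralizer (H : Set Γ)).FiniteIndex :=
    Subgroup.finiteIndex_of_le (H := ι.range) (range_le_centralizer ι hcent _)
  infer_instance

omit [IsAlgClosed k] in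
lemma mem_jointEigen_one_iff {H : Subgroup Γ} {v : W} :
    v ∈ jointEigen (ρ.comp H.subtype) (fun _ => (1 : k)) ↔ ∀ h ∈ H, ρ h v = v := by
  rw [mem_jointEigen]
  constructor
  · intro hv h hh
    have := hv ⟨h, hh⟩
    rwa [one_smul] at this
  · intro hv h
    rw [one_smul]
    exact hv h h.2

include hι hcent hcomm hw in
/-- Data attached to an irreducible weight-one representation. -/
theorem irred_data [FiniteDimensional k W] [Finite (Γ ⧸ ι.range)]
    (hcop : (Nat.card (Γ ⧸ ι.range)).Coprime (ringExpChar k))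
    {H : Subgroup Γ} (hH : H ⊓ ι.range = ⊥)
    (hmax : ∀ H' : Subgroup Γ, H' ⊓ ι.range = ⊥ → H ≤ H' → H' = H)
    (hirr : Representation.IsIrreducible ρ) :
    Module.finrank k W = Nat.card H ∧
    Module.finrank k (jointEigen (ρ.comp H.subtype) (fun _ => (1 : k))) = 1 ∧
    ∀ v : W, v ≠ 0 → (∀ h ∈ H, ρ h v = v) →
      ⊤ ≤ Submodule.span k
        (Set.range fun i : Γ ⧸ Subgroup.centralizer (H : Set Γ) => ρ (Quotient.out i) v) := by
  have hfinH : Finite H := level_finite ι hH
  have hT1 := finrank_eq_card_mul_jointEigen ι hι hcent hcomm ρ hw hcop hH hmax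
  have hspan : ∀ v : W, v ≠ 0 → (∀ h ∈ H, ρ h v = v) →
      ⊤ ≤ Submodule.span k
        (Set.range fun i : Γ ⧸ Subgroup.centralizer (H : Set Γ) => ρ (Quotient.out i) v) := by
    intro v hv0 hv
    have h1 : cyc ρ v = ⊤ := by
      rcases hirr.eq_bot_or_eq_top (cyc ρ v) with h | h
      · exfalso
        have h2 : v ∈ (cyc ρ v).toSubmodule := mem_cyc_self ρ v
        rw [h] at h2
        exact hv0 ((Submodule.mem_bot k).mp h2)
      · exact h
    have h2 := cyc_le_span_out ι hcent hcomm ρ hw hH hmax hv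
    rw [h1] at h2
    exact h2
  have hnt : Nontrivial W := by
    by_contra hnt
    rw [not_nontrivial_iff_subsingleton] at hnt
    have h1 : (⊥ : Subrepresentation ρ) = ⊤ := by
      apply Subrepresentation.toSubmodule_injective
      exact Subsingleton.elim _ _
    exact (bot_ne_top (α := Subrepresentation ρ)) h1
  have hpos : 0 < Module.finrank k W := Module.finrank_pos
  have hd0 : Module.finrank k (jointEigen (ρ.comp H.subtype) (fun _ => (1 : k))) ≠ 0 := by
    intro h0
    rw [h0, mul_zero] at hT1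
    omega
  have hdpos : 0 < Module.finrank k (jointEigen (ρ.comp H.subtype) (fun _ => (1 : k))) :=
    Nat.pos_of_ne_zero hd0
  obtain ⟨⟨v, hv⟩, hv0⟩ := Module.finrank_pos_iff_exists_ne_zero.mp hdpos
  have hv0' : v ≠ 0 := fun h => hv0 (Subtype.ext h)
  have hv' := (mem_jointEigen_one_iff ρ).mp hv
  have hfinQ := finite_quot_centralizer ι hcent H
  haveI : Fintype (Γ ⧸ Subgroup.centralizer (H : Set Γ)) := Fintype.ofFinite _
  have hle : Module.finrank k W ≤ Nat.card H := by
    have h1 := finrank_range_le_card (R := k)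
      (fun i : Γ ⧸ Subgroup.centralizer (H : Set Γ) => ρ (Quotient.out i) v)
    rw [card_quot_centralizer ι hι hcent hcomm hcop hH] at h1
    have h2 := hspan v hv0' hv'
    rw [Set.finrank, top_le_iff.mp h2, finrank_top] at h1
    exact h1
  have hcardpos : 0 < Nat.card H := Nat.card_pos
  have hd1 : Module.finrank k (jointEigen (ρ.comp H.subtype) (fun _ => (1 : k))) = 1 := by
    rw [hT1] at hle
    by_contra hne
    have h2 : 2 ≤ Module.finrank k (jointEigen (ρ.comp H.subtype) (fun _ => (1 : k))) := by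
      omega
    have h3 : Nat.card H * 2 ≤ Nat.card H := le_trans (Nat.mul_le_mul_left _ h2) hle
    omega
  refine ⟨by rw [hT1, hd1, mul_one], hd1, hspan⟩

end thetaRep

end Groth.Agent.Lib.Helper87
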