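import Groth.Agent.Lib.Helper87.ThetaRep6
import Mathlib

set_option autoImplicit false

namespace Groth.Agent.Lib.Helper87

open scoped commutatorElement

section thetaRep

universe u v v'

variable {k : Type u} [Field k] [IsAlgClosed k] {Γ : Type u} [Group Γ] (ι : kˣ →* Γ)
  (hι : Function.Injective ι) (hcent : ι.range = Subgroup.center Γ)
  (hcomm : commutator Γ ≤ ι.range)

variable {V : Type v} [AddCommGroup V] [Module k V] (ρ : Representation k Γ V)
  (hw : ∀ (z : kˣ) (w : V), ρ (ι z) w = (z : k) • w)
  {V' : Type v'} [AddCommGroup V'] [Module k V'] (ρ' : Representation k Γ V')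
  (hw' : ∀ (z : kˣ) (w : V'), ρ' (ι z) w = (z : k) • w)

include hι hcent hcomm hw hw' in
/-- Uniqueness of the irreducible weight-one representation. -/
theorem irreducible_equiv [FiniteDimensional k V] [FiniteDimensional k V'] [Finite (Γ ⧸ ι.range)]
    (hcop : (Nat.card (Γ ⧸ ι.range)).Coprime (ringExpChar k))
    (hirr : Representation.IsIrreducible ρ) (hirr' : Representation.IsIrreducible ρ') :
    Nonempty (Representation.Equiv ρ ρ') := by
  obtain ⟨H, hH, hmax⟩ := exists_maxLevel ι
  obtain ⟨hfr, hd1, hspan⟩ := irred_data ι hι hcent hcomm ρ hw hcop hH hmax hirr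
  obtain ⟨hfr', hd1', hspan'⟩ := irred_data ι hι hcent hcomm ρ' hw' hcop hH hmax hirr'
  have hpos : 0 < Module.finrank k (jointEigen (ρ.comp H.subtype) (fun _ => (1 : k))) := by
    rw [hd1]; exact Nat.one_pos
  have hpos' : 0 < Module.finrank k (jointEigen (ρ'.comp H.subtype) (fun _ => (1 : k))) := by
    rw [hd1']; exact Nat.one_pos
  obtain ⟨⟨v, hv⟩, hv0⟩ := Module.finrank_pos_iff_exists_ne_zero.mp hpos
  obtain ⟨⟨v', hv'⟩, hv0'⟩ := Module.finrank_pos_iff_exists_ne_zero.mp hpos'
  have hvne : v ≠ 0 := fun h => hv0 (Subtype.ext h)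
  have hvne' : v' ≠ 0 := fun h => hv0' (Subtype.ext h)
  have hvinv := (mem_jointEigen_one_iff ρ).mp hv
  have hvinv' := (mem_jointEigen_one_iff ρ').mp hv'
  have hfinQ := finite_quot_centralizer ι hcent H
  haveI : Fintype (Γ ⧸ Subgroup.centralizer (H : Set Γ)) := Fintype.ofFinite _
  have hcard : Fintype.card (Γ ⧸ Subgroup.centralizer (H : Set Γ)) = Module.finrank k V := by
    rw [card_quot_centralizer ι hι hcent hcomm hcop hH, hfr]
  let b : Module.Basis (Γ ⧸ Subgroup.centralizer (H : Set Γ)) k V :=
    basisOfTopLeSpanOfCardEqFinrank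
      (fun i : Γ ⧸ Subgroup.centralizer (H : Set Γ) => ρ (Quotient.out i) v)
      (hspan v hvne hvinv) hcard
  have hb : ∀ i, b i = ρ (Quotient.out i) v := by
    intro i
    show (basisOfTopLeSpanOfCardEqFinrank _ _ _) i = _
    rw [coe_basisOfTopLeSpanOfCardEqFinrank]
  let T : V →ₗ[k] V' := b.constr k (fun i => ρ' (Quotient.out i) v')
  have hTb : ∀ i, T (b i) = ρ' (Quotient.out i) v' := fun i => b.constr_basis k _ i
  have hT : ∀ g : Γ, T (ρ g v) = ρ' g v' := by
    intro g
    obtain ⟨h, hh, z, hg⟩ := exists_out_decomp ι hcent hcomm hH hmax g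
    rw [rho_decomp_apply ι ρ hw hvinv hh hg, rho_decomp_apply ι ρ' hw' hvinv' hh hg, map_smul,
      ← hb, hTb]
  let f : Representation.IntertwiningMap ρ ρ' :=
    { toLinearMap := T
      isIntertwining' := by
        intro g
        apply b.ext
        intro i
        rw [LinearMap.comp_apply, LinearMap.comp_apply, hTb, hb, ← Module.End.mul_apply,
          ← map_mul, hT, map_mul, Module.End.mul_apply] }
  have hfv : f v = v' := by
    have := hT 1
    rw [map_one, map_one, Module.End.one_apply, Module.End.one_apply] at this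
    exact this
  haveI := hirr
  haveI := hirr'
  rcases Representation.IsIrreducible.bijective_or_eq_zero f with hbij | h0
  · exact ⟨f.ofBijective hbij⟩
  · exfalso
    rw [h0] at hfv
    exact hvne' hfv.symm

end thetaRep

end Groth.Agent.Lib.Helper87
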