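import Groth.Agent.Lib.Helper87.ThetaRep6
import Mathlib

set_option autoImplicit false

namespace Groth.Agent.Lib.Helper87

open scoped commutatorElement

section thetaRep

universe u v

variable {k : Type u} [Field k] [IsAlgClosed k] {Γ : Type u} [Group Γ] (ι : kˣ →* Γ)
  (hι : Function.Injective ι) (hcent : ι.range = Subgroup.center Γ)
  (hcomm : commutator Γ ≤ ι.range)

variable {W : Type v} [AddCommGroup W] [Module k W] (ρ : Representation k Γ W)
  (hw : ∀ (z : kˣ) (w : W), ρ (ι z) w = (z : k) • w)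

include hι hcent hcomm hw in
/-- A nonzero weight-one representation of dimension at most `|H|` is irreducible. -/
theorem irreducible_of_finrank_le [FiniteDimensional k W] [Nontrivial W] [Finite (Γ ⧸ ι.range)]
    (hcop : (Nat.card (Γ ⧸ ι.range)).Coprime (ringExpChar k))
    {H : Subgroup Γ} (hH : H ⊓ ι.range = ⊥)
    (hmax : ∀ H' : Subgroup Γ, H' ⊓ ι.range = ⊥ → H ≤ H' → H' = H)
    (hle : Module.finrank k W ≤ Nat.card H) : Representation.IsIrreducible ρ := by
  have hfinH : Finite H := level_finite ι hH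
  refine { toNontrivial := ?_, eq_bot_or_eq_top := ?_ }
  · refine ⟨⊥, ⊤, fun h => ?_⟩
    have h1 : (⊥ : Submodule k W) = ⊤ := congrArg Subrepresentation.toSubmodule h
    exact bot_ne_top h1
  · intro σ'
    have hw'' : ∀ (z : kˣ) (w : σ'.toSubmodule), σ'.toRepresentation (ι z) w = (z : k) • w := by
      intro z w
      apply Subtype.ext
      exact hw z w
    have hT1 := finrank_eq_card_mul_jointEigen ι hι hcent hcomm σ'.toRepresentation hw'' hcop hH
      hmax
    by_cases hd : Module.finrank k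
        (jointEigen (σ'.toRepresentation.comp H.subtype) (fun _ => (1 : k))) = 0
    · left
      rw [hd, mul_zero] at hT1
      apply Subrepresentation.toSubmodule_injective
      exact Submodule.finrank_eq_zero.mp hT1
    · right
      have h1 : Nat.card H ≤ Module.finrank k σ'.toSubmodule := by
        rw [hT1]
        exact Nat.le_mul_of_pos_right _ (Nat.pos_of_ne_zero hd)
      have h2 : Module.finrank k σ'.toSubmodule ≤ Module.finrank k W := Submodule.finrank_le _
      apply Subrepresentation.toSubmodule_injective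
      exact Submodule.eq_top_of_finrank_eq (le_antisymm h2 (hle.trans h1))

end thetaRep

section construction

universe u

variable {k : Type u} [Field k] {Γ : Type u} [Group Γ] (ι : kˣ →* Γ)

/-- Left translation on functions. -/
def leftTrans (k : Type u) [Field k] (Γ : Type u) [Group Γ] : Representation k Γ (Γ → k) where
  toFun g :=
    { toFun := fun f x => f (g⁻¹ * x)
      map_add' := fun _ _ => rfl
      map_smul' := fun _ _ => rfl }
  map_one' := by
    ext f x
    simp
  map_mul' a b := by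
    ext f x
    simp [mul_assoc]

@[simp] lemma leftTrans_apply (g : Γ) (f : Γ → k) (x : Γ) :
    leftTrans k Γ g f x = f (g⁻¹ * x) := rfl

/-- Functions of weight one under right translation by scalars. -/
def wtFun : Subrepresentation (leftTrans k Γ) where
  toSubmodule :=
    { carrier := {f | ∀ (g : Γ) (z : kˣ), f (g * ι z) = ((z⁻¹ : kˣ) : k) * f g}
      zero_mem' := fun g z => by simp
      add_mem' := fun {a b} ha hb g z => by
        show a (g * ι z) + b (g * ι z) = _ * (a g + b g)
        rw [ha g z, hb g z, mul_add]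
      smul_mem' := fun c a ha g z => by
        show c * a (g * ι z) = _ * (c * a g)
        rw [ha g z]; ring }
  apply_mem_toSubmodule g f hf := fun x z => by
    show f (g⁻¹ * (x * ι z)) = _ * f (g⁻¹ * x)
    rw [← mul_assoc]
    exact hf _ z

lemma mem_wtFun {f : Γ → k} :
    f ∈ (wtFun ι).toSubmodule ↔ ∀ (g : Γ) (z : kˣ), f (g * ι z) = ((z⁻¹ : kˣ) : k) * f g :=
  Iff.rfl

variable (hι : Function.Injective ι) (hcent : ι.range = Subgroup.center Γ)

include hcent in
lemma wtFun_weight (z : kˣ) (f : (wtFun ι).toSubmodule) :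
    (wtFun ι).toRepresentation (ι z) f = (z : k) • f := by
  apply Subtype.ext
  funext x
  show (f : Γ → k) ((ι z)⁻¹ * x) = (z : k) * (f : Γ → k) x
  have h1 : (ι z)⁻¹ ∈ Subgroup.center Γ := by
    rw [← hcent]; exact ⟨z⁻¹, map_inv ι z⟩
  rw [← (Subgroup.mem_center_iff.mp h1 x), ← map_inv, (mem_wtFun ι).mp f.2 x z⁻¹, inv_inv]

lemma wtFun_finite [Finite (Γ ⧸ ι.range)] : Module.Finite k (wtFun (k := k) ι).toSubmodule := by
  let L : (wtFun (k := k) ι).toSubmodule →ₗ[k] ((Γ ⧸ ι.range) → k) :=
    { toFun := fun f i => (f : Γ → k) (Quotient.out i)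
      map_add' := fun _ _ => rfl
      map_smul' := fun _ _ => rfl }
  apply Module.Finite.of_injective L
  rw [← LinearMap.ker_eq_bot, LinearMap.ker_eq_bot']
  intro f hf
  apply Subtype.ext
  funext g
  obtain ⟨⟨_, z, rfl⟩, hc⟩ := QuotientGroup.mk_out_eq_mul ι.range g
  have h1 : (f : Γ → k) (Quotient.out (QuotientGroup.mk g : Γ ⧸ ι.range)) = 0 :=
    congrFun hf (QuotientGroup.mk g)
  rw [hc] at h1
  simp only at h1
  rw [(mem_wtFun ι).mp f.2 g z] at h1
  rcases mul_eq_zero.mp h1 with h2 | h2
  · exact absurd h2 (Units.ne_zero _)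
  · exact h2

include hι in
lemma wtFun_nontrivial : Nontrivial (wtFun (k := k) ι).toSubmodule := by
  classical
  let e := MonoidHom.ofInjective hι
  let f₀ : Γ → k := fun x => if hx : x ∈ ι.range then (((e.symm ⟨x, hx⟩)⁻¹ : kˣ) : k) else 0
  have hf₀ : f₀ ∈ (wtFun (k := k) ι).toSubmodule := by
    intro g z
    by_cases hg : g ∈ ι.range
    · have hgz : g * ι z ∈ ι.range := ι.range.mul_mem hg ⟨z, rfl⟩
      show (if hx : g * ι z ∈ ι.range then (((e.symm ⟨g * ι z, hx⟩)⁻¹ : kˣ) : k) else 0) =
        _ * (if hx : g ∈ ι.range then (((e.symm ⟨g, hx⟩)⁻¹ : kˣ) : k) else 0)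
      rw [dif_pos hgz, dif_pos hg, ← Units.val_mul]
      congr 1
      have h1 : (⟨g * ι z, hgz⟩ : ι.range) = ⟨g, hg⟩ * e z := Subtype.ext rfl
      rw [h1, map_mul, MulEquiv.symm_apply_apply, mul_inv_rev]
    · have hgz : g * ι z ∉ ι.range := by
        intro h
        apply hg
        have : g = g * ι z * (ι z)⁻¹ := by group
        rw [this]
        exact ι.range.mul_mem h (ι.range.inv_mem ⟨z, rfl⟩)
      show (if hx : g * ι z ∈ ι.range then (((e.symm ⟨g * ι z, hx⟩)⁻¹ : kˣ) : k) else 0) =
        _ * (if hx : g ∈ ι.range then (((e.symm ⟨g, hx⟩)⁻¹ : kˣ) : k) else 0)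
      rw [dif_neg hgz, dif_neg hg, mul_zero]
  refine ⟨⟨f₀, hf₀⟩, 0, fun h => ?_⟩
  have h1 : f₀ 1 = 0 := congrFun (congrArg Subtype.val h) 1
  have h2 : f₀ 1 = (((e.symm ⟨1, ι.range.one_mem⟩)⁻¹ : kˣ) : k) := dif_pos ι.range.one_mem
  rw [h2] at h1
  exact (Units.ne_zero _) h1

end construction

end Groth.Agent.Lib.Helper87
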