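import Groth.Agent.Lib.Helper87.ThetaRep7
import Groth.Agent.Lib.Helper87.ThetaRep8
import Mathlib

set_option autoImplicit false

namespace Groth.Agent.Lib.Helper87

open scoped commutatorElement

section thetaRep

universe u v

variable {k : Type u} [Field k] [IsAlgClosed k] {Γ : Type u} [Group Γ] (ι : kˣ →* Γ)
  (hι : Function.Injective ι) (hcent : ι.range = Subgroup.center Γ)
  (hcomm : commutator Γ ≤ ι.range)

include hι hcent hcomm in
/-- Existence of an irreducible weight-one representation. -/
theorem exists_irreducible [Finite (Γ ⧸ ι.range)]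
    (hcop : (Nat.card (Γ ⧸ ι.range)).Coprime (ringExpChar k)) :
    ∃ (V : Type u) (_ : AddCommGroup V) (_ : Module k V) (_ : Module.Finite k V)
      (ρ : Representation k Γ V),
      Representation.IsIrreducible ρ ∧ ∀ (z : kˣ) (v : V), ρ (ι z) v = (z : k) • v := by
  obtain ⟨H, hH, hmax⟩ := exists_maxLevel ι
  have hfinH : Finite H := level_finite ι hH
  have hfinF : Module.Finite k (wtFun (k := k) ι).toSubmodule := wtFun_finite ι
  have hntF : Nontrivial (wtFun (k := k) ι).toSubmodule := wtFun_nontrivial ι hι
  have hwF := wtFun_weight (k := k) ι hcent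
  have hT1 := finrank_eq_card_mul_jointEigen ι hι hcent hcomm (wtFun (k := k) ι).toRepresentation
    hwF hcop hH hmax
  have hpos : 0 < Module.finrank k (wtFun (k := k) ι).toSubmodule := Module.finrank_pos
  have hdpos : 0 < Module.finrank k
      (jointEigen ((wtFun (k := k) ι).toRepresentation.comp H.subtype) (fun _ => (1 : k))) := by
    apply Nat.pos_of_ne_zero
    intro h0
    rw [h0, mul_zero] at hT1
    omega
  have hne : jointEigen ((wtFun (k := k) ι).toRepresentation.comp H.subtype)
      (fun _ => (1 : k)) ≠ ⊥ := by
    intro h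
    rw [h, finrank_bot] at hdpos
    omega
  obtain ⟨v, hv, hvne⟩ := Submodule.exists_mem_ne_zero_of_ne_bot hne
  have hvinv := (mem_jointEigen_one_iff (wtFun (k := k) ι).toRepresentation).mp hv
  set U := cyc (wtFun (k := k) ι).toRepresentation v with hU
  have hwU : ∀ (z : kˣ) (w : U.toSubmodule), U.toRepresentation (ι z) w = (z : k) • w := by
    intro z w
    apply Subtype.ext
    exact hwF z w
  have hntU : Nontrivial U.toSubmodule := by
    refine ⟨⟨v, mem_cyc_self _ v⟩, 0, fun h => ?_⟩
    exact hvne (congrArg Subtype.val h)
  have hfinQ := finite_quot_centralizer ι hcent H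
  haveI : Fintype (Γ ⧸ Subgroup.centralizer (H : Set Γ)) := Fintype.ofFinite _
  have hle : Module.finrank k U.toSubmodule ≤ Nat.card H := by
    have h1 := finrank_range_le_card (R := k)
      (fun i : Γ ⧸ Subgroup.centralizer (H : Set Γ) =>
        (wtFun (k := k) ι).toRepresentation (Quotient.out i) v)
    rw [card_quot_centralizer ι hι hcent hcomm hcop hH] at h1
    have h2 := cyc_le_span_out ι hcent hcomm (wtFun (k := k) ι).toRepresentation hwF hH hmax hvinv
    exact (Submodule.finrank_mono h2).trans h1
  have hirr : Representation.IsIrreducible (V := U.toSubmodule) U.toRepresentation :=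
    irreducible_of_finrank_le (W := U.toSubmodule) ι hι hcent hcomm U.toRepresentation hwU hcop
      hH hmax hle
  exact ⟨U.toSubmodule, inferInstance, inferInstance, inferInstance, U.toRepresentation, hirr, hwU⟩

end thetaRep

end Groth.Agent.Lib.Helper87
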