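import Mathlib
import Groth.Prelude.Def_W4c5adicflatcomplDec
import Groth.Agent.Lib.Helper87.Decaying

/-!
Inverse limits of towers of modules with surjective transition maps (`W4c5adicflatcompl.sysLim`).
-/

set_option autoImplicit false

namespace Groth.Agent.Lib.Helper87

open W4c5adicflatcompl

universe u

variable {A : Type u} [CommRing A] (M : ℕ → Type u) [∀ n, AddCommGroup (M n)]
  [∀ n, Module A (M n)] (ψ : ∀ n, M (n + 1) →ₗ[A] M n)

lemma sysLim_compat (s : sysLim M ψ) (n : ℕ) :
    ψ n ((s : ∀ k, M k) (n + 1)) = (s : ∀ k, M k) n := s.2 n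

/-- an element of the limit vanishing at level `n` vanishes at all lower levels -/
lemma sysLim_eq_zero_of_le (s : sysLim M ψ) {k n : ℕ} (h : k ≤ n)
    (hs : (s : ∀ k, M k) n = 0) : (s : ∀ k, M k) k = 0 := by
  induction n, h using Nat.le_induction with
  | base => exact hs
  | succ n _ ih =>
    apply ih
    rw [← sysLim_compat M ψ s n, hs, map_zero]

variable {M ψ}

/-- extend a sequence compatible up to level `N` to an element of the limit -/
lemma exists_sysLim_of_compat (hψ : ∀ n, Function.Surjective (ψ n)) (N : ℕ) (s : ∀ k, M k)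
    (hs : ∀ k, k < N → ψ k (s (k + 1)) = s k) :
    ∃ s' : sysLim M ψ, ∀ k ≤ N, (s' : ∀ k, M k) k = s k := by
  classical
  choose ℓ hℓ using hψ
  let s' : ∀ k, M k := fun k =>
    Nat.rec (motive := M) (s 0) (fun k prev => if k + 1 ≤ N then s (k + 1) else ℓ k prev) k
  have hs'0 : s' 0 = s 0 := rfl
  have hs'succ : ∀ k, s' (k + 1) = if k + 1 ≤ N then s (k + 1) else ℓ k (s' k) := fun k => rfl
  have hagree : ∀ k ≤ N, s' k = s k := by
    intro k hk
    cases k with
    | zero => exact hs'0
    | succ k => rw [hs'succ, if_pos hk]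
  refine ⟨⟨s', ?_⟩, hagree⟩
  intro k
  rw [hs'succ]
  split_ifs with h
  · rw [hs k (by omega), hagree k (by omega)]
  · exact hℓ k _

/-- any element at level `n` is part of a sequence compatible up to level `n` -/
lemma exists_compat (n : ℕ) (x : M n) :
    ∃ s : ∀ k, M k, (∀ k, k < n → ψ k (s (k + 1)) = s k) ∧ s n = x := by
  classical
  induction n with
  | zero => exact ⟨Function.update (fun k => (0 : M k)) 0 x, fun k hk => absurd hk (by omega), by simp⟩
  | succ n ih =>
    obtain ⟨s, hs, hsn⟩ := ih (ψ n x)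
    refine ⟨Function.update s (n + 1) x, ?_, by simp⟩
    intro k hk
    rcases Nat.lt_succ_iff_lt_or_eq.1 hk with hlt | rfl
    · rw [Function.update_of_ne (by omega), Function.update_of_ne (by omega)]
      exact hs k hlt
    · rw [Function.update_self, Function.update_of_ne (by omega), hsn]

lemma sysProj_surjective (hψ : ∀ n, Function.Surjective (ψ n)) (n : ℕ) :
    Function.Surjective (sysProj M ψ n) := by
  intro x
  obtain ⟨s, hs, hsn⟩ := exists_compat (ψ := ψ) n x
  obtain ⟨s', hs'⟩ := exists_sysLim_of_compat hψ n s hs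
  exact ⟨s', by rw [sysProj_apply, hs' n le_rfl, hsn]⟩


lemma sysLim_ext {s s' : sysLim M ψ} (h : ∀ k, sysProj M ψ k s = sysProj M ψ k s') : s = s' := by
  apply Subtype.ext
  funext k
  exact h k

section adic

variable (J : Ideal A) (hkill : ∀ (n : ℕ) (a : A), a ∈ J ^ (n + 1) → ∀ x : M n, a • x = 0)
  (hψ : ∀ n, Function.Surjective (ψ n))
  (hker : ∀ n, LinearMap.ker (ψ n) = (J ^ (n + 1) • ⊤ : Submodule A (M (n + 1))))

include hkill in
lemma smul_top_le_ker_sysProj (n : ℕ) :
    (J ^ (n + 1) • ⊤ : Submodule A (sysLim M ψ)) ≤ LinearMap.ker (sysProj M ψ n) := by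
  rw [Submodule.smul_le]
  intro a ha s _
  rw [LinearMap.mem_ker, map_smul]
  exact hkill n a ha _

include hkill in
/-- elements of `J ^ j • ⊤` vanish at levels `< j`. -/
lemma proj_eq_zero_of_mem_smul_top {j k : ℕ} (hk : k < j) {s : sysLim M ψ}
    (hs : s ∈ (J ^ j • ⊤ : Submodule A (sysLim M ψ))) : sysProj M ψ k s = 0 := by
  obtain ⟨j', rfl⟩ : ∃ j', j = j' + 1 := ⟨j - 1, by omega⟩
  have h1 := smul_top_le_ker_sysProj J hkill j' hs
  rw [LinearMap.mem_ker, sysProj_apply] at h1
  rw [sysProj_apply]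
  exact sysLim_eq_zero_of_le M ψ s (by omega) h1

include hψ hker in
lemma ker_sysProj_le_sup (j : ℕ) :
    LinearMap.ker (sysProj M ψ j) ≤
      (J ^ (j + 1) • ⊤ : Submodule A (sysLim M ψ)) ⊔ LinearMap.ker (sysProj M ψ (j + 1)) := by
  intro s hs
  rw [LinearMap.mem_ker, sysProj_apply] at hs
  have h1 : (s : ∀ k, M k) (j + 1) ∈ LinearMap.ker (ψ j) := by
    rw [LinearMap.mem_ker, sysLim_compat, hs]
  rw [hker j] at h1
  have hmap : (J ^ (j + 1) • ⊤ : Submodule A (sysLim M ψ)).map (sysProj M ψ (j + 1)) =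
      (J ^ (j + 1) • ⊤ : Submodule A (M (j + 1))) := by
    rw [Submodule.map_smul'', Submodule.map_top,
      LinearMap.range_eq_top.2 (sysProj_surjective hψ (j + 1))]
  rw [← hmap] at h1
  obtain ⟨u, hu, hus⟩ := h1
  have : s = u + (s - u) := by abel
  rw [this]
  refine Submodule.add_mem _ (Submodule.mem_sup_left hu) (Submodule.mem_sup_right ?_)
  rw [LinearMap.mem_ker, map_sub, hus, sysProj_apply, sub_self]

include hkill hψ hker in
/-- the kernel of the projection to level `n` is `J ^ (n + 1)` times the limit -/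
lemma ker_sysProj_eq (hJ : J.FG) (n : ℕ) :
    LinearMap.ker (sysProj M ψ n) = (J ^ (n + 1) • ⊤ : Submodule A (sysLim M ψ)) := by
  classical
  apply le_antisymm _ (smul_top_le_ker_sysProj J hkill n)
  intro s hs
  obtain ⟨r, a, ha⟩ := Submodule.fg_iff_exists_fin_generating_family.1 (Ideal.FG.pow (n := n + 1) hJ)
  have ha' : Ideal.span (Set.range a) = J ^ (n + 1) := ha
  -- the step function
  have step : ∀ (j : ℕ) (x : sysLim M ψ), ∃ u : sysLim M ψ,
      x ∈ LinearMap.ker (sysProj M ψ (n + j)) →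
        u ∈ (J ^ (n + j + 1) • ⊤ : Submodule A (sysLim M ψ)) ∧
          x - u ∈ LinearMap.ker (sysProj M ψ (n + j + 1)) := by
    intro j x
    by_cases hx : x ∈ LinearMap.ker (sysProj M ψ (n + j))
    · obtain ⟨u, hu, v, hv, huv⟩ := Submodule.mem_sup.1 (ker_sysProj_le_sup J hψ hker (n + j) hx)
      refine ⟨u, fun _ => ⟨hu, ?_⟩⟩
      have : x - u = v := by rw [← huv]; abel
      rw [this]
      exact hv
    · exact ⟨0, fun h => absurd h hx⟩
  choose U hU using step
  let X : ℕ → sysLim M ψ := fun j => Nat.rec s (fun j x => x - U j x) j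
  have hX0 : X 0 = s := rfl
  have hXs : ∀ j, X (j + 1) = X j - U j (X j) := fun j => rfl
  have hXmem : ∀ j, X j ∈ LinearMap.ker (sysProj M ψ (n + j)) := by
    intro j
    induction j with
    | zero => exact hs
    | succ j ih => rw [hXs]; exact (hU j (X j) ih).2
  have hUmem : ∀ j, U j (X j) ∈ (Ideal.span (Set.range a)) • (J ^ j • ⊤ : Submodule A (sysLim M ψ)) := by
    intro j
    rw [ha', ← Submodule.mul_smul, ← pow_add, show n + 1 + j = n + j + 1 by omega]
    exact (hU j (X j) (hXmem j)).1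
  choose τ hτmem hτsum using fun j => exists_sum_of_mem_span_smul a _ (hUmem j)
  -- `τ j i` vanishes at levels `< j`
  have hτ0 : ∀ (j : ℕ) (i : Fin r) (k : ℕ), k < j → sysProj M ψ k (τ j i) = 0 :=
    fun j i k hk => proj_eq_zero_of_mem_smul_top J hkill hk (hτmem j i)
  -- the sums
  have hcompat : ∀ i : Fin r, (fun k => ∑ j ∈ Finset.range (k + 1), ((τ j i : sysLim M ψ) : ∀ k, M k) k) ∈
      sysLim M ψ := by
    intro i k
    show ψ k (∑ j ∈ Finset.range (k + 1 + 1), ((τ j i : sysLim M ψ) : ∀ k, M k) (k + 1)) =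
      ∑ j ∈ Finset.range (k + 1), ((τ j i : sysLim M ψ) : ∀ k, M k) k
    rw [map_sum, Finset.sum_range_succ]
    have h0 : ψ k (((τ (k + 1) i : sysLim M ψ) : ∀ k, M k) (k + 1)) = 0 := by
      rw [sysLim_compat]
      exact hτ0 (k + 1) i k (by omega)
    rw [h0, add_zero]
    exact Finset.sum_congr rfl fun j _ => sysLim_compat M ψ _ k
  let t : Fin r → sysLim M ψ := fun i => ⟨_, hcompat i⟩
  have hs_eq : s = ∑ i, a i • t i := by
    apply sysLim_ext
    intro k
    rw [map_sum]
    have e1 : ∀ i, sysProj M ψ k (a i • t i) =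
        ∑ j ∈ Finset.range (k + 1), a i • sysProj M ψ k (τ j i) := by
      intro i
      rw [map_smul, ← Finset.smul_sum]
      rfl
    rw [Finset.sum_congr rfl fun i _ => e1 i, Finset.sum_comm]
    have e2 : ∀ j, ∑ i, a i • sysProj M ψ k (τ j i) = sysProj M ψ k (X j) - sysProj M ψ k (X (j + 1)) := by
      intro j
      rw [hXs, map_sub, sub_sub_cancel, hτsum j, map_sum]
      exact Finset.sum_congr rfl fun i _ => (map_smul _ _ _).symm
    rw [Finset.sum_congr rfl fun j _ => e2 j, Finset.sum_range_sub', hX0]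
    have h0 : sysProj M ψ k (X (k + 1)) = 0 := by
      have := hXmem (k + 1)
      rw [LinearMap.mem_ker, sysProj_apply] at this
      rw [sysProj_apply]
      exact sysLim_eq_zero_of_le M ψ _ (by omega) this
    rw [h0, sub_zero]
  rw [hs_eq]
  refine Submodule.sum_mem _ fun i _ => Submodule.smul_mem_smul ?_ Submodule.mem_top
  rw [← ha']
  exact Ideal.subset_span ⟨i, rfl⟩

end adic

end Groth.Agent.Lib.Helper87
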