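import Mathlib
import Groth.Prelude.Def_W4c5adicflatcomplDec
import Groth.Agent.Lib.Helper87.Tower

/-!
Adic completeness of the limit of an adic tower.
-/

set_option autoImplicit false

namespace Groth.Agent.Lib.Helper87

open W4c5adicflatcompl

universe u

variable {A : Type u} [CommRing A] {M : ℕ → Type u} [∀ n, AddCommGroup (M n)]
  [∀ n, Module A (M n)] {ψ : ∀ n, M (n + 1) →ₗ[A] M n}
  (J : Ideal A) (hkill : ∀ (n : ℕ) (a : A), a ∈ J ^ (n + 1) → ∀ x : M n, a • x = 0)
  (hψ : ∀ n, Function.Surjective (ψ n))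
  (hker : ∀ n, LinearMap.ker (ψ n) = (J ^ (n + 1) • ⊤ : Submodule A (M (n + 1))))

include hkill hψ hker in
lemma isAdicComplete_sysLim (hJ : J.FG) : IsAdicComplete J (sysLim M ψ) := by
  refine { toIsHausdorff := ⟨fun s hs => ?_⟩, toIsPrecomplete := ⟨fun x hx => ?_⟩ }
  · apply sysLim_ext
    intro k
    rw [map_zero]
    have := hs (k + 1)
    rw [SModEq.zero] at this
    exact proj_eq_zero_of_mem_smul_top J hkill (Nat.lt_succ_self k) this
  · have hagree : ∀ {m n : ℕ}, m ≤ n → ∀ k, k < m → sysProj M ψ k (x m) = sysProj M ψ k (x n) := by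
      intro m n hmn k hk
      have h1 := (SModEq.sub_mem).1 (hx hmn)
      have := proj_eq_zero_of_mem_smul_top J hkill hk h1
      rw [map_sub, sub_eq_zero] at this
      exact this
    have hcompat : (fun k => ((x (k + 1) : sysLim M ψ) : ∀ k, M k) k) ∈ sysLim M ψ := by
      intro k
      show ψ k (((x (k + 1 + 1) : sysLim M ψ) : ∀ k, M k) (k + 1)) = _
      rw [sysLim_compat]
      exact (hagree (Nat.le_succ (k + 1)) k (Nat.lt_succ_self k)).symm
    refine ⟨⟨_, hcompat⟩, fun n => ?_⟩
    rw [SModEq.sub_mem]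
    cases n with
    | zero => simp
    | succ n =>
      rw [← ker_sysProj_eq J hkill hψ hker hJ n, LinearMap.mem_ker, map_sub, sub_eq_zero]
      rfl

end Groth.Agent.Lib.Helper87
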